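import Groth.Agent.Lib.Helper29.DepthLoc2
import Mathlib.RingTheory.Localization.Module

/-!
# Depth and dimension of the localization of a ring as a module over its localization
-/

set_option autoImplicit false

namespace Groth.Agent.Lib.Helper29

universe u

open IsLocalRing

/-- The canonical `R_p`-linear equivalence `LocalizedModule p.primeCompl R ≃ R_p`. -/
noncomputable def localizedModuleSelfEquiv (R : Type u) [CommRing R] (p : Ideal R) [p.IsPrime] :
    LocalizedModule p.primeCompl R ≃ₗ[Localization.AtPrime p] Localization.AtPrime p :=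
  (IsLocalizedModule.iso p.primeCompl
    (Algebra.linearMap R (Localization.AtPrime p))).extendScalarsOfIsLocalization p.primeCompl
      (Localization.AtPrime p)

/-- `depth R_p (LocalizedModule R) = depth R_p R_p`. -/
theorem depth_localizedModule_self (R : Type u) [CommRing R] (p : Ideal R) [p.IsPrime] :
    LocCoh.depth (Localization.AtPrime p) (LocalizedModule p.primeCompl R) =
      LocCoh.depth (Localization.AtPrime p) (Localization.AtPrime p) :=
  idealDepth_congr _ (localizedModuleSelfEquiv R p)

/-- `dim_{R_p} (LocalizedModule R) = ht p`. -/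
theorem supportDim_localizedModule_self (R : Type u) [CommRing R] (p : Ideal R) [p.IsPrime] :
    Module.supportDim (Localization.AtPrime p) (LocalizedModule p.primeCompl R) =
      ((p.height : ℕ∞) : WithBot ℕ∞) := by
  rw [Module.supportDim_eq_of_equiv (localizedModuleSelfEquiv R p),
    Module.supportDim_self_eq_ringKrullDim, IsLocalization.AtPrime.ringKrullDim_eq_height p]

/-- `R ⧸ (a) ≃ QuotSMulTop a R`. -/
noncomputable def quotientSpanSingletonEquivQuotSMulTop (R : Type u) [CommRing R] (a : R) :
    (R ⧸ Ideal.span {a}) ≃ₗ[R] QuotSMulTop a R :=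
  Submodule.quotEquivOfEq _ _ (by
    rw [← Submodule.ideal_span_singleton_smul a (⊤ : Submodule R R)]
    simp)

end Groth.Agent.Lib.Helper29

namespace Groth.Agent.Lib.Helper29

universe u

/-- Unfolding the casts in Serre's condition. -/
theorem min_natCast_coe_le_coe_iff (k : ℕ) (n m : ℕ∞) :
    min (k : WithBot ℕ∞) ((n : ℕ∞) : WithBot ℕ∞) ≤ ((m : ℕ∞) : WithBot ℕ∞) ↔
      min (k : ℕ∞) n ≤ m := by
  have h : (k : WithBot ℕ∞) = (((k : ℕ∞)) : WithBot ℕ∞) := rfl
  rw [h, ← WithBot.coe_min, WithBot.coe_le_coe]

/-- Serre's condition `(S_k)` for a ring, in terms of heights. -/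
theorem hasSk_self_iff (k : ℕ) (R : Type u) [CommRing R] :
    LocCoh.HasSk k R R ↔ ∀ (p : Ideal R) [p.IsPrime],
      min (k : ℕ∞) p.height ≤ LocCoh.depth (Localization.AtPrime p) (Localization.AtPrime p) := by
  unfold LocCoh.HasSk
  refine forall_congr' fun p => forall_congr' fun hp => ?_
  rw [supportDim_localizedModule_self, depth_localizedModule_self, min_natCast_coe_le_coe_iff]

end Groth.Agent.Lib.Helper29
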