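import Groth.Agent.Lib.Helper29.DepthSelf
import Mathlib.RingTheory.Ideal.AssociatedPrime.Localization
import Mathlib.RingTheory.Ideal.MinimalPrime.Localization
import Mathlib.RingTheory.Flat.Localization

/-!
# Hartshorne's connectedness lemma (helper29)

Core algebraic form: in a Noetherian local ring `A` of depth at least two, two ideals `a`, `b`
with `a * b = 0`, `a + b` primary to the maximal ideal, and saturated with respect to a regular
element `x` of the maximal ideal, generate the unit ideal.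
-/

set_option autoImplicit false
universe u

namespace Groth.Agent.Lib.Helper29

open IsLocalRing
open scoped Pointwise

section Core

variable (A : Type u) [CommRing A] [IsLocalRing A] [IsNoetherianRing A]

/-- If `depth A ≥ 2` and `y ∈ m` is regular, then no nonzero element of `A / yA` is killed by
an ideal primary to the maximal ideal. -/
theorem mem_span_singleton_of_forall_mul_mem_of_depth_ge_two
    (hd : (2 : ℕ∞) ≤ LocCoh.depth A A) {y : A} (hy : y ∈ maximalIdeal A)
    (hyreg : IsSMulRegular A y) (J : Ideal A) (hJ : maximalIdeal A ≤ J.radical) (α : A)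
    (hα : ∀ r ∈ J, r * α ∈ Ideal.span {y}) : α ∈ Ideal.span {y} := by
  by_contra hnot
  let β : QuotSMulTop y A := Submodule.Quotient.mk α
  have hβ_iff : ∀ r : A, r • β = 0 ↔ r * α ∈ Ideal.span {y} := by
    intro r
    change r • (Submodule.Quotient.mk α : QuotSMulTop y A) = 0 ↔ _
    rw [← Submodule.Quotient.mk_smul, Submodule.Quotient.mk_eq_zero,
      Submodule.mem_smul_pointwise_iff_exists, Ideal.mem_span_singleton']
    constructor
    · rintro ⟨k, -, hk⟩
      exact ⟨k, by rw [mul_comm k y]; simpa using hk⟩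
    · rintro ⟨k, hk⟩
      exact ⟨k, Submodule.mem_top, by simpa [mul_comm] using hk⟩
  have hβ0 : β ≠ 0 := by
    intro h0
    have h1 : (1 : A) • β = 0 := by rw [one_smul]; exact h0
    rw [hβ_iff, one_mul] at h1
    exact hnot h1
  let N : Submodule A (QuotSMulTop y A) := Submodule.span A {β}
  have hNnt : Nontrivial N := by
    refine ⟨⟨⟨β, Submodule.mem_span_singleton_self β⟩, 0, ?_⟩⟩
    intro h
    exact hβ0 (congrArg Subtype.val h)
  obtain ⟨P, hP⟩ := associatedPrimes.nonempty A N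
  have hPQ : P ∈ associatedPrimes A (QuotSMulTop y A) :=
    associatedPrimes.subset_of_injective (f := N.subtype) N.injective_subtype hP
  have hPprime : P.IsPrime := IsAssociatedPrime.isPrime hP
  obtain ⟨-, z, hz⟩ := isAssociatedPrime_iff.mp hP
  obtain ⟨c, hc⟩ := Submodule.mem_span_singleton.mp z.2
  have hJP : J ≤ P := by
    intro r hr
    rw [hz, Submodule.mem_colon_singleton]
    apply Subtype.ext
    rw [Submodule.coe_smul, ← hc, Submodule.coe_zero, smul_comm, (hβ_iff r).mpr (hα r hr),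
      smul_zero]
  have hmP : maximalIdeal A ≤ P := hJ.trans (hPprime.radical_le_iff.mpr hJP)
  have hPm : P = maximalIdeal A :=
    le_antisymm (IsLocalRing.le_maximalIdeal hPprime.ne_top) hmP
  rw [hPm] at hPQ
  have h0 : LocCoh.depth A (QuotSMulTop y A) = 0 := (depth_eq_zero_iff A _).mpr hPQ
  have h1 := depth_quotSMulTop_add_one A A hy hyreg
  rw [h0, zero_add] at h1
  rw [← h1] at hd
  exact absurd hd (by norm_num)

/-- **Hartshorne's connectedness lemma**, algebraic core. -/
theorem sup_eq_top_of_depth_ge_two (hd : (2 : ℕ∞) ≤ LocCoh.depth A A) (a b : Ideal A)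
    (hab : ∀ α ∈ a, ∀ β ∈ b, α * β = 0) (hprim : maximalIdeal A ≤ (a ⊔ b).radical)
    (x : A) (hx : x ∈ maximalIdeal A) (hxreg : IsSMulRegular A x)
    (hxa : ∀ (n : ℕ) (y : A), x ^ n * y ∈ a → y ∈ a)
    (hxb : ∀ (n : ℕ) (y : A), x ^ n * y ∈ b → y ∈ b) : a ⊔ b = ⊤ := by
  obtain ⟨n, hn⟩ := hprim hx
  rcases Nat.eq_zero_or_pos n with rfl | hnpos
  · rw [pow_zero] at hn
    exact (Ideal.eq_top_iff_one _).mpr hn
  have hy : x ^ n ∈ maximalIdeal A := Ideal.pow_mem_of_mem _ hx n hnpos
  have hyreg : IsSMulRegular A (x ^ n) := hxreg.pow n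
  obtain ⟨α, hαa, β, hβb, hsum⟩ := Submodule.mem_sup.mp hn
  have hα : α ∈ Ideal.span {x ^ n} := by
    apply mem_span_singleton_of_forall_mul_mem_of_depth_ge_two A hd hy hyreg (a ⊔ b) hprim
    intro r hr
    obtain ⟨r1, hr1, r2, hr2, rfl⟩ := Submodule.mem_sup.mp hr
    have h1 : r2 * α = 0 := by rw [mul_comm]; exact hab α hαa r2 hr2
    have h2 : r1 * β = 0 := hab r1 hr1 β hβb
    have h3 : (r1 + r2) * α = r1 * x ^ n := by
      have : α = x ^ n - β := by rw [← hsum]; ring
      calc (r1 + r2) * α = r1 * α + r2 * α := by ring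
        _ = r1 * α := by rw [h1, add_zero]
        _ = r1 * (x ^ n - β) := by rw [← this]
        _ = r1 * x ^ n - r1 * β := by ring
        _ = r1 * x ^ n := by rw [h2, sub_zero]
    rw [h3]
    exact Ideal.mul_mem_left _ _ (Ideal.mem_span_singleton_self _)
  have hβ : β ∈ Ideal.span {x ^ n} := by
    apply mem_span_singleton_of_forall_mul_mem_of_depth_ge_two A hd hy hyreg (a ⊔ b) hprim
    intro r hr
    obtain ⟨r1, hr1, r2, hr2, rfl⟩ := Submodule.mem_sup.mp hr
    have h1 : r1 * β = 0 := hab r1 hr1 β hβb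
    have h2 : r2 * α = 0 := by rw [mul_comm]; exact hab α hαa r2 hr2
    have h3 : (r1 + r2) * β = r2 * x ^ n := by
      have : β = x ^ n - α := by rw [← hsum]; ring
      calc (r1 + r2) * β = r1 * β + r2 * β := by ring
        _ = r2 * β := by rw [h1, zero_add]
        _ = r2 * (x ^ n - α) := by rw [← this]
        _ = r2 * x ^ n - r2 * α := by ring
        _ = r2 * x ^ n := by rw [h2, sub_zero]
    rw [h3]
    exact Ideal.mul_mem_left _ _ (Ideal.mem_span_singleton_self _)
  obtain ⟨c, hc⟩ := Ideal.mem_span_singleton'.mp hα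
  obtain ⟨d, hd'⟩ := Ideal.mem_span_singleton'.mp hβ
  have hcd : c + d = 1 := by
    apply hyreg
    change x ^ n * (c + d) = x ^ n * 1
    rw [mul_one, mul_add, mul_comm _ c, mul_comm _ d, hc, hd', hsum]
  have hca : c ∈ a := hxa n c (by rw [mul_comm, hc]; exact hαa)
  have hdb : d ∈ b := hxb n d (by rw [mul_comm, hd']; exact hβb)
  rw [Ideal.eq_top_iff_one, ← hcd]
  exact Submodule.add_mem_sup hca hdb

end Core

section Components

variable {R : Type u} [CommRing R]

/-- An element of a minimal prime `p` is nilpotent up to an element outside `p`. -/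
theorem exists_notMem_mul_pow_eq_zero_of_mem_minimalPrimes {p : Ideal R}
    (hp : p ∈ minimalPrimes R) {t : R} (ht : t ∈ p) : ∃ s ∉ p, ∃ N : ℕ, s * t ^ N = 0 := by
  have hpp : p.IsPrime := hp.1.1
  by_contra hcon
  push Not at hcon
  let T : Submonoid R := p.primeCompl ⊔ Submonoid.powers t
  have hdisj : Disjoint ((⊥ : Ideal R) : Set R) (T : Set R) := by
    rw [Set.disjoint_left]
    intro z hz hzT
    have hz0 : z = 0 := hz
    obtain ⟨s, hs, w, ⟨N, rfl⟩, hsw⟩ := Submonoid.mem_sup.mp hzT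
    exact hcon s hs N (hsw.trans hz0)
  obtain ⟨Q, hQ, -, hQT⟩ := Ideal.exists_le_prime_disjoint ⊥ T hdisj
  have hQp : Q ≤ p := by
    intro z hz
    by_contra hzp
    exact Set.disjoint_left.mp hQT hz (Submonoid.mem_sup_left hzp)
  have hpQ : p ≤ Q := hp.2 ⟨hQ, bot_le⟩ hQp
  exact Set.disjoint_left.mp hQT (hpQ ht) (Submonoid.mem_sup_right (Submonoid.mem_powers t))

/-- If `a` is the intersection of the components of `0` at a finite set `P1` of minimal primes,
every prime containing `a` contains a member of `P1`. -/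
theorem exists_mem_le_of_le_of_forall_mem_iff (P1 : Set (Ideal R)) (hP1 : P1 ⊆ minimalPrimes R)
    (hfin : P1.Finite) (a : Ideal R)
    (ha : ∀ r : R, r ∈ a ↔ ∀ p ∈ P1, ∃ s : R, s ∉ p ∧ s * r = 0)
    (P : Ideal R) [hPp : P.IsPrime] (haP : a ≤ P) : ∃ p ∈ P1, p ≤ P := by
  classical
  by_contra hcon
  push Not at hcon
  have hex : ∀ p ∈ P1, ∃ t ∈ p, t ∉ P ∧ ∃ s ∉ p, ∃ N : ℕ, s * t ^ N = 0 := by
    intro p hp
    obtain ⟨t, htp, htP⟩ := SetLike.not_le_iff_exists.mp (hcon p hp)
    exact ⟨t, htp, htP, exists_notMem_mul_pow_eq_zero_of_mem_minimalPrimes (hP1 hp) htp⟩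
  choose! t ht1 ht2 s hs1 N hN using hex
  let τ : R := ∏ p ∈ hfin.toFinset, t p ^ N p
  have hτa : τ ∈ a := by
    rw [ha]
    intro p hp
    refine ⟨s p, hs1 p hp, ?_⟩
    have hdvd : t p ^ N p ∣ τ :=
      Finset.dvd_prod_of_mem (fun p => t p ^ N p) (hfin.mem_toFinset.mpr hp)
    obtain ⟨c, hc⟩ := hdvd
    rw [hc, ← mul_assoc, hN p hp, zero_mul]
  have hτP : τ ∉ P := by
    intro h
    obtain ⟨p, hp, hpP⟩ := (Ideal.IsPrime.prod_mem_iff).mp h
    exact ht2 p (hfin.mem_toFinset.mp hp) (hPp.mem_of_pow_mem _ hpP)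
  exact hτP (haP hτa)

end Components

section Main

variable {R : Type u} [CommRing R] [IsNoetherianRing R]

/-- Under `(S₂)` (even `(S₁)`) associated primes of the ring are minimal. -/
theorem mem_minimalPrimes_of_mem_associatedPrimes_of_hasSk_two
    (hS : ∀ (p : Ideal R) [p.IsPrime], min ((2 : ℕ) : ℕ∞) p.height ≤
      LocCoh.depth (Localization.AtPrime p) (Localization.AtPrime p))
    {Q : Ideal R} (hQ : Q ∈ associatedPrimes R R) : Q ∈ minimalPrimes R := by
  have hQp : Q.IsPrime := IsAssociatedPrime.isPrime hQ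
  have hd0 := depth_localizedModule_eq_zero_of_mem_associatedPrimes R R Q hQ
  rw [depth_localizedModule_self] at hd0
  have h1 := hS Q
  rw [hd0] at h1
  have hht : Q.height = 0 := by
    rcases min_le_iff.mp h1 with h | h
    · simp at h
    · exact le_antisymm h bot_le
  exact Ideal.height_eq_zero_iff.mp hht

omit [IsNoetherianRing R] in
/-- The ideal of `R_P` of elements killed, near each `p ∈ P1` contained in `P`, by an element of
`R` outside `p`. -/
def locKill (P1 : Set (Ideal R)) (P : Ideal R) [P.IsPrime] : Ideal (Localization.AtPrime P) where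
  carrier := {y | ∀ p ∈ P1, p.IsPrime → p ≤ P →
    ∃ s : R, s ∉ p ∧ algebraMap R (Localization.AtPrime P) s * y = 0}
  add_mem' := by
    intro y z hy hz p hp hpp hpP
    obtain ⟨s1, hs1, h1⟩ := hy p hp hpp hpP
    obtain ⟨s2, hs2, h2⟩ := hz p hp hpp hpP
    refine ⟨s1 * s2, hpp.mul_notMem hs1 hs2, ?_⟩
    rw [map_mul, mul_add]
    have e1 : algebraMap R (Localization.AtPrime P) s1 * algebraMap R (Localization.AtPrime P) s2 * y
        = algebraMap R (Localization.AtPrime P) s2 *
          (algebraMap R (Localization.AtPrime P) s1 * y) := by ring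
    have e2 : algebraMap R (Localization.AtPrime P) s1 * algebraMap R (Localization.AtPrime P) s2 * z
        = algebraMap R (Localization.AtPrime P) s1 *
          (algebraMap R (Localization.AtPrime P) s2 * z) := by ring
    rw [e1, e2, h1, h2, mul_zero, mul_zero, add_zero]
  zero_mem' := fun p _ hpp _ => ⟨1, (Ideal.ne_top_iff_one p).mp hpp.ne_top, by simp⟩
  smul_mem' := by
    intro c y hy p hp hpp hpP
    obtain ⟨s, hs, h⟩ := hy p hp hpp hpP
    exact ⟨s, hs, by rw [smul_eq_mul, mul_left_comm, h, mul_zero]⟩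

omit [IsNoetherianRing R] in
theorem mem_locKill_iff (P1 : Set (Ideal R)) (P : Ideal R) [P.IsPrime]
    (y : Localization.AtPrime P) : y ∈ locKill P1 P ↔ ∀ p ∈ P1, p.IsPrime → p ≤ P →
      ∃ s : R, s ∉ p ∧ algebraMap R (Localization.AtPrime P) s * y = 0 := Iff.rfl

/-- Let `R` be a Noetherian ring satisfying `(S₂)`, and split the minimal primes into two
disjoint sets `P1`, `P2` with associated intersections of components `a`, `b`.  Then every
minimal prime of `a + b` has height one. -/
theorem height_eq_one_of_mem_minimalPrimes_sup_of_hasSk_two (hS : LocCoh.HasSk 2 R R)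
    (P1 P2 : Set (Ideal R)) (hP : P1 ∪ P2 = minimalPrimes R) (hdisj : Disjoint P1 P2)
    (a b : Ideal R) (ha : ∀ r : R, r ∈ a ↔ ∀ p ∈ P1, ∃ s : R, s ∉ p ∧ s * r = 0)
    (hb : ∀ r : R, r ∈ b ↔ ∀ p ∈ P2, ∃ s : R, s ∉ p ∧ s * r = 0)
    (P : Ideal R) (hPmin : P ∈ (a ⊔ b).minimalPrimes) : P.height = 1 := by
  classical
  rw [hasSk_self_iff] at hS
  have hPp : P.IsPrime := hPmin.1.1
  have hP1 : P1 ⊆ minimalPrimes R := hP ▸ Set.subset_union_left
  have hP2 : P2 ⊆ minimalPrimes R := hP ▸ Set.subset_union_right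
  have hfin := minimalPrimes.finite_of_isNoetherianRing R
  obtain ⟨p1, hp1, hp1P⟩ := exists_mem_le_of_le_of_forall_mem_iff P1 hP1 (hfin.subset hP1) a ha P
    (le_sup_left.trans hPmin.1.2)
  obtain ⟨p2, hp2, hp2P⟩ := exists_mem_le_of_le_of_forall_mem_iff P2 hP2 (hfin.subset hP2) b hb P
    (le_sup_right.trans hPmin.1.2)
  have hne : p1 ≠ p2 := fun h => Set.disjoint_left.mp hdisj hp1 (h ▸ hp2)
  have hp1p : p1.IsPrime := (hP1 hp1).1.1
  have hp2p : p2.IsPrime := (hP2 hp2).1.1
  have hPnotmin : P ∉ minimalPrimes R := by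
    intro hPm
    have e1 : p1 = P := le_antisymm hp1P (hPm.2 ⟨hp1p, bot_le⟩ hp1P)
    have e2 : p2 = P := le_antisymm hp2P (hPm.2 ⟨hp2p, bot_le⟩ hp2P)
    exact hne (e1.trans e2.symm)
  have hht1 : 1 ≤ P.height := by
    rw [Order.one_le_iff_pos, pos_iff_ne_zero, Ne, Ideal.height_eq_zero_iff]
    exact hPnotmin
  suffices hdep : LocCoh.depth (Localization.AtPrime P) (Localization.AtPrime P) ≤ 1 by
    have h2 := (hS P).trans hdep
    have h3 : P.height ≤ 1 := by
      rcases min_le_iff.mp h2 with h | h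
      · exact absurd h (by norm_num)
      · exact h
    exact le_antisymm h3 hht1
  by_contra hcon
  have hd : (2 : ℕ∞) ≤ LocCoh.depth (Localization.AtPrime P) (Localization.AtPrime P) := by
    have h2 := not_le.mp hcon
    have h3 : (2 : ℕ∞) = 1 + 1 := by norm_num
    rw [h3]
    exact Order.add_one_le_of_lt h2
  have hN : IsNoetherianRing (Localization.AtPrime P) :=
    IsLocalization.isNoetherianRing P.primeCompl _ inferInstance
  -- associated primes of `R` are minimal
  have hass : ∀ Q ∈ associatedPrimes R R, Q ∈ minimalPrimes R := fun Q hQ =>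
    mem_minimalPrimes_of_mem_associatedPrimes_of_hasSk_two hS hQ
  -- an element of `P` outside all minimal primes
  obtain ⟨u, huP, hu⟩ : ∃ u ∈ P, ∀ p ∈ minimalPrimes R, u ∉ p := by
    by_contra hcon2
    push Not at hcon2
    have hsub : (P : Set R) ⊆ ⋃ p ∈ minimalPrimes R, (p : Set R) := by
      intro u hu
      obtain ⟨p, hp, hup⟩ := hcon2 u hu
      exact Set.mem_biUnion hp hup
    obtain ⟨p, hp, hPp'⟩ := (Ideal.subset_union_prime_finite hfin P P
      (fun i hi _ _ => hi.1.1)).mp hsub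
    have : p = P := le_antisymm (hp.2 ⟨hPp, bot_le⟩ hPp') hPp'
    exact hPnotmin (this ▸ hp)
  have hureg : IsSMulRegular R u := by
    by_contra hnr
    have hmem : u ∈ {r : R | IsSMulRegular R r}ᶜ := hnr
    rw [← biUnion_associatedPrimes_eq_compl_regular R R] at hmem
    obtain ⟨Q, hQ, huQ⟩ := Set.mem_iUnion₂.mp hmem
    exact hu Q (hass Q hQ) huQ
  let x : Localization.AtPrime P := algebraMap R (Localization.AtPrime P) u
  have hx : x ∈ maximalIdeal (Localization.AtPrime P) := by
    rw [IsLocalization.AtPrime.to_map_mem_maximal_iff (Localization.AtPrime P) P]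
    exact huP
  have hxreg : IsSMulRegular (Localization.AtPrime P) x :=
    IsSMulRegular.of_isLocalizedModule (Localization.AtPrime P) P.primeCompl
      (Algebra.linearMap R (Localization.AtPrime P)) hureg
  -- saturation of the two ideals with respect to `x`
  have hsat : ∀ (Pi : Set (Ideal R)), Pi ⊆ minimalPrimes R → ∀ (n : ℕ)
      (y : Localization.AtPrime P), x ^ n * y ∈ locKill Pi P → y ∈ locKill Pi P := by
    intro Pi hPi n y hy p hp hpp hpP
    obtain ⟨s, hs, h⟩ := hy p hp hpp hpP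
    refine ⟨s * u ^ n, hpp.mul_notMem hs (fun h' => hu p (hPi hp) (hpp.mem_of_pow_mem _ h')), ?_⟩
    rw [map_mul, map_pow, mul_assoc]
    exact h
  -- the product of the two ideals vanishes
  have hab : ∀ α ∈ locKill P1 P, ∀ β ∈ locKill P2 P, α * β = 0 := by
    intro α hα β hβ
    by_contra hne0
    have hya : α * β ∈ locKill P1 P := (locKill P1 P).mul_mem_right β hα
    have hyb : α * β ∈ locKill P2 P := (locKill P2 P).mul_mem_left α hβ
    let N : Submodule (Localization.AtPrime P) (Localization.AtPrime P) :=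
      Submodule.span (Localization.AtPrime P) {α * β}
    have hNnt : Nontrivial N := by
      refine ⟨⟨⟨α * β, Submodule.mem_span_singleton_self _⟩, 0, ?_⟩⟩
      intro h
      exact hne0 (congrArg Subtype.val h)
    obtain ⟨Q', hQ'⟩ := associatedPrimes.nonempty (Localization.AtPrime P) N
    have hQ'A : Q' ∈ associatedPrimes (Localization.AtPrime P) (Localization.AtPrime P) :=
      associatedPrimes.subset_of_injective (f := N.subtype) N.injective_subtype hQ'
    have hQ'p : Q'.IsPrime := IsAssociatedPrime.isPrime hQ'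
    obtain ⟨-, z, hz⟩ := isAssociatedPrime_iff.mp hQ'
    obtain ⟨c, hc⟩ := Submodule.mem_span_singleton.mp z.2
    have hcomap :=
      Module.associatedPrimes.comap_mem_associatedPrimes_of_mem_associatedPrimes_of_isLocalizedModule_of_fg
        P.primeCompl (Algebra.linearMap R (Localization.AtPrime P)) Q' hQ'A
        ((isNoetherianRing_iff_ideal_fg R).mp inferInstance _)
    have hQmin : Q'.comap (algebraMap R (Localization.AtPrime P)) ∈ minimalPrimes R :=
      hass _ hcomap
    have hQprime : (Q'.comap (algebraMap R (Localization.AtPrime P))).IsPrime := hQmin.1.1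
    have hQP : Q'.comap (algebraMap R (Localization.AtPrime P)) ≤ P := by
      have h1 : Q' ≤ maximalIdeal (Localization.AtPrime P) :=
        IsLocalRing.le_maximalIdeal hQ'p.ne_top
      have h2 := Ideal.comap_mono (f := algebraMap R (Localization.AtPrime P)) h1
      have h3 : (maximalIdeal (Localization.AtPrime P)).comap
          (algebraMap R (Localization.AtPrime P)) = P :=
        Localization.AtPrime.under_maximalIdeal
      rw [h3] at h2
      exact h2
    have hkill : ∀ s : R, algebraMap R (Localization.AtPrime P) s * (α * β) = 0 →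
        s ∈ Q'.comap (algebraMap R (Localization.AtPrime P)) := by
      intro s hs
      rw [Ideal.mem_comap, hz, Submodule.mem_colon_singleton]
      apply Subtype.ext
      rw [Submodule.coe_smul, ← hc, Submodule.coe_zero, smul_comm, smul_eq_mul, smul_eq_mul, hs,
        mul_zero]
    have hmem : Q'.comap (algebraMap R (Localization.AtPrime P)) ∈ P1 ∪ P2 := hP ▸ hQmin
    rcases hmem with h | h
    · obtain ⟨s, hs, hsy⟩ := hya _ h hQprime hQP
      exact hs (hkill s hsy)
    · obtain ⟨s, hs, hsy⟩ := hyb _ h hQprime hQP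
      exact hs (hkill s hsy)
  -- `a' + b'` is primary to the maximal ideal
  have hmapa : a.map (algebraMap R (Localization.AtPrime P)) ≤ locKill P1 P := by
    rw [Ideal.map_le_iff_le_comap]
    intro r hr p hp _ _
    obtain ⟨s, hs, hsr⟩ := (ha r).mp hr p hp
    exact ⟨s, hs, by rw [← map_mul, hsr, map_zero]⟩
  have hmapb : b.map (algebraMap R (Localization.AtPrime P)) ≤ locKill P2 P := by
    rw [Ideal.map_le_iff_le_comap]
    intro r hr p hp _ _
    obtain ⟨s, hs, hsr⟩ := (hb r).mp hr p hp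
    exact ⟨s, hs, by rw [← map_mul, hsr, map_zero]⟩
  have hprim : maximalIdeal (Localization.AtPrime P) ≤ (locKill P1 P ⊔ locKill P2 P).radical := by
    have h1 := IsLocalization.AtPrime.radical_map_of_mem_minimalPrimes
      (Localization.AtPrime P) P (a ⊔ b) hPmin
    rw [Localization.AtPrime.map_eq_maximalIdeal] at h1
    rw [← h1]
    apply Ideal.radical_mono
    rw [Ideal.map_sup]
    exact sup_le_sup hmapa hmapb
  have htop := sup_eq_top_of_depth_ge_two (Localization.AtPrime P) hd (locKill P1 P)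
    (locKill P2 P) hab hprim x hx hxreg (hsat P1 hP1) (hsat P2 hP2)
  -- but neither ideal is the unit ideal
  have hnottop : ∀ (Pi : Set (Ideal R)) (p : Ideal R), p ∈ Pi → p.IsPrime → p ≤ P →
      (1 : Localization.AtPrime P) ∉ locKill Pi P := by
    intro Pi p hp hpp hpP h1
    obtain ⟨s, hs, hs1⟩ := h1 p hp hpp hpP
    rw [mul_one] at hs1
    obtain ⟨t, ht⟩ := (IsLocalization.map_eq_zero_iff P.primeCompl (Localization.AtPrime P) s).mp hs1
    have hmem : (t : R) * s ∈ p := by rw [ht]; exact p.zero_mem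
    rcases hpp.mem_or_mem hmem with h | h
    · exact t.2 (hpP h)
    · exact hs h
  have hone : (1 : Localization.AtPrime P) ∈ locKill P1 P ⊔ locKill P2 P := by
    rw [htop]; exact Submodule.mem_top
  obtain ⟨α, hα, β, hβ, hsum⟩ := Submodule.mem_sup.mp hone
  rcases IsLocalRing.isUnit_or_isUnit_of_add_one hsum with h | h
  · have : locKill P1 P = ⊤ := Ideal.eq_top_of_isUnit_mem _ hα h
    exact hnottop P1 p1 hp1 hp1p hp1P (this ▸ Submodule.mem_top)
  · have : locKill P2 P = ⊤ := Ideal.eq_top_of_isUnit_mem _ hβ h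
    exact hnottop P2 p2 hp2 hp2p hp2P (this ▸ Submodule.mem_top)

end Main

section Partition

variable {B : Type u} [CommRing B]

/-- The saturation `(I : x^∞)` of an ideal with respect to an element. -/
def satIdeal (I : Ideal B) (x : B) : Ideal B where
  carrier := {y | ∃ n : ℕ, x ^ n * y ∈ I}
  add_mem' := by
    rintro y z ⟨n, hn⟩ ⟨k, hk⟩
    refine ⟨n + k, ?_⟩
    have e : x ^ (n + k) * (y + z) = x ^ k * (x ^ n * y) + x ^ n * (x ^ k * z) := by ring
    rw [e]
    exact I.add_mem (I.mul_mem_left _ hn) (I.mul_mem_left _ hk)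
  zero_mem' := ⟨0, by simp⟩
  smul_mem' := by
    rintro c y ⟨n, hn⟩
    exact ⟨n, by rw [smul_eq_mul, mul_left_comm]; exact I.mul_mem_left _ hn⟩

theorem mem_satIdeal_iff (I : Ideal B) (x y : B) : y ∈ satIdeal I x ↔ ∃ n : ℕ, x ^ n * y ∈ I :=
  Iff.rfl

theorem le_satIdeal (I : Ideal B) (x : B) : I ≤ satIdeal I x :=
  fun y hy => ⟨0, by simpa using hy⟩

theorem satIdeal_saturated (I : Ideal B) (x : B) (n : ℕ) (y : B) (h : x ^ n * y ∈ satIdeal I x) :
    y ∈ satIdeal I x := by
  obtain ⟨k, hk⟩ := h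
  exact ⟨k + n, by rw [pow_add, mul_assoc]; exact hk⟩

variable [IsLocalRing B] [IsNoetherianRing B]

/-- **Hartshorne's connectedness lemma**, partition form: in a Noetherian local ring of depth at
least two, the associated primes cannot be split into two nonempty families which only meet at
the closed point. -/
theorem eq_empty_or_eq_empty_of_depth_ge_two (hd : (2 : ℕ∞) ≤ LocCoh.depth B B)
    (Q1 Q2 : Set (Ideal B)) (hQ : associatedPrimes B B ⊆ Q1 ∪ Q2)
    (hQ1 : Q1 ⊆ associatedPrimes B B) (hQ2 : Q2 ⊆ associatedPrimes B B)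
    (hsep : ∀ q1 ∈ Q1, ∀ q2 ∈ Q2, ∀ P : Ideal B, P.IsPrime → q1 ≤ P → q2 ≤ P →
      P = maximalIdeal B) : Q1 = ∅ ∨ Q2 = ∅ := by
  classical
  by_contra hcon
  push Not at hcon
  obtain ⟨hne1, hne2⟩ := hcon
  have hfin := associatedPrimes.finite B B
  have hfin1 : Q1.Finite := hfin.subset hQ1
  have hfin2 : Q2.Finite := hfin.subset hQ2
  have hmass : maximalIdeal B ∉ associatedPrimes B B := by
    intro h
    have h0 := (depth_eq_zero_iff B B).mpr h
    rw [h0] at hd
    exact absurd hd (by norm_num)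
  -- a regular element of the maximal ideal avoiding all associated primes
  obtain ⟨x, hxm, hx⟩ : ∃ x ∈ maximalIdeal B, ∀ q ∈ associatedPrimes B B, x ∉ q := by
    by_contra hcon2
    push Not at hcon2
    have hsub : (maximalIdeal B : Set B) ⊆ ⋃ q ∈ associatedPrimes B B, (q : Set B) := by
      intro u hu
      obtain ⟨q, hq, huq⟩ := hcon2 u hu
      exact Set.mem_biUnion hq huq
    obtain ⟨q, hq, hmq⟩ := (Ideal.subset_union_prime_finite hfin (maximalIdeal B)
      (maximalIdeal B) (fun i hi _ _ => IsAssociatedPrime.isPrime hi)).mp hsub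
    have hqp : q.IsPrime := IsAssociatedPrime.isPrime hq
    have : q = maximalIdeal B := le_antisymm (IsLocalRing.le_maximalIdeal hqp.ne_top) hmq
    exact hmass (this ▸ hq)
  have hxreg : IsSMulRegular B x := by
    by_contra hnr
    have hmem : x ∈ {r : B | IsSMulRegular B r}ᶜ := hnr
    rw [← biUnion_associatedPrimes_eq_compl_regular B B] at hmem
    obtain ⟨q, hq, hxq⟩ := Set.mem_iUnion₂.mp hmem
    exact hx q hq hxq
  obtain ⟨a0, ha0, ha0'⟩ : ∃ a0 : Ideal B, (∀ q ∈ Q1, a0 ≤ q) ∧
      ∀ P : Ideal B, P.IsPrime → a0 ≤ P → ∃ q ∈ Q1, q ≤ P := by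
    refine ⟨hfin1.toFinset.inf id, fun q hq =>
      Finset.inf_le (f := id) (hfin1.mem_toFinset.mpr hq), fun P hP h => ?_⟩
    obtain ⟨q, hq, hqP⟩ := (Ideal.IsPrime.inf_le' hP).mp h
    exact ⟨q, hfin1.mem_toFinset.mp hq, hqP⟩
  obtain ⟨b0, hb0, hb0'⟩ : ∃ b0 : Ideal B, (∀ q ∈ Q2, b0 ≤ q) ∧
      ∀ P : Ideal B, P.IsPrime → b0 ≤ P → ∃ q ∈ Q2, q ≤ P := by
    refine ⟨hfin2.toFinset.inf id, fun q hq =>
      Finset.inf_le (f := id) (hfin2.mem_toFinset.mpr hq), fun P hP h => ?_⟩
    obtain ⟨q, hq, hqP⟩ := (Ideal.IsPrime.inf_le' hP).mp h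
    exact ⟨q, hfin2.mem_toFinset.mp hq, hqP⟩
  -- `a0 * b0` is nilpotent
  have hnil : a0 * b0 ≤ nilradical B := by
    rw [nilradical_eq_sInf]
    refine le_sInf fun P (hP : P.IsPrime) => ?_
    obtain ⟨p, hp, hpP⟩ := Ideal.exists_minimalPrimes_le (bot_le : (⊥ : Ideal B) ≤ P)
    have hann : Module.annihilator B B = ⊥ := Module.annihilator_eq_bot.mpr inferInstance
    have hpass : p ∈ associatedPrimes B B := by
      apply Module.associatedPrimes.minimalPrimes_annihilator_subset_associatedPrimes B B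
      rw [hann]
      exact hp
    rcases hQ hpass with h | h
    · exact (Ideal.mul_le_left.trans (ha0 p h)).trans hpP
    · exact (Ideal.mul_le_right.trans (hb0 p h)).trans hpP
  obtain ⟨N, hN⟩ := IsNoetherianRing.isNilpotent_nilradical B
  have hN' : (a0 * b0) ^ (N + 1) = ⊥ := by
    rw [← le_bot_iff]
    calc (a0 * b0) ^ (N + 1) ≤ (nilradical B) ^ (N + 1) := Ideal.pow_right_mono hnil _
      _ = (nilradical B) ^ N * nilradical B := pow_succ _ _
      _ = ⊥ := by rw [hN]; simp
  have hab : ∀ α ∈ satIdeal (a0 ^ (N + 1)) x, ∀ β ∈ satIdeal (b0 ^ (N + 1)) x, α * β = 0 := by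
    rintro α ⟨n, hn⟩ β ⟨k, hk⟩
    have h1 : (x ^ n * α) * (x ^ k * β) ∈ (a0 * b0) ^ (N + 1) := by
      rw [mul_pow]
      exact Ideal.mul_mem_mul hn hk
    rw [hN'] at h1
    have h2 : x ^ (n + k) * (α * β) = 0 := by
      have e : x ^ (n + k) * (α * β) = (x ^ n * α) * (x ^ k * β) := by ring
      rw [e]; exact h1
    exact (hxreg.pow (n + k)).right_eq_zero_of_smul h2
  have hprim : maximalIdeal B ≤
      (satIdeal (a0 ^ (N + 1)) x ⊔ satIdeal (b0 ^ (N + 1)) x).radical := by
    rw [Ideal.radical_eq_sInf]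
    refine le_sInf ?_
    rintro P ⟨hle, hP⟩
    have h1 : a0 ^ (N + 1) ≤ P := (le_satIdeal _ x).trans (le_sup_left.trans hle)
    have h2 : b0 ^ (N + 1) ≤ P := (le_satIdeal _ x).trans (le_sup_right.trans hle)
    rw [Ideal.IsPrime.pow_le_iff (Nat.succ_ne_zero N)] at h1 h2
    obtain ⟨q1, hq1, hq1P⟩ := ha0' P hP h1
    obtain ⟨q2, hq2, hq2P⟩ := hb0' P hP h2
    exact (hsep q1 hq1 q2 hq2 P hP hq1P hq2P).ge
  have htop := sup_eq_top_of_depth_ge_two B hd (satIdeal (a0 ^ (N + 1)) x)
    (satIdeal (b0 ^ (N + 1)) x) hab hprim x hxm hxreg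
    (satIdeal_saturated _ x) (satIdeal_saturated _ x)
  have hone : (1 : B) ∈ satIdeal (a0 ^ (N + 1)) x ⊔ satIdeal (b0 ^ (N + 1)) x := by
    rw [htop]; exact Submodule.mem_top
  obtain ⟨α, hα, β, hβ, hsum⟩ := Submodule.mem_sup.mp hone
  have hnottop : ∀ (Q : Set (Ideal B)) (c0 : Ideal B), Q ⊆ associatedPrimes B B → Q.Nonempty →
      (∀ q ∈ Q, c0 ≤ q) → (1 : B) ∉ satIdeal (c0 ^ (N + 1)) x := by
    rintro Q c0 hQa ⟨q, hq⟩ hc0 ⟨n, hn⟩
    rw [mul_one] at hn
    have hqp : q.IsPrime := IsAssociatedPrime.isPrime (hQa hq)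
    have h1 : x ^ n ∈ q := (Ideal.pow_le_self (Nat.succ_ne_zero N)).trans (hc0 q hq) hn
    exact hx q (hQa hq) (hqp.mem_of_pow_mem _ h1)
  rcases IsLocalRing.isUnit_or_isUnit_of_add_one hsum with h | h
  · have : satIdeal (a0 ^ (N + 1)) x = ⊤ := Ideal.eq_top_of_isUnit_mem _ hα h
    exact hnottop Q1 a0 hQ1 hne1 ha0 (this ▸ Submodule.mem_top)
  · have : satIdeal (b0 ^ (N + 1)) x = ⊤ := Ideal.eq_top_of_isUnit_mem _ hβ h
    exact hnottop Q2 b0 hQ2 hne2 hb0 (this ▸ Submodule.mem_top)

end Partition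

end Groth.Agent.Lib.Helper29
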