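import Groth.Agent.Lib.Helper29.DepthCM2
import Mathlib.RingTheory.Regular.Flat

/-!
Helper lemmas (helper29): depth and localization; Cohen–Macaulay modules localize.
-/

set_option autoImplicit false
universe u v

namespace Groth.Agent.Lib.Helper29

open IsLocalRing RingTheory.Sequence
open scoped Pointwise

section

variable (A : Type u) [CommRing A]

/-- `depth_p M ≤ depth_{A_p} M_p`. -/
theorem idealDepth_le_depth_localization (p : Ideal A) [p.IsPrime] (M : Type v) [AddCommGroup M]
    [Module A M] :
    LocCoh.idealDepth p M ≤
      LocCoh.depth (Localization.AtPrime p) (LocalizedModule p.primeCompl M) := by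
  refine ENat.forall_natCast_le_iff_le.mp fun n hn => ?_
  rcases (le_idealDepth_iff p M n).mp hn with htop | ⟨rs, hlen, hmem, hreg⟩
  · -- `pM = M` implies `(pA_p) M_p = M_p`
    unfold LocCoh.depth
    rw [idealDepth_of_smul_top_eq]
    · exact le_top
    · rw [eq_top_iff]
      intro y _
      induction y using LocalizedModule.induction_on with
      | h m s =>
        have hm : m ∈ p • (⊤ : Submodule A M) := by rw [htop]; trivial
        have key : ∀ m' ∈ p • (⊤ : Submodule A M), ∀ s : p.primeCompl,
            LocalizedModule.mk m' s ∈ maximalIdeal (Localization.AtPrime p) •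
              (⊤ : Submodule (Localization.AtPrime p) (LocalizedModule p.primeCompl M)) := by
          intro m' hm'
          induction hm' using Submodule.smul_induction_on' with
          | smul a ha m'' _ =>
            intro s
            have : LocalizedModule.mk (a • m'') s =
                algebraMap A (Localization.AtPrime p) a • LocalizedModule.mk m'' s := by
              rw [algebraMap_smul, LocalizedModule.smul'_mk]
            rw [this]
            apply Submodule.smul_mem_smul _ Submodule.mem_top
            rw [IsLocalization.AtPrime.to_map_mem_maximal_iff (Localization.AtPrime p) p]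
            exact ha
          | add x _ y' _ hx hy =>
            intro s
            have : LocalizedModule.mk (x + y') s =
                LocalizedModule.mk x s + LocalizedModule.mk y' s := by
              rw [LocalizedModule.mk_add_mk]
              rw [LocalizedModule.mk_eq]
              refine ⟨1, ?_⟩
              simp only [one_smul, smul_add, Submonoid.smul_def, mul_smul]
            rw [this]
            exact Submodule.add_mem _ (hx s) (hy s)
        exact key m hm s
  · have h1 : IsWeaklyRegular (LocalizedModule p.primeCompl M)
        (rs.map (algebraMap A (Localization.AtPrime p))) :=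
      hreg.of_isLocalizedModule (Localization.AtPrime p) p.primeCompl
        (LocalizedModule.mkLinearMap p.primeCompl M)
    have h2 := length_le_idealDepth (maximalIdeal (Localization.AtPrime p))
      (LocalizedModule p.primeCompl M) _ h1 (by
        intro r hr
        obtain ⟨a, ha, rfl⟩ := List.mem_map.mp hr
        rw [IsLocalization.AtPrime.to_map_mem_maximal_iff (Localization.AtPrime p) p]
        exact hmem a ha)
    rw [List.length_map, hlen] at h2
    exact h2

end

section Local

variable (A : Type u) [CommRing A] [IsLocalRing A] [IsNoetherianRing A]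

/-- Key computation: for `M` CM and `p ∈ Supp M`, `dim M_p = depth M_p` and
`dim M = dim A/p + dim M_p`. -/
theorem supportDim_localizedModule_eq_of_isCohenMacaulayModule (M : Type u) [AddCommGroup M]
    [Module A M] [Module.Finite A M] (hM : LocCoh.IsCohenMacaulayModule A M)
    (p : PrimeSpectrum A) (hp : p ∈ Module.support A M) :
    ∃ r : ℕ, ringKrullDim (A ⧸ p.asIdeal) + r = Module.supportDim A M ∧
      Module.supportDim (Localization.AtPrime p.asIdeal)
        (LocalizedModule p.asIdeal.primeCompl M) = (r : WithBot ℕ∞) ∧
      LocCoh.depth (Localization.AtPrime p.asIdeal)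
        (LocalizedModule p.asIdeal.primeCompl M) = (r : ℕ∞) := by
  have hnt := nontrivial_of_isCohenMacaulayModule A hM
  obtain ⟨d, hd⟩ := exists_nat_supportDim_eq A M
  obtain ⟨a, ha⟩ := exists_nat_ringKrullDim_quotient_eq A p
  have had : a ≤ d := by
    have := ringKrullDim_quotient_le_supportDim p hp
    rw [ha, hd] at this
    exact_mod_cast this
  obtain ⟨r, rfl⟩ := Nat.exists_eq_add_of_le had
  have hr : ringKrullDim (A ⧸ p.asIdeal) + r = Module.supportDim A M := by
    rw [ha, hd]; push_cast; rfl
  obtain ⟨xs, hlen, hmem, hreg⟩ :=
    exists_isWeaklyRegular_mem_of_ringKrullDim_quotient_add_eq A r M hM p hp hr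
  have h1 : (r : ℕ∞) ≤ LocCoh.idealDepth p.asIdeal M := by
    rw [← hlen]; exact length_le_idealDepth _ M xs hreg hmem
  have h2 := h1.trans (idealDepth_le_depth_localization A p.asIdeal M)
  have hntp : Nontrivial (LocalizedModule p.asIdeal.primeCompl M) :=
    Module.mem_support_iff.mp hp
  have h3 := depth_le_supportDim (Localization.AtPrime p.asIdeal)
    (LocalizedModule p.asIdeal.primeCompl M)
  have h4 := supportDim_localizedModule_add_supportDim_quotient_le A M p.asIdeal
  rw [supportDim_quotient_smul_top_eq_ringKrullDim_quotient M p hp, ha, hd] at h4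
  obtain ⟨e, he⟩ := exists_nat_supportDim_eq (Localization.AtPrime p.asIdeal)
    (LocalizedModule p.asIdeal.primeCompl M)
  rw [he] at h4 h3
  have h4' : e + a ≤ a + r := by exact_mod_cast h4
  have h3' : LocCoh.depth (Localization.AtPrime p.asIdeal)
      (LocalizedModule p.asIdeal.primeCompl M) ≤ (e : ℕ∞) := by exact_mod_cast h3
  have h5 : (r : ℕ∞) ≤ (e : ℕ∞) := h2.trans h3'
  have h5' : r ≤ e := by exact_mod_cast h5
  have her : e = r := by omega
  refine ⟨r, hr, by rw [he, her], ?_⟩
  apply le_antisymm
  · rw [← her]; exact h3'
  · exact h2

/-- Cohen–Macaulay modules localize. -/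
theorem isCohenMacaulayModule_localizedModule (M : Type u) [AddCommGroup M]
    [Module A M] [Module.Finite A M] (hM : LocCoh.IsCohenMacaulayModule A M)
    (p : PrimeSpectrum A) (hp : p ∈ Module.support A M) :
    LocCoh.IsCohenMacaulayModule (Localization.AtPrime p.asIdeal)
      (LocalizedModule p.asIdeal.primeCompl M) := by
  obtain ⟨r, -, h2, h3⟩ := supportDim_localizedModule_eq_of_isCohenMacaulayModule A M hM p hp
  unfold LocCoh.IsCohenMacaulayModule
  rw [h2, h3]
  rfl

/-- `dim M = dim M/pM + dim M_p` for `M` CM, `p ∈ Supp M`. -/
theorem supportDim_eq_add_localizedModule_of_isCohenMacaulayModule (M : Type u) [AddCommGroup M]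
    [Module A M] [Module.Finite A M] (hM : LocCoh.IsCohenMacaulayModule A M)
    (p : PrimeSpectrum A) (hp : p ∈ Module.support A M) :
    Module.supportDim A M =
      Module.supportDim A (M ⧸ (p.asIdeal • (⊤ : Submodule A M))) +
        Module.supportDim (Localization.AtPrime p.asIdeal)
          (LocalizedModule p.asIdeal.primeCompl M) := by
  obtain ⟨r, h1, h2, -⟩ := supportDim_localizedModule_eq_of_isCohenMacaulayModule A M hM p hp
  rw [supportDim_quotient_smul_top_eq_ringKrullDim_quotient M p hp, h2, h1]

end Local

end Groth.Agent.Lib.Helper29
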