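import Groth.Agent.Lib.Helper29.DepthLoc3

/-!
# `depth M_s ≤ depth M_p + ht(s/p)` for primes `p ≤ s`
-/

set_option autoImplicit false

namespace Groth.Agent.Lib.Helper29

open IsLocalRing RingTheory.Sequence
open scoped Pointwise

universe u v

section Criterion

variable (A : Type u) [CommRing A]

/-- `x/1` is regular on `S⁻¹M` iff every element of `M` killed by `x` is killed by some element of
`S`. -/
theorem isSMulRegular_localizedModule_iff (S : Submonoid A) (M : Type v) [AddCommGroup M]
    [Module A M] (x : A) :
    IsSMulRegular (LocalizedModule S M) (algebraMap A (Localization S) x) ↔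
      ∀ m : M, x • m = 0 → ∃ t ∈ S, t • m = 0 := by
  constructor
  · intro h m hm
    have h1 : (algebraMap A (Localization S) x) • (LocalizedModule.mk m (1 : S)) =
        (algebraMap A (Localization S) x) • (0 : LocalizedModule S M) := by
      rw [algebraMap_smul, LocalizedModule.smul'_mk, hm, LocalizedModule.zero_mk, smul_zero]
    have h2 := h h1
    rw [← LocalizedModule.zero_mk (1 : S), LocalizedModule.mk_eq] at h2
    obtain ⟨u, hu⟩ := h2
    refine ⟨u, u.2, ?_⟩
    simpa [Submonoid.smul_def] using hu
  · intro h
    rw [isSMulRegular_iff_right_eq_zero_of_smul]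
    intro y hy
    induction y using LocalizedModule.induction_on with
    | h m t =>
      rw [algebraMap_smul, LocalizedModule.smul'_mk, ← LocalizedModule.zero_mk (1 : S),
        LocalizedModule.mk_eq] at hy
      obtain ⟨u, hu⟩ := hy
      have h3 : x • ((u : A) • m) = 0 := by
        rw [smul_comm]
        simpa [Submonoid.smul_def] using hu
      obtain ⟨t', ht', h4⟩ := h _ h3
      rw [← LocalizedModule.zero_mk (1 : S), LocalizedModule.mk_eq]
      refine ⟨⟨t', ht'⟩ * u, ?_⟩
      simp only [one_smul, smul_zero]
      rw [Submonoid.smul_def, Submonoid.coe_mul, mul_smul]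
      exact h4

/-- Regularity of `x/1` passes from `M_s` to `M_p` for `p ≤ s`. -/
theorem isSMulRegular_localizedModule_of_le {p s : Ideal A} [p.IsPrime] [s.IsPrime] (hps : p ≤ s)
    (M : Type v) [AddCommGroup M] [Module A M] (x : A)
    (h : IsSMulRegular (LocalizedModule s.primeCompl M)
      (algebraMap A (Localization.AtPrime s) x)) :
    IsSMulRegular (LocalizedModule p.primeCompl M) (algebraMap A (Localization.AtPrime p) x) := by
  rw [isSMulRegular_localizedModule_iff] at h ⊢
  intro m hm
  obtain ⟨t, ht, htm⟩ := h m hm
  exact ⟨t, fun htp => ht (hps htp), htm⟩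

end Criterion

section Dim

variable (A : Type u) [CommRing A]

theorem algebraMapSubmonoid_quotient_primeCompl {p s : Ideal A} [p.IsPrime] [s.IsPrime]
    (hps : p ≤ s) [(s.map (Ideal.Quotient.mk p)).IsPrime] :
    Algebra.algebraMapSubmonoid (A ⧸ p) s.primeCompl =
      (s.map (Ideal.Quotient.mk p)).primeCompl := by
  ext y
  obtain ⟨b, rfl⟩ := Ideal.Quotient.mk_surjective y
  rw [Ideal.mem_primeCompl_iff, Ideal.mem_quotient_iff_mem hps]
  change (Ideal.Quotient.mk p) b ∈ Submonoid.map (algebraMap A (A ⧸ p)) s.primeCompl ↔ _
  rw [Submonoid.mem_map]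
  constructor
  · rintro ⟨a, ha, hab⟩ hb
    apply ha
    have h1 : a - b ∈ p := Ideal.Quotient.eq.mp hab
    have : a = (a - b) + b := by ring
    rw [this]
    exact s.add_mem (hps h1) hb
  · intro hb
    exact ⟨b, hb, rfl⟩

/-- `dim (A_s / pA_s) = ht(s/p)`. -/
theorem ringKrullDim_localization_quotient_map_eq_height {p s : Ideal A} [p.IsPrime] [s.IsPrime]
    (hps : p ≤ s) :
    ringKrullDim (Localization.AtPrime s ⧸ p.map (algebraMap A (Localization.AtPrime s))) =
      (((s.map (Ideal.Quotient.mk p)).height : ℕ∞) : WithBot ℕ∞) := by
  have hprime : (s.map (Ideal.Quotient.mk p)).IsPrime :=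
    Ideal.map_isPrime_of_surjective Ideal.Quotient.mk_surjective (by rwa [Ideal.mk_ker])
  have h1 : IsLocalization (Algebra.algebraMapSubmonoid (A ⧸ p) s.primeCompl)
      (Localization.AtPrime s ⧸ p.map (algebraMap A (Localization.AtPrime s))) := inferInstance
  rw [algebraMapSubmonoid_quotient_primeCompl A hps] at h1
  exact IsLocalization.AtPrime.ringKrullDim_eq_height (s.map (Ideal.Quotient.mk p)) _

end Dim

section Depth

variable (A : Type u) [CommRing A] [IsNoetherianRing A]

/-- Depth of the localization drops by one modulo an element of `p` regular on `M_p`. -/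
theorem depth_localizedModule_quotSMulTop_add_one' (p : Ideal A) [p.IsPrime] (M : Type u)
    [AddCommGroup M] [Module A M] [Module.Finite A M] {x : A} (hx : x ∈ p)
    (hreg : IsSMulRegular (LocalizedModule p.primeCompl M)
      (algebraMap A (Localization.AtPrime p) x)) :
    LocCoh.depth (Localization.AtPrime p) (LocalizedModule p.primeCompl (QuotSMulTop x M)) + 1 =
      LocCoh.depth (Localization.AtPrime p) (LocalizedModule p.primeCompl M) := by
  have hy : algebraMap A (Localization.AtPrime p) x ∈ maximalIdeal (Localization.AtPrime p) := by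
    rw [IsLocalization.AtPrime.to_map_mem_maximal_iff (Localization.AtPrime p) p]
    exact hx
  rw [← depth_quotSMulTop_add_one (Localization.AtPrime p) (LocalizedModule p.primeCompl M)
    hy hreg]
  congr 1
  exact idealDepth_congr _ (localizedModuleQuotSMulTopEquiv A p M x)

/-- `I`-depth of the localization drops by one modulo an element of `I` regular on `M_s`. -/
theorem idealDepth_localizedModule_quotSMulTop_add_one (s : Ideal A) [s.IsPrime]
    (I : Ideal (Localization.AtPrime s)) (M : Type u)
    [AddCommGroup M] [Module A M] [Module.Finite A M] {x : A}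
    (hx : algebraMap A (Localization.AtPrime s) x ∈ I)
    (hreg : IsSMulRegular (LocalizedModule s.primeCompl M)
      (algebraMap A (Localization.AtPrime s) x)) :
    LocCoh.idealDepth I (LocalizedModule s.primeCompl (QuotSMulTop x M)) + 1 =
      LocCoh.idealDepth I (LocalizedModule s.primeCompl M) := by
  rw [← idealDepth_quotSMulTop_add_one I (LocalizedModule s.primeCompl M) hx hreg]
  congr 1
  exact idealDepth_congr _ (localizedModuleQuotSMulTopEquiv A s M x)

omit [IsNoetherianRing A] in
theorem map_le_maximalIdeal_of_le {p s : Ideal A} [p.IsPrime] [s.IsPrime] (hps : p ≤ s) :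
    p.map (algebraMap A (Localization.AtPrime s)) ≤ maximalIdeal (Localization.AtPrime s) := by
  rw [Ideal.map_le_iff_le_comap]
  have : (maximalIdeal (Localization.AtPrime s)).comap (algebraMap A (Localization.AtPrime s)) = s :=
    Localization.AtPrime.under_maximalIdeal
  rw [this]
  exact hps

theorem depth_localization_le_aux {p s : Ideal A} [p.IsPrime] [s.IsPrime] (hps : p ≤ s) (n : ℕ) :
    ∀ (M : Type u) [AddCommGroup M] [Module A M] [Module.Finite A M],
      (⟨p, inferInstance⟩ : PrimeSpectrum A) ∈ Module.support A M →
      LocCoh.idealDepth (p.map (algebraMap A (Localization.AtPrime s)))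
        (LocalizedModule s.primeCompl M) = n →
      LocCoh.depth (Localization.AtPrime s) (LocalizedModule s.primeCompl M) ≤
        LocCoh.depth (Localization.AtPrime p) (LocalizedModule p.primeCompl M) +
          (s.map (Ideal.Quotient.mk p)).height := by
  induction n with
  | zero =>
    intro M _ _ _ hp h
    have hs : (⟨s, inferInstance⟩ : PrimeSpectrum A) ∈ Module.support A M :=
      Module.mem_support_mono (p := ⟨p, inferInstance⟩) hps hp
    have hnt : Nontrivial (LocalizedModule s.primeCompl M) := Module.mem_support_iff.mp hs
    set I := p.map (algebraMap A (Localization.AtPrime s)) with hI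
    have hIm : I ≤ maximalIdeal (Localization.AtPrime s) := map_le_maximalIdeal_of_le A hps
    have hno : ∀ y ∈ I, ¬ IsSMulRegular (LocalizedModule s.primeCompl M) y := by
      intro y hy hreg
      have h1 := length_le_idealDepth I (LocalizedModule s.primeCompl M) [y]
        ((isWeaklyRegular_singleton_iff _ y).mpr hreg) (by simpa using hy)
      rw [h] at h1
      simp at h1
    obtain ⟨Q, hQ, hIQ⟩ := exists_le_mem_associatedPrimes_of_forall_not_isSMulRegular
      (Localization.AtPrime s) (LocalizedModule s.primeCompl M) I hno
    have h1 := depth_le_ringKrullDim_quotient_of_mem_associatedPrimes (Localization.AtPrime s)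
      (LocalizedModule s.primeCompl M) Q hQ
    have h2 : ringKrullDim (Localization.AtPrime s ⧸ Q) ≤ ringKrullDim (Localization.AtPrime s ⧸ I) :=
      ringKrullDim_le_of_surjective (Ideal.Quotient.factor hIQ)
        (Ideal.Quotient.factor_surjective hIQ)
    rw [hI, ringKrullDim_localization_quotient_map_eq_height A hps] at h2
    have h3 := WithBot.coe_le_coe.mp (h1.trans h2)
    exact h3.trans le_add_self
  | succ n ih =>
    intro M _ _ _ hp h
    have hs : (⟨s, inferInstance⟩ : PrimeSpectrum A) ∈ Module.support A M :=
      Module.mem_support_mono (p := ⟨p, inferInstance⟩) hps hp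
    have hnt : Nontrivial (LocalizedModule s.primeCompl M) := Module.mem_support_iff.mp hs
    set I := p.map (algebraMap A (Localization.AtPrime s)) with hI
    have hIm : I ≤ maximalIdeal (Localization.AtPrime s) := map_le_maximalIdeal_of_le A hps
    have hIM : I • (⊤ : Submodule (Localization.AtPrime s) (LocalizedModule s.primeCompl M)) ≠ ⊤ := by
      intro htop
      apply maximalIdeal_smul_top_ne_top (Localization.AtPrime s) (LocalizedModule s.primeCompl M)
      exact top_le_iff.mp (htop.ge.trans (Submodule.smul_mono_left hIm))
    have h1 : ((1 : ℕ) : ℕ∞) ≤ LocCoh.idealDepth I (LocalizedModule s.primeCompl M) := by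
      rw [h]; exact_mod_cast Nat.le_add_left 1 n
    obtain ⟨rs, hlen, hmem, hreg⟩ :=
      ((le_idealDepth_iff I (LocalizedModule s.primeCompl M) 1).mp h1).resolve_left hIM
    match rs, hlen, hmem, hreg with
    | [y], _, hmem, hreg =>
      have hy : y ∈ I := hmem y (by simp)
      have hyreg : IsSMulRegular (LocalizedModule s.primeCompl M) y :=
        (isWeaklyRegular_singleton_iff _ y).mp hreg
      obtain ⟨⟨x, t⟩, hxt⟩ := (IsLocalization.mem_map_algebraMap_iff s.primeCompl
        (Localization.AtPrime s)).mp hy
      have hxreg_s : IsSMulRegular (LocalizedModule s.primeCompl M)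
          (algebraMap A (Localization.AtPrime s) x) := by
        rw [← hxt]
        exact hyreg.mul (IsUnit.isSMulRegular _ (IsLocalization.map_units _ t))
      have hxp : (x : A) ∈ p := x.2
      have hxreg_p := isSMulRegular_localizedModule_of_le A hps M x hxreg_s
      have e1 := depth_localizedModule_quotSMulTop_add_one' A s M (hps hxp) hxreg_s
      have e2 := depth_localizedModule_quotSMulTop_add_one' A p M hxp hxreg_p
      have e3 := idealDepth_localizedModule_quotSMulTop_add_one A s I M
        (Ideal.mem_map_of_mem _ hxp) hxreg_s
      rw [h] at e3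
      have e4 : LocCoh.idealDepth I (LocalizedModule s.primeCompl (QuotSMulTop (x : A) M)) = n := by
        have h4 : LocCoh.idealDepth I (LocalizedModule s.primeCompl (QuotSMulTop (x : A) M)) + 1 =
            (n : ℕ∞) + 1 := by
          rw [e3]; push_cast; rfl
        exact (ENat.add_left_injective_of_ne_top ENat.one_ne_top) h4
      have hp' : (⟨p, inferInstance⟩ : PrimeSpectrum A) ∈
          Module.support A (QuotSMulTop (x : A) M) := by
        rw [Module.support_quotSMulTop]
        exact ⟨hp, by simp⟩
      have h5 := ih (QuotSMulTop (x : A) M) hp' e4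
      rw [← e1, ← e2, add_right_comm]
      gcongr

/-- `depth M_s ≤ depth M_p + ht(s/p)` for primes `p ≤ s` and a finite module `M` over a
Noetherian ring. -/
theorem depth_localization_le_depth_localization_add_height {p s : Ideal A} [p.IsPrime]
    [s.IsPrime] (hps : p ≤ s) (M : Type u) [AddCommGroup M] [Module A M] [Module.Finite A M] :
    LocCoh.depth (Localization.AtPrime s) (LocalizedModule s.primeCompl M) ≤
      LocCoh.depth (Localization.AtPrime p) (LocalizedModule p.primeCompl M) +
        (s.map (Ideal.Quotient.mk p)).height := by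
  by_cases hp : (⟨p, inferInstance⟩ : PrimeSpectrum A) ∈ Module.support A M
  · have hs : (⟨s, inferInstance⟩ : PrimeSpectrum A) ∈ Module.support A M :=
      Module.mem_support_mono (p := ⟨p, inferInstance⟩) hps hp
    have hnt : Nontrivial (LocalizedModule s.primeCompl M) := Module.mem_support_iff.mp hs
    have hIM : (p.map (algebraMap A (Localization.AtPrime s))) •
        (⊤ : Submodule (Localization.AtPrime s) (LocalizedModule s.primeCompl M)) ≠ ⊤ := by
      intro htop
      apply maximalIdeal_smul_top_ne_top (Localization.AtPrime s) (LocalizedModule s.primeCompl M)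
      exact top_le_iff.mp (htop.ge.trans
        (Submodule.smul_mono_left (map_le_maximalIdeal_of_le A hps)))
    obtain ⟨n, hn⟩ := ENat.ne_top_iff_exists.mp
      (idealDepth_ne_top (Localization.AtPrime s) _ (LocalizedModule s.primeCompl M) hIM)
    exact depth_localization_le_aux A hps n M hp hn.symm
  · have hsub : Subsingleton (LocalizedModule p.primeCompl M) :=
      (Module.notMem_support_iff (p := ⟨p, inferInstance⟩)).mp hp
    rw [depth_eq_top_of_subsingleton (Localization.AtPrime p) (LocalizedModule p.primeCompl M),
      top_add]
    exact le_top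

end Depth

end Groth.Agent.Lib.Helper29
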