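import Groth.Agent.Lib.Helper29.FlatAscent

/-!
Helper lemmas (helper29): ascent of Cohen–Macaulayness along flat maps with CM fibres, and
transitivity of "flat with `(S_n)` / CM fibres" (EGA IV 6.4.x, 6.3.x).
-/

set_option autoImplicit false
universe u

namespace Groth.Agent.Lib.Helper29

open IsLocalRing TensorProduct

/-- Cohen–Macaulay local rings transfer along ring isomorphisms. -/
theorem isCohenMacaulayLocalRing_of_ringEquiv {F G : Type u} [CommRing F] [CommRing G]
    (e : F ≃+* G) (h : LocCoh.IsCohenMacaulayLocalRing F) :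
    LocCoh.IsCohenMacaulayLocalRing G := by
  have hloc : IsLocalRing G := e.isLocalRing
  have hN : IsNoetherianRing G := isNoetherianRing_of_ringEquiv F e
  refine { supportDim_eq_depth := ?_ }
  have h1 := h.supportDim_eq_depth
  rw [Module.supportDim_self_eq_ringKrullDim] at h1 ⊢
  rw [← ringKrullDim_eq_of_ringEquiv e, ← depth_self_eq_of_ringEquiv e]
  exact h1

section Global

variable {R S : Type u} [CommRing R] [CommRing S] [Algebra R S] [IsNoetherianRing R]
  [IsNoetherianRing S] [Module.Flat R S]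

/-- **Ascent of Cohen–Macaulayness**: a flat map of Noetherian rings with CM base and CM fibre
rings has CM total ring. -/
theorem isCohenMacaulayRing_of_flat_of_fibers (hR : LocCoh.IsCohenMacaulayRing R)
    (hfib : ∀ (p : Ideal R) [p.IsPrime], LocCoh.IsCohenMacaulayRing (p.Fiber S)) :
    LocCoh.IsCohenMacaulayRing S := by
  refine { isCohenMacaulayLocalRing_localization := fun q hq => ?_ }
  have hlies : q.LiesOver (q.under R) := ⟨rfl⟩
  obtain ⟨q', hq', hq'q⟩ := exists_fiber_prime (q.under R) q
  have h1 := (hfib (q.under R)).isCohenMacaulayLocalRing_localization q'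
  have h2 := isCohenMacaulayLocalRing_of_ringEquiv (fiberLocalizationEquiv (q.under R) q') h1
  have h3 := isCohenMacaulayLocalRing_of_flat_of_fibLoc (q.under R)
    (q'.comap (Algebra.TensorProduct.includeRight : S →ₐ[R] (q.under R).Fiber S))
    (hR.isCohenMacaulayLocalRing_localization (q.under R)) h2
  have key : ∀ (r : Ideal S) (hr : r.IsPrime), r = q →
      LocCoh.IsCohenMacaulayLocalRing (Localization.AtPrime r) →
      LocCoh.IsCohenMacaulayLocalRing (Localization.AtPrime q) := by
    rintro r hr rfl h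
    exact h
  exact key _ _ hq'q h3

end Global

section Comp

variable (A B C : Type u) [CommRing A] [CommRing B] [CommRing C] [Algebra A B] [Algebra B C]
  [Algebra A C] [IsScalarTower A B C] (p : Ideal A) [p.IsPrime]

/-- The fibres of `B ⊗_A κ(p) → (B ⊗_A κ(p)) ⊗_B C` are the fibres of `B → C`. -/
noncomputable def fiberFiberEquiv (q' : Ideal (B ⊗[A] p.ResidueField)) [q'.IsPrime] :
    q'.Fiber ((B ⊗[A] p.ResidueField) ⊗[B] C) ≃+*
      (q'.comap (algebraMap B (B ⊗[A] p.ResidueField))).Fiber C :=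
  let hs : (algebraMap B (B ⊗[A] p.ResidueField)).SurjectiveOnStalks :=
    RingHom.SurjectiveOnStalks.baseChange p.surjectiveOnStalks_residueField
  let φ : (q'.comap (algebraMap B (B ⊗[A] p.ResidueField))).ResidueField →ₐ[B]
      q'.ResidueField :=
    Ideal.ResidueField.mapₐ (q'.comap (algebraMap B (B ⊗[A] p.ResidueField))) q'
      (Algebra.ofId B (B ⊗[A] p.ResidueField)) rfl
  let ψ : (q'.comap (algebraMap B (B ⊗[A] p.ResidueField))).ResidueField ≃ₐ[B]
      q'.ResidueField :=
    AlgEquiv.ofBijective φ (hs.residueFieldMap_bijective _ _ rfl)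
  ((Algebra.TensorProduct.cancelBaseChange B (B ⊗[A] p.ResidueField)
      (B ⊗[A] p.ResidueField) q'.ResidueField C).toRingEquiv).trans
    (Algebra.TensorProduct.congr ψ.symm (AlgEquiv.refl (R := B) (A₁ := C))).toRingEquiv

end Comp

end Groth.Agent.Lib.Helper29

namespace Groth.Agent.Lib.Helper29

open IsLocalRing TensorProduct

section Comp2

variable (A B C : Type u) [CommRing A] [CommRing B] [CommRing C] [Algebra A B] [Algebra B C]
  [Algebra A C] [IsScalarTower A B C] [IsNoetherianRing B] [IsNoetherianRing C]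
  [Module.Flat B C] (p : Ideal A) [p.IsPrime]

/-- Transitivity of `(S_n)` fibres. -/
theorem hasSk_fiber_comp (n : ℕ) (hAB : LocCoh.HasSk n (p.Fiber B) (p.Fiber B))
    (hBC : ∀ (q : Ideal B) [q.IsPrime], LocCoh.HasSk n (q.Fiber C) (q.Fiber C)) :
    LocCoh.HasSk n (p.Fiber C) (p.Fiber C) := by
  have hNB : IsNoetherianRing (p.Fiber B) := isNoetherianRing_fiber A B p
  have hNC : IsNoetherianRing (p.Fiber C) := isNoetherianRing_fiber A C p
  have hNT : IsNoetherianRing (B ⊗[A] p.ResidueField) :=
    isNoetherianRing_of_ringEquiv _ (Algebra.TensorProduct.comm A p.ResidueField B).toRingEquiv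
  have hNT' : IsNoetherianRing ((B ⊗[A] p.ResidueField) ⊗[B] C) :=
    isNoetherianRing_of_ringEquiv _ (fiberTensorEquiv A B C p).symm
  have h1 : LocCoh.HasSk n (B ⊗[A] p.ResidueField) (B ⊗[A] p.ResidueField) :=
    hasSk_of_ringEquiv (Algebra.TensorProduct.comm A B p.ResidueField).toRingEquiv n hAB
  have h2 : ∀ (q' : Ideal (B ⊗[A] p.ResidueField)) [q'.IsPrime],
      LocCoh.HasSk n (q'.Fiber ((B ⊗[A] p.ResidueField) ⊗[B] C))
        (q'.Fiber ((B ⊗[A] p.ResidueField) ⊗[B] C)) := by
    intro q' hq'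
    have hN : IsNoetherianRing
        ((q'.comap (algebraMap B (B ⊗[A] p.ResidueField))).Fiber C) :=
      isNoetherianRing_fiber B C _
    exact hasSk_of_ringEquiv (fiberFiberEquiv A B C p q') n (hBC _)
  have h3 := hasSk_of_flat_of_fibers (R := B ⊗[A] p.ResidueField)
    (S := (B ⊗[A] p.ResidueField) ⊗[B] C) n h1 h2
  exact hasSk_of_ringEquiv (fiberTensorEquiv A B C p).symm n h3

/-- Transitivity of Cohen–Macaulay fibres. -/
theorem isCohenMacaulayRing_fiber_comp (hAB : LocCoh.IsCohenMacaulayRing (p.Fiber B))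
    (hBC : ∀ (q : Ideal B) [q.IsPrime], LocCoh.IsCohenMacaulayRing (q.Fiber C)) :
    LocCoh.IsCohenMacaulayRing (p.Fiber C) := by
  have hNB : IsNoetherianRing (p.Fiber B) := isNoetherianRing_fiber A B p
  have hNC : IsNoetherianRing (p.Fiber C) := isNoetherianRing_fiber A C p
  have hNT : IsNoetherianRing (B ⊗[A] p.ResidueField) :=
    isNoetherianRing_of_ringEquiv _ (Algebra.TensorProduct.comm A p.ResidueField B).toRingEquiv
  have hNT' : IsNoetherianRing ((B ⊗[A] p.ResidueField) ⊗[B] C) :=
    isNoetherianRing_of_ringEquiv _ (fiberTensorEquiv A B C p).symm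
  have h1 : LocCoh.IsCohenMacaulayRing (B ⊗[A] p.ResidueField) :=
    isCohenMacaulayRing_of_ringEquiv (Algebra.TensorProduct.comm A B p.ResidueField).toRingEquiv
      hAB
  have h2 : ∀ (q' : Ideal (B ⊗[A] p.ResidueField)) [q'.IsPrime],
      LocCoh.IsCohenMacaulayRing (q'.Fiber ((B ⊗[A] p.ResidueField) ⊗[B] C)) := by
    intro q' hq'
    have hN : IsNoetherianRing
        ((q'.comap (algebraMap B (B ⊗[A] p.ResidueField))).Fiber C) :=
      isNoetherianRing_fiber B C _
    exact isCohenMacaulayRing_of_ringEquiv (fiberFiberEquiv A B C p q') (hBC _)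
  have h3 := isCohenMacaulayRing_of_flat_of_fibers (R := B ⊗[A] p.ResidueField)
    (S := (B ⊗[A] p.ResidueField) ⊗[B] C) h1 h2
  exact isCohenMacaulayRing_of_ringEquiv (fiberTensorEquiv A B C p).symm h3

end Comp2

end Groth.Agent.Lib.Helper29
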