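import Groth.Agent.Lib.Helper29.FlatRegular
import Groth.Agent.S0543
import Mathlib.RingTheory.AdicCompletion.LocalRing
import Mathlib.RingTheory.AdicCompletion.AsTensorProduct

/-!
Helper lemmas (helper29): the `I`-adic completion of a Noetherian local ring `A` at a proper
ideal `I` is a Noetherian local ring, flat over `A`, with maximal ideal `m_A Â`.
-/

set_option autoImplicit false
universe u

namespace Groth.Agent.Lib.Helper29

open IsLocalRing

section

variable (A : Type u) [CommRing A] [IsLocalRing A] [IsNoetherianRing A] (I : Ideal A)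

/-- The `I`-adic completion of a Noetherian local ring at a proper ideal is local. -/
theorem isLocalRing_adicCompletion (hI : I ≠ ⊤) : IsLocalRing (AdicCompletion I A) := by
  have fg : I.FG := Ideal.fg_of_isNoetherianRing I
  have hle : I ≤ maximalIdeal A := IsLocalRing.le_maximalIdeal hI
  have hmax := AdicCompletion.isMaximal_map_of_le I (maximalIdeal A) hle fg
  have hcompl := AdicCompletion.isAdicComplete_self I fg
  have hnt : Nontrivial (A ⧸ I) := Ideal.Quotient.nontrivial_iff.mpr hI
  have hsurj := AdicCompletion.evalOneₐ_surjective I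
  have hker := AdicCompletion.ker_evalOneₐ_eq_map I fg
  refine IsLocalRing.of_unique_max_ideal ⟨_, hmax, fun J hJ => ?_⟩
  have hIJ : I.map (algebraMap A (AdicCompletion I A)) ≤ J :=
    (IsAdicComplete.le_jacobson_bot _).trans (sInf_le ⟨bot_le, hJ⟩)
  have hkerJ : RingHom.ker (AdicCompletion.evalOneₐ I).toRingHom ≤ J := by
    rw [← hker] at hIJ; exact hIJ
  have hkerm : RingHom.ker (AdicCompletion.evalOneₐ I).toRingHom ≤
      (maximalIdeal A).map (algebraMap A (AdicCompletion I A)) := by
    have : RingHom.ker (AdicCompletion.evalOneₐ I).toRingHom =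
        I.map (algebraMap A (AdicCompletion I A)) := hker
    rw [this]; exact Ideal.map_mono hle
  have h1 : (J.map (AdicCompletion.evalOneₐ I).toRingHom).IsMaximal :=
    Ideal.IsMaximal.map_of_surjective_of_ker_le hsurj hkerJ
  have h2 : (((maximalIdeal A).map (algebraMap A (AdicCompletion I A))).map
      (AdicCompletion.evalOneₐ I).toRingHom).IsMaximal :=
    Ideal.IsMaximal.map_of_surjective_of_ker_le hsurj hkerm
  have hlocq : IsLocalRing (A ⧸ I) := IsLocalRing.of_surjective' _ Ideal.Quotient.mk_surjective
  have h3 : J.map (AdicCompletion.evalOneₐ I).toRingHom =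
      ((maximalIdeal A).map (algebraMap A (AdicCompletion I A))).map
        (AdicCompletion.evalOneₐ I).toRingHom :=
    (IsLocalRing.eq_maximalIdeal h1).trans (IsLocalRing.eq_maximalIdeal h2).symm
  have h4 := congrArg (Ideal.comap (AdicCompletion.evalOneₐ I).toRingHom) h3
  rw [Ideal.comap_map_of_surjective' (AdicCompletion.evalOneₐ I).toRingHom hsurj,
    Ideal.comap_map_of_surjective' (AdicCompletion.evalOneₐ I).toRingHom hsurj,
    sup_eq_left.mpr hkerJ, sup_eq_left.mpr hkerm] at h4
  exact h4

/-- The maximal ideal of the `I`-adic completion is generated by the maximal ideal of `A`. -/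
theorem maximalIdeal_adicCompletion_eq_map (hI : I ≠ ⊤) [IsLocalRing (AdicCompletion I A)] :
    maximalIdeal (AdicCompletion I A) =
      (maximalIdeal A).map (algebraMap A (AdicCompletion I A)) :=
  (IsLocalRing.eq_maximalIdeal (AdicCompletion.isMaximal_map_of_le I (maximalIdeal A)
    (IsLocalRing.le_maximalIdeal hI) (Ideal.fg_of_isNoetherianRing I))).symm

/-- `A → Â` is a local homomorphism. -/
theorem isLocalHom_algebraMap_adicCompletion (hI : I ≠ ⊤) [IsLocalRing (AdicCompletion I A)] :
    IsLocalHom (algebraMap A (AdicCompletion I A)) := by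
  apply ((IsLocalRing.local_hom_TFAE (algebraMap A (AdicCompletion I A))).out 0 2).mpr
  rw [maximalIdeal_adicCompletion_eq_map A I hI]

/-- Dimension and regularity of the `I`-adic completion of a Noetherian local ring. -/
theorem ringKrullDim_adicCompletion_eq_and_isRegularLocalRing_iff (hI : I ≠ ⊤) :
    ringKrullDim (AdicCompletion I A) = ringKrullDim A ∧
      (IsRegularLocalRing A ↔ IsRegularLocalRing (AdicCompletion I A)) := by
  have hloc : IsLocalRing (AdicCompletion I A) := isLocalRing_adicCompletion A I hI
  have hN : IsNoetherianRing (AdicCompletion I A) := Groth.Agent.S0543.result A I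
  have hflat : Module.Flat A (AdicCompletion I A) := inferInstance
  have hlh := isLocalHom_algebraMap_adicCompletion A I hI
  have hmax := maximalIdeal_adicCompletion_eq_map A I hI
  exact ⟨ringKrullDim_eq_of_flat_of_map_maximalIdeal_eq A _ hmax,
    isRegularLocalRing_iff_of_flat_of_map_maximalIdeal_eq A _ hmax⟩

end

end Groth.Agent.Lib.Helper29
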