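import Groth.Agent.Lib.Helper29.FlatAscent4
import Groth.Agent.Lib.Helper29.AdicLocal

/-!
Helper lemmas (helper29): the completion `Â` of a Noetherian local ring is a Noetherian local
ring, faithfully flat over `A`; ascent/descent consequences for `(S_n)`, reducedness, normality.
-/

set_option autoImplicit false
universe u

namespace Groth.Agent.Lib.Helper29

open IsLocalRing TensorProduct

section

variable (A : Type u) [CommRing A] [IsLocalRing A] [IsNoetherianRing A]

theorem isNoetherianRing_cpl : IsNoetherianRing (EGA4.Cpl A) :=
  Groth.Agent.S0543.result A (maximalIdeal A)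

theorem isLocalRing_cpl : IsLocalRing (EGA4.Cpl A) :=
  isLocalRing_adicCompletion A (maximalIdeal A) (Ideal.IsPrime.ne_top inferInstance)

theorem faithfullyFlat_cpl : Module.FaithfullyFlat A (EGA4.Cpl A) := by
  have hloc : IsLocalRing (EGA4.Cpl A) := isLocalRing_cpl A
  have hflat : Module.Flat A (EGA4.Cpl A) := inferInstance
  have hlh : IsLocalHom (algebraMap A (EGA4.Cpl A)) :=
    isLocalHom_algebraMap_adicCompletion A (maximalIdeal A) (Ideal.IsPrime.ne_top inferInstance)
  exact Module.FaithfullyFlat.of_flat_of_isLocalHom

end

end Groth.Agent.Lib.Helper29
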