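import Groth.Agent.Lib.Helper29.SkDescent
import Groth.Agent.S0565
import Groth.Prelude.Def_EGA4b

/-!
# `(R_k)` descends along faithfully flat maps
-/

set_option autoImplicit false
universe u

namespace Groth.Agent.Lib.Helper29

open IsLocalRing

section

variable {R S : Type u} [CommRing R] [CommRing S] [Algebra R S] [Module.FaithfullyFlat R S]
  [IsNoetherianRing S]

/-- Serre's condition `(R_k)` descends along faithfully flat maps. -/
theorem hasRk_of_faithfullyFlat (k : ℕ) (hS : LocCoh.HasRk k S) :
    IsNoetherianRing R ∧ LocCoh.HasRk k R := by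
  have hN : IsNoetherianRing R := isNoetherianRing_of_faithfullyFlat (S := S)
  refine ⟨hN, ?_⟩
  intro p hp hht
  obtain ⟨q, hq, hqp, hmin⟩ := exists_liesOver_mem_minimalPrimes_of_faithfullyFlat (S := S) p
  have h1 := depth_and_height_eq_of_flat_of_mem_minimalPrimes p q hmin
  have hreg : IsRegularLocalRing (Localization.AtPrime q) := hS q (by rw [h1.2]; exact hht)
  let _ := Localization.AtPrime.algebraOfLiesOver p q
  have hNp : IsNoetherianRing (Localization.AtPrime p) :=
    IsLocalization.isNoetherianRing p.primeCompl _ inferInstance
  have hflat : Module.Flat (Localization.AtPrime p) (Localization.AtPrime q) := inferInstance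
  have hloc : IsLocalHom (algebraMap (Localization.AtPrime p) (Localization.AtPrime q)) := by
    rw [Localization.AtPrime.IsLiesOverAlgebra.algebraMap_eq]
    exact Localization.isLocalHom_localRingHom _ _ _ _
  exact Groth.Agent.S0565.result (Localization.AtPrime p) (Localization.AtPrime q)

end

section

variable (A B : Type u) [CommRing A] [CommRing B] [IsNoetherianRing A] [IsNoetherianRing B]
  [Algebra A B] [Module.Flat A B]

omit [IsNoetherianRing A] in
/-- `(R_k)` at `q` descends to `(R_k)` at `q ∩ A` along a flat map. -/
theorem hasRkAt_comap_of_flat (k : ℕ) (q : Ideal B) [q.IsPrime] (h : EGA4.HasRkAt k B q) :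
    EGA4.HasRkAt k A (q.comap (algebraMap A B)) := by
  unfold EGA4.HasRkAt at h ⊢
  have hlies : q.LiesOver (q.comap (algebraMap A B)) := ⟨rfl⟩
  let _ := Localization.AtPrime.algebraOfLiesOver (q.comap (algebraMap A B)) q
  have hNq : IsNoetherianRing (Localization.AtPrime q) :=
    IsLocalization.isNoetherianRing q.primeCompl _ inferInstance
  have hflat : Module.Flat (Localization.AtPrime (q.comap (algebraMap A B)))
      (Localization.AtPrime q) := inferInstance
  have hloc : IsLocalHom (algebraMap (Localization.AtPrime (q.comap (algebraMap A B)))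
      (Localization.AtPrime q)) := by
    rw [Localization.AtPrime.IsLiesOverAlgebra.algebraMap_eq]
    exact Localization.isLocalHom_localRingHom _ _ _ _
  have hff : Module.FaithfullyFlat (Localization.AtPrime (q.comap (algebraMap A B)))
      (Localization.AtPrime q) := Module.FaithfullyFlat.of_flat_of_isLocalHom
  exact (hasRk_of_faithfullyFlat k h).2

end

end Groth.Agent.Lib.Helper29
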