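import Groth.Agent.Lib.Helper29.DepthSelf
import Groth.Agent.Lib.Helper13.NormalRing
import Groth.Agent.Lib.Helper85.RegularLocal
import Groth.Agent.Lib.Helper7.DVRLocal
import Groth.Agent.S0602

/-!
# Serre's criterion for normality: `normal ↔ R₁ + S₂`
-/

set_option autoImplicit false

namespace Groth.Agent.Lib.Helper29

open IsLocalRing

universe u

/-- A regular local ring of dimension at most one is an integrally closed domain. -/
theorem isDomain_and_isIntegrallyClosed_of_isRegularLocalRing_of_dim_le_one (S : Type u)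
    [CommRing S] [IsRegularLocalRing S] (h : ringKrullDim S ≤ 1) :
    IsDomain S ∧ IsIntegrallyClosed S := by
  have hdom : IsDomain S := Groth.Agent.Lib.Helper85.isDomain_of_isRegularLocalRing S
  refine ⟨hdom, ?_⟩
  have hreg := IsRegularLocalRing.spanFinrank_maximalIdeal (R := S)
  have hle : (maximalIdeal S).spanFinrank ≤ 1 := by
    have : ((maximalIdeal S).spanFinrank : WithBot ℕ∞) ≤ 1 := hreg ▸ h
    exact_mod_cast this
  have hfg : (maximalIdeal S).FG := (isNoetherianRing_iff_ideal_fg S).mp inferInstance _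
  rcases Nat.le_one_iff_eq_zero_or_eq_one.mp hle with h0 | h1
  · -- `S` is a field
    have hbot : maximalIdeal S = ⊥ := (Submodule.spanFinrank_eq_zero_iff_eq_bot hfg).mp h0
    have hfield : IsField S := IsLocalRing.isField_iff_maximalIdeal_eq.mpr hbot
    have hpir : IsPrincipalIdealRing S := by
      refine ⟨fun I => ?_⟩
      by_cases hI : I = ⊥
      · rw [hI]; exact bot_isPrincipal
      · obtain ⟨x, hxI, hx0⟩ := Submodule.exists_mem_ne_zero_of_ne_bot hI
        obtain ⟨y, hy⟩ := hfield.mul_inv_cancel hx0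
        have : I = ⊤ := by
          rw [Ideal.eq_top_iff_one, ← hy]
          exact I.mul_mem_right y hxI
        rw [this]; exact top_isPrincipal
    infer_instance
  · obtain ⟨⟨t, ht⟩, hne⟩ := (Submodule.spanFinrank_eq_one_iff _).mp h1
    have ht' : maximalIdeal S = Ideal.span {t} := ht
    have ht0 : t ≠ 0 := by
      rintro rfl
      apply hne
      rw [ht']
      simp
    have htnzd : t ∈ nonZeroDivisors S := mem_nonZeroDivisors_of_ne_zero ht0
    obtain ⟨_, hdvr⟩ :=
      Groth.Agent.Lib.Helper7.isDiscreteValuationRing_of_maximalIdeal_eq_span_nonZeroDivisor t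
        htnzd ht'
    infer_instance

/-- In a local domain of dimension at most one, every nonzero prime is the maximal ideal. -/
theorem eq_maximalIdeal_of_ringKrullDim_le_one (S : Type u) [CommRing S] [IsLocalRing S]
    [IsDomain S] (h : ringKrullDim S ≤ 1) (P : Ideal S) (hP0 : P ≠ ⊥) (hP : P.IsPrime) :
    P = maximalIdeal S := by
  by_contra hne
  have hle : P ≤ maximalIdeal S := IsLocalRing.le_maximalIdeal hP.ne_top
  have hlt : P < maximalIdeal S := lt_of_le_of_ne hle hne
  have hbot : (⊥ : Ideal S).IsPrime := Ideal.isPrime_bot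
  have h1 := Ideal.height_add_one_le_of_lt_of_isPrime (bot_lt_iff_ne_bot.mpr hP0)
  have h2 := Ideal.height_add_one_le_of_lt_of_isPrime hlt
  have h3 : ((maximalIdeal S).height : WithBot ℕ∞) ≤ 1 := by
    rw [IsLocalRing.maximalIdeal_height_eq_ringKrullDim]; exact h
  have h4 : (maximalIdeal S).height ≤ 1 := by exact_mod_cast h3
  have h5 : (1 : ℕ∞) + 1 ≤ 1 := by
    calc (1 : ℕ∞) + 1 ≤ (⊥ : Ideal S).height + 1 + 1 := by
          gcongr; exact le_add_self
      _ ≤ P.height + 1 := by gcongr
      _ ≤ _ := h2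
      _ ≤ 1 := h4
  exact absurd h5 (by norm_num)

/-- A Noetherian local integrally closed domain of dimension at most one is a regular local
ring. -/
theorem isRegularLocalRing_of_isIntegrallyClosed_of_dim_le_one (S : Type u) [CommRing S]
    [IsLocalRing S] [IsNoetherianRing S] [IsDomain S] [IsIntegrallyClosed S]
    (h : ringKrullDim S ≤ 1) : IsRegularLocalRing S := by
  have h3 : IsIntegrallyClosed S ∧ ∀ P : Ideal S, P ≠ ⊥ → P.IsPrime → P = maximalIdeal S :=
    ⟨inferInstance, fun P hP0 hP => eq_maximalIdeal_of_ringKrullDim_le_one S h P hP0 hP⟩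
  have hpid : IsPrincipalIdealRing S :=
    ((tfae_of_isNoetherianRing_of_isLocalRing_of_isDomain (R := S)).out 3 0).mp h3
  infer_instance

/-- A Noetherian local integrally closed domain of depth at most one has dimension at most
one. -/
theorem ringKrullDim_le_one_of_depth_le_one (S : Type u) [CommRing S] [IsLocalRing S]
    [IsNoetherianRing S] [IsDomain S] [IsIntegrallyClosed S]
    (hd : LocCoh.depth S S ≤ 1) : ringKrullDim S ≤ 1 := by
  by_cases hf : IsField S
  · rw [ringKrullDim_eq_zero_of_isField hf]; exact zero_le_one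
  have ne_bot : maximalIdeal S ≠ ⊥ := fun h => hf (IsLocalRing.isField_iff_maximalIdeal_eq.mpr h)
  obtain ⟨a, ha₁, ha₂⟩ : ∃ a ∈ maximalIdeal S, a ≠ (0 : S) :=
    Submodule.exists_mem_ne_zero_of_ne_bot ne_bot
  have hreg : IsSMulRegular S a := fun x y hxy => mul_left_cancel₀ ha₂ hxy
  have h1 := depth_quotSMulTop_add_one S S ha₁ hreg
  have h0 : LocCoh.depth S (QuotSMulTop a S) = 0 := by
    have h2 : LocCoh.depth S (QuotSMulTop a S) + 1 ≤ 0 + 1 := by rw [h1, zero_add]; exact hd
    exact le_antisymm ((ENat.add_le_add_iff_right ENat.one_ne_top).mp h2) bot_le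
  have hmem := (depth_eq_zero_iff S (QuotSMulTop a S)).mp h0
  obtain ⟨-, y, hy⟩ := isAssociatedPrime_iff.mp hmem
  obtain ⟨b, rfl⟩ := Submodule.mkQ_surjective _ y
  have hmemiff : ∀ r : S, r ∈ maximalIdeal S ↔ ∃ k : S, k * a = b * r := by
    intro r
    rw [hy, Submodule.mem_colon_singleton, Submodule.mem_bot, Submodule.mkQ_apply,
      ← Submodule.Quotient.mk_smul, Submodule.Quotient.mk_eq_zero,
      Submodule.mem_smul_pointwise_iff_exists]
    constructor
    · rintro ⟨k, -, hk⟩
      exact ⟨k, by rw [mul_comm k a, mul_comm b r]; simpa using hk⟩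
    · rintro ⟨k, hk⟩
      exact ⟨k, Submodule.mem_top, by simpa [mul_comm] using hk⟩
  have hb₃ : ∀ m ∈ maximalIdeal S, ∃ k : S, k * a = b * m := fun m hm => (hmemiff m).mp hm
  have hb₂ : b ∉ Ideal.span {a} := by
    intro hb
    obtain ⟨c, hc⟩ := Ideal.mem_span_singleton'.mp hb
    have : (1 : S) ∈ maximalIdeal S := (hmemiff 1).mpr ⟨c, by rw [hc, mul_one]⟩
    exact (Ideal.ne_top_iff_one _).mp (maximalIdeal.isMaximal S).ne_top this
  have hb₄ : b ≠ 0 := by rintro rfl; apply hb₂; exact zero_mem _
  -- the rest follows Mathlib's `maximalIdeal_isPrincipal_of_isDedekindDomain`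
  have hprinc : (maximalIdeal S).IsPrincipal := by
    let K := FractionRing S
    let x : K := algebraMap S K b / algebraMap S K a
    let M := Submodule.map (Algebra.linearMap S K) (maximalIdeal S)
    have ha₃ : algebraMap S K a ≠ 0 := IsFractionRing.to_map_eq_zero_iff.not.mpr ha₂
    by_cases hx : ∀ y ∈ M, x * y ∈ M
    · have := isIntegral_of_smul_mem_submodule M ?_ ?_ x hx
      · obtain ⟨y, e⟩ := IsIntegrallyClosed.algebraMap_eq_of_integral this
        refine (hb₂ (Ideal.mem_span_singleton'.mpr ⟨y, ?_⟩)).elim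
        apply IsFractionRing.injective S K
        rw [map_mul, e, div_mul_cancel₀ _ ha₃]
      · rw [Submodule.ne_bot_iff]; refine ⟨_, ⟨a, ha₁, rfl⟩, ?_⟩
        exact (IsFractionRing.to_map_eq_zero_iff (K := K)).not.mpr ha₂
      · apply Submodule.FG.map; exact IsNoetherian.noetherian _
    · have : (M.map (DistribSMul.toLinearMap S K x)).comap (Algebra.linearMap S K) = ⊤ := by
        by_contra h; apply hx
        rintro m' ⟨m, hm, rfl : algebraMap S K m = m'⟩
        obtain ⟨k, hk⟩ := hb₃ m hm
        have hk' : x * algebraMap S K m = algebraMap S K k := by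
          rw [← mul_div_right_comm, ← map_mul, ← hk, map_mul, mul_div_cancel_right₀ _ ha₃]
        exact ⟨k, le_maximalIdeal h ⟨_, ⟨_, hm, rfl⟩, hk'⟩, hk'.symm⟩
      obtain ⟨y, hy₁, hy₂⟩ : ∃ y ∈ maximalIdeal S, b * y = a := by
        rw [Ideal.eq_top_iff_one, Submodule.mem_comap] at this
        obtain ⟨_, ⟨y, hy, rfl⟩, hy' : x * algebraMap S K y = algebraMap S K 1⟩ := this
        rw [map_one, ← mul_div_right_comm, div_eq_one_iff_eq ha₃, ← map_mul] at hy'
        exact ⟨y, hy, IsFractionRing.injective S K hy'⟩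
      refine ⟨⟨y, ?_⟩⟩
      apply le_antisymm
      · intro m hm; obtain ⟨k, hk⟩ := hb₃ m hm; rw [← hy₂, mul_comm, mul_assoc] at hk
        rw [← mul_left_cancel₀ hb₄ hk, mul_comm]; exact Ideal.mem_span_singleton'.mpr ⟨_, rfl⟩
      · rwa [Submodule.span_le, Set.singleton_subset_iff]
  have hmin : maximalIdeal S ∈ (maximalIdeal S).minimalPrimes := by
    rw [Ideal.minimalPrimes_eq_subsingleton_self]; rfl
  have hht : (maximalIdeal S).height ≤ 1 :=
    Ideal.height_le_one_of_isPrincipal_of_mem_minimalPrimes _ _ hmin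
  rw [← IsLocalRing.maximalIdeal_height_eq_ringKrullDim]
  exact_mod_cast hht

/-- A Noetherian normal ring satisfies `(R₁)`. -/
theorem hasRk_one_of_isNormalRing (R : Type u) [CommRing R] [IsNoetherianRing R]
    (h : EGA4.IsNormalRing R) : LocCoh.HasRk 1 R := by
  intro p hp hht
  obtain ⟨hdom, hic⟩ := h p
  have hN : IsNoetherianRing (Localization.AtPrime p) :=
    IsLocalization.isNoetherianRing p.primeCompl _ inferInstance
  have hdim : ringKrullDim (Localization.AtPrime p) ≤ 1 := by
    rw [IsLocalization.AtPrime.ringKrullDim_eq_height p]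
    exact_mod_cast hht
  exact isRegularLocalRing_of_isIntegrallyClosed_of_dim_le_one _ hdim

/-- A Noetherian normal ring satisfies `(S₂)`. -/
theorem hasSk_two_of_isNormalRing (R : Type u) [CommRing R] [IsNoetherianRing R]
    (h : EGA4.IsNormalRing R) : LocCoh.HasSk 2 R R := by
  rw [hasSk_self_iff]
  intro p hp
  obtain ⟨hdom, hic⟩ := h p
  have hN : IsNoetherianRing (Localization.AtPrime p) :=
    IsLocalization.isNoetherianRing p.primeCompl _ inferInstance
  by_cases hd : (2 : ℕ∞) ≤ LocCoh.depth (Localization.AtPrime p) (Localization.AtPrime p)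
  · exact (min_le_left _ _).trans (by exact_mod_cast hd)
  · have hd1 : LocCoh.depth (Localization.AtPrime p) (Localization.AtPrime p) ≤ 1 := by
      have h2 := not_le.mp hd
      have h3 : (2 : ℕ∞) = 1 + 1 := by norm_num
      rw [h3] at h2
      exact Order.le_of_lt_add_one h2
    have hdim := ringKrullDim_le_one_of_depth_le_one _ hd1
    rw [IsLocalization.AtPrime.ringKrullDim_eq_height p] at hdim
    have hht : p.height ≤ 1 := by exact_mod_cast hdim
    refine (min_le_right _ _).trans ?_
    by_cases hd0 : LocCoh.depth (Localization.AtPrime p) (Localization.AtPrime p) = 0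
    · have hmem := (depth_eq_zero_iff (Localization.AtPrime p)
        (Localization.AtPrime p)).mp hd0
      have hmin := Groth.Agent.S0602.mem_minimalPrimes_of_mem_associatedPrimes_of_isReduced _ hmem
      have h0 : (IsLocalRing.maximalIdeal (Localization.AtPrime p)).height = 0 :=
        Ideal.height_eq_zero_iff.mpr hmin
      have h1 : ringKrullDim (Localization.AtPrime p) = 0 := by
        rw [← IsLocalRing.maximalIdeal_height_eq_ringKrullDim, h0]; rfl
      rw [IsLocalization.AtPrime.ringKrullDim_eq_height p] at h1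
      have h2 : p.height = 0 := by exact_mod_cast h1
      rw [h2]
      exact bot_le
    · have h2 : 1 ≤ LocCoh.depth (Localization.AtPrime p) (Localization.AtPrime p) :=
        Order.one_le_iff_pos.mpr (pos_iff_ne_zero.mpr hd0)
      exact hht.trans h2

/-- A Noetherian ring satisfying `(R₁)` and `(S₂)` is normal. -/
theorem isNormalRing_of_hasRk_one_of_hasSk_two (R : Type u) [CommRing R] [IsNoetherianRing R]
    (hR1 : LocCoh.HasRk 1 R) (hS2 : LocCoh.HasSk 2 R R) : EGA4.IsNormalRing R := by
  have hR0 : LocCoh.HasRk 0 R := fun p hp hht => hR1 p (hht.trans (by norm_num))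
  have hS1 : LocCoh.HasSk 1 R R := by
    rw [hasSk_self_iff] at hS2 ⊢
    intro p hp
    refine le_trans ?_ (hS2 p)
    exact min_le_min_right _ (by norm_num)
  have hred : IsReduced R := (Groth.Agent.S0602.result R).mpr ⟨hR0, hS1⟩
  rw [hasSk_self_iff] at hS2
  refine Groth.Agent.Lib.Helper13.isNormalRing_of_isIntegrallyClosedIn
    (minimalPrimes.finite_of_isNoetherianRing R) (FractionRing R) ?_
  intro x hx
  obtain ⟨b, ⟨a, ha⟩, rfl⟩ := IsLocalization.exists_mk'_eq (nonZeroDivisors R) x
  by_contra hnot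
  have hreg : IsSMulRegular R a := by
    intro y z hyz
    exact (mul_cancel_left_mem_nonZeroDivisors ha).mp hyz
  -- the class of `b` in `R / aR`
  let β : QuotSMulTop a R := Submodule.Quotient.mk b
  have hβ_iff : ∀ r : R, r • β = 0 ↔ ∃ c : R, r * b = c * a := by
    intro r
    change r • (Submodule.Quotient.mk b : QuotSMulTop a R) = 0 ↔ _
    rw [← Submodule.Quotient.mk_smul, Submodule.Quotient.mk_eq_zero,
      Submodule.mem_smul_pointwise_iff_exists]
    constructor
    · rintro ⟨k, -, hk⟩
      exact ⟨k, by rw [mul_comm k a]; simpa using hk.symm⟩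
    · rintro ⟨k, hk⟩
      exact ⟨k, Submodule.mem_top, by simpa [mul_comm] using hk.symm⟩
  have hβ0 : β ≠ 0 := by
    intro h0
    have h1 : (1 : R) • β = 0 := by rw [one_smul]; exact h0
    obtain ⟨c, hc⟩ := (hβ_iff 1).mp h1
    apply hnot
    refine ⟨c, ?_⟩
    rw [one_mul] at hc
    rw [IsLocalization.eq_mk'_iff_mul_eq, ← map_mul, hc]
  let N : Submodule R (QuotSMulTop a R) := Submodule.span R {β}
  have hNnt : Nontrivial N := by
    refine ⟨⟨⟨β, Submodule.mem_span_singleton_self β⟩, 0, ?_⟩⟩
    intro h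
    exact hβ0 (congrArg Subtype.val h)
  obtain ⟨P, hP⟩ := associatedPrimes.nonempty R N
  have hPQ : P ∈ associatedPrimes R (QuotSMulTop a R) :=
    associatedPrimes.subset_of_injective (f := N.subtype) N.injective_subtype hP
  have hPprime : P.IsPrime := IsAssociatedPrime.isPrime hP
  obtain ⟨-, y, hy⟩ := isAssociatedPrime_iff.mp hP
  obtain ⟨r, hr⟩ := Submodule.mem_span_singleton.mp y.2
  have haP : a ∈ P := by
    rw [hy, Submodule.mem_colon_singleton]
    apply Subtype.ext
    rw [Submodule.coe_smul, ← hr, Submodule.coe_zero, smul_comm, (hβ_iff a).mpr ⟨b, mul_comm a b⟩,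
      smul_zero]
  -- depth of `R_P` is one
  have h0 := depth_localizedModule_eq_zero_of_mem_associatedPrimes R (QuotSMulTop a R) P hPQ
  have h1 := depth_localizedModule_quotSMulTop_add_one R P R haP hreg
  rw [h0, zero_add, depth_localizedModule_self] at h1
  have h2 := hS2 P
  rw [← h1] at h2
  have hht : P.height ≤ 1 := by
    rcases min_le_iff.mp h2 with h | h
    · exact absurd h (by norm_num)
    · exact h
  have hregP := hR1 P hht
  have hN : IsNoetherianRing (Localization.AtPrime P) :=
    IsLocalization.isNoetherianRing P.primeCompl _ inferInstance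
  have hdim : ringKrullDim (Localization.AtPrime P) ≤ 1 := by
    rw [IsLocalization.AtPrime.ringKrullDim_eq_height P]
    exact_mod_cast hht
  have hnormal := isDomain_and_isIntegrallyClosed_of_isRegularLocalRing_of_dim_le_one
    (Localization.AtPrime P) hdim
  obtain ⟨s, hsP, c, hc⟩ := Groth.Agent.Lib.Helper13.exists_mul_mem_range_of_isIntegral
    (nonZeroDivisors R) le_rfl P hnormal _ hx
  apply hsP
  rw [hy, Submodule.mem_colon_singleton]
  apply Subtype.ext
  rw [Submodule.coe_smul, ← hr, Submodule.coe_zero, smul_comm]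
  have hsb : s • β = 0 := by
    rw [hβ_iff]
    refine ⟨c, ?_⟩
    apply IsFractionRing.injective R (FractionRing R)
    rw [map_mul, map_mul, hc, mul_assoc]
    congr 1
    exact (IsLocalization.mk'_spec (FractionRing R) b ⟨a, ha⟩).symm
  rw [hsb, smul_zero]

/-- **Serre's criterion for normality.** -/
theorem isNormalRing_iff_hasRk_one_and_hasSk_two (R : Type u) [CommRing R] [IsNoetherianRing R] :
    EGA4.IsNormalRing R ↔ (LocCoh.HasRk 1 R ∧ LocCoh.HasSk 2 R R) :=
  ⟨fun h => ⟨hasRk_one_of_isNormalRing R h, hasSk_two_of_isNormalRing R h⟩,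
    fun h => isNormalRing_of_hasRk_one_of_hasSk_two R h.1 h.2⟩

end Groth.Agent.Lib.Helper29
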