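import Groth.Agent.Lib.Helper29.FibreDescent
import Groth.Agent.Lib.Helper29.RkDescent
import Groth.Agent.Lib.Helper29.SerreNormal
import Groth.Prelude.Def_Found

/-!
Helper lemmas (helper29): descent of normal / regular homomorphisms along a faithfully flat map
`B → C` (EGA IV 6.8.3 (ii)-type statements).
-/

set_option autoImplicit false
universe u

namespace Groth.Agent.Lib.Helper29

open IsLocalRing TensorProduct

section Rings

variable {R S : Type u} [CommRing R] [CommRing S]

/-- Normality descends along faithfully flat maps of Noetherian rings. -/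
theorem isNormalRing_of_faithfullyFlat [Algebra R S] [Module.FaithfullyFlat R S]
    [IsNoetherianRing S] (h : EGA4.IsNormalRing S) : IsNoetherianRing R ∧ EGA4.IsNormalRing R := by
  have hN : IsNoetherianRing R := isNoetherianRing_of_faithfullyFlat (S := S)
  refine ⟨hN, ?_⟩
  rw [isNormalRing_iff_hasRk_one_and_hasSk_two] at h ⊢
  exact ⟨(hasRk_of_faithfullyFlat 1 h.1).2, (hasSk_of_faithfullyFlat 2 h.2).2⟩

/-- Normality transfers along ring isomorphisms. -/
theorem isNormalRing_of_ringEquiv (e : R ≃+* S) [IsNoetherianRing S] (h : EGA4.IsNormalRing S) :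
    EGA4.IsNormalRing R := by
  let _ : Algebra R S := e.toRingHom.toAlgebra
  have : Module.FaithfullyFlat R S := faithfullyFlat_of_ringEquiv e
  exact (isNormalRing_of_faithfullyFlat h).2

/-- Regularity descends along faithfully flat maps of Noetherian rings. -/
theorem isRegularRing_of_faithfullyFlat [Algebra R S] [Module.FaithfullyFlat R S]
    [IsNoetherianRing S] (h : IsRegularRing S) : IsRegularRing R := by
  have hN : IsNoetherianRing R := isNoetherianRing_of_faithfullyFlat (S := S)
  rw [isRegularRing_iff]
  intro p hp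
  have hRk : LocCoh.HasRk (p.height.toNat) S := fun q hq _ => h.isRegularLocalRing_localization q
  have hfin : p.height ≠ ⊤ := Ideal.height_ne_top (Ideal.IsPrime.ne_top hp)
  exact (hasRk_of_faithfullyFlat _ hRk).2 p (by rw [ENat.natCast_toNat hfin])

end Rings

section Tensor

variable (A B C K : Type u) [CommRing A] [CommRing B] [CommRing C] [CommRing K] [Algebra A B]
  [Algebra B C] [Algebra A C] [IsScalarTower A B C] [Algebra A K]

/-- `(B ⊗_A K) ⊗_B C ≅ K ⊗_A C` as rings. -/
noncomputable def tensorTensorEquiv : ((B ⊗[A] K) ⊗[B] C) ≃+* K ⊗[A] C :=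
  ((Algebra.TensorProduct.comm B (B ⊗[A] K) C).toRingEquiv.trans
    (Algebra.TensorProduct.cancelBaseChange A B B C K).toRingEquiv).trans
    (Algebra.TensorProduct.comm A C K).toRingEquiv

end Tensor

section Fibre

variable (A B C : Type u) [CommRing A] [CommRing B] [CommRing C] [Algebra A B]
  [Algebra B C] [Algebra A C] [IsScalarTower A B C] [Module.FaithfullyFlat B C]
  (p : Ideal A) [p.IsPrime] (k' : Type u) [Field k'] [Algebra p.ResidueField k']
  [Module.Finite p.ResidueField k']

/-- The base change of a Noetherian fibre ring to a finite extension is Noetherian. -/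
theorem isNoetherianRing_baseChange_fiber (hN : IsNoetherianRing (p.Fiber C)) :
    IsNoetherianRing (k' ⊗[p.ResidueField] p.Fiber C) := by
  have h1 : IsNoetherianRing ((p.Fiber C) ⊗[p.ResidueField] k') :=
    Algebra.FiniteType.isNoetherianRing (p.Fiber C) ((p.Fiber C) ⊗[p.ResidueField] k')
  exact isNoetherianRing_of_ringEquiv _
    (Algebra.TensorProduct.comm p.ResidueField (p.Fiber C) k').toRingEquiv

/-- Descent data: `k' ⊗_κ (κ ⊗_A B)` and `k' ⊗_κ (κ ⊗_A C)` are related by a faithfully flat map,
up to ring isomorphisms. -/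
theorem exists_faithfullyFlat_model :
    ∃ (T T' : Type u) (_ : CommRing T) (_ : CommRing T') (_ : Algebra T T'),
      Module.FaithfullyFlat T T' ∧ Nonempty ((k' ⊗[p.ResidueField] p.Fiber B) ≃+* T) ∧
        Nonempty ((k' ⊗[p.ResidueField] p.Fiber C) ≃+* T') := by
  let _ : Algebra A k' := ((algebraMap p.ResidueField k').comp (algebraMap A p.ResidueField)).toAlgebra
  have : IsScalarTower A p.ResidueField k' := IsScalarTower.of_algebraMap_eq fun _ => rfl
  refine ⟨B ⊗[A] k', (B ⊗[A] k') ⊗[B] C, inferInstance, inferInstance, inferInstance,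
    inferInstance, ⟨?_⟩, ⟨?_⟩⟩
  · exact (Algebra.TensorProduct.cancelBaseChange A p.ResidueField k' k' B).toRingEquiv.trans
      (Algebra.TensorProduct.comm A k' B).toRingEquiv
  · exact (Algebra.TensorProduct.cancelBaseChange A p.ResidueField k' k' C).toRingEquiv.trans
      (tensorTensorEquiv A B C k').symm

/-- Descent of geometric normality of a fibre along a faithfully flat map `B → C`. -/
theorem isNormalRing_baseChange_fiber_of_faithfullyFlat (hN : IsNoetherianRing (p.Fiber C))
    (h : EGA4.IsNormalRing (k' ⊗[p.ResidueField] p.Fiber C)) :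
    EGA4.IsNormalRing (k' ⊗[p.ResidueField] p.Fiber B) := by
  obtain ⟨T, T', _, _, _, hff, ⟨eB⟩, ⟨eC⟩⟩ := exists_faithfullyFlat_model A B C p k'
  have hNX : IsNoetherianRing (k' ⊗[p.ResidueField] p.Fiber C) :=
    isNoetherianRing_baseChange_fiber A C p k' hN
  have hNT' : IsNoetherianRing T' := isNoetherianRing_of_ringEquiv _ eC
  have h1 : EGA4.IsNormalRing T' := isNormalRing_of_ringEquiv eC.symm h
  obtain ⟨hNT, h2⟩ := isNormalRing_of_faithfullyFlat (R := T) (S := T') h1
  exact isNormalRing_of_ringEquiv eB h2

/-- Descent of geometric regularity of a fibre along a faithfully flat map `B → C`. -/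
theorem isRegularRing_baseChange_fiber_of_faithfullyFlat (hN : IsNoetherianRing (p.Fiber C))
    (h : IsRegularRing (k' ⊗[p.ResidueField] p.Fiber C)) :
    IsRegularRing (k' ⊗[p.ResidueField] p.Fiber B) := by
  obtain ⟨T, T', _, _, _, hff, ⟨eB⟩, ⟨eC⟩⟩ := exists_faithfullyFlat_model A B C p k'
  have hNX : IsNoetherianRing (k' ⊗[p.ResidueField] p.Fiber C) :=
    isNoetherianRing_baseChange_fiber A C p k' hN
  have hNT' : IsNoetherianRing T' := isNoetherianRing_of_ringEquiv _ eC
  have h1 : IsRegularRing T' :=
    IsRegularRing.of_ringEquiv (R := k' ⊗[p.ResidueField] p.Fiber C) eC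
  have h2 : IsRegularRing T := isRegularRing_of_faithfullyFlat (R := T) (S := T') h1
  exact IsRegularRing.of_ringEquiv (R := T) eB.symm

/-- Descent of Noetherianity of fibre rings. -/
theorem isNoetherianRing_fiber_of_faithfullyFlat (hN : IsNoetherianRing (p.Fiber C)) :
    IsNoetherianRing (p.Fiber B) := by
  have hNT : IsNoetherianRing ((B ⊗[A] p.ResidueField) ⊗[B] C) :=
    isNoetherianRing_of_ringEquiv _ (fiberTensorEquiv A B C p).symm
  have h2 : IsNoetherianRing (B ⊗[A] p.ResidueField) :=
    isNoetherianRing_of_faithfullyFlat (S := (B ⊗[A] p.ResidueField) ⊗[B] C)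
  exact isNoetherianRing_of_ringEquiv _
    (Algebra.TensorProduct.comm A B p.ResidueField).toRingEquiv

end Fibre

end Groth.Agent.Lib.Helper29
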