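import Groth.Agent.Lib.Helper29.FlatAscent3
import Groth.Agent.Lib.Helper29.GeomDescent
import Groth.Agent.S0602

/-!
Helper lemmas (helper29): global ascent of `(R_k)`, reducedness and normality along a flat map
of Noetherian rings in terms of the fibre rings `p.Fiber S = κ(p) ⊗ S`.
-/

set_option autoImplicit false
universe u

namespace Groth.Agent.Lib.Helper29

open IsLocalRing TensorProduct

section Bridge

variable (R S : Type u) [CommRing R] [CommRing S] [Algebra R S]

/-- The fibre local ring `S_Q / p S_Q` is the localization of the fibre ring `κ(p) ⊗ S` at a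
prime. -/
theorem exists_fiber_prime_equiv_fibLocRing (Q : Ideal S) [hQ : Q.IsPrime] :
    ∃ (q' : Ideal ((Q.under R).Fiber S)) (_ : q'.IsPrime),
      Nonempty (Localization.AtPrime q' ≃+* EGA4.FibLocRing R S Q) := by
  have hlies : Q.LiesOver (Q.under R) := ⟨rfl⟩
  obtain ⟨q', hq', hq'Q⟩ := exists_fiber_prime (Q.under R) Q
  refine ⟨q', hq', ?_⟩
  have e := fiberLocalizationEquiv (Q.under R) q'
  have key : ∀ (r : Ideal S) (hr : r.IsPrime), r = Q →
      (Localization.AtPrime q' ≃+*
        (Localization.AtPrime r ⧸ (Q.under R).map (algebraMap R (Localization.AtPrime r)))) →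
      Nonempty (Localization.AtPrime q' ≃+* EGA4.FibLocRing R S Q) := by
    rintro r hr rfl h
    exact ⟨h⟩
  exact key _ _ hq'Q e

end Bridge

section Global

variable {R S : Type u} [CommRing R] [CommRing S] [Algebra R S] [IsNoetherianRing R]
  [IsNoetherianRing S] [Module.Flat R S]

/-- `(R_k)` transfers along a ring isomorphism. -/
theorem hasRk_of_ringEquiv {R S : Type u} [CommRing R] [CommRing S] (e : R ≃+* S)
    [IsNoetherianRing S] (k : ℕ) (h : LocCoh.HasRk k S) : LocCoh.HasRk k R := by
  let _ : Algebra R S := e.toRingHom.toAlgebra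
  have : Module.FaithfullyFlat R S := faithfullyFlat_of_ringEquiv e
  exact (hasRk_of_faithfullyFlat k h).2

/-- The localization of an `(R_k)` ring at a prime is `(R_k)`. -/
theorem hasRk_localization_atPrime {T : Type u} [CommRing T] (k : ℕ) (hT : LocCoh.HasRk k T)
    (q : Ideal T) [q.IsPrime] : LocCoh.HasRk k (Localization.AtPrime q) := by
  have : EGA4.HasRkAt k T q := by
    rw [Groth.Agent.Lib.Helper13.hasRkAt_iff]
    intro Q hQ _ hht
    exact hT Q hht
  exact this

/-- The fibre local rings of a map with `(R_k)` fibre rings are `(R_k)`. -/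
theorem hasRk_fibLocRing_of_fibers (k : ℕ)
    (hfib : ∀ (p : Ideal R) [p.IsPrime], LocCoh.HasRk k (p.Fiber S))
    (Q : Ideal S) [Q.IsPrime] : LocCoh.HasRk k (EGA4.FibLocRing R S Q) := by
  obtain ⟨q', hq', ⟨e⟩⟩ := exists_fiber_prime_equiv_fibLocRing R S Q
  have hNF : IsNoetherianRing ((Q.under R).Fiber S) := isNoetherianRing_fiber R S (Q.under R)
  have hNq' : IsNoetherianRing (Localization.AtPrime q') :=
    IsLocalization.isNoetherianRing q'.primeCompl _ inferInstance
  exact hasRk_of_ringEquiv e.symm k (hasRk_localization_atPrime k (hfib (Q.under R)) q')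

/-- **Ascent of `(R_k)`**: a flat map of Noetherian rings with `(R_k)` base and `(R_k)` fibre
rings has `(R_k)` total ring. -/
theorem hasRk_of_flat_of_fibers (k : ℕ) (hR : LocCoh.HasRk k R)
    (hfib : ∀ (p : Ideal R) [p.IsPrime], LocCoh.HasRk k (p.Fiber S)) :
    LocCoh.HasRk k S := by
  intro Q hQ hht
  have hA : EGA4.HasRkAt k R (Q.comap (algebraMap R S)) :=
    hasRk_localization_atPrime k hR _
  have h := hasRkAt_of_flat_of_fibLoc R S k (fun q _ => hasRk_fibLocRing_of_fibers k hfib q) Q hA
  rw [Groth.Agent.Lib.Helper13.hasRkAt_iff] at h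
  exact h Q le_rfl hht

/-- **Ascent of reducedness**: a flat map of Noetherian rings with reduced base and reduced
fibre rings has reduced total ring. -/
theorem isReduced_of_flat_of_fibers [IsReduced R]
    (hfib : ∀ (p : Ideal R) [p.IsPrime], IsReduced (p.Fiber S)) : IsReduced S := by
  have hR := (Groth.Agent.S0602.result R).mp inferInstance
  have hF : ∀ (p : Ideal R) [p.IsPrime],
      LocCoh.HasRk 0 (p.Fiber S) ∧ LocCoh.HasSk 1 (p.Fiber S) (p.Fiber S) := by
    intro p _
    have hNF : IsNoetherianRing (p.Fiber S) := isNoetherianRing_fiber R S p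
    exact (Groth.Agent.S0602.result (p.Fiber S)).mp (hfib p)
  exact (Groth.Agent.S0602.result S).mpr
    ⟨hasRk_of_flat_of_fibers 0 hR.1 (fun p _ => (hF p).1),
      hasSk_of_flat_of_fibers 1 hR.2 (fun p _ => (hF p).2)⟩

/-- **Ascent of normality**: a flat map of Noetherian rings with normal base and normal
fibre rings has normal total ring. -/
theorem isNormalRing_of_flat_of_fibers (hR : EGA4.IsNormalRing R)
    (hfib : ∀ (p : Ideal R) [p.IsPrime], EGA4.IsNormalRing (p.Fiber S)) :
    EGA4.IsNormalRing S := by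
  rw [isNormalRing_iff_hasRk_one_and_hasSk_two] at hR ⊢
  have hF : ∀ (p : Ideal R) [p.IsPrime],
      LocCoh.HasRk 1 (p.Fiber S) ∧ LocCoh.HasSk 2 (p.Fiber S) (p.Fiber S) := by
    intro p _
    have hNF : IsNoetherianRing (p.Fiber S) := isNoetherianRing_fiber R S p
    exact (isNormalRing_iff_hasRk_one_and_hasSk_two (p.Fiber S)).mp (hfib p)
  exact ⟨hasRk_of_flat_of_fibers 1 hR.1 (fun p _ => (hF p).1),
    hasSk_of_flat_of_fibers 2 hR.2 (fun p _ => (hF p).2)⟩

end Global

end Groth.Agent.Lib.Helper29
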