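import Groth.Agent.Lib.Helper29.CodepthOpen
import Groth.Agent.Lib.Helper29.DepthSelf
import Groth.Agent.Lib.Helper29.FlatAscent4
import Groth.Agent.Lib.Helper29.CplFlat
import Groth.Agent.S0580
import Groth.Agent.Lib.Helper73.RegularPowerSeries

/-!
Helper lemmas (helper29): openness of the Cohen–Macaulay locus for quotients of regular rings,
complete local rings and local rings with Cohen–Macaulay formal fibres.
-/

set_option autoImplicit false
universe u

namespace Groth.Agent.Lib.Helper29

open IsLocalRing

section Quot

variable (R A : Type u) [CommRing R] [CommRing A] [IsRegularRing R] [Algebra R A]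
  (hs : Function.Surjective (algebraMap R A))

include hs in
/-- The CM locus of a quotient of a regular ring is open. -/
theorem isOpen_setOf_isCohenMacaulayLocalRing_of_surjective :
    IsOpen {q : PrimeSpectrum A |
      LocCoh.IsCohenMacaulayLocalRing (Localization.AtPrime q.asIdeal)} := by
  have hNA : IsNoetherianRing A := isNoetherianRing_of_surjective R A (algebraMap R A) hs
  have hopen := isOpen_setOf_supportDim_le_depth_add_of_surjective R A hs A 0
  convert hopen using 1
  ext q
  simp only [Set.mem_ofPred_eq]
  rw [supportDim_localizedModule_self, depth_localizedModule_self]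
  have hle := depth_le_supportDim (Localization.AtPrime q.asIdeal)
    (Localization.AtPrime q.asIdeal)
  rw [Module.supportDim_self_eq_ringKrullDim,
    IsLocalization.AtPrime.ringKrullDim_eq_height q.asIdeal] at hle
  constructor
  · intro hCM
    have h1 := hCM.supportDim_eq_depth
    rw [Module.supportDim_self_eq_ringKrullDim,
      IsLocalization.AtPrime.ringKrullDim_eq_height q.asIdeal] at h1
    rw [h1]
    simp
  · intro h
    refine ⟨?_⟩
    rw [Module.supportDim_self_eq_ringKrullDim,
      IsLocalization.AtPrime.ringKrullDim_eq_height q.asIdeal]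
    refine le_antisymm ?_ hle
    simpa using h

end Quot

section Complete

/-- A complete Noetherian local ring is a quotient of a regular ring. -/
theorem exists_regular_surjective_of_complete (A : Type u) [CommRing A] [IsNoetherianRing A]
    [IsLocalRing A] [IsAdicComplete (maximalIdeal A) A] :
    ∃ (R : Type u) (_ : CommRing R) (_ : IsRegularRing R) (f : R →+* A),
      Function.Surjective f := by
  obtain ⟨Λ, hΛ, n, f, hΛ', hf⟩ := Groth.Agent.S0580.result A
    ((isNoetherianRing_iff_ideal_fg A).mp inferInstance _)
  have hreg : IsRegularRing Λ := by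
    rcases hΛ' with hfield | hcohen
    · let _ := hfield.toField
      infer_instance
    · obtain ⟨hdom, hdvr, -, -⟩ := hcohen
      infer_instance
  exact ⟨MvPowerSeries (Fin n) Λ, inferInstance,
    Groth.Agent.Lib.Helper73.RegularRing.isRegularRing_mvPowerSeries Λ n, f, hf⟩

end Complete

section Descent

variable {R S : Type u} [CommRing R] [CommRing S] [Algebra R S] [IsNoetherianRing R]
  [IsNoetherianRing S] [Module.Flat R S]

/-- Descent of Cohen–Macaulayness along a flat map: `S_q` CM implies `R_p` CM. -/
theorem isCohenMacaulayLocalRing_of_flat_descent (p : Ideal R) [p.IsPrime] (q : Ideal S)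
    [q.IsPrime] [q.LiesOver p]
    (hq : LocCoh.IsCohenMacaulayLocalRing (Localization.AtPrime q)) :
    LocCoh.IsCohenMacaulayLocalRing (Localization.AtPrime p) := by
  have hNp : IsNoetherianRing (Localization.AtPrime p) :=
    IsLocalization.isNoetherianRing p.primeCompl _ inferInstance
  have hNq : IsNoetherianRing (Localization.AtPrime q) :=
    IsLocalization.isNoetherianRing q.primeCompl _ inferInstance
  have hnt := nontrivial_fibLoc p q
  have hloc : IsLocalRing (Localization.AtPrime q ⧸
      p.map (algebraMap R (Localization.AtPrime q))) :=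
    IsLocalRing.of_surjective' (Ideal.Quotient.mk _) Ideal.Quotient.mk_surjective
  obtain ⟨h1, h2⟩ := depth_and_dim_add_of_flat p q
  have h3 := hq.supportDim_eq_depth
  rw [Module.supportDim_self_eq_ringKrullDim] at h3
  -- inequalities `depth ≤ dim`
  have hA := depth_le_supportDim (Localization.AtPrime p) (Localization.AtPrime p)
  have hF := depth_le_supportDim
    (Localization.AtPrime q ⧸ p.map (algebraMap R (Localization.AtPrime q)))
    (Localization.AtPrime q ⧸ p.map (algebraMap R (Localization.AtPrime q)))
  rw [Module.supportDim_self_eq_ringKrullDim] at hA hF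
  refine { supportDim_eq_depth := ?_ }
  rw [Module.supportDim_self_eq_ringKrullDim]
  refine le_antisymm ?_ hA
  -- all quantities are finite
  obtain ⟨a, ha⟩ : ∃ a : ℕ, ringKrullDim (Localization.AtPrime p) = (a : ℕ) := by
    rw [IsLocalization.AtPrime.ringKrullDim_eq_height p]
    obtain ⟨a, ha⟩ := ENat.ne_top_iff_exists.mp (Ideal.height_ne_top_of_isPrime (I := p))
    exact ⟨a, by rw [← ha]; rfl⟩
  obtain ⟨b, hb⟩ : ∃ b : ℕ, ringKrullDim (Localization.AtPrime q) = (b : ℕ) := by
    rw [IsLocalization.AtPrime.ringKrullDim_eq_height q]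
    obtain ⟨b, hb⟩ := ENat.ne_top_iff_exists.mp (Ideal.height_ne_top_of_isPrime (I := q))
    exact ⟨b, by rw [← hb]; rfl⟩
  rw [hb] at h3
  have hdq : LocCoh.depth (Localization.AtPrime q) (Localization.AtPrime q) = (b : ℕ) := by
    exact_mod_cast h3.symm
  rw [hdq] at h1
  -- depths of `R_p` and of the fibre are finite
  have hda : LocCoh.depth (Localization.AtPrime p) (Localization.AtPrime p) ≠ ⊤ := by
    intro htop
    rw [htop, top_add] at h1
    exact ENat.natCast_ne_top b h1
  have hdf : LocCoh.depth
      (Localization.AtPrime q ⧸ p.map (algebraMap R (Localization.AtPrime q)))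
      (Localization.AtPrime q ⧸ p.map (algebraMap R (Localization.AtPrime q))) ≠ ⊤ := by
    intro htop
    rw [htop, add_top] at h1
    exact ENat.natCast_ne_top b h1
  obtain ⟨da, hda'⟩ := ENat.ne_top_iff_exists.mp hda
  obtain ⟨df, hdf'⟩ := ENat.ne_top_iff_exists.mp hdf
  rw [← hda', ← hdf'] at h1
  rw [← hda'] at hA ⊢
  rw [← hdf'] at hF
  rw [ha] at hA h2 ⊢
  rw [hb] at h2
  -- the fibre dimension
  have hfne : ringKrullDim (Localization.AtPrime q ⧸
      p.map (algebraMap R (Localization.AtPrime q))) ≠ ⊥ := ringKrullDim_ne_bot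
  obtain ⟨x, hx⟩ := WithBot.ne_bot_iff_exists.mp hfne
  rw [← hx] at h2 hF
  have hxtop : x ≠ ⊤ := by
    rintro rfl
    have h5 : ((b : ℕ) : WithBot ℕ∞) = (((a : ℕ∞) + ⊤ : ℕ∞) : WithBot ℕ∞) := h2
    rw [add_top] at h5
    exact ENat.natCast_ne_top b (WithBot.coe_injective h5)
  obtain ⟨c, rfl⟩ := ENat.ne_top_iff_exists.mp hxtop
  have e1 : b = da + df := by exact_mod_cast h1
  have e2 : b = a + c := by exact_mod_cast h2
  have e3 : da ≤ a := by exact_mod_cast hA
  have e4 : df ≤ c := by exact_mod_cast hF
  have : a ≤ da := by omega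
  exact_mod_cast this

end Descent

section FormalFibres

variable (A : Type u) [CommRing A] [IsNoetherianRing A] [IsLocalRing A]

/-- The completion of a Noetherian local ring is complete. -/
theorem isAdicComplete_cpl :
    haveI := isLocalRing_cpl A
    IsAdicComplete (maximalIdeal (EGA4.Cpl A)) (EGA4.Cpl A) := by
  have hLC : IsLocalRing (EGA4.Cpl A) := isLocalRing_cpl A
  have hmax := maximalIdeal_adicCompletion_eq_map A (maximalIdeal A)
    (Ideal.IsPrime.ne_top inferInstance)
  rw [hmax]
  exact AdicCompletion.isAdicComplete_self (maximalIdeal A) (Ideal.fg_of_isNoetherianRing _)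

/-- If the formal fibres of `A` are Cohen–Macaulay then the CM locus of `A` is open
(EGA IV 7.8.3 type statement, via the completion). -/
theorem isOpen_setOf_isCohenMacaulayLocalRing_of_hasCMFormalFibres
    (hA : EGA4.HasCMFormalFibres A) :
    IsOpen {p : PrimeSpectrum A |
      LocCoh.IsCohenMacaulayLocalRing (Localization.AtPrime p.asIdeal)} := by
  have hN : IsNoetherianRing (EGA4.Cpl A) := isNoetherianRing_cpl A
  have hL : IsLocalRing (EGA4.Cpl A) := isLocalRing_cpl A
  have hff : Module.FaithfullyFlat A (EGA4.Cpl A) := faithfullyFlat_cpl A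
  have hflat : Module.Flat A (EGA4.Cpl A) := hff.toFlat
  have hcompl : IsAdicComplete (maximalIdeal (EGA4.Cpl A)) (EGA4.Cpl A) := isAdicComplete_cpl A
  have hq : Topology.IsQuotientMap (PrimeSpectrum.comap (algebraMap A (EGA4.Cpl A))) :=
    PrimeSpectrum.isQuotientMap_of_generalizingMap
      PrimeSpectrum.comap_surjective_of_faithfullyFlat
      (RingHom.Flat.generalizingMap_comap (RingHom.flat_algebraMap_iff.mpr hflat))
  rw [← hq.isOpen_preimage]
  have hset : PrimeSpectrum.comap (algebraMap A (EGA4.Cpl A)) ⁻¹'
      {p : PrimeSpectrum A | LocCoh.IsCohenMacaulayLocalRing (Localization.AtPrime p.asIdeal)} =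
      {q : PrimeSpectrum (EGA4.Cpl A) |
        LocCoh.IsCohenMacaulayLocalRing (Localization.AtPrime q.asIdeal)} := by
    ext q
    have hlies : q.asIdeal.LiesOver (q.asIdeal.under A) := ⟨rfl⟩
    change LocCoh.IsCohenMacaulayLocalRing (Localization.AtPrime (q.asIdeal.under A)) ↔ _
    constructor
    · intro hp
      refine isCohenMacaulayLocalRing_of_flat_of_fibLoc (q.asIdeal.under A) q.asIdeal hp ?_
      obtain ⟨q', hq', ⟨e⟩⟩ := exists_fiber_prime_equiv_fibLocRing A (EGA4.Cpl A) q.asIdeal
      have h1 : LocCoh.IsCohenMacaulayLocalRing (Localization.AtPrime q') :=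
        (hA (q.asIdeal.under A)).isCohenMacaulayLocalRing_localization q'
      exact isCohenMacaulayLocalRing_of_ringEquiv e h1
    · intro hq'
      exact isCohenMacaulayLocalRing_of_flat_descent (q.asIdeal.under A) q.asIdeal hq'
  rw [hset]
  obtain ⟨R, hR, hreg, f, hf⟩ := exists_regular_surjective_of_complete (EGA4.Cpl A)
  let _ : Algebra R (EGA4.Cpl A) := f.toAlgebra
  exact isOpen_setOf_isCohenMacaulayLocalRing_of_surjective R (EGA4.Cpl A) hf

end FormalFibres

end Groth.Agent.Lib.Helper29
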