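import Groth.Prelude.Def_CAlg
import Mathlib.RingTheory.Regular.LinearMap
import Mathlib.RingTheory.Ideal.AssociatedPrime.Finiteness
import Mathlib.RingTheory.Nakayama

/-!
Helper lemmas (helper29) on `LocCoh.depth` (Prelude `Def_CAlg`): depth zero.
-/

set_option autoImplicit false
universe u v

namespace Groth.Agent.Lib.Helper29

open IsLocalRing RingTheory.Sequence

/-- Over a Noetherian local ring, no element of the maximal ideal is regular on the finite module
`M` iff the maximal ideal is an associated prime of `M`. -/
theorem forall_not_isSMulRegular_iff_mem_associatedPrimes (A : Type u) [CommRing A] [IsLocalRing A]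
    [IsNoetherianRing A] (M : Type v) [AddCommGroup M] [Module A M] [Module.Finite A M] :
    (∀ x ∈ maximalIdeal A, ¬ IsSMulRegular M x) ↔ maximalIdeal A ∈ associatedPrimes A M := by
  constructor
  · intro h
    have hnt : Nontrivial M := by
      by_contra hcon
      rw [not_nontrivial_iff_subsingleton] at hcon
      exact h 0 (Submodule.zero_mem _) (IsSMulRegular.zero)
    obtain ⟨Ia, hIa⟩ := associatedPrimes.nonempty A M
    have hexist : ∃ p ∈ associatedPrimes A M, maximalIdeal A ≤ p := by
      apply (Ideal.subset_union_prime_finite (associatedPrimes.finite A M) Ia Ia _).mp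
      · rw [biUnion_associatedPrimes_eq_compl_regular A M]
        exact fun r hr => h r hr
      · exact fun I hin _ _ => IsAssociatedPrime.isPrime hin
    obtain ⟨p, hp, hle⟩ := hexist
    have hp' : p.IsPrime := IsAssociatedPrime.isPrime hp
    have : p = maximalIdeal A := le_antisymm (le_maximalIdeal hp'.ne_top) hle
    rwa [← this]
  · intro hm x hx
    have : x ∈ ⋃ p ∈ associatedPrimes A M, (p : Set A) :=
      Set.mem_biUnion hm hx
    rw [biUnion_associatedPrimes_eq_compl_regular A M] at this
    exact this

/-- The depth (Prelude definition) of a nonzero finite module over a Noetherian local ring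
is the supremum of the lengths of the regular sequences in the maximal ideal. -/
theorem depth_eq_iSup_of_nontrivial (A : Type u) [CommRing A] [IsLocalRing A]
    (M : Type v) [AddCommGroup M] [Module A M] [Module.Finite A M] [Nontrivial M] :
    LocCoh.depth A M = ⨆ (rs : List A) (_ : IsWeaklyRegular M rs ∧ ∀ r ∈ rs, r ∈ maximalIdeal A),
      (rs.length : ℕ∞) := by
  unfold LocCoh.depth LocCoh.idealDepth
  rw [if_neg]
  exact (Submodule.top_ne_ideal_smul_of_le_jacobson_annihilator
    (IsLocalRing.maximalIdeal_le_jacobson _)).symm

theorem depth_eq_top_of_subsingleton (A : Type u) [CommRing A] [IsLocalRing A]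
    (M : Type v) [AddCommGroup M] [Module A M] [Subsingleton M] :
    LocCoh.depth A M = ⊤ := by
  unfold LocCoh.depth LocCoh.idealDepth
  rw [if_pos]
  exact Subsingleton.elim _ _

/-- Depth zero iff the maximal ideal is an associated prime. -/
theorem depth_eq_zero_iff (A : Type u) [CommRing A] [IsLocalRing A]
    [IsNoetherianRing A] (M : Type v) [AddCommGroup M] [Module A M] [Module.Finite A M] :
    LocCoh.depth A M = 0 ↔ maximalIdeal A ∈ associatedPrimes A M := by
  rcases subsingleton_or_nontrivial M with hM | hM
  · rw [depth_eq_top_of_subsingleton, associatedPrimes.eq_empty_of_subsingleton]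
    simp
  · rw [depth_eq_iSup_of_nontrivial, ← forall_not_isSMulRegular_iff_mem_associatedPrimes]
    simp only [ENat.iSup_eq_zero, Nat.cast_eq_zero, List.length_eq_zero_iff]
    constructor
    · intro h x hx hreg
      have := h [x] ⟨(isWeaklyRegular_singleton_iff M x).mpr hreg, by simpa using hx⟩
      simp at this
    · intro h rs hrs
      cases rs with
      | nil => rfl
      | cons r rs' =>
        exfalso
        exact h r (hrs.2 r (by simp)) ((isWeaklyRegular_cons_iff M r rs').mp hrs.1).1

end Groth.Agent.Lib.Helper29
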