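import Mathlib.RingTheory.KrullDimension.Regular
import Mathlib.RingTheory.KrullDimension.NonZeroDivisors
import Mathlib.RingTheory.Ideal.KrullsHeightTheorem
import Mathlib.RingTheory.Spectrum.Maximal.Basic

/-!
Helper lemmas (helper29) on `Module.supportDim` over semi-local Noetherian rings.
-/

set_option autoImplicit false
universe u v

namespace Groth.Agent.Lib.Helper29

open Module PrimeSpectrum

/-- A semi-local Noetherian ring has finite Krull dimension. -/
theorem ringKrullDim_lt_top_of_finite_maximalSpectrum (A : Type u) [CommRing A]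
    [IsNoetherianRing A] [Finite (MaximalSpectrum A)] : ringKrullDim A < ⊤ := by
  classical
  have := Fintype.ofFinite (MaximalSpectrum A)
  have h1 : ∀ m ∈ (Finset.univ : Finset (MaximalSpectrum A)), m.asIdeal.height < ⊤ :=
    fun m _ => @Ideal.height_lt_top _ _ m.asIdeal m.isMaximal.ne_top
      (Ideal.finiteHeight_of_isNoetherianRing _)
  obtain ⟨n, hn, hmn⟩ : ∃ n : ℕ∞, n < ⊤ ∧ ∀ m : MaximalSpectrum A, m.asIdeal.height ≤ n :=
    ⟨Finset.univ.sup (fun m : MaximalSpectrum A => m.asIdeal.height),
      (Finset.sup_lt_iff (ENat.top_pos)).mpr h1,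
      fun m => Finset.le_sup (f := fun m : MaximalSpectrum A => m.asIdeal.height)
        (Finset.mem_univ m)⟩
  have hle : ringKrullDim A ≤ (n : WithBot ℕ∞) := by
    rw [ringKrullDim_le_iff_isMaximal_height_le]
    intro m hm
    have : m.height ≤ n := hmn ⟨m, hm⟩
    exact_mod_cast this
  refine lt_of_le_of_lt hle ?_
  exact WithBot.coe_lt_coe.mpr hn

/-- For `p` in the support of `M`, `dim A/p ≤ dim M`. -/
theorem ringKrullDim_quotient_le_supportDim {A : Type u} [CommRing A] {M : Type v}
    [AddCommGroup M] [Module A M] (p : PrimeSpectrum A) (hp : p ∈ Module.support A M) :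
    ringKrullDim (A ⧸ p.asIdeal) ≤ Module.supportDim A M := by
  rw [ringKrullDim_quotient]
  refine Order.krullDim_le_of_strictMono
    (fun q : zeroLocus (p.asIdeal : Set A) => (⟨q.1, Module.mem_support_mono
      (show p ≤ q.1 from q.2) hp⟩ : Module.support A M)) ?_
  intro a b hab
  exact hab

/-- A chain of primes above `p` bounds `dim A/p` from below. -/
theorem length_le_ringKrullDim_quotient {A : Type u} [CommRing A] (p : PrimeSpectrum A)
    (q : LTSeries (PrimeSpectrum A)) (hq : p ≤ q.head) :
    (q.length : WithBot ℕ∞) ≤ ringKrullDim (A ⧸ p.asIdeal) := by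
  rw [ringKrullDim_quotient]
  let q' : LTSeries (zeroLocus (p.asIdeal : Set A)) :=
    LTSeries.mk q.length (fun i => ⟨q i, show p ≤ q i from hq.trans (q.head_le i)⟩)
      (fun i j hij => q.strictMono hij)
  exact Order.LTSeries.length_le_krullDim q'

theorem not_add_one_le_self (d : WithBot ℕ∞) (h1 : d ≠ ⊥) (h2 : d ≠ ⊤) : ¬ d + 1 ≤ d := by
  obtain ⟨n, rfl⟩ := WithBot.ne_bot_iff_exists.mp h1
  have hn' : n ≠ ⊤ := fun h => h2 (by rw [h]; rfl)
  intro h4
  have h5 : n + 1 ≤ n := by exact_mod_cast h4
  exact absurd h5 (by
    rw [not_le]
    exact ENat.lt_add_one_iff hn' |>.mpr le_rfl)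

theorem add_one_le_of_lt {c d : WithBot ℕ∞} (h : c < d) : c + 1 ≤ d := by
  induction c with
  | bot => simp
  | coe c =>
    induction d with
    | bot => exact absurd h (not_lt_bot)
    | coe d =>
      have h' : c < d := by exact_mod_cast h
      have : c + 1 ≤ d := (ENat.add_one_le_iff h'.ne_top).mpr h'
      exact_mod_cast this

/-- `dim M/xM + 1 = dim M` iff `x` avoids the primes of maximal dimension in the support. -/
theorem supportDim_quotSMulTop_add_one_eq_iff (A : Type u) [CommRing A] [IsNoetherianRing A]
    [Finite (MaximalSpectrum A)] (M : Type v) [AddCommGroup M] [Module A M] [Module.Finite A M]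
    (x : A) (hx : x ∈ Ring.jacobson A) :
    Module.supportDim A (QuotSMulTop x M) + 1 = Module.supportDim A M ↔
      ∀ p : PrimeSpectrum A, p ∈ Module.support A M →
        ringKrullDim (A ⧸ p.asIdeal) = Module.supportDim A M → x ∉ p.asIdeal := by
  have hxj : x ∈ (Module.annihilator A M).jacobson := Ideal.ringJacobson_le_jacobson hx
  have hge : supportDim A M ≤ supportDim A (QuotSMulTop x M) + 1 :=
    supportDim_le_supportDim_quotSMulTop_succ_of_mem_jacobson hxj
  have hfin : ∀ (N : Type v) [AddCommGroup N] [Module A N], supportDim A N ≠ ⊤ := fun N _ _ =>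
    ((supportDim_le_ringKrullDim A N).trans_lt
      (ringKrullDim_lt_top_of_finite_maximalSpectrum A)).ne
  constructor
  · intro heq p hp hdim hxp
    have hp' : p ∈ Module.support A (QuotSMulTop x M) := by
      rw [Module.support_quotSMulTop]
      exact ⟨hp, by simpa using hxp⟩
    have h1 : ringKrullDim (A ⧸ p.asIdeal) ≤ supportDim A (QuotSMulTop x M) :=
      ringKrullDim_quotient_le_supportDim p hp'
    rw [hdim, ← heq] at h1
    refine not_add_one_le_self _ ?_ (hfin _) h1
    rw [supportDim_ne_bot_iff_nontrivial, ← Module.nonempty_support_iff (R := A)]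
    exact ⟨p, hp'⟩
  · intro h
    refine le_antisymm ?_ hge
    rcases subsingleton_or_nontrivial M with hM | hM
    · have : Subsingleton (QuotSMulTop x M) := Quotient.instSubsingletonQuotient _
      rw [supportDim_eq_bot_of_subsingleton]
      simp
    · apply add_one_le_of_lt
      -- `d := dim M` is a natural number
      have hd1 : supportDim A M ≠ ⊥ := (supportDim_ne_bot_iff_nontrivial A M).mpr hM
      obtain ⟨n, hn⟩ := WithBot.ne_bot_iff_exists.mp hd1
      have hn' : n ≠ ⊤ := fun hh => hfin M (by rw [← hn, hh]; rfl)
      obtain ⟨e, rfl⟩ := ENat.ne_top_iff_exists.mp hn'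
      have hd : supportDim A M = (e : WithBot ℕ∞) := hn.symm
      rw [hd]
      unfold supportDim
      rw [Order.krullDim_lt_coe_iff]
      intro q
      have hq0 : q.head.1 ∈ Module.support A M ∧ x ∈ q.head.1.asIdeal := by
        have h0 : q.head.1 ∈ Module.support A M ∩ zeroLocus {x} :=
          (Module.support_quotSMulTop (M := M) x) ▸ q.head.2
        exact ⟨h0.1, by simpa using h0.2⟩
      have h1 : ringKrullDim (A ⧸ q.head.1.asIdeal) ≤ supportDim A M :=
        ringKrullDim_quotient_le_supportDim _ hq0.1
      have h2 : ringKrullDim (A ⧸ q.head.1.asIdeal) ≠ supportDim A M :=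
        fun heq => h _ hq0.1 heq hq0.2
      have h3 : ringKrullDim (A ⧸ q.head.1.asIdeal) < supportDim A M := lt_of_le_of_ne h1 h2
      have h4 : (q.length : WithBot ℕ∞) ≤ ringKrullDim (A ⧸ q.head.1.asIdeal) := by
        exact length_le_ringKrullDim_quotient q.head.1
          (LTSeries.mk q.length (fun i => (q i).1) (fun i j hij => q.strictMono hij)) le_rfl
      have h5 : (q.length : WithBot ℕ∞) < (e : WithBot ℕ∞) := by
        rw [← hd]; exact lt_of_le_of_lt h4 h3
      exact_mod_cast h5

/-- The support of a localized module (as a module over the base ring) lies in the support. -/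
theorem support_localizedModule_subset {A : Type u} [CommRing A] (S : Submonoid A) (M : Type v)
    [AddCommGroup M] [Module A M] :
    Module.support A (LocalizedModule S M) ⊆ Module.support A M := by
  intro q hq
  rw [Module.mem_support_iff'] at hq ⊢
  obtain ⟨m', hm'⟩ := hq
  induction m' using LocalizedModule.induction_on with
  | h m s =>
    refine ⟨m, fun r hr h0 => hm' r hr ?_⟩
    rw [LocalizedModule.smul'_mk, h0, LocalizedModule.zero_mk]

/-- `dim M_p + dim M/pM ≤ dim M`. -/
theorem supportDim_localizedModule_add_supportDim_quotient_le (A : Type u) [CommRing A]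
    (M : Type v) [AddCommGroup M] [Module A M] [Module.Finite A M] (p : Ideal A) [p.IsPrime] :
    Module.supportDim (Localization.AtPrime p) (LocalizedModule p.primeCompl M) +
        Module.supportDim A (M ⧸ (p • (⊤ : Submodule A M))) ≤ Module.supportDim A M := by
  by_cases hp : (⟨p, inferInstance⟩ : PrimeSpectrum A) ∈ Module.support A M
  · let a : Module.support A M := ⟨⟨p, inferInstance⟩, hp⟩
    -- the localized part
    have h1 : Module.supportDim (Localization.AtPrime p) (LocalizedModule p.primeCompl M) ≤
        Order.krullDim (Set.Iic a) := by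
      refine Order.krullDim_le_of_strictMono
        (fun q' : Module.support (Localization.AtPrime p) (LocalizedModule p.primeCompl M) =>
          (⟨⟨comap (algebraMap A (Localization.AtPrime p)) q'.1,
            support_localizedModule_subset p.primeCompl M
              (Module.support_subset_preimage_comap (R := A) (A := Localization.AtPrime p)
                (M := LocalizedModule p.primeCompl M) q'.2)⟩, ?_⟩ : Set.Iic a)) ?_
      · change comap (algebraMap A (Localization.AtPrime p)) q'.1 ≤ ⟨p, inferInstance⟩
        have hmem : comap (algebraMap A (Localization.AtPrime p)) q'.1 ∈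
            Set.range (comap (algebraMap A (Localization.AtPrime p))) := ⟨_, rfl⟩
        rw [localization_comap_range (Localization.AtPrime p) p.primeCompl] at hmem
        intro x hx
        by_contra hxp
        exact Set.disjoint_left.mp hmem hxp hx
      · intro q₁ q₂ h12
        have hle : comap (algebraMap A (Localization.AtPrime p)) q₁.1 ≤
            comap (algebraMap A (Localization.AtPrime p)) q₂.1 :=
          Ideal.comap_mono (show q₁.1.asIdeal ≤ q₂.1.asIdeal from h12.le)
        refine lt_of_le_of_ne hle ?_
        intro heq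
        have := localization_comap_injective (Localization.AtPrime p) p.primeCompl
          (congrArg (fun z : Set.Iic a => z.1.1) heq)
        exact h12.ne (Subtype.ext this)
    -- the quotient part
    have h2 : Module.supportDim A (M ⧸ (p • (⊤ : Submodule A M))) ≤ Order.krullDim (Set.Ici a) := by
      refine Order.krullDim_le_of_strictMono
        (fun q : Module.support A (M ⧸ (p • (⊤ : Submodule A M))) =>
          (⟨⟨q.1, ?_⟩, ?_⟩ : Set.Ici a)) ?_
      · have h0 : q.1 ∈ Module.support A M ∩ zeroLocus (p : Set A) :=
          (Module.support_quotient (M := M) p) ▸ q.2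
        exact h0.1
      · have h0 : q.1 ∈ Module.support A M ∩ zeroLocus (p : Set A) :=
          (Module.support_quotient (M := M) p) ▸ q.2
        exact h0.2
      · intro q₁ q₂ h12
        exact h12
    calc _ ≤ Order.krullDim (Set.Iic a) + Order.krullDim (Set.Ici a) := add_le_add h1 h2
      _ = ((Order.height a + Order.coheight a : ℕ∞) : WithBot ℕ∞) := by
          rw [← Order.height_eq_krullDim_Iic, ← Order.coheight_eq_krullDim_Ici]; rfl
      _ ≤ Module.supportDim A M := by
          have : Nonempty (Module.support A M) := ⟨a⟩
          unfold Module.supportDim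
          rw [Order.krullDim_eq_iSup_height_add_coheight_of_nonempty]
          exact WithBot.coe_le_coe.mpr (le_iSup (fun a => Order.height a + Order.coheight a) a)
  · have : Subsingleton (LocalizedModule p.primeCompl M) := Module.notMem_support_iff.mp hp
    rw [Module.supportDim_eq_bot_of_subsingleton]
    simp

end Groth.Agent.Lib.Helper29
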