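import Groth.Prelude.Def_CAlg
import Groth.Agent.Lib.Helper29.Depth
import Mathlib.RingTheory.Depth.Rees
import Mathlib.RingTheory.KrullDimension.Regular
import Mathlib.Algebra.Homology.DerivedCategory.Ext.ExactSequences
import Groth.Agent.Lib.Helper29.SuppDim
import Groth.Agent.S5754

/-!
Helper lemmas (helper29) on `LocCoh.idealDepth` / `LocCoh.depth` (Prelude `Def_CAlg`):
characterisation by regular sequences, Rees' theorem (`Ext` characterisation), behaviour modulo a
regular element, comparison with the dimension.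
-/

set_option autoImplicit false
universe u v

namespace Groth.Agent.Lib.Helper29

open IsLocalRing RingTheory.Sequence CategoryTheory Abelian
open scoped Pointwise

section Basic

variable {R : Type u} [CommRing R]

theorem idealDepth_of_smul_top_eq (I : Ideal R) (M : Type v) [AddCommGroup M] [Module R M]
    (h : I • (⊤ : Submodule R M) = ⊤) : LocCoh.idealDepth I M = ⊤ := by
  unfold LocCoh.idealDepth
  rw [if_pos h]

theorem idealDepth_of_smul_top_ne (I : Ideal R) (M : Type v) [AddCommGroup M] [Module R M]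
    (h : I • (⊤ : Submodule R M) ≠ ⊤) :
    LocCoh.idealDepth I M =
      ⨆ (rs : List R) (_ : IsWeaklyRegular M rs ∧ ∀ r ∈ rs, r ∈ I), (rs.length : ℕ∞) := by
  unfold LocCoh.idealDepth
  rw [if_neg h]

/-- A weakly regular sequence in `I` gives a lower bound for the `I`-depth. -/
theorem length_le_idealDepth (I : Ideal R) (M : Type v) [AddCommGroup M] [Module R M]
    (rs : List R) (hreg : IsWeaklyRegular M rs) (hmem : ∀ r ∈ rs, r ∈ I) :
    (rs.length : ℕ∞) ≤ LocCoh.idealDepth I M := by
  by_cases h : I • (⊤ : Submodule R M) = ⊤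
  · rw [idealDepth_of_smul_top_eq I M h]; exact le_top
  · rw [idealDepth_of_smul_top_ne I M h]
    exact le_iSup₂_of_le rs ⟨hreg, hmem⟩ le_rfl

/-- Characterisation of `n ≤ depth_I M` by regular sequences. -/
theorem le_idealDepth_iff (I : Ideal R) (M : Type v) [AddCommGroup M] [Module R M] (n : ℕ) :
    (n : ℕ∞) ≤ LocCoh.idealDepth I M ↔ I • (⊤ : Submodule R M) = ⊤ ∨
      ∃ rs : List R, rs.length = n ∧ (∀ r ∈ rs, r ∈ I) ∧ IsWeaklyRegular M rs := by
  constructor
  · intro h
    by_cases htop : I • (⊤ : Submodule R M) = ⊤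
    · exact Or.inl htop
    · right
      rw [idealDepth_of_smul_top_ne I M htop] at h
      -- there is a sequence of length `≥ n`
      have hex : ∃ rs : List R, (IsWeaklyRegular M rs ∧ ∀ r ∈ rs, r ∈ I) ∧ n ≤ rs.length := by
        by_contra hcon
        push Not at hcon
        rcases Nat.eq_zero_or_pos n with hn | hn
        · exact absurd (hcon [] ⟨IsWeaklyRegular.nil R M, by simp⟩) (by simp [hn])
        · have hle : (⨆ (rs : List R) (_ : IsWeaklyRegular M rs ∧ ∀ r ∈ rs, r ∈ I),
              (rs.length : ℕ∞)) ≤ ((n - 1 : ℕ) : ℕ∞) := by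
            refine iSup₂_le fun rs hrs => ?_
            have := hcon rs hrs
            exact_mod_cast Nat.le_sub_one_of_lt this
          have := h.trans hle
          have h2 : n ≤ n - 1 := by exact_mod_cast this
          omega
      obtain ⟨rs, ⟨hreg, hmem⟩, hlen⟩ := hex
      refine ⟨rs.take n, by simp [hlen], fun r hr => hmem r (List.mem_of_mem_take hr), ?_⟩
      have : IsWeaklyRegular M (rs.take n ++ rs.drop n) := by rwa [List.take_append_drop]
      exact ((isWeaklyRegular_append_iff M _ _).mp this).1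
  · rintro (h | ⟨rs, hlen, hmem, hreg⟩)
    · rw [idealDepth_of_smul_top_eq I M h]; exact le_top
    · rw [← hlen]; exact length_le_idealDepth I M rs hreg hmem

theorem idealDepth_mono {I J : Ideal R} (h : I ≤ J) (M : Type v) [AddCommGroup M] [Module R M] :
    LocCoh.idealDepth I M ≤ LocCoh.idealDepth J M := by
  refine ENat.forall_natCast_le_iff_le.mp fun n hn => ?_
  rw [le_idealDepth_iff] at hn ⊢
  rcases hn with hn | ⟨rs, h1, h2, h3⟩
  · left
    exact top_le_iff.mp (hn.symm.le.trans (Submodule.smul_mono_left h))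
  · exact Or.inr ⟨rs, h1, fun r hr => h (h2 r hr), h3⟩

theorem idealDepth_le_of_linearEquiv (I : Ideal R) {N : Type v} {N' : Type*} [AddCommGroup N]
    [Module R N] [AddCommGroup N'] [Module R N'] (e : N ≃ₗ[R] N') :
    LocCoh.idealDepth I N ≤ LocCoh.idealDepth I N' := by
  refine ENat.forall_natCast_le_iff_le.mp fun n hn => ?_
  rw [le_idealDepth_iff] at hn ⊢
  rcases hn with hn | ⟨rs, h1, h2, h3⟩
  · left
    have := congrArg (Submodule.map e.toLinearMap) hn
    rw [Submodule.map_smul'', Submodule.map_top, LinearMap.range_eq_top.mpr e.surjective] at this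
    exact this
  · exact Or.inr ⟨rs, h1, h2, (e.isWeaklyRegular_congr rs).mp h3⟩

theorem idealDepth_congr (I : Ideal R) {M : Type v} {M' : Type*} [AddCommGroup M] [Module R M]
    [AddCommGroup M'] [Module R M'] (e : M ≃ₗ[R] M') :
    LocCoh.idealDepth I M = LocCoh.idealDepth I M' :=
  le_antisymm (idealDepth_le_of_linearEquiv I e) (idealDepth_le_of_linearEquiv I e.symm)

end Basic

section Rees

/-- `Ext - Y m` vanishes on an object isomorphic to one where it vanishes. -/
theorem ext_subsingleton_of_iso_left {C : Type*} [Category C] [Abelian C] [HasExt C]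
    {X X' : C} (Y : C) (m : ℕ) (e : X ≅ X') (h : Subsingleton (Ext X Y m)) :
    Subsingleton (Ext X' Y m) := by
  refine ⟨fun a b => ?_⟩
  have key : ∀ c : Ext X' Y m,
      c = (Ext.mk₀ e.inv).comp ((Ext.mk₀ e.hom).comp c (zero_add m)) (zero_add m) := by
    intro c
    have := Ext.comp_assoc (Ext.mk₀ e.inv) (Ext.mk₀ e.hom) c (add_zero 0) (zero_add m)
      (by omega : 0 + 0 + m = m)
    rw [← this, Ext.mk₀_comp_mk₀, e.inv_hom_id, Ext.mk₀_id_comp]
  rw [key a, key b, Subsingleton.elim ((Ext.mk₀ e.hom).comp a (zero_add m))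
    ((Ext.mk₀ e.hom).comp b (zero_add m))]

/-- `Ext X - m` vanishes on an object isomorphic to one where it vanishes. -/
theorem ext_subsingleton_of_iso_right {C : Type*} [Category C] [Abelian C] [HasExt C]
    (X : C) {Y Y' : C} (m : ℕ) (e : Y ≅ Y') (h : Subsingleton (Ext X Y m)) :
    Subsingleton (Ext X Y' m) := by
  refine ⟨fun a b => ?_⟩
  have key : ∀ c : Ext X Y' m,
      c = (c.comp (Ext.mk₀ e.inv) (add_zero m)).comp (Ext.mk₀ e.hom) (add_zero m) := by
    intro c
    rw [Ext.comp_assoc_of_third_deg_zero, Ext.mk₀_comp_mk₀, e.inv_hom_id, Ext.comp_mk₀_id]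
  rw [key a, key b, Subsingleton.elim (a.comp (Ext.mk₀ e.inv) (add_zero m))
    (b.comp (Ext.mk₀ e.inv) (add_zero m))]

variable {R : Type u} [CommRing R] [IsNoetherianRing R]

omit [IsNoetherianRing R] in
/-- A weakly regular sequence inside `I` is regular as soon as `IM ≠ M`. -/
theorem isRegular_of_isWeaklyRegular_of_mem {I : Ideal R} {M : Type v} [AddCommGroup M]
    [Module R M] (hIM : I • (⊤ : Submodule R M) ≠ ⊤) {rs : List R} (hreg : IsWeaklyRegular M rs)
    (hmem : ∀ r ∈ rs, r ∈ I) : IsRegular M rs := by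
  refine ⟨hreg, fun h => hIM ?_⟩
  have hle : Ideal.ofList rs ≤ I := Ideal.span_le.mpr fun r hr => hmem r hr
  exact top_le_iff.mp (h.le.trans (Submodule.smul_mono_left hle))

/-- **Rees' theorem** for `LocCoh.idealDepth`, general test module. -/
theorem le_idealDepth_iff_ext_of_support (I : Ideal R) (M : Type u) [AddCommGroup M] [Module R M]
    [Module.Finite R M] (hIM : I • (⊤ : Submodule R M) ≠ ⊤) (N : Type u) [AddCommGroup N]
    [Module R N] [Module.Finite R N] [Nontrivial N]
    (hN : Module.support R N = PrimeSpectrum.zeroLocus I) (n : ℕ) :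
    (n : ℕ∞) ≤ LocCoh.idealDepth I M ↔
      ∀ i < n, Subsingleton (Ext (ModuleCat.of R N) (ModuleCat.of R M) i) := by
  rw [le_idealDepth_iff]
  have tfae := ModuleCat.exists_isRegular_tfae I n (ModuleCat.of R M) hIM.lt_top
  constructor
  · rintro (h | ⟨rs, hlen, hmem, hreg⟩)
    · exact absurd h hIM
    · have h4 : ∃ rs : List R, rs.length = n ∧ (∀ r ∈ rs, r ∈ I) ∧
          RingTheory.Sequence.IsRegular (ModuleCat.of R M) rs :=
        ⟨rs, hlen, hmem, isRegular_of_isWeaklyRegular_of_mem hIM hreg hmem⟩
      have h1 := (tfae.out 3 0).mp h4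
      exact h1 (ModuleCat.of R N) ‹_› ‹_› hN.le
  · intro h
    right
    have h3 : ∃ N' : ModuleCat.{u} R, Nontrivial N' ∧ Module.Finite R N' ∧
        Module.support R N' = PrimeSpectrum.zeroLocus I ∧
          ∀ i < n, Subsingleton (Ext N' (ModuleCat.of R M) i) :=
      ⟨ModuleCat.of R N, ‹_›, ‹_›, hN, h⟩
    obtain ⟨rs, hlen, hmem, hreg⟩ := (tfae.out 2 3).mp h3
    exact ⟨rs, hlen, hmem, hreg.toIsWeaklyRegular⟩

omit [IsNoetherianRing R] in
theorem nontrivial_quotient_of_smul_top_ne {I : Ideal R} {M : Type v} [AddCommGroup M]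
    [Module R M] (hIM : I • (⊤ : Submodule R M) ≠ ⊤) : Nontrivial (R ⧸ I) := by
  apply Submodule.Quotient.nontrivial_iff.mpr
  rintro rfl
  exact hIM (by simp)

/-- **Rees' theorem** for `LocCoh.idealDepth`: `n ≤ depth_I M` iff `Ext^i(R/I, M) = 0` for `i < n`. -/
theorem le_idealDepth_iff_ext (I : Ideal R) (M : Type u) [AddCommGroup M] [Module R M]
    [Module.Finite R M] (hIM : I • (⊤ : Submodule R M) ≠ ⊤) (n : ℕ) :
    (n : ℕ∞) ≤ LocCoh.idealDepth I M ↔
      ∀ i < n, Subsingleton (Ext (ModuleCat.of R (R ⧸ I)) (ModuleCat.of R M) i) := by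
  have := nontrivial_quotient_of_smul_top_ne hIM
  refine le_idealDepth_iff_ext_of_support I M hIM (R ⧸ I) ?_ n
  rw [Module.support_eq_zeroLocus, Ideal.annihilator_quotient]

omit [IsNoetherianRing R] in
theorem smul_top_quotSMulTop_eq_top_iff {I : Ideal R} {x : R} (hx : x ∈ I) (M : Type v)
    [AddCommGroup M] [Module R M] :
    I • (⊤ : Submodule R (QuotSMulTop x M)) = ⊤ ↔ I • (⊤ : Submodule R M) = ⊤ := by
  constructor
  · intro eq
    have h1 := congrArg (Submodule.comap (Submodule.mkQ _)) eq
    rw [Submodule.comap_smul_top_of_surjective I _ (Submodule.mkQ_surjective _),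
      Submodule.comap_top, Submodule.ker_mkQ] at h1
    have h2 : x • (⊤ : Submodule R M) ≤ I • ⊤ := by
      rw [← Submodule.ideal_span_singleton_smul]
      exact Submodule.smul_mono_left ((Ideal.span_singleton_le_iff_mem I).mpr hx)
    rwa [sup_eq_left.mpr h2] at h1
  · intro eq
    have h1 := congrArg (Submodule.map (Submodule.mkQ (x • (⊤ : Submodule R M)))) eq
    rw [Submodule.map_smul'', Submodule.map_top, Submodule.range_mkQ] at h1
    exact h1

theorem enat_add_one_le_of_forall {a b : ℕ∞} (h : ∀ n : ℕ, (n : ℕ∞) ≤ a → ((n + 1 : ℕ) : ℕ∞) ≤ b) :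
    a + 1 ≤ b := by
  induction a with
  | top =>
    have : b = ⊤ := by
      rw [ENat.eq_top_iff_forall_ge]
      intro m
      exact (Nat.cast_le.mpr (Nat.le_succ m)).trans (h m le_top)
    rw [this]; exact le_top
  | coe m => exact_mod_cast h m le_rfl

omit [IsNoetherianRing R] in
/-- The easy half: a regular sequence on `M/xM` prolongs to `M`. -/
theorem idealDepth_quotSMulTop_add_one_le (I : Ideal R) (M : Type v) [AddCommGroup M]
    [Module R M] {x : R} (hx : x ∈ I) (hreg : IsSMulRegular M x) :
    LocCoh.idealDepth I (QuotSMulTop x M) + 1 ≤ LocCoh.idealDepth I M := by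
  apply enat_add_one_le_of_forall
  intro n hn
  rw [le_idealDepth_iff] at hn ⊢
  rcases hn with hn | ⟨rs, hlen, hmem, hrs⟩
  · exact Or.inl ((smul_top_quotSMulTop_eq_top_iff hx M).mp hn)
  · refine Or.inr ⟨x :: rs, by simp [hlen], ?_, ?_⟩
    · intro r hr
      rcases List.mem_cons.mp hr with rfl | hr
      · exact hx
      · exact hmem r hr
    · exact (isWeaklyRegular_cons_iff M x rs).mpr ⟨hreg, hrs⟩

/-- Depth drops by exactly one modulo a regular element of `I`. -/
theorem idealDepth_quotSMulTop_add_one (I : Ideal R) (M : Type u) [AddCommGroup M]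
    [Module R M] [Module.Finite R M] {x : R} (hx : x ∈ I) (hreg : IsSMulRegular M x) :
    LocCoh.idealDepth I (QuotSMulTop x M) + 1 = LocCoh.idealDepth I M := by
  refine le_antisymm (idealDepth_quotSMulTop_add_one_le I M hx hreg) ?_
  by_cases hIM : I • (⊤ : Submodule R M) = ⊤
  · rw [idealDepth_of_smul_top_eq I _ ((smul_top_quotSMulTop_eq_top_iff hx M).mpr hIM)]
    simp
  have hIM' : I • (⊤ : Submodule R (QuotSMulTop x M)) ≠ ⊤ :=
    fun h => hIM ((smul_top_quotSMulTop_eq_top_iff hx M).mp h)
  refine ENat.forall_natCast_le_iff_le.mp fun n hn => ?_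
  rcases n with _ | k
  · simp
  · have h1 := (le_idealDepth_iff_ext I M hIM (k + 1)).mp hn
    have h2 : (k : ℕ∞) ≤ LocCoh.idealDepth I (QuotSMulTop x M) := by
      rw [le_idealDepth_iff_ext I _ hIM']
      intro i hi
      have zero1 := AddCommGrpCat.isZero_of_iff_subsingleton.mpr (h1 i (by omega))
      have zero2 := AddCommGrpCat.isZero_of_iff_subsingleton.mpr (h1 (i + 1) (by omega))
      exact AddCommGrpCat.subsingleton_of_isZero <| ShortComplex.Exact.isZero_of_both_zeros
        ((Ext.covariant_sequence_exact₃' (ModuleCat.of R (R ⧸ I))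
          (hreg.smulShortComplex_shortExact (M := ModuleCat.of R M))) i (i + 1) rfl)
        (zero1.eq_zero_of_src _) (zero2.eq_zero_of_tgt _)
    push_cast
    gcongr

end Rees

section Local

variable (A : Type u) [CommRing A] [IsLocalRing A]

theorem maximalIdeal_smul_top_ne_top (M : Type v) [AddCommGroup M] [Module A M]
    [Module.Finite A M] [Nontrivial M] : maximalIdeal A • (⊤ : Submodule A M) ≠ ⊤ :=
  (Submodule.top_ne_ideal_smul_of_le_jacobson_annihilator
    (IsLocalRing.maximalIdeal_le_jacobson _)).symm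

/-- Characterisation of `n ≤ depth M` for nonzero finite modules over local rings. -/
theorem le_depth_iff (M : Type v) [AddCommGroup M] [Module A M] [Module.Finite A M]
    [Nontrivial M] (n : ℕ) :
    (n : ℕ∞) ≤ LocCoh.depth A M ↔
      ∃ rs : List A, rs.length = n ∧ (∀ r ∈ rs, r ∈ maximalIdeal A) ∧ IsRegular M rs := by
  unfold LocCoh.depth
  rw [le_idealDepth_iff]
  constructor
  · rintro (h | ⟨rs, h1, h2, h3⟩)
    · exact absurd h (maximalIdeal_smul_top_ne_top A M)
    · exact ⟨rs, h1, h2, isRegular_of_isWeaklyRegular_of_mem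
        (maximalIdeal_smul_top_ne_top A M) h3 h2⟩
  · rintro ⟨rs, h1, h2, h3⟩
    exact Or.inr ⟨rs, h1, h2, h3.toIsWeaklyRegular⟩

variable [IsNoetherianRing A]

/-- `depth M ≤ dim M` for nonzero finite modules over Noetherian local rings. -/
theorem depth_le_supportDim (M : Type v) [AddCommGroup M] [Module A M] [Module.Finite A M]
    [Nontrivial M] : ((LocCoh.depth A M : ℕ∞) : WithBot ℕ∞) ≤ Module.supportDim A M := by
  have key : ∀ n : ℕ, (n : ℕ∞) ≤ LocCoh.depth A M →
      ((n : ℕ∞) : WithBot ℕ∞) ≤ Module.supportDim A M := by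
    intro n hn
    obtain ⟨rs, h1, h2, h3⟩ := (le_depth_iff A M n).mp hn
    have h4 := Module.supportDim_add_length_eq_supportDim_of_isRegular rs h3
    have : Nontrivial (M ⧸ Ideal.ofList rs • (⊤ : Submodule A M)) :=
      Submodule.Quotient.nontrivial_iff.mpr h3.top_ne_smul.symm
    have h5 : (0 : WithBot ℕ∞) ≤ Module.supportDim A (M ⧸ Ideal.ofList rs • (⊤ : Submodule A M)) := by
      have := Module.supportDim_ne_bot_of_nontrivial A
        (M := (M ⧸ Ideal.ofList rs • (⊤ : Submodule A M)))
      generalize Module.supportDim A (M ⧸ Ideal.ofList rs • (⊤ : Submodule A M)) = e at this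
      induction e with
      | bot => exact absurd rfl this
      | coe e => exact WithBot.coe_le_coe.mpr zero_le
    rw [← h4, h1]
    calc ((n : ℕ∞) : WithBot ℕ∞) = 0 + ((n : ℕ) : WithBot ℕ∞) := by simp
      _ ≤ _ := by gcongr
  generalize LocCoh.depth A M = d at key
  induction d with
  | top =>
    have : Module.supportDim A M = ⊤ := by
      rw [eq_top_iff]
      have h : ∀ n : ℕ, ((n : ℕ∞) : WithBot ℕ∞) ≤ Module.supportDim A M := fun n => key n le_top
      generalize Module.supportDim A M = e at h
      induction e with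
      | bot => exact absurd (h 0) (by simp)
      | coe e =>
        have : e = ⊤ := by
          rw [ENat.eq_top_iff_forall_ge]
          intro m
          exact_mod_cast h m
        rw [this]
        rfl
    rw [this]
    exact le_top
  | coe m => exact key m le_rfl

theorem supportDim_ne_top (M : Type v) [AddCommGroup M] [Module A M] :
    Module.supportDim A M ≠ ⊤ := by
  have h1 : Module.supportDim A M ≤ ringKrullDim A := Module.supportDim_le_ringKrullDim A M
  have h2 : ringKrullDim A < ⊤ := ringKrullDim_lt_top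
  exact (h1.trans_lt h2).ne

theorem depth_ne_top (M : Type v) [AddCommGroup M] [Module A M] [Module.Finite A M]
    [Nontrivial M] : LocCoh.depth A M ≠ ⊤ := by
  intro h
  have h1 := depth_le_supportDim A M
  rw [h] at h1
  exact supportDim_ne_top A M (top_le_iff.mp h1)

theorem depth_quotSMulTop_add_one (M : Type u) [AddCommGroup M] [Module A M] [Module.Finite A M]
    {x : A} (hx : x ∈ maximalIdeal A) (hreg : IsSMulRegular M x) :
    LocCoh.depth A (QuotSMulTop x M) + 1 = LocCoh.depth A M :=
  idealDepth_quotSMulTop_add_one _ M hx hreg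

omit [IsLocalRing A] [IsNoetherianRing A] in
theorem ringKrullDim_quotient_eq_coheight (p : PrimeSpectrum A) :
    ringKrullDim (A ⧸ p.asIdeal) = ((Order.coheight p : ℕ∞) : WithBot ℕ∞) := by
  rw [ringKrullDim_quotient, Order.coheight_eq_krullDim_Ici]
  have : PrimeSpectrum.zeroLocus (p.asIdeal : Set A) = Set.Ici p := by
    ext q
    simp only [PrimeSpectrum.mem_zeroLocus, SetLike.coe_subset_coe, Set.mem_Ici]
    rfl
  rw [this]

omit [IsLocalRing A] [IsNoetherianRing A] in
theorem ringKrullDim_quotient_add_one_le_of_lt {p q : PrimeSpectrum A} (h : p < q) :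
    ringKrullDim (A ⧸ q.asIdeal) + 1 ≤ ringKrullDim (A ⧸ p.asIdeal) := by
  rw [ringKrullDim_quotient_eq_coheight, ringKrullDim_quotient_eq_coheight]
  exact_mod_cast Order.coheight_add_one_le h

/-- `depth M ≤ dim A/p` for every associated prime `p` of `M` (inductive form). -/
theorem le_ringKrullDim_quotient_of_le_depth (n : ℕ) :
    ∀ (M : Type u) [AddCommGroup M] [Module A M] [Module.Finite A M],
      (n : ℕ∞) ≤ LocCoh.depth A M → ∀ p ∈ associatedPrimes A M,
        ((n : ℕ) : WithBot ℕ∞) ≤ ringKrullDim (A ⧸ p) := by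
  induction n with
  | zero =>
    intro M _ _ _ _ p hp
    have : p.IsPrime := IsAssociatedPrime.isPrime hp
    exact_mod_cast ringKrullDim_nonneg_of_nontrivial
  | succ n ih =>
    intro M _ _ _ hn p hp
    have hpprime : p.IsPrime := IsAssociatedPrime.isPrime hp
    have hnt : Nontrivial M := by
      by_contra hcon
      rw [not_nontrivial_iff_subsingleton] at hcon
      rw [associatedPrimes.eq_empty_of_subsingleton] at hp
      exact hp
    obtain ⟨rs, hlen, hmem, hreg⟩ := (le_depth_iff A M (n + 1)).mp hn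
    match rs, hlen, hmem, hreg with
    | [], hlen, _, _ => simp at hlen
    | x :: rs', hlen, hmem, hreg =>
      have hx : x ∈ maximalIdeal A := hmem x (by simp)
      have hxreg : IsSMulRegular M x := ((isWeaklyRegular_cons_iff M x rs').mp hreg.toIsWeaklyRegular).1
      have hrs' : IsWeaklyRegular (QuotSMulTop x M) rs' :=
        ((isWeaklyRegular_cons_iff M x rs').mp hreg.toIsWeaklyRegular).2
      have hdepth : (n : ℕ∞) ≤ LocCoh.depth A (QuotSMulTop x M) := by
        have h1 := length_le_idealDepth (maximalIdeal A) (QuotSMulTop x M) rs' hrs'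
          (fun r hr => hmem r (List.mem_cons_of_mem _ hr))
        have h2 : rs'.length = n := by simpa using hlen
        rw [h2] at h1
        exact h1
      -- `x ∉ p`
      have hxp : x ∉ p := by
        intro hxp
        have : x ∈ ⋃ q ∈ associatedPrimes A M, (q : Set A) := Set.mem_biUnion hp hxp
        rw [biUnion_associatedPrimes_eq_compl_regular A M] at this
        exact this hxreg
      have hne : p ⊔ Ideal.span {x} ≠ ⊤ := by
        intro htop
        have hle : p ⊔ Ideal.span {x} ≤ maximalIdeal A :=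
          sup_le (le_maximalIdeal hpprime.ne_top) ((Ideal.span_singleton_le_iff_mem _).mpr hx)
        rw [htop] at hle
        exact (maximalIdeal.isMaximal A).ne_top (top_le_iff.mp hle)
      obtain ⟨⟨q, hq⟩⟩ := Ideal.nonempty_minimalPrimes hne
      have hqass : q ∈ associatedPrimes A (QuotSMulTop x M) :=
        Groth.Agent.S5754.result A M x hxreg p hp q hq
      have hqprime : q.IsPrime := hq.1.1
      have h1 := ih (QuotSMulTop x M) hdepth q hqass
      have hpq : (⟨p, hpprime⟩ : PrimeSpectrum A) < ⟨q, hqprime⟩ := by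
        have hle : p ≤ q := le_sup_left.trans hq.1.2
        refine lt_of_le_of_ne hle ?_
        intro heq
        have : p = q := congrArg PrimeSpectrum.asIdeal heq
        apply hxp
        rw [this]
        exact hq.1.2 (Ideal.mem_sup_right (Ideal.mem_span_singleton_self x))
      have h2 := ringKrullDim_quotient_add_one_le_of_lt A hpq
      calc ((n + 1 : ℕ) : WithBot ℕ∞) = ((n : ℕ) : WithBot ℕ∞) + 1 := by push_cast; rfl
        _ ≤ ringKrullDim (A ⧸ q) + 1 := by gcongr
        _ ≤ _ := h2

/-- `depth M ≤ dim A/p` for every associated prime `p` of `M`. -/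
theorem depth_le_ringKrullDim_quotient_of_mem_associatedPrimes (M : Type u) [AddCommGroup M]
    [Module A M] [Module.Finite A M] (p : Ideal A) (hp : p ∈ associatedPrimes A M) :
    ((LocCoh.depth A M : ℕ∞) : WithBot ℕ∞) ≤ ringKrullDim (A ⧸ p) := by
  have hnt : Nontrivial M := by
    by_contra hcon
    rw [not_nontrivial_iff_subsingleton] at hcon
    rw [associatedPrimes.eq_empty_of_subsingleton] at hp
    exact hp
  have hd := depth_ne_top A M
  obtain ⟨m, hm⟩ := ENat.ne_top_iff_exists.mp hd
  rw [← hm]
  exact le_ringKrullDim_quotient_of_le_depth A m M hm.le p hp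

omit [IsLocalRing A] [IsNoetherianRing A] in
theorem mem_support_of_mem_associatedPrimes {M : Type v} [AddCommGroup M] [Module A M]
    {p : Ideal A} (hp : p ∈ associatedPrimes A M) :
    (⟨p, IsAssociatedPrime.isPrime hp⟩ : PrimeSpectrum A) ∈ Module.support A M := by
  obtain ⟨-, m₀, hm₀⟩ := hp
  rw [Module.mem_support_iff']
  refine ⟨m₀, fun r hr h0 => hr ?_⟩
  change r ∈ p
  rw [hm₀]
  apply Ideal.le_radical
  rw [Submodule.mem_colon_singleton]
  exact h0

/-- A Cohen–Macaulay module has no embedded primes: `dim A/p = dim M` for `p ∈ Ass M`. -/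
theorem ringKrullDim_quotient_eq_supportDim_of_isCohenMacaulayModule (M : Type u)
    [AddCommGroup M] [Module A M] [Module.Finite A M] (hM : LocCoh.IsCohenMacaulayModule A M)
    (p : Ideal A) (hp : p ∈ associatedPrimes A M) :
    ringKrullDim (A ⧸ p) = Module.supportDim A M := by
  apply le_antisymm
  · exact ringKrullDim_quotient_le_supportDim ⟨p, IsAssociatedPrime.isPrime hp⟩
      (mem_support_of_mem_associatedPrimes A hp)
  · rw [hM]
    exact depth_le_ringKrullDim_quotient_of_mem_associatedPrimes A M p hp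

end Local

end Groth.Agent.Lib.Helper29
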