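import Groth.Agent.Lib.Helper29.DepthRees
import Mathlib.Algebra.Category.ModuleCat.Ext.Basic
import Mathlib.RingTheory.Nakayama

/-!
Helper lemmas (helper29): `Ext` characterisation of `LocCoh.idealDepth` without the hypothesis
`IM ≠ M`, and the depth inequalities along short exact sequences.
-/

set_option autoImplicit false
universe u v

namespace Groth.Agent.Lib.Helper29

open IsLocalRing RingTheory.Sequence CategoryTheory Abelian
open scoped Pointwise

section

variable {R : Type u} [CommRing R]

/-- An `Ext` class killed on the left by `r - 1` and on the right by `r` vanishes. -/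
theorem ext_eq_zero_of_smul_id_eq_zero {X Y : ModuleCat.{u} R} {n : ℕ} (e : Ext X Y n) (r : R)
    (hX : (r - 1) • 𝟙 X = 0) (hY : r • 𝟙 Y = 0) : e = 0 := by
  have h1 : r • e = 0 := by
    rw [Ext.smul_eq_comp_mk₀, hY, Ext.mk₀_zero, Ext.comp_zero]
  have h2 : (r - 1) • e = 0 := by
    have : (r - 1) • e = (Ext.mk₀ ((r - 1) • 𝟙 X)).comp e (zero_add n) := by
      rw [Ext.mk₀_smul, Ext.smul_comp, Ext.mk₀_id_comp]
    rw [this, hX, Ext.mk₀_zero, Ext.zero_comp]
  have : e = r • e - (r - 1) • e := by
    rw [sub_smul, one_smul]; abel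
  rw [this, h1, h2, sub_zero]

/-- If `IM = M` for a finite module `M`, all `Ext^i(R/I, M)` vanish. -/
theorem ext_quotient_subsingleton_of_smul_top_eq_top (I : Ideal R) (M : Type u) [AddCommGroup M]
    [Module R M] [Module.Finite R M] (hIM : I • (⊤ : Submodule R M) = ⊤) (i : ℕ) :
    Subsingleton (Ext (ModuleCat.of R (R ⧸ I)) (ModuleCat.of R M) i) := by
  obtain ⟨r, hr1, hr2⟩ := Submodule.exists_sub_one_mem_and_smul_eq_zero_of_fg_of_le_smul I
    (⊤ : Submodule R M) Module.Finite.fg_top hIM.ge
  have h0 : ∀ e : Ext (ModuleCat.of R (R ⧸ I)) (ModuleCat.of R M) i, e = 0 := by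
    intro e
    apply ext_eq_zero_of_smul_id_eq_zero e r
    · ext
      simp only [ModuleCat.hom_smul, ModuleCat.hom_id, ModuleCat.hom_zero, LinearMap.coe_comp,
        Function.comp_apply, Submodule.mkQ_apply, LinearMap.smul_apply, LinearMap.id_coe, id_eq,
        LinearMap.zero_apply]
      change (r - 1) • (Ideal.Quotient.mk I 1) = 0
      rw [Algebra.smul_def, Ideal.Quotient.algebraMap_eq, ← map_mul, mul_one,
        Ideal.Quotient.eq_zero_iff_mem]
      exact hr1
    · ext x
      exact hr2 x Submodule.mem_top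
  exact ⟨fun a b => (h0 a).trans (h0 b).symm⟩

variable [IsNoetherianRing R]

/-- **Rees' theorem** for `LocCoh.idealDepth`, without the hypothesis `IM ≠ M`. -/
theorem le_idealDepth_iff_ext' (I : Ideal R) (M : Type u) [AddCommGroup M] [Module R M]
    [Module.Finite R M] (n : ℕ) :
    (n : ℕ∞) ≤ LocCoh.idealDepth I M ↔
      ∀ i < n, Subsingleton (Ext (ModuleCat.of R (R ⧸ I)) (ModuleCat.of R M) i) := by
  by_cases hIM : I • (⊤ : Submodule R M) = ⊤
  · rw [idealDepth_of_smul_top_eq I M hIM]
    simp only [le_top, true_iff]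
    exact fun i _ => ext_quotient_subsingleton_of_smul_top_eq_top I M hIM i
  · exact le_idealDepth_iff_ext I M hIM n

end

section ShortExact

variable {C : Type*} [Category C] [Abelian C] [HasExt C] {S : ShortComplex C}
  (hS : S.ShortExact) (X : C)

include hS in
/-- Vanishing of `Ext^i(X, -)` at the outer terms gives vanishing in the middle. -/
theorem ext_subsingleton_X₂ {i : ℕ} (h1 : Subsingleton (Ext X S.X₁ i))
    (h3 : Subsingleton (Ext X S.X₃ i)) : Subsingleton (Ext X S.X₂ i) := by
  have h0 : ∀ c : Ext X S.X₂ i, c = 0 := fun c => by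
    obtain ⟨c₁, hc₁⟩ := Ext.covariant_sequence_exact₂ X hS c (Subsingleton.elim _ _)
    rw [← hc₁, Subsingleton.elim c₁ 0, Ext.zero_comp]
  exact ⟨fun a b => (h0 a).trans (h0 b).symm⟩

include hS in
/-- Vanishing of `Ext^i(X, S.X₂)` and `Ext^{i+1}(X, S.X₁)` gives vanishing of `Ext^i(X, S.X₃)`. -/
theorem ext_subsingleton_X₃ {i : ℕ} (h2 : Subsingleton (Ext X S.X₂ i))
    (h1 : Subsingleton (Ext X S.X₁ (i + 1))) : Subsingleton (Ext X S.X₃ i) := by
  have h0 : ∀ c : Ext X S.X₃ i, c = 0 := fun c => by
    obtain ⟨c₂, hc₂⟩ := Ext.covariant_sequence_exact₃ X hS c rfl (Subsingleton.elim _ _)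
    rw [← hc₂, Subsingleton.elim c₂ 0, Ext.zero_comp]
  exact ⟨fun a b => (h0 a).trans (h0 b).symm⟩

include hS in
/-- Vanishing of `Ext^{i+1}(X, S.X₂)` and `Ext^i(X, S.X₃)` gives vanishing of
`Ext^{i+1}(X, S.X₁)`. -/
theorem ext_subsingleton_X₁_succ {i : ℕ} (h2 : Subsingleton (Ext X S.X₂ (i + 1)))
    (h3 : Subsingleton (Ext X S.X₃ i)) : Subsingleton (Ext X S.X₁ (i + 1)) := by
  have h0 : ∀ c : Ext X S.X₁ (i + 1), c = 0 := fun c => by
    obtain ⟨c₃, hc₃⟩ := Ext.covariant_sequence_exact₁ X hS c (Subsingleton.elim _ _) rfl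
    rw [← hc₃, Subsingleton.elim c₃ 0, Ext.zero_comp]
  exact ⟨fun a b => (h0 a).trans (h0 b).symm⟩

include hS in
/-- Vanishing of `Hom(X, S.X₂)` gives vanishing of `Hom(X, S.X₁)`. -/
theorem ext_subsingleton_X₁_zero (h2 : Subsingleton (Ext X S.X₂ 0)) :
    Subsingleton (Ext X S.X₁ 0) := by
  have := hS.mono_f
  have hinj := Ext.postcomp_mk₀_injective_of_mono X S.f
  exact ⟨fun a b => hinj (Subsingleton.elim _ _)⟩

end ShortExact

section DepthShortExact

variable {R : Type u} [CommRing R] [IsNoetherianRing R]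

/-- Depth inequalities along a short exact sequence. -/
theorem idealDepth_shortExact (I : Ideal R) (N' : Type u) [AddCommGroup N'] [Module R N']
    [Module.Finite R N'] (N : Type u) [AddCommGroup N] [Module R N] [Module.Finite R N]
    (N'' : Type u) [AddCommGroup N''] [Module R N''] [Module.Finite R N'']
    (f : N' →ₗ[R] N) (g : N →ₗ[R] N'') (hf : Function.Injective f)
    (hg : Function.Surjective g) (hfg : Function.Exact f g) :
    min (LocCoh.idealDepth I N') (LocCoh.idealDepth I N'') ≤ LocCoh.idealDepth I N ∧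
      min (LocCoh.idealDepth I N) (LocCoh.idealDepth I N' - 1) ≤ LocCoh.idealDepth I N'' ∧
      min (LocCoh.idealDepth I N) (LocCoh.idealDepth I N'' + 1) ≤ LocCoh.idealDepth I N' := by
  let S : ShortComplex (ModuleCat.{u} R) :=
    ModuleCat.shortComplexOfCompEqZero f g hfg.linearMap_comp_eq_zero
  have hS : S.ShortExact := ModuleCat.shortComplex_shortExact S hfg hf hg
  let X : ModuleCat.{u} R := ModuleCat.of R (R ⧸ I)
  have k1 := le_idealDepth_iff_ext' I N'
  have k2 := le_idealDepth_iff_ext' I N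
  have k3 := le_idealDepth_iff_ext' I N''
  refine ⟨?_, ?_, ?_⟩
  · refine ENat.forall_natCast_le_iff_le.mp fun n hn => ?_
    rw [le_min_iff] at hn
    rw [k2]
    intro i hi
    exact ext_subsingleton_X₂ hS X ((k1 n).mp hn.1 i hi) ((k3 n).mp hn.2 i hi)
  · refine ENat.forall_natCast_le_iff_le.mp fun n hn => ?_
    rw [le_min_iff] at hn
    rcases Nat.eq_zero_or_pos n with rfl | hpos
    · simp
    · have h1 : ((n + 1 : ℕ) : ℕ∞) ≤ LocCoh.idealDepth I N' := by
        have h2 := hn.2
        generalize LocCoh.idealDepth I N' = d at h2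
        induction d with
        | top => exact le_top
        | coe d =>
          have h3 : (n : ℕ∞) ≤ ((d - 1 : ℕ) : ℕ∞) := by
            simpa using h2
          have h4 : n ≤ d - 1 := by exact_mod_cast h3
          have : n + 1 ≤ d := by omega
          exact_mod_cast this
      rw [k3]
      intro i hi
      exact ext_subsingleton_X₃ hS X ((k2 n).mp hn.1 i hi) ((k1 (n + 1)).mp h1 (i + 1) (by omega))
  · refine ENat.forall_natCast_le_iff_le.mp fun n hn => ?_
    rw [le_min_iff] at hn
    rw [k1]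
    intro i hi
    rcases i with _ | j
    · exact ext_subsingleton_X₁_zero hS X ((k2 n).mp hn.1 0 hi)
    · have h1 : (j : ℕ∞) < LocCoh.idealDepth I N'' := by
        have h2 := hn.2
        generalize LocCoh.idealDepth I N'' = d at h2
        induction d with
        | top => exact ENat.natCast_lt_top j
        | coe d =>
          have h3 : n ≤ d + 1 := by exact_mod_cast h2
          have : j < d := by omega
          exact_mod_cast this
      have h2 : ((j + 1 : ℕ) : ℕ∞) ≤ LocCoh.idealDepth I N'' := by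
        have := Order.add_one_le_of_lt h1
        exact_mod_cast this
      exact ext_subsingleton_X₁_succ hS X ((k2 n).mp hn.1 (j + 1) hi)
        ((k3 (j + 1)).mp h2 j (Nat.lt_succ_self j))

end DepthShortExact

end Groth.Agent.Lib.Helper29
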