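import Groth.Agent.Lib.Helper29.DepthCM2
import Mathlib.LinearAlgebra.FiniteDimensional.Basic
import Mathlib.Algebra.Module.Torsion.Basic

/-!
Helper lemmas (helper29): depth of a module along a finite local homomorphism.
-/

set_option autoImplicit false
universe u v

namespace Groth.Agent.Lib.Helper29

open IsLocalRing RingTheory.Sequence
open scoped Pointwise

/-- If `m_A ∈ Ass_A M` for a `B`-module `M` finite over `A`, no element of `m_B` is `M`-regular. -/
theorem not_isSMulRegular_of_mem_maximalIdeal_of_finite (A B : Type u) [CommRing A] [CommRing B]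
    [IsLocalRing A] [IsLocalRing B] [IsNoetherianRing A] [Algebra A B]
    (M : Type v) [AddCommGroup M] [Module B M] [Module A M] [IsScalarTower A B M]
    [Module.Finite A M] (h0 : maximalIdeal A ∈ associatedPrimes A M) (b : B)
    (hb : b ∈ maximalIdeal B) : ¬ IsSMulRegular M b := by
  classical
  intro hreg
  obtain ⟨-, m0, hm0⟩ := isAssociatedPrime_iff.mp h0
  have hm0' : ∀ a : A, a ∈ maximalIdeal A ↔ a • m0 = 0 := by
    intro a
    rw [hm0, Submodule.mem_colon_singleton, Submodule.mem_bot]
  have hm0ne : m0 ≠ 0 := by
    rintro rfl
    have := (hm0' 1).mpr (smul_zero 1)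
    exact (maximalIdeal.isMaximal A).ne_top ((Ideal.eq_top_iff_one _).mpr this)
  let N : Submodule B M :=
    { carrier := {m | ∀ a ∈ maximalIdeal A, a • m = 0}
      add_mem' := fun {x y} hx hy a ha => by rw [smul_add, hx a ha, hy a ha, add_zero]
      zero_mem' := fun a _ => smul_zero a
      smul_mem' := fun c x hx a ha => by rw [smul_comm, hx a ha, smul_zero] }
  have hT : Module.IsTorsionBySet A N (maximalIdeal A : Set A) :=
    fun n a => Subtype.ext (n.2 a a.2)
  let _ := hT.module
  let _ : Field (A ⧸ maximalIdeal A) := Ideal.Quotient.field _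
  have hNA : Module.Finite A N :=
    Module.Finite.of_injective (N.subtype.restrictScalars A) N.injective_subtype
  have hNk : Module.Finite (A ⧸ maximalIdeal A) N := Module.Finite.of_restrictScalars_finite A _ _
  let f : N →ₗ[A ⧸ maximalIdeal A] N :=
    { toFun := fun n => b • n
      map_add' := smul_add b
      map_smul' := by
        intro r n
        obtain ⟨a, rfl⟩ := Ideal.Quotient.mk_surjective r
        change b • (a • n) = a • (b • n)
        rw [smul_comm] }
  have hinj : Function.Injective f := fun n1 n2 h => by
    apply Subtype.ext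
    apply hreg
    exact congrArg Subtype.val h
  have hsurj : Function.Surjective f := LinearMap.injective_iff_surjective.mp hinj
  have hNB : Module.Finite B N := Module.Finite.of_restrictScalars_finite A B N
  have hNfg : N.FG := Module.Finite.iff_fg.mp hNB
  have hle : N ≤ maximalIdeal B • N := by
    intro n hn
    obtain ⟨n', hn'⟩ := hsurj ⟨n, hn⟩
    have : n = b • (n' : M) := by
      have := congrArg Subtype.val hn'
      exact this.symm
    rw [this]
    exact Submodule.smul_mem_smul hb n'.2
  have hbot := Submodule.eq_bot_of_le_smul_of_le_jacobson_bot (maximalIdeal B) N hNfg hle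
    (maximalIdeal_le_jacobson ⊥)
  have hm0N : m0 ∈ N := fun a ha => (hm0' a).mp ha
  rw [hbot] at hm0N
  exact hm0ne ((Submodule.mem_bot B).mp hm0N)

/-- No regular element in the maximal ideal means depth zero (nonzero finite module). -/
theorem depth_eq_zero_of_forall_not_isSMulRegular (B : Type u) [CommRing B] [IsLocalRing B]
    (M : Type v) [AddCommGroup M] [Module B M] [Module.Finite B M] [Nontrivial M]
    (h : ∀ b ∈ maximalIdeal B, ¬ IsSMulRegular M b) : LocCoh.depth B M = 0 := by
  rw [depth_eq_iSup_of_nontrivial]
  simp only [ENat.iSup_eq_zero, Nat.cast_eq_zero, List.length_eq_zero_iff]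
  intro rs hrs
  cases rs with
  | nil => rfl
  | cons r rs' =>
    exfalso
    exact h r (hrs.2 r (by simp)) ((isWeaklyRegular_cons_iff M r rs').mp hrs.1).1

/-- The quotient `M/xM` over `A` and `M/ρ(x)M` over `B` agree as `A`-modules. -/
noncomputable def quotSMulTopAlgebraMapEquiv (A B : Type*) [CommRing A] [CommRing B] [Algebra A B]
    (M : Type*) [AddCommGroup M] [Module B M] [Module A M] [IsScalarTower A B M] (x : A) :
    QuotSMulTop x M ≃ₗ[A] QuotSMulTop (algebraMap A B x) M :=
  (Submodule.quotEquivOfEq _ _ (by
      ext m
      simp only [Submodule.restrictScalars_mem, Submodule.mem_smul_pointwise_iff_exists,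
        Submodule.mem_top, true_and]
      constructor
      · rintro ⟨m', rfl⟩
        exact ⟨m', by rw [algebraMap_smul]⟩
      · rintro ⟨m', rfl⟩
        exact ⟨m', by rw [algebraMap_smul]⟩)).trans
    (Submodule.Quotient.restrictScalarsEquiv A
      ((algebraMap A B x) • (⊤ : Submodule B M)))

/-- Depth along a local homomorphism, for modules finite over the source: inductive form. -/
theorem depth_eq_of_finite_aux (A B : Type u) [CommRing A] [CommRing B] [IsLocalRing A]
    [IsLocalRing B] [IsNoetherianRing A] [IsNoetherianRing B] [Algebra A B]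
    [IsLocalHom (algebraMap A B)] (n : ℕ) :
    ∀ (M : Type u) [AddCommGroup M] [Module B M] [Module A M] [IsScalarTower A B M]
      [Module.Finite A M] [Nontrivial M], LocCoh.depth A M = n → LocCoh.depth B M = n := by
  induction n with
  | zero =>
    intro M _ _ _ _ _ _ h
    have hB : Module.Finite B M := Module.Finite.of_restrictScalars_finite A B M
    have h0 : maximalIdeal A ∈ associatedPrimes A M := (depth_eq_zero_iff A M).mp (by simpa using h)
    simpa using depth_eq_zero_of_forall_not_isSMulRegular B M
      (not_isSMulRegular_of_mem_maximalIdeal_of_finite A B M h0)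
  | succ n ih =>
    intro M _ _ _ _ _ _ h
    have hB : Module.Finite B M := Module.Finite.of_restrictScalars_finite A B M
    obtain ⟨rs, hlen, hmem, hreg⟩ := (le_depth_iff A M (n + 1)).mp h.ge
    match rs, hlen, hmem, hreg with
    | [], hlen, _, _ => simp at hlen
    | x :: rs', hlen, hmem, hreg =>
      have hx : x ∈ maximalIdeal A := hmem x (by simp)
      have hxreg : IsSMulRegular M x :=
        ((isWeaklyRegular_cons_iff M x rs').mp hreg.toIsWeaklyRegular).1
      have hy : algebraMap A B x ∈ maximalIdeal B := map_nonunit (algebraMap A B) x hx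
      have hyreg : IsSMulRegular M (algebraMap A B x) := by
        intro m1 m2 h12
        apply hxreg
        simpa [algebraMap_smul] using h12
      have h1 := depth_quotSMulTop_add_one A M hx hxreg
      have h2 := depth_quotSMulTop_add_one B M hy hyreg
      rw [h] at h1
      have h1' : LocCoh.depth A (QuotSMulTop x M) = n := by
        have h3 : LocCoh.depth A (QuotSMulTop x M) + 1 = (n : ℕ∞) + 1 := by
          rw [h1]; push_cast; rfl
        rw [add_comm, add_comm (n : ℕ∞) 1] at h3
        exact ENat.add_right_injective_of_ne_top (by simp) h3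
      have e := quotSMulTopAlgebraMapEquiv A B M x
      have h1'' : LocCoh.depth A (QuotSMulTop (algebraMap A B x) M) = n := by
        rw [← h1']
        exact (idealDepth_congr _ e).symm
      have hnt : Nontrivial (QuotSMulTop (algebraMap A B x) M) := by
        by_contra hcon
        rw [not_nontrivial_iff_subsingleton] at hcon
        rw [depth_eq_top_of_subsingleton] at h1''
        exact absurd h1'' (by simp)
      have hfin : Module.Finite A (QuotSMulTop (algebraMap A B x) M) :=
        Module.Finite.equiv e
      have h3 := ih (QuotSMulTop (algebraMap A B x) M) h1''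
      rw [← h2, h3]
      push_cast
      rfl

/-- EGA 0_IV 16.4.8: depth along a local homomorphism, for modules finite over the source. -/
theorem depth_eq_of_finite (A B : Type u) [CommRing A] [CommRing B] [IsLocalRing A]
    [IsLocalRing B] [IsNoetherianRing A] [IsNoetherianRing B] [Algebra A B]
    [IsLocalHom (algebraMap A B)] (M : Type u) [AddCommGroup M] [Module B M] [Module A M]
    [IsScalarTower A B M] [Module.Finite A M] : LocCoh.depth A M = LocCoh.depth B M := by
  rcases subsingleton_or_nontrivial M with hM | hM
  · rw [depth_eq_top_of_subsingleton, depth_eq_top_of_subsingleton]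
  · obtain ⟨n, hn⟩ := ENat.ne_top_iff_exists.mp (depth_ne_top A M)
    rw [← hn, depth_eq_of_finite_aux A B n M hn.symm]

end Groth.Agent.Lib.Helper29
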