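import Groth.Agent.Lib.Helper29.DepthFiniteAlg
import Groth.Agent.Lib.Helper29.DepthLoc4
import Groth.Agent.Lib.Helper29.DepthSelf

/-!
# Depth and height modulo a regular element, at a prime
-/

set_option autoImplicit false

namespace Groth.Agent.Lib.Helper29

open IsLocalRing RingTheory.Sequence
open scoped Pointwise

universe u

/-- For a surjective map of local rings `R → R'`, the depth of `R'` over itself equals its depth
as an `R`-module. -/
theorem depth_self_eq_depth_of_surjective {R R' : Type u} [CommRing R] [CommRing R']
    [IsLocalRing R] [IsLocalRing R'] [IsNoetherianRing R] [Algebra R R']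
    (h : Function.Surjective (algebraMap R R')) : LocCoh.depth R' R' = LocCoh.depth R R' := by
  have : Module.Finite R R' := Module.Finite.of_surjective (Algebra.linearMap R R') h
  unfold LocCoh.depth
  rw [idealDepth_map_eq (A := R) (B := R') (maximalIdeal R) R',
    IsLocalRing.map_maximalIdeal_of_surjective _ h]

/-- Depth of a local ring over itself is invariant under ring isomorphisms. -/
theorem depth_self_eq_of_ringEquiv {R R' : Type u} [CommRing R] [CommRing R']
    [IsLocalRing R] [IsLocalRing R'] [IsNoetherianRing R] (e : R ≃+* R') :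
    LocCoh.depth R R = LocCoh.depth R' R' := by
  let _ : Algebra R R' := e.toRingHom.toAlgebra
  have hsurj : Function.Surjective (algebraMap R R') := e.surjective
  rw [depth_self_eq_depth_of_surjective hsurj]
  let e' : R ≃ₗ[R] R' :=
    { e with
      map_smul' := fun r x => by
        change e (r * x) = (algebraMap R R' r) * e x
        rw [map_mul]; rfl }
  exact idealDepth_congr _ e'

section

variable (A : Type u) [CommRing A]

theorem algebraMapSubmonoid_quotient_primeCompl' {I s : Ideal A} [s.IsPrime]
    (hIs : I ≤ s) [(s.map (Ideal.Quotient.mk I)).IsPrime] :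
    Algebra.algebraMapSubmonoid (A ⧸ I) s.primeCompl =
      (s.map (Ideal.Quotient.mk I)).primeCompl := by
  ext y
  obtain ⟨b, rfl⟩ := Ideal.Quotient.mk_surjective y
  rw [Ideal.mem_primeCompl_iff, Ideal.mem_quotient_iff_mem hIs]
  change (Ideal.Quotient.mk I) b ∈ Submonoid.map (algebraMap A (A ⧸ I)) s.primeCompl ↔ _
  rw [Submonoid.mem_map]
  constructor
  · rintro ⟨a, ha, hab⟩ hb
    apply ha
    have h1 : a - b ∈ I := Ideal.Quotient.eq.mp hab
    have : a = (a - b) + b := by ring
    rw [this]
    exact s.add_mem (hIs h1) hb
  · intro hb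
    exact ⟨b, hb, rfl⟩

variable [IsNoetherianRing A]

/-- Depth and height of `A_p` versus `(A/t)_{p/t}` for `t ∈ p` regular on `A_p`. -/
theorem depth_and_height_quotient_span_singleton (p : Ideal A) [p.IsPrime] (t : A) (htp : t ∈ p)
    (hreg : IsSMulRegular (Localization.AtPrime p) (algebraMap A (Localization.AtPrime p) t))
    [hP : (p.map (Ideal.Quotient.mk (Ideal.span {t}))).IsPrime] :
    LocCoh.depth (Localization.AtPrime (p.map (Ideal.Quotient.mk (Ideal.span {t}))))
        (Localization.AtPrime (p.map (Ideal.Quotient.mk (Ideal.span {t})))) + 1 =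
      LocCoh.depth (Localization.AtPrime p) (Localization.AtPrime p) ∧
    (p.map (Ideal.Quotient.mk (Ideal.span {t}))).height + 1 = p.height := by
  have hIp : Ideal.span {t} ≤ p := (Ideal.span_singleton_le_iff_mem p).mpr htp
  set P := p.map (Ideal.Quotient.mk (Ideal.span {t})) with hPdef
  set x := algebraMap A (Localization.AtPrime p) t with hx
  have hxm : x ∈ maximalIdeal (Localization.AtPrime p) := by
    rw [IsLocalization.AtPrime.to_map_mem_maximal_iff (Localization.AtPrime p) p]
    exact htp
  set I' := (Ideal.span {t}).map (algebraMap A (Localization.AtPrime p)) with hI'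
  have hI'eq : I' = Ideal.span {x} := by
    rw [hI', Ideal.map_span, Set.image_singleton]
  have hI'top : I' ≠ ⊤ := by
    rw [hI'eq]
    intro h
    have h1 : x ∈ maximalIdeal (Localization.AtPrime p) := hxm
    have h2 : Ideal.span {x} ≤ maximalIdeal (Localization.AtPrime p) :=
      (Ideal.span_singleton_le_iff_mem _).mpr h1
    exact (maximalIdeal.isMaximal (Localization.AtPrime p)).ne_top (top_le_iff.mp (h ▸ h2))
  have hnt : Nontrivial (Localization.AtPrime p ⧸ I') := Ideal.Quotient.nontrivial_iff.mpr hI'top
  have hloc : IsLocalRing (Localization.AtPrime p ⧸ I') :=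
    IsLocalRing.of_surjective' (Ideal.Quotient.mk I') Ideal.Quotient.mk_surjective
  have h1 : IsLocalization (Algebra.algebraMapSubmonoid (A ⧸ Ideal.span {t}) p.primeCompl)
      (Localization.AtPrime p ⧸ I') := inferInstance
  rw [algebraMapSubmonoid_quotient_primeCompl' A hIp] at h1
  have hAt : IsLocalization.AtPrime (Localization.AtPrime p ⧸ I') P := h1
  -- ring isomorphism `B_P ≃ C`
  let e : Localization.AtPrime P ≃+* (Localization.AtPrime p ⧸ I') :=
    (IsLocalization.algEquiv P.primeCompl (Localization.AtPrime P)
      (Localization.AtPrime p ⧸ I')).toRingEquiv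
  have d1 := depth_self_eq_of_ringEquiv e
  have d2 : LocCoh.depth (Localization.AtPrime p ⧸ I') (Localization.AtPrime p ⧸ I') =
      LocCoh.depth (Localization.AtPrime p) (Localization.AtPrime p ⧸ I') :=
    depth_self_eq_depth_of_surjective Ideal.Quotient.mk_surjective
  have d3 : LocCoh.depth (Localization.AtPrime p) (Localization.AtPrime p ⧸ I') =
      LocCoh.depth (Localization.AtPrime p) (QuotSMulTop x (Localization.AtPrime p)) :=
    idealDepth_congr _ ((Submodule.quotEquivOfEq I' (Ideal.span {x}) hI'eq).trans
      (quotientSpanSingletonEquivQuotSMulTop (Localization.AtPrime p) x))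
  have d4 := depth_quotSMulTop_add_one (Localization.AtPrime p) (Localization.AtPrime p) hxm hreg
  refine ⟨by rw [d1, d2, d3, d4], ?_⟩
  -- heights
  have k1 := IsLocalization.AtPrime.ringKrullDim_eq_height p (Localization.AtPrime p)
  have k2 := IsLocalization.AtPrime.ringKrullDim_eq_height P (Localization.AtPrime p ⧸ I')
  have k3 := ringKrullDim_quotient_span_singleton_succ_eq_ringKrullDim hreg hxm
  have k4 : ringKrullDim (Localization.AtPrime p ⧸ I') =
      ringKrullDim (Localization.AtPrime p ⧸ Ideal.span {x}) :=
    ringKrullDim_eq_of_ringEquiv (Ideal.quotEquivOfEq hI'eq)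
  rw [← k4, k2, k1] at k3
  exact_mod_cast k3

end

end Groth.Agent.Lib.Helper29
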