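import Groth.Agent.Lib.Helper29.NormFlat
import Groth.Agent.Lib.Helper29.DepthExt
import Groth.Agent.Lib.Helper29.DepthFinite
import Groth.Agent.Lib.Helper29.DepthQuot
import Groth.Agent.Lib.Helper93.DepthFlat
import Groth.Prelude.Def_EGA4b

/-!
Helper lemmas (helper29): depth and dimension of a module normally flat along a nilpotent ideal
(EGA IV 6.10.?): `dim M = dim A/I`, `depth M = depth A/I`.
-/

set_option autoImplicit false
universe u

open TensorProduct IsLocalRing

namespace Groth.Agent.Lib.Helper29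

section Flat

variable (B : Type u) [CommRing B] [IsLocalRing B] [IsNoetherianRing B]

/-- A nonzero finite module killed by the maximal ideal has depth zero. -/
theorem depth_eq_zero_of_smul_top_eq_bot (P : Type u) [AddCommGroup P] [Module B P]
    [Module.Finite B P] [Nontrivial P]
    (h : maximalIdeal B • (⊤ : Submodule B P) = ⊥) : LocCoh.depth B P = 0 := by
  rw [depth_eq_zero_iff, ← forall_not_isSMulRegular_iff_mem_associatedPrimes]
  intro x hx hreg
  obtain ⟨p, hp⟩ := exists_ne (0 : P)
  have h0 : x • p = 0 := (smul_top_eq_bot_iff_forall _ _).mp h x hx p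
  exact hp (hreg (by
    show x • p = x • 0
    rw [h0, smul_zero]))

/-- A nonzero finite flat module over a Noetherian local ring has the depth of the ring. -/
theorem depth_eq_depth_self_of_flat (G : Type u) [AddCommGroup G] [Module B G]
    [Module.Finite B G] [Module.Flat B G] [Nontrivial G] :
    LocCoh.depth B G = LocCoh.depth B B := by
  have hlh : IsLocalHom (algebraMap B B) := by
    rw [Algebra.algebraMap_self]; exact isLocalHom_id B
  have h1 := Groth.Agent.Lib.Helper93.DepthFlat.depth_tensor_of_flat (R := B) (S := B) B G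
  have h2 : LocCoh.depth B (G ⊗[B] B) = LocCoh.depth B G :=
    idealDepth_congr _ (TensorProduct.rid B G)
  have hnt := Groth.Agent.Lib.Helper93.DepthFlat.nontrivial_fibre (R := B) (S := B) G
  have hk : maximalIdeal B • (⊤ : Submodule B
      (G ⧸ ((maximalIdeal B).map (algebraMap B B)) • (⊤ : Submodule B G))) = ⊥ := by
    rw [smul_top_eq_bot_iff_forall]
    intro x hx p
    obtain ⟨g, rfl⟩ := Submodule.Quotient.mk_surjective _ p
    rw [← Submodule.Quotient.mk_smul, Submodule.Quotient.mk_eq_zero]
    refine Submodule.smul_mem_smul ?_ Submodule.mem_top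
    have := Ideal.mem_map_of_mem (algebraMap B B) hx
    simpa using this
  have h3 := depth_eq_zero_of_smul_top_eq_bot B _ hk
  rw [h2, h3, add_zero] at h1
  exact h1

end Flat

section Main

variable (A : Type u) [CommRing A] [IsLocalRing A] [IsNoetherianRing A]

theorem ne_top_of_isNilpotent {I : Ideal A} (hI : IsNilpotent I) : I ≠ ⊤ := by
  rintro rfl
  obtain ⟨n, hn⟩ := hI
  rw [Ideal.top_pow, Ideal.zero_eq_bot] at hn
  exact top_ne_bot hn

theorem enat_le_of_min_add_one_le {x d : ℕ∞} (hd : d ≠ ⊤) (h : min x (d + 1) ≤ d) : x ≤ d := by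
  by_contra hx
  rw [not_le] at hx
  have h1 : d + 1 ≤ x := Order.add_one_le_of_lt hx
  rw [min_eq_right h1] at h
  exact absurd h (by
    rw [ENat.add_one_le_iff hd]
    exact lt_irrefl d)

/-- Depth of a graded piece which is flat over `A/I`. -/
theorem depth_quotient_smul_top_of_flat (I : Ideal A) (hI : I ≠ ⊤) (N : Type u)
    [AddCommGroup N] [Module A N] [Module.Finite A N] [Nontrivial N]
    (hflat : Module.Flat (A ⧸ I) (N ⧸ I • (⊤ : Submodule A N))) :
    LocCoh.depth A (N ⧸ I • (⊤ : Submodule A N)) = LocCoh.depth A (A ⧸ I) := by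
  have hnt : Nontrivial (A ⧸ I) := Ideal.Quotient.nontrivial_iff.mpr hI
  have hloc : IsLocalRing (A ⧸ I) :=
    IsLocalRing.of_surjective' (Ideal.Quotient.mk I) Ideal.Quotient.mk_surjective
  have hlh : IsLocalHom (algebraMap A (A ⧸ I)) :=
    IsLocalHom.of_surjective _ Ideal.Quotient.mk_surjective
  have hntG : Nontrivial (N ⧸ I • (⊤ : Submodule A N)) := by
    apply Submodule.Quotient.nontrivial_iff.mpr
    exact (Submodule.top_ne_ideal_smul_of_le_jacobson_annihilator
      ((le_maximalIdeal hI).trans (IsLocalRing.maximalIdeal_le_jacobson _))).symm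
  have hfinG : Module.Finite (A ⧸ I) (N ⧸ I • (⊤ : Submodule A N)) :=
    Module.Finite.of_restrictScalars_finite A _ _
  rw [depth_eq_of_finite A (A ⧸ I) (N ⧸ I • (⊤ : Submodule A N)),
    depth_eq_depth_self_of_flat (A ⧸ I) _,
    depth_self_eq_depth_of_surjective (R := A) (R' := A ⧸ I) Ideal.Quotient.mk_surjective]

/-- Depth of the pieces of the `I`-adic filtration of a module normally flat along `I`. -/
theorem depth_pow_smul_top_of_isNormallyFlat (I : Ideal A) (hI : I ≠ ⊤) (M : Type u)
    [AddCommGroup M] [Module A M] [Module.Finite A M] (hM : EGA4.IsNormallyFlat I M) :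
    ∀ (j k : ℕ), I ^ (k + j) • (⊤ : Submodule A M) = ⊥ → I ^ k • (⊤ : Submodule A M) ≠ ⊥ →
      LocCoh.depth A ↥(I ^ k • (⊤ : Submodule A M)) = LocCoh.depth A (A ⧸ I)
  | 0, k, h0, hne => absurd (by simpa using h0) hne
  | j + 1, k, h0, hne => by
    have hnt : Nontrivial (A ⧸ I) := Ideal.Quotient.nontrivial_iff.mpr hI
    have hle : I ^ (k + 1) • (⊤ : Submodule A M) ≤ I ^ k • (⊤ : Submodule A M) :=
      Submodule.smul_mono_left (Ideal.pow_le_pow_right (Nat.le_succ k))
    have hntN : Nontrivial ↥(I ^ k • (⊤ : Submodule A M)) :=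
      Submodule.nontrivial_iff_ne_bot.mpr hne
    have hfinN : Module.Finite A ↥(I ^ k • (⊤ : Submodule A M)) :=
      Module.Finite.of_fg (IsNoetherian.noetherian _)
    have hfinN' : Module.Finite A ↥(I ^ (k + 1) • (⊤ : Submodule A M)) :=
      Module.Finite.of_fg (IsNoetherian.noetherian _)
    have hd := depth_quotient_smul_top_of_flat A I hI ↥(I ^ k • (⊤ : Submodule A M)) (hM k)
    have hdtop : LocCoh.depth A (A ⧸ I) ≠ ⊤ := depth_ne_top A (A ⧸ I)
    have hfg : Function.Exact (Submodule.inclusion hle)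
        (Submodule.mkQ (I • (⊤ : Submodule A ↥(I ^ k • (⊤ : Submodule A M))))) := by
      rw [LinearMap.exact_iff, Submodule.ker_mkQ, Submodule.range_inclusion]
      apply Submodule.map_injective_of_injective
        (I ^ k • (⊤ : Submodule A M)).injective_subtype
      rw [Submodule.map_smul'', Submodule.map_top, Submodule.range_subtype,
        Submodule.map_comap_subtype, inf_eq_right.mpr hle, ← mul_smul, ← pow_succ']
    obtain ⟨i1, i2, i3⟩ := idealDepth_shortExact (maximalIdeal A)
      ↥(I ^ (k + 1) • (⊤ : Submodule A M)) ↥(I ^ k • (⊤ : Submodule A M))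
      (↥(I ^ k • (⊤ : Submodule A M)) ⧸ I • (⊤ : Submodule A ↥(I ^ k • (⊤ : Submodule A M))))
      (Submodule.inclusion hle) (Submodule.mkQ _) (Submodule.inclusion_injective hle)
      (Submodule.mkQ_surjective _) hfg
    change min (LocCoh.depth A _) (LocCoh.depth A _) ≤ LocCoh.depth A _ at i1
    change min (LocCoh.depth A _) (LocCoh.depth A _ - 1) ≤ LocCoh.depth A _ at i2
    change min (LocCoh.depth A _) (LocCoh.depth A _ + 1) ≤ LocCoh.depth A _ at i3
    rw [hd] at i1 i2 i3
    by_cases hN' : I ^ (k + 1) • (⊤ : Submodule A M) = ⊥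
    · have hsub : Subsingleton ↥(I ^ (k + 1) • (⊤ : Submodule A M)) := by
        rw [hN']; infer_instance
      rw [depth_eq_top_of_subsingleton A ↥(I ^ (k + 1) • (⊤ : Submodule A M))] at i1 i2
      apply le_antisymm
      · simpa using i2
      · simpa using i1
    · have ih := depth_pow_smul_top_of_isNormallyFlat I hI M hM j (k + 1)
        (by rwa [add_assoc, add_comm 1 j]) hN'
      rw [ih] at i1 i3
      apply le_antisymm
      · exact enat_le_of_min_add_one_le hdtop i3
      · simpa using i1

/-- **EGA IV 6.10**: depth of a module normally flat along a nilpotent ideal. -/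
theorem depth_eq_of_isNormallyFlat_of_isNilpotent (I : Ideal A) (hI : IsNilpotent I)
    (M : Type u) [AddCommGroup M] [Module A M] [Module.Finite A M] [Nontrivial M]
    (hM : EGA4.IsNormallyFlat I M) : LocCoh.depth A M = LocCoh.depth A (A ⧸ I) := by
  obtain ⟨n, hn⟩ := hI
  have h0 : I ^ (0 + n) • (⊤ : Submodule A M) = ⊥ := by
    rw [zero_add, hn, Ideal.zero_eq_bot, Submodule.bot_smul]
  have htop : I ^ 0 • (⊤ : Submodule A M) = ⊤ := by
    rw [pow_zero, Ideal.one_eq_top, Submodule.top_smul]
  have hne : I ^ 0 • (⊤ : Submodule A M) ≠ ⊥ := by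
    rw [htop]; exact top_ne_bot
  have key := depth_pow_smul_top_of_isNormallyFlat A I (ne_top_of_isNilpotent A ⟨n, hn⟩) M hM
    n 0 h0 hne
  rw [← key]
  exact idealDepth_congr _
    ((LinearEquiv.ofEq _ _ htop).trans (Submodule.topEquiv (R := A) (M := M))).symm

end Main

section Dim

variable (A : Type u) [CommRing A] [IsLocalRing A] [IsNoetherianRing A]

/-- The annihilator of a nonzero finite module whose `I`-adic graded piece of degree `0` is flat
over `A/I` is contained in `I`. -/
theorem annihilator_le_of_isNormallyFlat (I : Ideal A) (hI : I ≠ ⊤) (M : Type u)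
    [AddCommGroup M] [Module A M] [Module.Finite A M] [Nontrivial M]
    (hM : EGA4.IsNormallyFlat I M) : Module.annihilator A M ≤ I := by
  intro a ha
  have hnt : Nontrivial (A ⧸ I) := Ideal.Quotient.nontrivial_iff.mpr hI
  have hloc : IsLocalRing (A ⧸ I) :=
    IsLocalRing.of_surjective' (Ideal.Quotient.mk I) Ideal.Quotient.mk_surjective
  have htop : I ^ 0 • (⊤ : Submodule A M) = ⊤ := by
    rw [pow_zero, Ideal.one_eq_top, Submodule.top_smul]
  have hntN : Nontrivial ↥(I ^ 0 • (⊤ : Submodule A M)) := by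
    rw [Submodule.nontrivial_iff_ne_bot, htop]; exact top_ne_bot
  have hfinN : Module.Finite A ↥(I ^ 0 • (⊤ : Submodule A M)) :=
    Module.Finite.of_fg (IsNoetherian.noetherian _)
  have hflat := hM 0
  have hntG : Nontrivial (↥(I ^ 0 • (⊤ : Submodule A M)) ⧸
      I • (⊤ : Submodule A ↥(I ^ 0 • (⊤ : Submodule A M)))) := by
    apply Submodule.Quotient.nontrivial_iff.mpr
    exact (Submodule.top_ne_ideal_smul_of_le_jacobson_annihilator
      ((le_maximalIdeal hI).trans (IsLocalRing.maximalIdeal_le_jacobson _))).symm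
  have hfinG : Module.Finite (A ⧸ I) (↥(I ^ 0 • (⊤ : Submodule A M)) ⧸
      I • (⊤ : Submodule A ↥(I ^ 0 • (⊤ : Submodule A M)))) :=
    Module.Finite.of_restrictScalars_finite A _ _
  have hfree : Module.Free (A ⧸ I) (↥(I ^ 0 • (⊤ : Submodule A M)) ⧸
      I • (⊤ : Submodule A ↥(I ^ 0 • (⊤ : Submodule A M)))) :=
    Module.free_of_flat_of_isLocalRing
  have hzero : Ideal.Quotient.mk I a = 0 := by
    apply FaithfulSMul.eq_of_smul_eq_smul (α := ↥(I ^ 0 • (⊤ : Submodule A M)) ⧸
      I • (⊤ : Submodule A ↥(I ^ 0 • (⊤ : Submodule A M))))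
    intro g
    obtain ⟨x, rfl⟩ := Submodule.Quotient.mk_surjective _ g
    rw [zero_smul]
    have h1 : a • x = 0 := by
      apply Subtype.ext
      rw [Submodule.coe_smul, Submodule.coe_zero]
      exact Module.mem_annihilator.mp ha (x : M)
    have h2 : (Ideal.Quotient.mk I a) • (Submodule.Quotient.mk x :
        ↥(I ^ 0 • (⊤ : Submodule A M)) ⧸
          I • (⊤ : Submodule A ↥(I ^ 0 • (⊤ : Submodule A M)))) =
        Submodule.Quotient.mk (a • x) := rfl
    rw [h2, h1, Submodule.Quotient.mk_zero]
  exact Ideal.Quotient.eq_zero_iff_mem.mp hzero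

/-- **EGA IV 6.10**: dimension of a module normally flat along a nilpotent ideal. -/
theorem supportDim_eq_of_isNormallyFlat_of_isNilpotent (I : Ideal A) (hI : IsNilpotent I)
    (M : Type u) [AddCommGroup M] [Module A M] [Module.Finite A M] [Nontrivial M]
    (hM : EGA4.IsNormallyFlat I M) : Module.supportDim A M = ringKrullDim (A ⧸ I) := by
  have hle : I ≤ nilradical A := by
    intro x hx
    obtain ⟨n, hn⟩ := hI
    refine ⟨n, ?_⟩
    have : x ^ n ∈ I ^ n := Ideal.pow_mem_pow hx n
    rw [hn, Ideal.zero_eq_bot] at this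
    exact this
  have h1 : PrimeSpectrum.zeroLocus (I : Set A) = Set.univ :=
    (PrimeSpectrum.zeroLocus_eq_univ_iff _).mpr hle
  have hann := annihilator_le_of_isNormallyFlat A I (ne_top_of_isNilpotent A hI) M hM
  have h2 : Module.support A M = Set.univ := by
    rw [Set.eq_univ_iff_forall]
    intro p
    rw [Module.mem_support_iff_of_finite]
    exact hann.trans (hle.trans (nilradical_le_prime p.asIdeal))
  rw [ringKrullDim_quotient, h1]
  unfold Module.supportDim
  rw [h2]

end Dim

end Groth.Agent.Lib.Helper29
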