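import Groth.Agent.Lib.Helper29.SuppDim
import Groth.Agent.Lib.Helper85.HS.DimDelta
import Groth.Agent.Lib.Helper24.SupportBaseChange
import Groth.Agent.S0543
import Mathlib.RingTheory.AdicCompletion.LocalRing
import Mathlib.RingTheory.AdicCompletion.AsTensorProduct
import Mathlib.RingTheory.Ideal.GoingDown

/-!
Helper lemmas (helper29): dimension of modules under faithfully flat base change and under
completion of a semi-local Noetherian ring along its Jacobson radical.
-/

set_option autoImplicit false
universe u

namespace Groth.Agent.Lib.Helper29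

open TensorProduct

/-- `dim_A M ≤ dim_B (B ⊗_A M)` for `B` faithfully flat over `A` and `M` finite. -/
theorem supportDim_le_supportDim_baseChange_of_faithfullyFlat {A B : Type u} [CommRing A]
    [CommRing B] [Algebra A B] [Module.FaithfullyFlat A B] (M : Type u) [AddCommGroup M]
    [Module A M] [Module.Finite A M] :
    Module.supportDim A M ≤ Module.supportDim B (B ⊗[A] M) := by
  unfold Module.supportDim Order.krullDim
  apply iSup_le
  intro l
  let l' : LTSeries (PrimeSpectrum A) := l.map Subtype.val (fun _ _ h => h)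
  obtain ⟨P, hP⟩ := PrimeSpectrum.comap_surjective_of_faithfullyFlat (B := B) l'.last
  have : P.asIdeal.LiesOver l'.last.asIdeal := ⟨by rw [← hP]; rfl⟩
  obtain ⟨L, hlen, -, hmap⟩ := Ideal.exists_ltSeries_of_hasGoingDown l' P.asIdeal
  have hmem : ∀ i, L i ∈ Module.support B (B ⊗[A] M) := by
    intro i
    rw [Groth.Agent.Lib.Helper24.mem_support_baseChange_iff]
    have h1 : PrimeSpectrum.comap (algebraMap A B) (L i) ∈ l'.toList := by
      rw [← hmap]
      exact List.mem_map_of_mem (RelSeries.mem_toList.mpr ⟨i, rfl⟩)
    rw [RelSeries.mem_toList] at h1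
    obtain ⟨j, hj⟩ := h1
    rw [← hj]
    exact (l j).2
  let L' : LTSeries (Module.support B (B ⊗[A] M)) :=
    LTSeries.mk L.length (fun i => ⟨L i, hmem i⟩) (fun i j hij => L.strictMono hij)
  have : l.length = L'.length := hlen.symm
  rw [this]
  exact le_iSup (fun p : LTSeries (Module.support B (B ⊗[A] M)) => (p.length : WithBot ℕ∞)) L'

section semilocal

variable (A : Type u) [CommRing A] [IsNoetherianRing A]

theorem isMaximal_map_adicCompletion_jacobson (m : Ideal A) [hm : m.IsMaximal] :
    (m.map (algebraMap A (AdicCompletion (Ring.jacobson A) A))).IsMaximal := by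
  refine AdicCompletion.isMaximal_map_of_le (Ring.jacobson A) m ?_
    (Ideal.fg_of_isNoetherianRing _)
  rw [Ring.jacobson_eq_sInf_isMaximal]
  exact sInf_le hm

instance faithfullyFlat_adicCompletion_jacobson :
    Module.FaithfullyFlat A (AdicCompletion (Ring.jacobson A) A) := by
  refine ⟨fun m hm => ?_⟩
  rw [Ideal.smul_top_eq_map]
  intro h
  have h1 := isMaximal_map_adicCompletion_jacobson A m
  apply h1.ne_top
  rw [eq_top_iff]
  intro x _
  have : x ∈ Submodule.restrictScalars A
      (Ideal.map (algebraMap A (AdicCompletion (Ring.jacobson A) A)) m) := by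
    rw [h]; trivial
  exact this

theorem algebraMap_mem_jacobson_adicCompletion {x : A} (hx : x ∈ Ring.jacobson A) :
    algebraMap A (AdicCompletion (Ring.jacobson A) A) x ∈
      Ring.jacobson (AdicCompletion (Ring.jacobson A) A) := by
  have hcompl := AdicCompletion.isAdicComplete_self (Ring.jacobson A)
    (Ideal.fg_of_isNoetherianRing _)
  have h := IsAdicComplete.le_jacobson_bot
    ((Ring.jacobson A).map (algebraMap A (AdicCompletion (Ring.jacobson A) A)))
    (Ideal.mem_map_of_mem (algebraMap A (AdicCompletion (Ring.jacobson A) A)) hx)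
  rwa [Ideal.jacobson_bot] at h

/-- `dim_Â(Â ⊗ M) = dim_A M` for a semi-local Noetherian ring completed along its radical. -/
theorem supportDim_tensor_adicCompletion_jacobson [Finite (MaximalSpectrum A)] (M : Type u)
    [AddCommGroup M] [Module A M] [Module.Finite A M] :
    Module.supportDim (AdicCompletion (Ring.jacobson A) A)
      (AdicCompletion (Ring.jacobson A) A ⊗[A] M) = Module.supportDim A M := by
  set r := Ring.jacobson A with hr
  have hN : IsNoetherianRing (AdicCompletion r A) := Groth.Agent.S0543.result A r
  refine le_antisymm ?_ (supportDim_le_supportDim_baseChange_of_faithfullyFlat M)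
  rcases subsingleton_or_nontrivial M with hM | hM
  · have : Subsingleton (AdicCompletion r A ⊗[A] M) := inferInstance
    rw [Module.supportDim_eq_bot_of_subsingleton]
    exact bot_le
  have hfin : Module.supportDim A M ≠ ⊤ :=
    ((Module.supportDim_le_ringKrullDim A M).trans_lt
      (ringKrullDim_lt_top_of_finite_maximalSpectrum A)).ne
  have hbot : Module.supportDim A M ≠ ⊥ := Module.supportDim_ne_bot_of_nontrivial A M
  obtain ⟨n, hn⟩ := WithBot.ne_bot_iff_exists.mp hbot
  have hn' : n ≠ ⊤ := fun hh => hfin (by rw [← hn, hh]; rfl)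
  obtain ⟨k, rfl⟩ := ENat.ne_top_iff_exists.mp hn'
  have hk : Module.supportDim A M = (k : WithBot ℕ∞) := hn.symm
  obtain ⟨x, hx, hfl⟩ := Groth.Agent.Lib.Helper85.HS.exists_fin_isFiniteLength_quotient k M
    (le_of_eq hk)
  let x' : Fin k → AdicCompletion r A := fun i => algebraMap A (AdicCompletion r A) (x i)
  have hx' : ∀ i, x' i ∈ Ring.jacobson (AdicCompletion r A) := fun i =>
    algebraMap_mem_jacobson_adicCompletion A (hx i)
  have h1 := Groth.Agent.Lib.Helper85.HS.supportDim_le_supportDim_quotient_add k
    (AdicCompletion r A ⊗[A] M) x' hx'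
  have h0 : Module.supportDim (AdicCompletion r A) ((AdicCompletion r A ⊗[A] M) ⧸
      (Ideal.span (Set.range x') • (⊤ : Submodule (AdicCompletion r A)
        (AdicCompletion r A ⊗[A] M)))) ≤ 0 := by
    -- every prime in the support is maximal
    have hmaxq : ∀ q : PrimeSpectrum (AdicCompletion r A), q ∈ Module.support (AdicCompletion r A)
        ((AdicCompletion r A ⊗[A] M) ⧸ (Ideal.span (Set.range x') •
          (⊤ : Submodule (AdicCompletion r A) (AdicCompletion r A ⊗[A] M)))) →
        q.asIdeal.IsMaximal := by
      intro q hq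
      rw [Module.support_quotient] at hq
      obtain ⟨hq1, hq2⟩ := hq
      rw [Groth.Agent.Lib.Helper24.mem_support_baseChange_iff] at hq1
      set p := PrimeSpectrum.comap (algebraMap A (AdicCompletion r A)) q with hp
      have hp' : p ∈ Module.support A (M ⧸ (Ideal.span (Set.range x) • (⊤ : Submodule A M))) := by
        rw [Module.support_quotient]
        refine ⟨hq1, ?_⟩
        rw [PrimeSpectrum.mem_zeroLocus, SetLike.coe_subset_coe, Ideal.span_le]
        rintro _ ⟨i, rfl⟩
        change algebraMap A (AdicCompletion r A) (x i) ∈ q.asIdeal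
        rw [PrimeSpectrum.mem_zeroLocus, SetLike.coe_subset_coe, Ideal.span_le] at hq2
        exact hq2 ⟨i, rfl⟩
      have hpmax : p.asIdeal.IsMaximal :=
        Groth.Agent.Lib.Helper85.HS.isMaximal_of_mem_support_of_isFiniteLength hfl p hp'
      have hmapmax := isMaximal_map_adicCompletion_jacobson A p.asIdeal
      have hle : p.asIdeal.map (algebraMap A (AdicCompletion r A)) ≤ q.asIdeal :=
        Ideal.map_le_iff_le_comap.mpr le_rfl
      rw [← hmapmax.eq_of_le q.2.ne_top hle]
      exact hmapmax
    rw [Module.supportDim, Order.krullDim_nonpos_iff_forall_isMax]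
    rintro ⟨q, hq⟩ ⟨q', hq'⟩ hle
    have hmax := hmaxq q hq
    have hle' : q.asIdeal ≤ q'.asIdeal := hle
    have : q.asIdeal = q'.asIdeal := hmax.eq_of_le q'.2.ne_top hle'
    exact le_of_eq (Subtype.ext (PrimeSpectrum.ext this.symm))
  calc Module.supportDim (AdicCompletion r A) (AdicCompletion r A ⊗[A] M) ≤ _ := h1
    _ ≤ 0 + (k : WithBot ℕ∞) := by gcongr
    _ = Module.supportDim A M := by rw [zero_add, hk]

end semilocal

end Groth.Agent.Lib.Helper29
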