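import Groth.Agent.Lib.Helper29.CplFlat
import Groth.Agent.Lib.Helper29.SemiLocalCompl
import Groth.Agent.Lib.Helper29.NormFlatDepth
import Groth.Agent.Lib.Helper29.DepthRees
import Groth.Agent.Lib.Helper93.DepthFlat

/-!
Helper lemmas (helper29): completion of Cohen–Macaulay modules over a Noetherian local ring.
-/

set_option autoImplicit false
universe u

namespace Groth.Agent.Lib.Helper29

open IsLocalRing TensorProduct

section

variable (A : Type u) [CommRing A] [IsNoetherianRing A]

/-- version of `supportDim_tensor_adicCompletion_jacobson` for an ideal equal to the radical -/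
theorem supportDim_tensor_adicCompletion_of_eq_jacobson [Finite (MaximalSpectrum A)]
    (I : Ideal A) (hI : I = Ring.jacobson A) (M : Type u)
    [AddCommGroup M] [Module A M] [Module.Finite A M] :
    Module.supportDim (AdicCompletion I A) (AdicCompletion I A ⊗[A] M) = Module.supportDim A M := by
  subst hI
  exact supportDim_tensor_adicCompletion_jacobson A M

end

section

variable (A : Type u) [CommRing A] [IsLocalRing A] [IsNoetherianRing A]

instance finite_maximalSpectrum_of_isLocalRing : Finite (MaximalSpectrum A) := by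
  have : Subsingleton (MaximalSpectrum A) := by
    refine ⟨fun a b => ?_⟩
    ext1
    rw [IsLocalRing.eq_maximalIdeal a.isMaximal, IsLocalRing.eq_maximalIdeal b.isMaximal]
  exact Finite.of_subsingleton

/-- `dim_Â (Â ⊗ M) = dim_A M`. -/
theorem supportDim_cpl_tensor (M : Type u) [AddCommGroup M] [Module A M] [Module.Finite A M] :
    Module.supportDim (EGA4.Cpl A) (EGA4.Cpl A ⊗[A] M) = Module.supportDim A M :=
  supportDim_tensor_adicCompletion_of_eq_jacobson A (maximalIdeal A)
    (IsLocalRing.ringJacobson_eq_maximalIdeal A).symm M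

/-- `depth_Â (Â ⊗ M) = depth_A M`. -/
theorem depth_cpl_tensor (M : Type u) [AddCommGroup M] [Module A M] [Module.Finite A M] :
    letI := isLocalRing_cpl A
    LocCoh.depth (EGA4.Cpl A) (EGA4.Cpl A ⊗[A] M) = LocCoh.depth A M := by
  have hNC : IsNoetherianRing (EGA4.Cpl A) := isNoetherianRing_cpl A
  letI hLC : IsLocalRing (EGA4.Cpl A) := isLocalRing_cpl A
  have hlh : IsLocalHom (algebraMap A (EGA4.Cpl A)) :=
    isLocalHom_algebraMap_adicCompletion A (maximalIdeal A) (Ideal.IsPrime.ne_top inferInstance)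
  have hmax : maximalIdeal (EGA4.Cpl A) = (maximalIdeal A).map (algebraMap A (EGA4.Cpl A)) :=
    maximalIdeal_adicCompletion_eq_map A (maximalIdeal A) (Ideal.IsPrime.ne_top inferInstance)
  have h := Groth.Agent.Lib.Helper93.DepthFlat.depth_tensor_of_flat (R := A) (S := EGA4.Cpl A) M (EGA4.Cpl A)
  have hnt : Nontrivial (EGA4.Cpl A ⧸ ((maximalIdeal A).map (algebraMap A (EGA4.Cpl A))) •
      (⊤ : Submodule (EGA4.Cpl A) (EGA4.Cpl A))) :=
    Groth.Agent.Lib.Helper93.DepthFlat.nontrivial_fibre (R := A) (S := EGA4.Cpl A) (EGA4.Cpl A)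
  have h0 : LocCoh.depth (EGA4.Cpl A) (EGA4.Cpl A ⧸
      ((maximalIdeal A).map (algebraMap A (EGA4.Cpl A))) •
        (⊤ : Submodule (EGA4.Cpl A) (EGA4.Cpl A))) = 0 := by
    apply depth_eq_zero_of_smul_top_eq_bot
    rw [hmax]
    exact smul_top_quotient_smul_top_eq_bot _ _
  rw [h, h0, add_zero]

/-- The completion of a Cohen–Macaulay module is Cohen–Macaulay. -/
theorem isCohenMacaulayModule_cpl_tensor (M : Type u) [AddCommGroup M] [Module A M]
    [Module.Finite A M] (hCM : LocCoh.IsCohenMacaulayModule A M) :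
    letI := isLocalRing_cpl A
    LocCoh.IsCohenMacaulayModule (EGA4.Cpl A) (EGA4.Cpl A ⊗[A] M) := by
  letI hLC : IsLocalRing (EGA4.Cpl A) := isLocalRing_cpl A
  unfold LocCoh.IsCohenMacaulayModule at hCM ⊢
  rw [supportDim_cpl_tensor, depth_cpl_tensor, hCM]

end

end Groth.Agent.Lib.Helper29
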