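import Groth.Agent.Lib.Helper29.DepthCM
import Mathlib.RingTheory.Ideal.AssociatedPrime.Localization

/-!
Helper lemmas (helper29): more on dimension of supports and Cohen–Macaulay modules.
-/

set_option autoImplicit false
universe u v

namespace Groth.Agent.Lib.Helper29

open IsLocalRing RingTheory.Sequence
open scoped Pointwise

section General

variable {A : Type u} [CommRing A]

/-- `dim M/pM = dim A/p` for `p ∈ Supp M`, `M` finite. -/
theorem supportDim_quotient_smul_top_eq_ringKrullDim_quotient (M : Type v) [AddCommGroup M]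
    [Module A M] [Module.Finite A M] (p : PrimeSpectrum A) (hp : p ∈ Module.support A M) :
    Module.supportDim A (M ⧸ (p.asIdeal • (⊤ : Submodule A M))) = ringKrullDim (A ⧸ p.asIdeal) := by
  unfold Module.supportDim
  rw [ringKrullDim_quotient, Module.support_quotient]
  have : Module.support A M ∩ PrimeSpectrum.zeroLocus (p.asIdeal : Set A) =
      PrimeSpectrum.zeroLocus (p.asIdeal : Set A) := by
    apply Set.inter_eq_right.mpr
    intro q hq
    exact Module.mem_support_mono (show p ≤ q from hq) hp
  rw [this]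

/-- `p ∈ Supp M/(xs)M` if `p ∈ Supp M` and `xs ⊆ p`. -/
theorem mem_support_quotient_ofList (M : Type v) [AddCommGroup M]
    [Module A M] [Module.Finite A M] (p : PrimeSpectrum A) (hp : p ∈ Module.support A M)
    (xs : List A) (hxs : ∀ x ∈ xs, x ∈ p.asIdeal) :
    p ∈ Module.support A (M ⧸ (Ideal.ofList xs • (⊤ : Submodule A M))) := by
  rw [Module.support_quotient]
  refine ⟨hp, ?_⟩
  rw [PrimeSpectrum.mem_zeroLocus]
  exact Ideal.span_le.mpr fun r hr => hxs r hr

/-- A prime of the support of maximal dimension is minimal in the support. -/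
theorem eq_of_le_of_ringKrullDim_quotient_eq_supportDim (M : Type v) [AddCommGroup M]
    [Module A M] (hfin : Module.supportDim A M ≠ ⊤) (p : PrimeSpectrum A)
    (hdim : ringKrullDim (A ⧸ p.asIdeal) = Module.supportDim A M)
    (q : PrimeSpectrum A) (hq : q ∈ Module.support A M) (hqp : q ≤ p) : q = p := by
  by_contra hne
  have hlt : q < p := lt_of_le_of_ne hqp hne
  have h1 := ringKrullDim_quotient_add_one_le_of_lt A hlt
  have h2 := ringKrullDim_quotient_le_supportDim q hq
  rw [hdim] at h1
  have h3 := h1.trans h2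
  have hp' : Module.supportDim A M ≠ ⊥ := by
    rw [← hdim]
    have : Nontrivial (A ⧸ p.asIdeal) := Ideal.Quotient.nontrivial_iff.mpr p.isPrime.ne_top
    intro hbot
    have h0 : (0 : WithBot ℕ∞) ≤ ringKrullDim (A ⧸ p.asIdeal) := ringKrullDim_nonneg_of_nontrivial
    rw [hbot] at h0
    exact absurd h0 (by simp)
  exact not_add_one_le_self _ hp' hfin h3

/-- A prime of the support of maximal dimension is an associated prime. -/
theorem mem_associatedPrimes_of_ringKrullDim_quotient_eq_supportDim [IsNoetherianRing A]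
    (M : Type v) [AddCommGroup M]
    [Module A M] [Module.Finite A M] (hfin : Module.supportDim A M ≠ ⊤) (p : PrimeSpectrum A)
    (hp : p ∈ Module.support A M)
    (hdim : ringKrullDim (A ⧸ p.asIdeal) = Module.supportDim A M) :
    p.asIdeal ∈ associatedPrimes A M := by
  apply Module.associatedPrimes.minimalPrimes_annihilator_subset_associatedPrimes
  rw [Ideal.minimalPrimes, Set.mem_ofPred_eq]
  refine ⟨⟨p.isPrime, (Module.mem_support_iff_of_finite.mp hp)⟩, fun q hq hle => ?_⟩
  have hq' : (⟨q, hq.1⟩ : PrimeSpectrum A) ∈ Module.support A M :=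
    Module.mem_support_iff_of_finite.mpr hq.2
  have := eq_of_le_of_ringKrullDim_quotient_eq_supportDim M hfin p hdim ⟨q, hq.1⟩ hq' hle
  rw [← this]

theorem natCast_ne_top_withBot (n : ℕ) : ((n : ℕ) : WithBot ℕ∞) ≠ ⊤ := by
  intro h
  have : ((n : ℕ∞) : WithBot ℕ∞) = ((⊤ : ℕ∞) : WithBot ℕ∞) := h
  exact ENat.natCast_ne_top n (WithBot.coe_injective this)

theorem withBot_enat_add_nat_cancel {a b : WithBot ℕ∞} (n : ℕ) (ha : a ≠ ⊤)
    (h : a + (n : WithBot ℕ∞) = b + (n : WithBot ℕ∞)) : a = b := by
  induction n with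
  | zero => simpa using h
  | succ n ih =>
    apply ih
    apply withBot_enat_add_one_cancel
    · intro htop
      induction a with
      | bot => simp at htop
      | coe a =>
        have ha' : a ≠ ⊤ := fun h' => ha (by rw [h']; rfl)
        obtain ⟨k, rfl⟩ := ENat.ne_top_iff_exists.mp ha'
        exact natCast_ne_top_withBot (k + n) (by push_cast; exact htop)
    · rw [add_assoc, add_assoc]
      push_cast at h
      exact h

theorem exists_nat_eq_of_ne_bot_of_ne_top {x : WithBot ℕ∞} (h1 : x ≠ ⊥) (h2 : x ≠ ⊤) :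
    ∃ n : ℕ, x = (n : WithBot ℕ∞) := by
  induction x with
  | bot => exact absurd rfl h1
  | coe x =>
    induction x with
    | top => exact absurd rfl h2
    | coe n => exact ⟨n, rfl⟩

theorem ringKrullDim_quotient_ne_bot (p : PrimeSpectrum A) :
    ringKrullDim (A ⧸ p.asIdeal) ≠ ⊥ := by
  intro hbot
  have : Nontrivial (A ⧸ p.asIdeal) := Ideal.Quotient.nontrivial_iff.mpr p.isPrime.ne_top
  have h0 : (0 : WithBot ℕ∞) ≤ ringKrullDim (A ⧸ p.asIdeal) := ringKrullDim_nonneg_of_nontrivial
  rw [hbot] at h0
  exact absurd h0 (by simp)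

theorem ringKrullDim_quotient_anti {p q : PrimeSpectrum A} (h : p ≤ q) :
    ringKrullDim (A ⧸ q.asIdeal) ≤ ringKrullDim (A ⧸ p.asIdeal) := by
  rw [ringKrullDim_quotient_eq_coheight, ringKrullDim_quotient_eq_coheight]
  exact_mod_cast Order.coheight_anti h

end General

section Local

variable (A : Type u) [CommRing A] [IsLocalRing A] [IsNoetherianRing A]

theorem exists_nat_supportDim_eq (M : Type v) [AddCommGroup M] [Module A M] [Nontrivial M] :
    ∃ n : ℕ, Module.supportDim A M = (n : WithBot ℕ∞) :=
  exists_nat_eq_of_ne_bot_of_ne_top (Module.supportDim_ne_bot_of_nontrivial A M)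
    (supportDim_ne_top A M)

theorem exists_nat_ringKrullDim_quotient_eq (p : PrimeSpectrum A) :
    ∃ n : ℕ, ringKrullDim (A ⧸ p.asIdeal) = (n : WithBot ℕ∞) := by
  refine exists_nat_eq_of_ne_bot_of_ne_top (ringKrullDim_quotient_ne_bot p) ?_
  have h1 : ringKrullDim (A ⧸ p.asIdeal) ≤ ringKrullDim A :=
    ringKrullDim_le_of_surjective _ Ideal.Quotient.mk_surjective
  have h2 : ringKrullDim A < ⊤ := ringKrullDim_lt_top
  exact (h1.trans_lt h2).ne

/-- In a CM module `M`, a prime `p` of the support with `dim A/p < dim M` contains an `M`-regular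
element. -/
theorem exists_isSMulRegular_mem_of_ringKrullDim_quotient_lt (M : Type u) [AddCommGroup M]
    [Module A M] [Module.Finite A M] (hM : LocCoh.IsCohenMacaulayModule A M)
    (p : PrimeSpectrum A) (hlt : ringKrullDim (A ⧸ p.asIdeal) < Module.supportDim A M) :
    ∃ x ∈ p.asIdeal, IsSMulRegular M x := by
  by_contra hcon
  push Not at hcon
  have hnt := nontrivial_of_isCohenMacaulayModule A hM
  obtain ⟨Ia, hIa⟩ := associatedPrimes.nonempty A M
  have hexist : ∃ q ∈ associatedPrimes A M, p.asIdeal ≤ q := by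
    apply (Ideal.subset_union_prime_finite (associatedPrimes.finite A M) Ia Ia _).mp
    · rw [biUnion_associatedPrimes_eq_compl_regular A M]
      exact fun r hr => hcon r hr
    · exact fun I hin _ _ => IsAssociatedPrime.isPrime hin
  obtain ⟨q, hq, hle⟩ := hexist
  have h1 := ringKrullDim_quotient_eq_supportDim_of_isCohenMacaulayModule A M hM q hq
  have h2 := ringKrullDim_quotient_anti (p := p) (q := ⟨q, IsAssociatedPrime.isPrime hq⟩) hle
  rw [h1] at h2
  exact absurd hlt (not_lt.mpr h2)

/-- In a CM module `M`, a prime `p` of the support with `dim A/p + r = dim M` contains an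
`M`-regular sequence of length `r`. -/
theorem exists_isWeaklyRegular_mem_of_ringKrullDim_quotient_add_eq (r : ℕ) :
    ∀ (M : Type u) [AddCommGroup M] [Module A M] [Module.Finite A M]
      (_ : LocCoh.IsCohenMacaulayModule A M) (p : PrimeSpectrum A) (_ : p ∈ Module.support A M)
      (_ : ringKrullDim (A ⧸ p.asIdeal) + r = Module.supportDim A M),
      ∃ xs : List A, xs.length = r ∧ (∀ x ∈ xs, x ∈ p.asIdeal) ∧ IsWeaklyRegular M xs := by
  induction r with
  | zero =>
    intro M _ _ _ _ p _ _
    exact ⟨[], rfl, by simp, IsWeaklyRegular.nil A M⟩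
  | succ r ih =>
    intro M _ _ _ hM p hp hr
    obtain ⟨a, ha⟩ := exists_nat_ringKrullDim_quotient_eq A p
    have hlt : ringKrullDim (A ⧸ p.asIdeal) < Module.supportDim A M := by
      rw [← hr, ha]
      exact_mod_cast Nat.lt_add_of_pos_right (Nat.succ_pos r)
    obtain ⟨x, hxp, hxreg⟩ := exists_isSMulRegular_mem_of_ringKrullDim_quotient_lt A M hM p hlt
    have hx : x ∈ maximalIdeal A := le_maximalIdeal p.isPrime.ne_top hxp
    have hN := isCohenMacaulayModule_quotSMulTop A M hM hx hxreg
    have hpN : p ∈ Module.support A (QuotSMulTop x M) := by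
      rw [Module.support_quotSMulTop]
      exact ⟨hp, by simpa [PrimeSpectrum.mem_zeroLocus] using hxp⟩
    have hdimN := Module.supportDim_quotSMulTop_succ_eq_supportDim hxreg hx
    have hr' : ringKrullDim (A ⧸ p.asIdeal) + r = Module.supportDim A (QuotSMulTop x M) := by
      apply withBot_enat_add_one_cancel
      · rw [ha]
        have := natCast_ne_top_withBot (a + r)
        push_cast at this
        exact this
      · rw [hdimN, ← hr, add_assoc]
        push_cast
        rfl
    obtain ⟨rs, h1, h2, h3⟩ := ih (QuotSMulTop x M) hN p hpN hr'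
    refine ⟨x :: rs, by simp [h1], ?_, (isWeaklyRegular_cons_iff M x rs).mpr ⟨hxreg, h3⟩⟩
    intro y hy
    rcases List.mem_cons.mp hy with rfl | hy
    · exact hxp
    · exact h2 y hy

end Local

end Groth.Agent.Lib.Helper29
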