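import Groth.Agent.Lib.Helper29.CplQuot
import Groth.Agent.Lib.Helper29.CplCM
import Groth.Agent.Lib.Helper29.DepthCM2

/-!
Helper lemmas (helper29): strict equidimensionality of completions of quotients `A ⧸ p` of a local
ring carrying a Cohen–Macaulay module.
-/

set_option autoImplicit false
universe u

namespace Groth.Agent.Lib.Helper29

open IsLocalRing TensorProduct

section transfer

variable {R S : Type u} [CommRing R] [CommRing S]

theorem mem_associatedPrimes_comap_of_ringEquiv [IsNoetherianRing R] [IsNoetherianRing S]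
    (e : R ≃+* S) {P : Ideal S} (hP : P ∈ associatedPrimes S S) :
    P.comap (e : R →+* S) ∈ associatedPrimes R R := by
  obtain ⟨hprime, s, hs⟩ := (isAssociatedPrime_iff (R := S)).mp hP
  refine (isAssociatedPrime_iff (R := R)).mpr ⟨Ideal.comap_isPrime _ _, e.symm s, ?_⟩
  ext r
  rw [Ideal.mem_comap, hs, Submodule.mem_colon_singleton, Submodule.mem_colon_singleton,
    Submodule.mem_bot, Submodule.mem_bot, smul_eq_mul, smul_eq_mul]
  constructor
  · intro h
    apply e.injective
    rw [map_mul, e.apply_symm_apply, map_zero]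
    exact h
  · intro h
    have := congrArg e h
    rwa [map_mul, e.apply_symm_apply, map_zero] at this

theorem ringKrullDim_quotient_comap_ringEquiv (e : R ≃+* S) (P : Ideal S) :
    ringKrullDim (R ⧸ P.comap (e : R →+* S)) = ringKrullDim (S ⧸ P) := by
  refine ringKrullDim_eq_of_ringEquiv (Ideal.quotientEquiv _ _ e ?_)
  exact (Ideal.map_comap_of_surjective (e : R →+* S) e.surjective P).symm

theorem isStrictlyEquidim_of_ringEquiv [IsNoetherianRing R] [IsNoetherianRing S] (e : R ≃+* S)
    (h : EGA4.IsStrictlyEquidim R) : EGA4.IsStrictlyEquidim S := by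
  intro P hP
  have h1 := h _ (mem_associatedPrimes_comap_of_ringEquiv e hP)
  rw [ringKrullDim_quotient_comap_ringEquiv e P, ringKrullDim_eq_of_ringEquiv e] at h1
  exact h1

theorem isEquidim_of_ringEquiv (e : R ≃+* S) (h : EGA4.IsEquidim R) : EGA4.IsEquidim S := by
  intro P hP
  have hP' : P.comap (e : R →+* S) ∈ minimalPrimes R := by
    have hPprime : P.IsPrime := hP.1.1
    refine ⟨⟨Ideal.comap_isPrime _ _, bot_le⟩, fun Q hQ hQP => ?_⟩
    have hQprime : Q.IsPrime := hQ.1
    have hQ' : (Q.comap (e.symm : S →+* R)).IsPrime := Ideal.comap_isPrime _ _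
    have h1 : Q.comap (e.symm : S →+* R) ≤ P := by
      intro s hs
      have : e.symm s ∈ P.comap (e : R →+* S) := hQP hs
      rw [Ideal.mem_comap] at this
      simpa using this
    have h2 := hP.2 ⟨hQ', bot_le⟩ h1
    intro r hr
    rw [Ideal.mem_comap] at hr
    have := h2 hr
    rw [Ideal.mem_comap] at this
    simpa using this
  have h1 := h _ hP'
  rw [ringKrullDim_quotient_comap_ringEquiv e P, ringKrullDim_eq_of_ringEquiv e] at h1
  exact h1

theorem isEquidim_of_isStrictlyEquidim [IsNoetherianRing R] (h : EGA4.IsStrictlyEquidim R) :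
    EGA4.IsEquidim R := by
  intro P hP
  apply h
  have hann : Module.annihilator R R = ⊥ := by
    rw [Module.annihilator_eq_bot]
    exact (faithfulSMul_iff_algebraMap_injective R R).mpr fun {a₁ a₂} a ↦ a
  have := Module.associatedPrimes.minimalPrimes_annihilator_subset_associatedPrimes R R
  rw [hann] at this
  exact this hP

end transfer

section main

variable (A : Type u) [CommRing A] [IsLocalRing A] [IsNoetherianRing A]

/-- `dim Â/IÂ = dim A/I`. -/
theorem ringKrullDim_cplQ (I : Ideal A) [Nontrivial (A ⧸ I)] :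
    ringKrullDim (CplQ A I) = ringKrullDim (A ⧸ I) := by
  rw [← ringKrullDim_eq_of_ringEquiv (cplQuotientEquiv A I)]
  exact (ringKrullDim_adicCompletion_eq_and_isRegularLocalRing_iff (A ⧸ I)
    (maximalIdeal (A ⧸ I)) (Ideal.IsPrime.ne_top inferInstance)).1

/-- If `p` is an associated prime of a finite Cohen–Macaulay `A`-module, then `Â/pÂ` is strictly
equidimensional. -/
theorem isStrictlyEquidim_cplQ (p : Ideal A) [hp : p.IsPrime] (N : Type u) [AddCommGroup N]
    [Module A N] [Module.Finite A N] (hN : LocCoh.IsCohenMacaulayModule A N)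
    (hpN : p ∈ associatedPrimes A N) : EGA4.IsStrictlyEquidim (CplQ A p) := by
  have hNC : IsNoetherianRing (EGA4.Cpl A) := isNoetherianRing_cpl A
  let hLC : IsLocalRing (EGA4.Cpl A) := isLocalRing_cpl A
  have hCMh := isCohenMacaulayModule_cpl_tensor A N hN
  -- the injection `A/p → N`
  obtain ⟨-, n, hn⟩ := (isAssociatedPrime_iff (R := A)).mp hpN
  let f : A →ₗ[A] N := LinearMap.toSpanSingleton A N n
  have hker : p = LinearMap.ker f := by
    ext r
    rw [hn, Submodule.mem_colon_singleton, Submodule.mem_bot, LinearMap.mem_ker,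
      LinearMap.toSpanSingleton_apply]
  let g : (A ⧸ p) →ₗ[A] N := Submodule.liftQ p f (le_of_eq hker)
  have hg : Function.Injective g := by
    rw [← LinearMap.ker_eq_bot]
    exact Submodule.ker_liftQ_eq_bot' p f hker
  -- base change to the completion
  let gh : EGA4.Cpl A ⊗[A] (A ⧸ p) →ₗ[EGA4.Cpl A] EGA4.Cpl A ⊗[A] N := g.baseChange (EGA4.Cpl A)
  have hgh : Function.Injective gh :=
    Module.Flat.lTensor_preserves_injective_linearMap (M := EGA4.Cpl A) g hg
  let j : CplQ A p →ₗ[EGA4.Cpl A] EGA4.Cpl A ⊗[A] N :=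
    gh.comp (Algebra.TensorProduct.quotIdealMapEquivTensorQuot (EGA4.Cpl A) p).toLinearMap
  have hj : Function.Injective j :=
    hgh.comp (Algebra.TensorProduct.quotIdealMapEquivTensorQuot (EGA4.Cpl A) p).injective
  -- dimensions
  have hdimN : Module.supportDim A N = ringKrullDim (A ⧸ p) :=
    (ringKrullDim_quotient_eq_supportDim_of_isCohenMacaulayModule A N hN p hpN).symm
  intro P hP
  obtain ⟨hPprime, c, hc⟩ := (isAssociatedPrime_iff (R := CplQ A p)).mp hP
  set P' : Ideal (EGA4.Cpl A) := P.comap (Ideal.Quotient.mk (p.map (algebraMap A (EGA4.Cpl A))))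
    with hP'
  have hP'prime : P'.IsPrime := Ideal.comap_isPrime _ _
  have hP'ass : P' ∈ associatedPrimes (EGA4.Cpl A) (CplQ A p) := by
    refine (isAssociatedPrime_iff (R := EGA4.Cpl A)).mpr ⟨hP'prime, c, ?_⟩
    ext r
    rw [hP', Ideal.mem_comap, hc, Submodule.mem_colon_singleton, Submodule.mem_colon_singleton,
      Submodule.mem_bot, Submodule.mem_bot]
    rfl
  have hP'assN : P' ∈ associatedPrimes (EGA4.Cpl A) (EGA4.Cpl A ⊗[A] N) :=
    associatedPrimes.subset_of_injective hj hP'ass
  have h1 := ringKrullDim_quotient_eq_supportDim_of_isCohenMacaulayModule (EGA4.Cpl A)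
    (EGA4.Cpl A ⊗[A] N) hCMh P' hP'assN
  rw [supportDim_cpl_tensor, hdimN] at h1
  -- `C/P ≃ Â/P'`
  have h2 : ringKrullDim (CplQ A p ⧸ P) = ringKrullDim (EGA4.Cpl A ⧸ P') := by
    let φ : EGA4.Cpl A →+* CplQ A p ⧸ P :=
      (Ideal.Quotient.mk P).comp (Ideal.Quotient.mk (p.map (algebraMap A (EGA4.Cpl A))))
    have hφ : Function.Surjective φ :=
      Ideal.Quotient.mk_surjective.comp Ideal.Quotient.mk_surjective
    have hkerφ : RingHom.ker φ = P' := by
      ext r
      rw [RingHom.mem_ker, hP', Ideal.mem_comap]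
      change Ideal.Quotient.mk P _ = 0 ↔ _
      rw [Ideal.Quotient.eq_zero_iff_mem]
    rw [← hkerφ]
    exact (ringKrullDim_eq_of_ringEquiv (RingHom.quotientKerEquivOfSurjective hφ)).symm
  rw [h2, h1, ringKrullDim_cplQ]

/-- A finite CM module with `p` in its support has a CM quotient with `p` as associated prime. -/
theorem exists_isCohenMacaulayModule_mem_associatedPrimes (M : Type u) [AddCommGroup M]
    [Module A M] [Module.Finite A M] (hM : LocCoh.IsCohenMacaulayModule A M) (p : PrimeSpectrum A)
    (hp : p ∈ Module.support A M) :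
    ∃ (N : Type u) (_ : AddCommGroup N) (_ : Module A N) (_ : Module.Finite A N),
      LocCoh.IsCohenMacaulayModule A N ∧ p.asIdeal ∈ associatedPrimes A N := by
  have hnt := nontrivial_of_isCohenMacaulayModule A hM
  have hle : ringKrullDim (A ⧸ p.asIdeal) ≤ Module.supportDim A M :=
    ringKrullDim_quotient_le_supportDim p hp
  obtain ⟨a, ha⟩ := exists_nat_ringKrullDim_quotient_eq A p
  obtain ⟨d, hd⟩ := exists_nat_supportDim_eq A M
  have had : a ≤ d := by
    rw [ha, hd] at hle
    exact_mod_cast hle
  have hr : ringKrullDim (A ⧸ p.asIdeal) + ((d - a : ℕ) : WithBot ℕ∞) = Module.supportDim A M := by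
    rw [ha, hd]
    have : a + (d - a) = d := Nat.add_sub_cancel' had
    exact_mod_cast this
  obtain ⟨xs, hlen, hxs, hreg⟩ :=
    exists_isWeaklyRegular_mem_of_ringKrullDim_quotient_add_eq A (d - a) M hM p hp hr
  have hxsm : ∀ x ∈ xs, x ∈ maximalIdeal A := fun x hx =>
    le_maximalIdeal p.isPrime.ne_top (hxs x hx)
  have hCM := isCohenMacaulayModule_quotient_ofList A M hM xs hxsm hreg
  refine ⟨M ⧸ Ideal.ofList xs • (⊤ : Submodule A M), inferInstance, inferInstance, inferInstance,
    hCM, ?_⟩
  have hsupp : p ∈ Module.support A (M ⧸ Ideal.ofList xs • (⊤ : Submodule A M)) :=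
    mem_support_quotient_ofList M p hp xs hxs
  apply mem_associatedPrimes_of_ringKrullDim_quotient_eq_supportDim _ (supportDim_ne_top A _) p
    hsupp
  -- dimension count
  have hdim := Module.supportDim_add_length_eq_supportDim_of_isRegular xs
    (isRegular_of_isWeaklyRegular_of_mem (I := maximalIdeal A)
      (maximalIdeal_smul_top_ne_top A M) hreg hxsm)
  rw [hlen] at hdim
  apply withBot_enat_add_nat_cancel (d - a)
  · rw [ha]; exact natCast_ne_top_withBot a
  · rw [hr, hdim]

end main

end Groth.Agent.Lib.Helper29
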