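import Groth.Agent.Lib.Helper29.EquidimFlat
import Groth.Agent.Lib.Helper29.CMLocusOpen
import Groth.Agent.Lib.Helper29.CplQuotEquidim

/-!
Helper lemmas (helper29): complete Noetherian local rings are catenary; formally equidimensional
local rings are equidimensional and catenary (EGA IV 7.1.x).
-/

set_option autoImplicit false
universe u

namespace Groth.Agent.Lib.Helper29

open IsLocalRing

/-- A quotient of a regular ring is catenary. -/
theorem isCatenary_of_surjective_of_isRegularRing {R A : Type u} [CommRing R] [CommRing A]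
    [IsRegularRing R] (f : R →+* A) (hf : Function.Surjective f) : CAlg.IsCatenary A := by
  have hCM := Groth.Agent.Lib.Helper82.CMPoly.isCohenMacaulayRing_of_isRegularRing R
  exact Groth.Agent.H46.isCatenary_of_surjective f hf
    (Groth.Agent.Lib.Helper89.CMCatenary.isCatenary_of_isCohenMacaulayRing R)

/-- A complete Noetherian local ring is catenary. -/
theorem isCatenary_of_isAdicComplete (A : Type u) [CommRing A] [IsNoetherianRing A]
    [IsLocalRing A] [IsAdicComplete (maximalIdeal A) A] : CAlg.IsCatenary A := by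
  obtain ⟨R, hR, hreg, f, hf⟩ := exists_regular_surjective_of_complete A
  exact isCatenary_of_surjective_of_isRegularRing f hf

section

variable (A : Type u) [CommRing A] [IsNoetherianRing A] [IsLocalRing A]

theorem isCatenary_cpl : CAlg.IsCatenary (EGA4.Cpl A) := by
  have hN : IsNoetherianRing (EGA4.Cpl A) := isNoetherianRing_cpl A
  have hL : IsLocalRing (EGA4.Cpl A) := isLocalRing_cpl A
  have hcompl : IsAdicComplete (maximalIdeal (EGA4.Cpl A)) (EGA4.Cpl A) := isAdicComplete_cpl A
  exact isCatenary_of_isAdicComplete (EGA4.Cpl A)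

theorem ringKrullDim_fibRing_cpl [IsLocalRing (EGA4.Cpl A)] :
    ringKrullDim (EGA4.FibRing A (EGA4.Cpl A)) = 0 := by
  have hmax := maximalIdeal_adicCompletion_eq_map A (maximalIdeal A)
    (Ideal.IsPrime.ne_top inferInstance)
  change ringKrullDim (EGA4.Cpl A ⧸ (maximalIdeal A).map (algebraMap A (EGA4.Cpl A))) = 0
  rw [← hmax]
  have hf : IsField (EGA4.Cpl A ⧸ maximalIdeal (EGA4.Cpl A)) :=
    (Ideal.Quotient.maximal_ideal_iff_isField_quotient _).mp (maximalIdeal.isMaximal _)
  exact ringKrullDim_eq_zero_of_isField hf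

/-- A formally equidimensional Noetherian local ring is equidimensional and catenary, and its
quotients are equidimensional iff they are formally equidimensional. -/
theorem isEquidim_and_isCatenary_of_isFormallyEquidim (h : EGA4.IsFormallyEquidim A) :
    (EGA4.IsEquidim A ∧ CAlg.IsCatenary A) ∧
      ∀ (a : Ideal A) [Nontrivial (A ⧸ a)],
        (EGA4.IsEquidim (A ⧸ a) ↔ EGA4.IsFormallyEquidim (A ⧸ a)) := by
  have hN : IsNoetherianRing (EGA4.Cpl A) := isNoetherianRing_cpl A
  have hL : IsLocalRing (EGA4.Cpl A) := isLocalRing_cpl A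
  have hflat : Module.Flat A (EGA4.Cpl A) := (faithfullyFlat_cpl A).toFlat
  have hlh : IsLocalHom (algebraMap A (EGA4.Cpl A)) :=
    isLocalHom_algebraMap_adicCompletion A (maximalIdeal A) (Ideal.IsPrime.ne_top inferInstance)
  have hcat := isCatenary_cpl A
  have heq : EGA4.IsEquidim (EGA4.Cpl A) := h
  refine ⟨⟨isEquidim_of_flat A (EGA4.Cpl A) heq hcat, isCatenary_of_flat A (EGA4.Cpl A) heq hcat⟩,
    ?_⟩
  intro a hnt
  have h1 := isEquidim_quotient_map_iff A (EGA4.Cpl A) heq hcat (ringKrullDim_fibRing_cpl A) a
  rw [← h1]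
  unfold EGA4.IsFormallyEquidim
  constructor
  · intro h2
    exact isEquidim_of_ringEquiv (cplQuotientEquiv A a).symm h2
  · intro h2
    exact isEquidim_of_ringEquiv (cplQuotientEquiv A a) h2

end

end Groth.Agent.Lib.Helper29
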