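import Groth.Agent.S2629
import Groth.Agent.Lib.Helper29.FormallyEquidim
import Groth.Agent.Lib.Helper73.CplMap

/-!
Helper lemmas (helper29): formally equidimensional (quasi-unmixed) local rings.

* `isFormallyEquidim_of_flat` : descent of formal equidimensionality along a flat local
  homomorphism.
* `isFormallyEquidim_of_surjective_of_isEquidim` : an equidimensional quotient of a CM local ring is
  formally equidimensional.
* `isEquidim_quotient_map_of_isCohenMacaulayLocalRing` : for `R`, `S'` CM local, `S'` flat over `R`,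
  `R/I` equidimensional implies `S'/IS'` equidimensional.
* `isFormallyEquidim_localization_of_cm_presentation` : the abstract form of Matsumura 31.6 (i)/(iii).
-/

set_option autoImplicit false
universe u

namespace Groth.Agent.Lib.Helper29

open IsLocalRing

section L1

variable (C C' : Type u) [CommRing C] [CommRing C'] [IsLocalRing C] [IsLocalRing C']
  [IsNoetherianRing C] [IsNoetherianRing C'] [Algebra C C'] [IsLocalHom (algebraMap C C')]
  [Module.Flat C C']

/-- Formal equidimensionality descends along flat local homomorphisms. -/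
theorem isFormallyEquidim_of_flat (h : EGA4.IsFormallyEquidim C') : EGA4.IsFormallyEquidim C := by
  have hN : IsNoetherianRing (EGA4.Cpl C) := isNoetherianRing_cpl C
  have hN' : IsNoetherianRing (EGA4.Cpl C') := isNoetherianRing_cpl C'
  have hL : IsLocalRing (EGA4.Cpl C) := isLocalRing_cpl C
  have hL' : IsLocalRing (EGA4.Cpl C') := isLocalRing_cpl C'
  let _ := Groth.Agent.Lib.Helper73.CplMap.cplAlgebra C C'
  have hflat : Module.Flat (EGA4.Cpl C) (EGA4.Cpl C') :=
    Groth.Agent.Lib.Helper73.CplMap.flat_cpl C C'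
  have hloc : IsLocalHom (algebraMap (EGA4.Cpl C) (EGA4.Cpl C')) :=
    Groth.Agent.Lib.Helper73.CplMap.isLocalHom_cplMap C C'
  exact isEquidim_of_flat (EGA4.Cpl C) (EGA4.Cpl C') h (isCatenary_cpl C')

end L1

section L2

/-- `dim R/p + ht p = dim R` in a CM local ring. -/
theorem ringKrullDim_quotient_add_height_of_isCohenMacaulayLocalRing (R : Type u) [CommRing R]
    [LocCoh.IsCohenMacaulayLocalRing R] (p : Ideal R) [hp : p.IsPrime] :
    ringKrullDim (R ⧸ p) + ((p.height : ℕ∞) : WithBot ℕ∞) = ringKrullDim R :=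
  Groth.Agent.Lib.Helper89.CMCatenary.ringKrullDim_quotient_add_height R R
    (LocCoh.IsCohenMacaulayLocalRing.supportDim_eq_depth)
    (Groth.Agent.Lib.Helper89.CMCatenary.support_self_eq_univ R) ⟨p, hp⟩

/-- An equidimensional local quotient of a CM local ring is formally equidimensional. -/
theorem isFormallyEquidim_of_surjective_of_isEquidim (R : Type u) [CommRing R]
    [LocCoh.IsCohenMacaulayLocalRing R] (D : Type u) [CommRing D] [IsLocalRing D]
    (f : R →+* D) (hf : Function.Surjective f) (hD : EGA4.IsEquidim D) :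
    EGA4.IsFormallyEquidim D := by
  have hND : IsNoetherianRing D := isNoetherianRing_of_surjective R D f hf
  rw [Groth.Agent.S2629.result D]
  refine ⟨hD, fun q hq _ => ?_⟩
  exact isEquidim_cpl_of_surjective R R
    (LocCoh.IsCohenMacaulayLocalRing.supportDim_eq_depth)
    (Groth.Agent.Lib.Helper89.CMCatenary.support_self_eq_univ R) (D ⧸ q)
    ((Ideal.Quotient.mk q).comp f) (Ideal.Quotient.mk_surjective.comp hf)

end L2

section Claim

variable (R S' : Type u) [CommRing R] [CommRing S'] [LocCoh.IsCohenMacaulayLocalRing R]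
  [LocCoh.IsCohenMacaulayLocalRing S'] [Algebra R S'] [Module.Flat R S']

/-- For CM local rings `R`, `S'` with `S'` flat over `R` (no locality of the map needed): if `R/I`
is equidimensional then so is `S'/IS'`. -/
theorem isEquidim_quotient_map_of_isCohenMacaulayLocalRing (I : Ideal R)
    (hI : EGA4.IsEquidim (R ⧸ I)) : EGA4.IsEquidim (S' ⧸ I.map (algebraMap R S')) := by
  rw [isEquidim_quotient_iff] at hI ⊢
  by_cases hne : I.map (algebraMap R S') = ⊤
  · intro 𝔓 h𝔓
    rw [hne, Ideal.minimalPrimes_top] at h𝔓
    exact absurd h𝔓 (Set.notMem_empty _)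
  have hIne : I ≠ ⊤ := by
    rintro rfl
    exact hne (Ideal.map_top _)
  have hntR : Nontrivial (R ⧸ I) := Ideal.Quotient.nontrivial_iff.mpr hIne
  have hlocR : IsLocalRing (R ⧸ I) :=
    IsLocalRing.of_surjective' (Ideal.Quotient.mk I) Ideal.Quotient.mk_surjective
  have hntS : Nontrivial (S' ⧸ I.map (algebraMap R S')) := Ideal.Quotient.nontrivial_iff.mpr hne
  have hlocS : IsLocalRing (S' ⧸ I.map (algebraMap R S')) :=
    IsLocalRing.of_surjective' (Ideal.Quotient.mk _) Ideal.Quotient.mk_surjective
  obtain ⟨d, hd⟩ := exists_nat_ringKrullDim_eq (R ⧸ I)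
  obtain ⟨r, hr⟩ := exists_nat_ringKrullDim_eq R
  obtain ⟨s, hs⟩ := exists_nat_ringKrullDim_eq S'
  have key : ∀ 𝔓 ∈ (I.map (algebraMap R S')).minimalPrimes,
      ringKrullDim (S' ⧸ 𝔓) + ((r : ℕ) : WithBot ℕ∞) = ((s + d : ℕ) : WithBot ℕ∞) := by
    intro 𝔓 h𝔓
    have h𝔓prime : 𝔓.IsPrime := h𝔓.1.1
    obtain ⟨h1, h2⟩ := comap_mem_minimalPrimes_of_mem_minimalPrimes_map I h𝔓
    have hPprime : (𝔓.comap (algebraMap R S')).IsPrime := h1.1.1
    have hht := height_eq_of_mem_minimalPrimes_map (𝔓.comap (algebraMap R S')) h2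
    have eqR := ringKrullDim_quotient_add_height_of_isCohenMacaulayLocalRing R
      (𝔓.comap (algebraMap R S'))
    have eqS := ringKrullDim_quotient_add_height_of_isCohenMacaulayLocalRing S' 𝔓
    rw [hI _ h1, hd, hr] at eqR
    rw [hht, hs] at eqS
    obtain ⟨n, hn⟩ := ENat.ne_top_iff_exists.mp
      (Ideal.height_ne_top_of_isPrime (I := 𝔓.comap (algebraMap R S')))
    obtain ⟨x, hx⟩ := exists_nat_ringKrullDim_eq (S' ⧸ 𝔓)
    rw [← hn] at eqR eqS
    rw [hx] at eqS ⊢
    have e1 : d + n = r := by exact_mod_cast eqR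
    have e2 : x + n = s := by exact_mod_cast eqS
    have e3 : x + r = s + d := by omega
    exact_mod_cast e3
  intro 𝔓 h𝔓
  obtain ⟨𝔮, h𝔮, hdim⟩ :=
    exists_minimalPrimes_ringKrullDim_quotient_eq (S' ⧸ I.map (algebraMap R S'))
  rw [ringKrullDim_quotient_quotient] at hdim
  rw [← hdim]
  have h𝔮' : 𝔮.comap (Ideal.Quotient.mk (I.map (algebraMap R S'))) ∈
      (I.map (algebraMap R S')).minimalPrimes := by
    rw [Ideal.minimalPrimes_eq_comap]
    exact ⟨𝔮, h𝔮, rfl⟩
  exact withBot_enat_add_right_cancel r ((key 𝔓 h𝔓).trans (key _ h𝔮').symm)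

end Claim

section LocIso

variable {S T : Type u} [CommRing S] [CommRing T] (g : S →+* T)

/-- The kernel of the localization of a surjection. -/
theorem ker_localRingHom_of_surjective (hg : Function.Surjective g) (Q' : Ideal T) [Q'.IsPrime] :
    RingHom.ker (Localization.localRingHom (Q'.comap g) Q' g rfl) =
      (RingHom.ker g).map (algebraMap S (Localization.AtPrime (Q'.comap g))) := by
  have hT : Submonoid.map g (Q'.comap g).primeCompl = Q'.primeCompl :=
    Submonoid.map_comap_eq_of_surjective hg Q'.primeCompl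
  exact IsLocalization.ker_map (S := Localization.AtPrime (Q'.comap g))
    (Localization.AtPrime Q') g hT

end LocIso

section P

/-- Abstract form of Matsumura 31.6: if `R` is CM local, `R/I` is equidimensional, `S` is a flat
CM `R`-algebra and `T = S/IS`, then every localization of `T` at a prime is formally
equidimensional. -/
theorem isFormallyEquidim_localization_of_cm_presentation
    (R : Type u) [CommRing R] [LocCoh.IsCohenMacaulayLocalRing R] (I : Ideal R)
    (hI : EGA4.IsEquidim (R ⧸ I))
    (S : Type u) [CommRing S] [Algebra R S] [Module.Flat R S] [LocCoh.IsCohenMacaulayRing S]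
    (T : Type u) [CommRing T] (g : S →+* T) (hg : Function.Surjective g)
    (hker : RingHom.ker g = I.map (algebraMap R S)) (Q' : Ideal T) [Q'.IsPrime] :
    EGA4.IsFormallyEquidim (Localization.AtPrime Q') := by
  have hCM : LocCoh.IsCohenMacaulayLocalRing (Localization.AtPrime (Q'.comap g)) :=
    LocCoh.IsCohenMacaulayRing.isCohenMacaulayLocalRing_localization (Q'.comap g)
  have hflat : Module.Flat R (Localization.AtPrime (Q'.comap g)) :=
    Module.Flat.trans R S (Localization.AtPrime (Q'.comap g))
  have h1 := isEquidim_quotient_map_of_isCohenMacaulayLocalRing R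
    (Localization.AtPrime (Q'.comap g)) I hI
  have hφ : Function.Surjective (Localization.localRingHom (Q'.comap g) Q' g rfl) :=
    RingHom.surjective_localRingHom_of_surjective g hg Q'
  have hkerφ : RingHom.ker (Localization.localRingHom (Q'.comap g) Q' g rfl) =
      I.map (algebraMap R (Localization.AtPrime (Q'.comap g))) := by
    rw [ker_localRingHom_of_surjective g hg Q', hker, Ideal.map_map,
      ← IsScalarTower.algebraMap_eq]
  let e : (Localization.AtPrime (Q'.comap g) ⧸
      I.map (algebraMap R (Localization.AtPrime (Q'.comap g)))) ≃+* Localization.AtPrime Q' :=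
    (Ideal.quotEquivOfEq hkerφ.symm).trans (RingHom.quotientKerEquivOfSurjective hφ)
  exact isFormallyEquidim_of_surjective_of_isEquidim (Localization.AtPrime (Q'.comap g)) _
    (Localization.localRingHom (Q'.comap g) Q' g rfl) hφ (isEquidim_of_ringEquiv e h1)

end P

end Groth.Agent.Lib.Helper29
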