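import Groth.Agent.Lib.Helper29.SkDescent
import Groth.Agent.Lib.Helper14.FlatDesc
import Mathlib.RingTheory.LocalRing.ResidueField.Fiber
import Mathlib.RingTheory.EssentialFiniteness
import Mathlib.RingTheory.RingHom.FaithfullyFlat

/-!
Helper lemmas (helper29): fibre rings `p.Fiber B = κ(p) ⊗ B`, transfer of `(S_k)` / Cohen–Macaulay
along ring isomorphisms and faithfully flat maps, and descent of these properties of fibres.
-/

set_option autoImplicit false
universe u

namespace Groth.Agent.Lib.Helper29

open IsLocalRing TensorProduct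

section Iso

variable {R S : Type u} [CommRing R] [CommRing S]

/-- A ring isomorphism is faithfully flat. -/
theorem faithfullyFlat_of_ringEquiv (e : R ≃+* S) :
    letI : Algebra R S := e.toRingHom.toAlgebra
    Module.FaithfullyFlat R S :=
  RingHom.FaithfullyFlat.of_bijective (f := e.toRingHom) e.bijective

/-- `(S_k)` transfers along a ring isomorphism. -/
theorem hasSk_of_ringEquiv (e : R ≃+* S) [IsNoetherianRing S] (k : ℕ)
    (h : LocCoh.HasSk k S S) : LocCoh.HasSk k R R := by
  let _ : Algebra R S := e.toRingHom.toAlgebra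
  have : Module.FaithfullyFlat R S := faithfullyFlat_of_ringEquiv e
  exact (hasSk_of_faithfullyFlat k h).2

end Iso

section CM

variable {R S : Type u} [CommRing R] [CommRing S] [Algebra R S] [Module.FaithfullyFlat R S]
  [IsNoetherianRing S]

/-- Cohen–Macaulayness descends along faithfully flat maps. -/
theorem isCohenMacaulayRing_of_faithfullyFlat (hS : LocCoh.IsCohenMacaulayRing S) :
    LocCoh.IsCohenMacaulayRing R := by
  have hN : IsNoetherianRing R := isNoetherianRing_of_faithfullyFlat (S := S)
  refine { isCohenMacaulayLocalRing_localization := fun p hp => ?_ }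
  obtain ⟨q, hq, hqp, hmin⟩ := exists_liesOver_mem_minimalPrimes_of_faithfullyFlat (S := S) p
  have h1 := depth_and_height_eq_of_flat_of_mem_minimalPrimes p q hmin
  have hNp : IsNoetherianRing (Localization.AtPrime p) :=
    IsLocalization.isNoetherianRing p.primeCompl _ inferInstance
  have h2 := (hS.isCohenMacaulayLocalRing_localization q).supportDim_eq_depth
  refine { supportDim_eq_depth := ?_ }
  rw [Module.supportDim_self_eq_ringKrullDim] at h2 ⊢
  rw [IsLocalization.AtPrime.ringKrullDim_eq_height q] at h2
  rw [IsLocalization.AtPrime.ringKrullDim_eq_height p, ← h1.1, ← h1.2]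
  exact h2

/-- Cohen–Macaulayness transfers along a ring isomorphism. -/
theorem isCohenMacaulayRing_of_ringEquiv {R S : Type u} [CommRing R] [CommRing S] (e : R ≃+* S)
    [IsNoetherianRing S] (h : LocCoh.IsCohenMacaulayRing S) : LocCoh.IsCohenMacaulayRing R := by
  let _ : Algebra R S := e.toRingHom.toAlgebra
  have : Module.FaithfullyFlat R S := faithfullyFlat_of_ringEquiv e
  exact isCohenMacaulayRing_of_faithfullyFlat h

end CM

section Fibre

variable (A B C : Type u) [CommRing A] [CommRing B] [CommRing C] [Algebra A B] [Algebra B C]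
  [Algebra A C] [IsScalarTower A B C] (p : Ideal A) [p.IsPrime]

/-- The fibre ring of a Noetherian algebra is Noetherian. -/
theorem isNoetherianRing_fiber [IsNoetherianRing B] : IsNoetherianRing (p.Fiber B) := by
  have h1 : IsNoetherianRing (B ⊗[A] p.ResidueField) :=
    Algebra.EssFiniteType.isNoetherianRing B _
  exact isNoetherianRing_of_ringEquiv _
    (Algebra.TensorProduct.comm A B p.ResidueField).toRingEquiv

/-- `(B ⊗_A κ(p)) ⊗_B C ≅ κ(p) ⊗_A C` as rings. -/
noncomputable def fiberTensorEquiv :
    ((B ⊗[A] p.ResidueField) ⊗[B] C) ≃+* p.Fiber C :=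
  ((Algebra.TensorProduct.comm B (B ⊗[A] p.ResidueField) C).toRingEquiv.trans
    (Algebra.TensorProduct.cancelBaseChange A B B C p.ResidueField).toRingEquiv).trans
    (Algebra.TensorProduct.comm A C p.ResidueField).toRingEquiv

/-- Descent of `(S_n)` for fibres along a faithfully flat map `B → C`. -/
theorem hasSk_fiber_of_faithfullyFlat [IsNoetherianRing C] [Module.FaithfullyFlat B C] (n : ℕ)
    (h : LocCoh.HasSk n (p.Fiber C) (p.Fiber C)) : LocCoh.HasSk n (p.Fiber B) (p.Fiber B) := by
  have hNC : IsNoetherianRing (p.Fiber C) := isNoetherianRing_fiber A C p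
  have hNT : IsNoetherianRing ((B ⊗[A] p.ResidueField) ⊗[B] C) :=
    isNoetherianRing_of_ringEquiv _ (fiberTensorEquiv A B C p).symm
  have h1 : LocCoh.HasSk n ((B ⊗[A] p.ResidueField) ⊗[B] C) ((B ⊗[A] p.ResidueField) ⊗[B] C) :=
    hasSk_of_ringEquiv (fiberTensorEquiv A B C p) n h
  have h2 := hasSk_of_faithfullyFlat (R := B ⊗[A] p.ResidueField)
    (S := (B ⊗[A] p.ResidueField) ⊗[B] C) n h1
  have := h2.1
  exact hasSk_of_ringEquiv (Algebra.TensorProduct.comm A p.ResidueField B).toRingEquiv n h2.2

/-- Descent of Cohen–Macaulayness for fibres along a faithfully flat map `B → C`. -/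
theorem isCohenMacaulayRing_fiber_of_faithfullyFlat [IsNoetherianRing C]
    [Module.FaithfullyFlat B C]
    (h : LocCoh.IsCohenMacaulayRing (p.Fiber C)) : LocCoh.IsCohenMacaulayRing (p.Fiber B) := by
  have hNC : IsNoetherianRing (p.Fiber C) := isNoetherianRing_fiber A C p
  have hNT : IsNoetherianRing ((B ⊗[A] p.ResidueField) ⊗[B] C) :=
    isNoetherianRing_of_ringEquiv _ (fiberTensorEquiv A B C p).symm
  have h1 : LocCoh.IsCohenMacaulayRing ((B ⊗[A] p.ResidueField) ⊗[B] C) :=
    isCohenMacaulayRing_of_ringEquiv (fiberTensorEquiv A B C p) h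
  have h2 := isCohenMacaulayRing_of_faithfullyFlat (R := B ⊗[A] p.ResidueField)
    (S := (B ⊗[A] p.ResidueField) ⊗[B] C) h1
  have : IsNoetherianRing (B ⊗[A] p.ResidueField) := h2.toIsNoetherian
  exact isCohenMacaulayRing_of_ringEquiv
    (Algebra.TensorProduct.comm A p.ResidueField B).toRingEquiv h2

end Fibre

end Groth.Agent.Lib.Helper29
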