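import Groth.Agent.Lib.Helper29.DepthLoc
import Groth.Agent.Lib.Helper29.DepthFinite
import Mathlib.RingTheory.Localization.BaseChange
import Mathlib.RingTheory.Flat.Localization

/-!
Helper lemmas (helper29): depth of localizations; `depth_I M = inf_{p ⊇ I} depth M_p`;
`depth M ≤ depth M_p + dim A/p`.
-/

set_option autoImplicit false
universe u v

namespace Groth.Agent.Lib.Helper29

open IsLocalRing RingTheory.Sequence TensorProduct
open scoped Pointwise

section

variable (A : Type u) [CommRing A]

/-- `(M/xM)_p ≃ M_p / (x/1) M_p`. -/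
noncomputable def localizedModuleQuotSMulTopEquiv (p : Ideal A) [p.IsPrime] (M : Type v)
    [AddCommGroup M] [Module A M] (x : A) :
    LocalizedModule p.primeCompl (QuotSMulTop x M) ≃ₗ[Localization.AtPrime p]
      QuotSMulTop (algebraMap A (Localization.AtPrime p) x) (LocalizedModule p.primeCompl M) :=
  (LocalizedModule.isBaseChange p.primeCompl (QuotSMulTop x M)).equiv.symm ≪≫ₗ
    ((QuotSMulTop.algebraMapTensorEquivTensorQuotSMulTop x M (Localization.AtPrime p)).symm ≪≫ₗ
      QuotSMulTop.congr ((algebraMap A (Localization.AtPrime p)) x)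
        (LocalizedModule.isBaseChange p.primeCompl M).equiv)

variable [IsNoetherianRing A]

/-- Depth of the localization drops by one modulo a regular element of `p`. -/
theorem depth_localizedModule_quotSMulTop_add_one (p : Ideal A) [p.IsPrime] (M : Type u)
    [AddCommGroup M] [Module A M] [Module.Finite A M] {x : A} (hx : x ∈ p)
    (hreg : IsSMulRegular M x) :
    LocCoh.depth (Localization.AtPrime p) (LocalizedModule p.primeCompl (QuotSMulTop x M)) + 1 =
      LocCoh.depth (Localization.AtPrime p) (LocalizedModule p.primeCompl M) := by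
  have hy : algebraMap A (Localization.AtPrime p) x ∈ maximalIdeal (Localization.AtPrime p) := by
    rw [IsLocalization.AtPrime.to_map_mem_maximal_iff (Localization.AtPrime p) p]
    exact hx
  have : Module.Flat A (Localization.AtPrime p) := IsLocalization.flat _ p.primeCompl
  have hyreg : IsSMulRegular (LocalizedModule p.primeCompl M)
      (algebraMap A (Localization.AtPrime p) x) :=
    hreg.of_flat_of_isBaseChange (LocalizedModule.isBaseChange p.primeCompl M)
  rw [← depth_quotSMulTop_add_one (Localization.AtPrime p) (LocalizedModule p.primeCompl M)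
    hy hyreg]
  congr 1
  exact idealDepth_congr _ (localizedModuleQuotSMulTopEquiv A p M x)

/-- If `q ∈ Ass M` then `depth M_q = 0`. -/
theorem depth_localizedModule_eq_zero_of_mem_associatedPrimes (M : Type v)
    [AddCommGroup M] [Module A M] [Module.Finite A M] (q : Ideal A)
    (hq : q ∈ associatedPrimes A M) :
    haveI : q.IsPrime := IsAssociatedPrime.isPrime hq
    LocCoh.depth (Localization.AtPrime q) (LocalizedModule q.primeCompl M) = 0 := by
  have : q.IsPrime := IsAssociatedPrime.isPrime hq
  obtain ⟨-, m0, hm0⟩ := isAssociatedPrime_iff.mp hq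
  have hm0' : ∀ a : A, a ∈ q ↔ a • m0 = 0 := by
    intro a
    rw [hm0, Submodule.mem_colon_singleton, Submodule.mem_bot]
  have hne : LocalizedModule.mk m0 (1 : q.primeCompl) ≠ 0 := by
    intro h
    rw [← LocalizedModule.zero_mk (1 : q.primeCompl), LocalizedModule.mk_eq] at h
    obtain ⟨u, hu⟩ := h
    simp only [one_smul, smul_zero] at hu
    exact u.2 ((hm0' _).mpr hu)
  have hnt : Nontrivial (LocalizedModule q.primeCompl M) := ⟨_, _, hne⟩
  apply depth_eq_zero_of_forall_not_isSMulRegular
  intro b hb hreg
  apply hne
  apply hreg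
  change b • LocalizedModule.mk m0 (1 : q.primeCompl) = b • 0
  rw [smul_zero]
  obtain ⟨a, s, rfl⟩ := IsLocalization.exists_mk'_eq q.primeCompl b
  have ha : a ∈ q := by
    by_contra hcon
    have hunit : IsUnit (IsLocalization.mk' (Localization.AtPrime q) a s) := by
      rw [IsLocalization.AtPrime.isUnit_mk'_iff (Localization.AtPrime q) q]
      exact hcon
    exact hb hunit
  rw [← Localization.mk_eq_mk', LocalizedModule.mk_smul_mk, (hm0' a).mp ha,
    LocalizedModule.zero_mk]

/-- If no element of `I` is `M`-regular (`M ≠ 0` finite), then `I` lies in an associated prime. -/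
theorem exists_le_mem_associatedPrimes_of_forall_not_isSMulRegular (M : Type v)
    [AddCommGroup M] [Module A M] [Module.Finite A M] [Nontrivial M] (I : Ideal A)
    (h : ∀ x ∈ I, ¬ IsSMulRegular M x) : ∃ q ∈ associatedPrimes A M, I ≤ q := by
  obtain ⟨Ia, hIa⟩ := associatedPrimes.nonempty A M
  apply (Ideal.subset_union_prime_finite (associatedPrimes.finite A M) Ia Ia _).mp
  · rw [biUnion_associatedPrimes_eq_compl_regular A M]
    exact fun r hr => h r hr
  · exact fun I hin _ _ => IsAssociatedPrime.isPrime hin

theorem le_idealDepth_of_forall_le_depth_localization (n : ℕ) :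
    ∀ (M : Type u) [AddCommGroup M] [Module A M] [Module.Finite A M] (I : Ideal A),
      (∀ (p : Ideal A) [p.IsPrime], I ≤ p →
        (n : ℕ∞) ≤ LocCoh.depth (Localization.AtPrime p) (LocalizedModule p.primeCompl M)) →
      (n : ℕ∞) ≤ LocCoh.idealDepth I M := by
  induction n with
  | zero => intro M _ _ _ I _; simp
  | succ n ih =>
    intro M _ _ _ I h
    by_cases hIM : I • (⊤ : Submodule A M) = ⊤
    · rw [idealDepth_of_smul_top_eq I M hIM]; exact le_top
    have hnt : Nontrivial M := by
      by_contra hcon
      rw [not_nontrivial_iff_subsingleton] at hcon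
      exact hIM (Subsingleton.elim _ _)
    have hex : ∃ x ∈ I, IsSMulRegular M x := by
      by_contra hcon
      push Not at hcon
      obtain ⟨q, hq, hIq⟩ := exists_le_mem_associatedPrimes_of_forall_not_isSMulRegular A M I hcon
      have hqp : q.IsPrime := IsAssociatedPrime.isPrime hq
      have h1 := h q hIq
      rw [depth_localizedModule_eq_zero_of_mem_associatedPrimes A M q hq] at h1
      simp at h1
    obtain ⟨x, hxI, hxreg⟩ := hex
    have h1 : (n : ℕ∞) ≤ LocCoh.idealDepth I (QuotSMulTop x M) := by
      apply ih
      intro p _ hIp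
      have h2 := depth_localizedModule_quotSMulTop_add_one A p M (hIp hxI) hxreg
      have h3 := h p hIp
      rw [← h2] at h3
      push_cast at h3
      exact (ENat.add_le_add_iff_right (by simp)).mp h3
    calc ((n + 1 : ℕ) : ℕ∞) = (n : ℕ∞) + 1 := by push_cast; rfl
      _ ≤ LocCoh.idealDepth I (QuotSMulTop x M) + 1 := by gcongr
      _ ≤ LocCoh.idealDepth I M := idealDepth_quotSMulTop_add_one_le I M hxI hxreg

/-- `depth_I M = inf_{p ⊇ I} depth M_p`. -/
theorem idealDepth_eq_iInf_depth_localization (I : Ideal A) (M : Type u) [AddCommGroup M]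
    [Module A M] [Module.Finite A M] :
    LocCoh.idealDepth I M = ⨅ (p : PrimeSpectrum A) (_ : I ≤ p.asIdeal),
      LocCoh.depth (Localization.AtPrime p.asIdeal) (LocalizedModule p.asIdeal.primeCompl M) := by
  apply le_antisymm
  · refine le_iInf₂ fun p hp => ?_
    exact (idealDepth_mono hp M).trans (idealDepth_le_depth_localization A p.asIdeal M)
  · refine ENat.forall_natCast_le_iff_le.mp fun n hn => ?_
    apply le_idealDepth_of_forall_le_depth_localization A n M I
    intro p _ hIp
    exact hn.trans (iInf₂_le (⟨p, inferInstance⟩ : PrimeSpectrum A) hIp)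

end

end Groth.Agent.Lib.Helper29
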