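import Groth.Agent.Lib.Helper29.DepthLoc3

/-!
# `I`-depth along a finite ring map

For a finite algebra `A → B` over a Noetherian ring, an ideal `a` of `A` and a finite `B`-module
`M`: `depth_a M` (over `A`) equals `depth_{aB} M` (over `B`).
-/

set_option autoImplicit false

namespace Groth.Agent.Lib.Helper29

open RingTheory.Sequence
open scoped Pointwise

universe u v

section

variable {A : Type u} {B : Type v} [CommRing A] [CommRing B] [Algebra A B]

/-- If `a` kills `m` then so does `aB`. -/
theorem map_smul_eq_zero_of_forall_smul_eq_zero (a : Ideal A) {M : Type*} [AddCommGroup M]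
    [Module B M] [Module A M] [IsScalarTower A B M] (m : M) (h : ∀ x ∈ a, x • m = 0)
    (b : B) (hb : b ∈ a.map (algebraMap A B)) : b • m = 0 := by
  unfold Ideal.map at hb
  induction hb using Submodule.span_induction with
  | mem b hb =>
    obtain ⟨x, hx, rfl⟩ := hb
    rw [algebraMap_smul]
    exact h x hx
  | zero => simp
  | add b c _ _ hb hc => rw [add_smul, hb, hc, add_zero]
  | smul c b _ hb => rw [smul_eq_mul, mul_smul, hb, smul_zero]

/-- `(aB)M = aM` as sets. -/
theorem map_smul_top_restrictScalars (a : Ideal A) (M : Type*) [AddCommGroup M]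
    [Module B M] [Module A M] [IsScalarTower A B M] :
    ((a.map (algebraMap A B)) • (⊤ : Submodule B M)).restrictScalars A =
      a • (⊤ : Submodule A M) := by
  apply le_antisymm
  · intro m hm
    rw [Submodule.restrictScalars_mem] at hm
    refine Submodule.smul_induction_on hm ?_ ?_
    · intro b hb m _
      -- `b • m ∈ a • ⊤` for all `m`, by span induction on `b`
      have key : ∀ m : M, b • m ∈ a • (⊤ : Submodule A M) := by
        unfold Ideal.map at hb
        induction hb using Submodule.span_induction with
        | mem b hb =>
          obtain ⟨x, hx, rfl⟩ := hb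
          intro m
          rw [algebraMap_smul]
          exact Submodule.smul_mem_smul hx Submodule.mem_top
        | zero => intro m; simp
        | add b c _ _ hb hc => intro m; rw [add_smul]; exact Submodule.add_mem _ (hb m) (hc m)
        | smul c b _ hb => intro m; rw [smul_eq_mul, mul_comm, mul_smul]; exact hb _
      exact key m
    · intro x y hx hy
      exact Submodule.add_mem _ hx hy
  · rw [Submodule.smul_le]
    intro r hr m _
    rw [Submodule.restrictScalars_mem, ← algebraMap_smul (R := A) B r m]
    exact Submodule.smul_mem_smul (Ideal.mem_map_of_mem _ hr) Submodule.mem_top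

theorem map_smul_top_eq_top_iff (a : Ideal A) (M : Type*) [AddCommGroup M]
    [Module B M] [Module A M] [IsScalarTower A B M] :
    (a.map (algebraMap A B)) • (⊤ : Submodule B M) = ⊤ ↔ a • (⊤ : Submodule A M) = ⊤ := by
  rw [← map_smul_top_restrictScalars (B := B) a M]
  constructor
  · intro h; rw [h]; rfl
  · intro h
    rw [eq_top_iff]
    intro m _
    have : m ∈ ((a.map (algebraMap A B)) • (⊤ : Submodule B M)).restrictScalars A := by
      rw [h]; trivial
    exact this

end

section Main

variable {A B : Type u} [CommRing A] [CommRing B] [Algebra A B] [IsNoetherianRing A]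
  [Module.Finite A B]

theorem idealDepth_map_eq_aux (a : Ideal A) (n : ℕ) :
    ∀ (M : Type u) [AddCommGroup M] [Module B M] [Module A M] [IsScalarTower A B M]
      [Module.Finite B M], LocCoh.idealDepth a M = n →
      LocCoh.idealDepth (a.map (algebraMap A B)) M = n := by
  have hBN : IsNoetherianRing B := IsNoetherianRing.of_finite A B
  induction n with
  | zero =>
    intro M _ _ _ _ _ h
    have hfin : Module.Finite A M := Module.Finite.trans B M
    have hIM : a • (⊤ : Submodule A M) ≠ ⊤ := by
      intro htop
      rw [idealDepth_of_smul_top_eq a M htop] at h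
      exact ENat.top_ne_natCast 0 h
    have hnt : Nontrivial M := by
      by_contra hcon
      rw [not_nontrivial_iff_subsingleton] at hcon
      exact hIM (Subsingleton.elim _ _)
    have hno : ∀ x ∈ a, ¬ IsSMulRegular M x := by
      intro x hx hreg
      have h1 := length_le_idealDepth a M [x] ((isWeaklyRegular_singleton_iff M x).mpr hreg)
        (by simpa using hx)
      rw [h] at h1
      simp at h1
    obtain ⟨q, hq, haq⟩ := exists_le_mem_associatedPrimes_of_forall_not_isSMulRegular A M a hno
    obtain ⟨hqp, m, hm⟩ := isAssociatedPrime_iff.mp hq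
    have hm0 : m ≠ 0 := by
      rintro rfl
      apply hqp.ne_top
      rw [hm]
      ext y
      simp [Submodule.mem_colon_singleton]
    have hkill : ∀ x ∈ a, x • m = 0 := by
      intro x hx
      have := haq hx
      rw [hm, Submodule.mem_colon_singleton] at this
      simpa using this
    have hkill' := map_smul_eq_zero_of_forall_smul_eq_zero (B := B) a m hkill
    have hIM' : (a.map (algebraMap A B)) • (⊤ : Submodule B M) ≠ ⊤ := fun h' =>
      hIM ((map_smul_top_eq_top_iff a M).mp h')
    have := idealDepth_eq_zero_of_forall_not_isSMulRegular B (a.map (algebraMap A B)) M hIM'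
      (fun b hb hreg => hm0 (hreg (by simp only [hkill' b hb, smul_zero])))
    rw [this]; rfl
  | succ n ih =>
    intro M _ _ _ _ _ h
    have hfin : Module.Finite A M := Module.Finite.trans B M
    have hIM : a • (⊤ : Submodule A M) ≠ ⊤ := by
      intro htop
      rw [idealDepth_of_smul_top_eq a M htop] at h
      exact ENat.top_ne_natCast _ h
    have h1 : ((1 : ℕ) : ℕ∞) ≤ LocCoh.idealDepth a M := by
      rw [h]; exact_mod_cast Nat.le_add_left 1 n
    obtain ⟨rs, hlen, hmem, hreg⟩ := ((le_idealDepth_iff a M 1).mp h1).resolve_left hIM
    match rs, hlen, hmem, hreg with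
    | [x], _, hmem, hreg =>
      have hx : x ∈ a := hmem x (by simp)
      have hxreg : IsSMulRegular M x := (isWeaklyRegular_singleton_iff M x).mp hreg
      have h2 := idealDepth_quotSMulTop_add_one a M hx hxreg
      rw [h] at h2
      have h3 : LocCoh.idealDepth a (QuotSMulTop x M) = n := by
        have h4 : LocCoh.idealDepth a (QuotSMulTop x M) + 1 = (n : ℕ∞) + 1 := by
          rw [h2]; push_cast; rfl
        exact (ENat.add_left_injective_of_ne_top ENat.one_ne_top) h4
      have h5 : LocCoh.idealDepth a (QuotSMulTop (algebraMap A B x) M) = n := by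
        rw [← idealDepth_congr a (quotSMulTopAlgebraMapEquiv A B M x)]
        exact h3
      have h6 := ih (QuotSMulTop (algebraMap A B x) M) h5
      have hxreg' : IsSMulRegular M (algebraMap A B x) := by
        intro m₁ m₂ hm
        simp only [algebraMap_smul] at hm
        exact hxreg hm
      have h7 := idealDepth_quotSMulTop_add_one (a.map (algebraMap A B)) M
        (Ideal.mem_map_of_mem _ hx) hxreg'
      rw [← h7, h6]
      push_cast
      rfl

/-- `depth_a M = depth_{aB} M` for a finite `B`-module `M`, `B` finite over the Noetherian
ring `A`. -/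
theorem idealDepth_map_eq (a : Ideal A) (M : Type u) [AddCommGroup M] [Module B M] [Module A M]
    [IsScalarTower A B M] [Module.Finite B M] :
    LocCoh.idealDepth a M = LocCoh.idealDepth (a.map (algebraMap A B)) M := by
  by_cases hIM : a • (⊤ : Submodule A M) = ⊤
  · rw [idealDepth_of_smul_top_eq a M hIM,
      idealDepth_of_smul_top_eq _ M ((map_smul_top_eq_top_iff a M).mpr hIM)]
  · have hfin : Module.Finite A M := Module.Finite.trans B M
    obtain ⟨n, hn⟩ := ENat.ne_top_iff_exists.mp (idealDepth_ne_top A a M hIM)
    rw [← hn, idealDepth_map_eq_aux a n M hn.symm]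

end Main

end Groth.Agent.Lib.Helper29
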