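import Groth.Agent.Lib.Helper29.HartshorneCodim
import Groth.Agent.H46.CatenaryDim

/-!
# Catenary local rings with `depth A_p ≥ 2` in codimension `≥ 2` are equidimensional
-/

universe u

namespace Groth.Agent.Lib.Helper29

open IsLocalRing

/-- The spectrum of a local ring is connected. -/
theorem connectedSpace_primeSpectrum_of_isLocalRing (A : Type u) [CommRing A] [IsLocalRing A] :
    ConnectedSpace (PrimeSpectrum A) := by
  have hpre : PreconnectedSpace (PrimeSpectrum A) := by
    rw [preconnectedSpace_iff_clopen]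
    intro s hs
    by_cases h0 : closedPoint A ∈ s
    · right
      rw [Set.eq_univ_iff_forall]
      intro y
      by_contra hy
      have : closedPoint A ∈ sᶜ :=
        (IsLocalRing.specializes_closedPoint y).mem_closed hs.2.isClosed_compl hy
      exact this h0
    · left
      rw [Set.eq_empty_iff_forall_notMem]
      intro y hy
      exact h0 ((IsLocalRing.specializes_closedPoint y).mem_closed hs.1 hy)
  exact { toPreconnectedSpace := hpre, toNonempty := ⟨closedPoint A⟩ }

section

variable (A : Type u) [CommRing A] [IsLocalRing A] [IsNoetherianRing A]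

/-- Some minimal prime computes the dimension. -/
theorem exists_minimalPrimes_ringKrullDim_quotient_eq :
    ∃ p ∈ minimalPrimes A, ringKrullDim (A ⧸ p) = ringKrullDim A := by
  have hfin : FiniteDimensionalOrder (PrimeSpectrum A) := (inferInstance : FiniteRingKrullDim A)
  have hlen : ringKrullDim A = ((LTSeries.longestOf (PrimeSpectrum A)).length : ℕ∞) := by
    have := Order.krullDim_eq_length_of_finiteDimensionalOrder (α := PrimeSpectrum A)
    rw [ringKrullDim, this]
    rfl
  obtain ⟨p, hp, hple⟩ := Ideal.exists_minimalPrimes_le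
    (bot_le : (⊥ : Ideal A) ≤ (LTSeries.longestOf (PrimeSpectrum A)).head.asIdeal)
  have hpprime : p.IsPrime := hp.1.1
  refine ⟨p, hp, le_antisymm (ringKrullDim_quotient_le p) ?_⟩
  have h0 := Groth.Agent.H46.ringKrullDim_quotient_eq_coheight (⟨p, hpprime⟩ : PrimeSpectrum A)
  simp only at h0
  rw [h0, hlen]
  have h1 : ((LTSeries.longestOf (PrimeSpectrum A)).length : ℕ∞) ≤
      Order.coheight (LTSeries.longestOf (PrimeSpectrum A)).head := Order.length_le_coheight_head
  have h2 : Order.coheight (LTSeries.longestOf (PrimeSpectrum A)).head ≤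
      Order.coheight (⟨p, hpprime⟩ : PrimeSpectrum A) := Order.coheight_anti hple
  exact_mod_cast h1.trans h2

/-- Two minimal primes contained in a common prime of height `≤ 1` of a catenary Noetherian
local ring have quotients of the same dimension. -/
theorem ringKrullDim_quotient_eq_of_codimLink (hc : CAlg.IsCatenary A) {p q : Ideal A}
    (hp : p ∈ minimalPrimes A) (hpq : codimLink 2 p q) :
    ringKrullDim (A ⧸ p) = ringKrullDim (A ⧸ q) := by
  have hcat := (Groth.Agent.H46.isCatenary_iff_dimFun A).mp hc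
  obtain ⟨hq, Q, hQ, hpQ, hqQ, hht⟩ := hpq
  have hht1 : Q.height ≤ 1 := by
    have h2 : ((2 : ℕ) : ℕ∞) = 1 + 1 := by norm_num
    rw [h2] at hht
    exact (ENat.add_le_add_iff_right ENat.one_ne_top).mp hht
  have key : ∀ c : Ideal A, c ∈ minimalPrimes A → c ≤ Q → c ≠ Q →
      ringKrullDim (A ⧸ c) = ringKrullDim (A ⧸ Q) + 1 := by
    intro c hcmin hcQ hne
    have hcprime : c.IsPrime := hcmin.1.1
    have hlt : (⟨c, hcprime⟩ : PrimeSpectrum A) < ⟨Q, hQ⟩ := lt_of_le_of_ne hcQ (by
      intro h
      exact hne (congrArg PrimeSpectrum.asIdeal h))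
    have hcov : (⟨c, hcprime⟩ : PrimeSpectrum A) ⋖ ⟨Q, hQ⟩ := by
      refine ⟨hlt, fun r hcr hrQ => ?_⟩
      have h1 : (⟨c, hcprime⟩ : PrimeSpectrum A).asIdeal.height + 1 ≤ r.asIdeal.height := by
        rw [PrimeSpectrum.height_eq_orderHeight, PrimeSpectrum.height_eq_orderHeight]
        exact Order.height_add_one_le hcr
      have h2 : r.asIdeal.height + 1 ≤ Q.height := by
        have := Order.height_add_one_le hrQ
        rwa [← PrimeSpectrum.height_eq_orderHeight, ← PrimeSpectrum.height_eq_orderHeight] at this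
      have h3 : (1 : ℕ∞) + 1 ≤ 1 := by
        calc (1 : ℕ∞) + 1 ≤ r.asIdeal.height + 1 := by
              gcongr
              exact le_trans (by simp) h1
          _ ≤ Q.height := h2
          _ ≤ 1 := hht1
      exact absurd h3 (by norm_num)
    exact (hcat _ _ hlt).2 hcov
  by_cases h1 : p = Q
  · -- then `q ≤ p`, so `q = p`
    have : q ≤ p := h1 ▸ hqQ
    have hqp : q = p := le_antisymm this (hp.2 ⟨hq.1.1, bot_le⟩ this)
    rw [hqp]
  by_cases h2 : q = Q
  · have : p ≤ q := h2 ▸ hpQ
    have hpq : p = q := le_antisymm this (hq.2 ⟨hp.1.1, bot_le⟩ this)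
    rw [hpq]
  rw [key p hp hpQ h1, key q hq hqQ h2]

/-- **Equidimensionality** of catenary Noetherian local rings with `depth A_p ≥ 2` for all
primes of height `≥ 2`. -/
theorem ringKrullDim_quotient_eq_of_isCatenary_of_depth (hc : CAlg.IsCatenary A)
    (h : ∀ (p : Ideal A) [p.IsPrime], ((2 : ℕ) : ℕ∞) ≤ p.height →
      (2 : ℕ∞) ≤ LocCoh.depth (Localization.AtPrime p) (Localization.AtPrime p))
    (p : Ideal A) (hp : p ∈ minimalPrimes A) : ringKrullDim (A ⧸ p) = ringKrullDim A := by
  obtain ⟨p0, hp0, hdim0⟩ := exists_minimalPrimes_ringKrullDim_quotient_eq A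
  have := connectedSpace_primeSpectrum_of_isLocalRing A
  have hrt := reflTransGen_codimLink 2 h p p0 hp hp0
  rw [← hdim0]
  have : ∀ b : Ideal A, Relation.ReflTransGen (codimLink 2) p b →
      b ∈ minimalPrimes A ∧ ringKrullDim (A ⧸ p) = ringKrullDim (A ⧸ b) := by
    intro b hb
    induction hb with
    | refl => exact ⟨hp, rfl⟩
    | tail hab hbc ih =>
      exact ⟨hbc.1, ih.2.trans (ringKrullDim_quotient_eq_of_codimLink A hc ih.1 hbc)⟩
  exact (this p0 hrt).2

end

end Groth.Agent.Lib.Helper29
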