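import Groth.Agent.Lib.Helper29.DepthFlat
import Mathlib.RingTheory.Ideal.KrullsHeightTheorem
import Mathlib.RingTheory.Ideal.GoingDown
import Mathlib.RingTheory.LocalRing.ResidueField.Basic

/-!
Helper lemmas (helper29): dimension and Cohen–Macaulayness along a flat local homomorphism.
-/

set_option autoImplicit false
universe u v

namespace Groth.Agent.Lib.Helper29

open IsLocalRing RingTheory.Sequence TensorProduct
open scoped Pointwise

section

variable (A B : Type u) [CommRing A] [CommRing B] [IsLocalRing A] [IsLocalRing B]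
  [IsNoetherianRing A] [IsNoetherianRing B] [Algebra A B] [Module.Flat A B]
  [IsLocalHom (algebraMap A B)]

/-- Dimension formula for a flat local homomorphism: `dim B = dim A + dim B/m_A B`. -/
theorem ringKrullDim_eq_add_of_flat :
    ringKrullDim B = ringKrullDim A +
      ringKrullDim (B ⧸ (maximalIdeal A).map (algebraMap A B)) := by
  have h1 := Ideal.height_eq_height_add_of_liesOver_of_hasGoingDown (maximalIdeal A)
    (maximalIdeal B)
  have hne : (maximalIdeal A).map (algebraMap A B) ≠ ⊤ :=
    ((map_maximalIdeal_le (algebraMap A B)).trans_lt (maximalIdeal.isMaximal B).lt_top).ne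
  have : Nontrivial (B ⧸ (maximalIdeal A).map (algebraMap A B)) :=
    Ideal.Quotient.nontrivial_iff.mpr hne
  have hloc : IsLocalRing (B ⧸ (maximalIdeal A).map (algebraMap A B)) :=
    IsLocalRing.of_surjective' _ Ideal.Quotient.mk_surjective
  have h2 : (maximalIdeal B).map (Ideal.Quotient.mk ((maximalIdeal A).map (algebraMap A B))) =
      maximalIdeal (B ⧸ (maximalIdeal A).map (algebraMap A B)) := by
    have hmax : ((maximalIdeal B).map
        (Ideal.Quotient.mk ((maximalIdeal A).map (algebraMap A B)))).IsMaximal := by
      apply Ideal.IsMaximal.map_of_surjective_of_ker_le Ideal.Quotient.mk_surjective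
      rw [Ideal.mk_ker]
      exact map_maximalIdeal_le (algebraMap A B)
    exact (IsLocalRing.eq_maximalIdeal hmax)
  rw [h2] at h1
  rw [← IsLocalRing.maximalIdeal_height_eq_ringKrullDim,
    ← IsLocalRing.maximalIdeal_height_eq_ringKrullDim,
    ← IsLocalRing.maximalIdeal_height_eq_ringKrullDim, h1]
  rfl

/-- For a flat local homomorphism with `m_A B = m_B`, `dim B = dim A`. -/
theorem ringKrullDim_eq_of_flat_of_map_maximalIdeal_eq
    (hmax : maximalIdeal B = (maximalIdeal A).map (algebraMap A B)) :
    ringKrullDim B = ringKrullDim A := by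
  rw [ringKrullDim_eq_add_of_flat A B, ← hmax]
  have hf : IsField (B ⧸ maximalIdeal B) :=
    (Ideal.Quotient.maximal_ideal_iff_isField_quotient _).mp (maximalIdeal.isMaximal B)
  rw [ringKrullDim_eq_zero_of_isField hf, add_zero]

/-- For a flat local homomorphism with `m_A B = m_B`, `depth B = depth A`. -/
theorem depth_self_eq_of_flat_of_map_maximalIdeal_eq
    (hmax : maximalIdeal B = (maximalIdeal A).map (algebraMap A B)) :
    LocCoh.depth B B = LocCoh.depth A A := by
  rw [← depth_baseChange_eq A B hmax A]
  exact (idealDepth_congr _ (TensorProduct.AlgebraTensorModule.rid A B B)).symm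

/-- For a flat local homomorphism with `m_A B = m_B`, `A` is CM iff `B` is. -/
theorem isCohenMacaulayLocalRing_iff_of_flat_of_map_maximalIdeal_eq
    (hmax : maximalIdeal B = (maximalIdeal A).map (algebraMap A B)) :
    LocCoh.IsCohenMacaulayLocalRing A ↔ LocCoh.IsCohenMacaulayLocalRing B := by
  have h1 := ringKrullDim_eq_of_flat_of_map_maximalIdeal_eq A B hmax
  have h2 := depth_self_eq_of_flat_of_map_maximalIdeal_eq A B hmax
  constructor
  · intro h
    refine { supportDim_eq_depth := ?_ }
    rw [Module.supportDim_self_eq_ringKrullDim, h1, h2,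
      ← Module.supportDim_self_eq_ringKrullDim]
    exact h.supportDim_eq_depth
  · intro h
    refine { supportDim_eq_depth := ?_ }
    rw [Module.supportDim_self_eq_ringKrullDim, ← h1, ← h2,
      ← Module.supportDim_self_eq_ringKrullDim]
    exact h.supportDim_eq_depth

omit [IsNoetherianRing A] [IsNoetherianRing B] in
/-- Along a flat local homomorphism the depth of the ring can only go up. -/
theorem depth_self_le_of_flat : LocCoh.depth A A ≤ LocCoh.depth B B := by
  refine ENat.forall_natCast_le_iff_le.mp fun n hn => ?_
  obtain ⟨rs, hlen, hmem, hreg⟩ := (le_depth_iff A A n).mp hn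
  have h1 : IsWeaklyRegular B (rs.map (algebraMap A B)) := hreg.toIsWeaklyRegular.of_flat
  have h2 := length_le_idealDepth (maximalIdeal B) B _ h1 (by
    intro r hr
    obtain ⟨a, ha, rfl⟩ := List.mem_map.mp hr
    exact map_nonunit (algebraMap A B) a (hmem a ha))
  rw [List.length_map, hlen] at h2
  exact h2

omit [IsNoetherianRing A] [IsNoetherianRing B] [Module.Flat A B] in
/-- The closed fibre of a finite local homomorphism has dimension zero. -/
theorem ringKrullDim_fibre_eq_zero_of_finite [Module.Finite A B] :
    ringKrullDim (B ⧸ (maximalIdeal A).map (algebraMap A B)) = 0 := by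
  have hne : (maximalIdeal A).map (algebraMap A B) ≠ ⊤ :=
    ((map_maximalIdeal_le (algebraMap A B)).trans_lt (maximalIdeal.isMaximal B).lt_top).ne
  have : Nontrivial (B ⧸ (maximalIdeal A).map (algebraMap A B)) :=
    Ideal.Quotient.nontrivial_iff.mpr hne
  let _ : Field (A ⧸ maximalIdeal A) := Ideal.Quotient.field _
  have h1 : Module.Finite A (B ⧸ (maximalIdeal A).map (algebraMap A B)) :=
    Module.Finite.of_surjective
      (Ideal.Quotient.mkₐ A ((maximalIdeal A).map (algebraMap A B))).toLinearMap
      (Ideal.Quotient.mkₐ_surjective A _)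
  have h2 : Module.Finite (A ⧸ maximalIdeal A) (B ⧸ (maximalIdeal A).map (algebraMap A B)) :=
    Module.Finite.of_restrictScalars_finite A _ _
  have h3 : IsArtinianRing (B ⧸ (maximalIdeal A).map (algebraMap A B)) :=
    IsArtinianRing.of_finite (A ⧸ maximalIdeal A) _
  exact (ringKrullDimZero_iff_ringKrullDim_eq_zero).mp inferInstance

/-- A flat local extension of a CM local ring with zero-dimensional closed fibre is CM of the same
dimension. -/
theorem isCohenMacaulayLocalRing_of_flat_of_fibre_dim_zero
    (hA : LocCoh.IsCohenMacaulayLocalRing A)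
    (hF : ringKrullDim (B ⧸ (maximalIdeal A).map (algebraMap A B)) = 0) :
    LocCoh.IsCohenMacaulayLocalRing B ∧ ringKrullDim A = ringKrullDim B := by
  have h1 := ringKrullDim_eq_add_of_flat A B
  rw [hF, add_zero] at h1
  refine ⟨{ supportDim_eq_depth := ?_ }, h1.symm⟩
  apply le_antisymm
  · have h2 := hA.supportDim_eq_depth
    rw [Module.supportDim_self_eq_ringKrullDim] at h2 ⊢
    rw [h1, h2]
    exact WithBot.coe_le_coe.mpr (depth_self_le_of_flat A B)
  · exact depth_le_supportDim B B

end

end Groth.Agent.Lib.Helper29
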