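import Mathlib.RingTheory.Ideal.GoingDown
import Mathlib.RingTheory.Ideal.MinimalPrime.Localization

/-!
Helper lemmas (helper29): minimal primes under a ring map with going down (e.g. a flat map).
-/

set_option autoImplicit false
universe u v

namespace Groth.Agent.Lib.Helper29

variable {A : Type u} {B : Type v} [CommRing A] [CommRing B] [Algebra A B]
  [Algebra.HasGoingDown A B]

/-- A minimal prime over `pB`, `p` a minimal prime of `A`, is a minimal prime of `B` lying over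
`p`. -/
theorem mem_minimalPrimes_of_mem_minimalPrimes_map {p : Ideal A} (hp : p ∈ minimalPrimes A)
    {P : Ideal B} (hP : P ∈ (p.map (algebraMap A B)).minimalPrimes) :
    P ∈ minimalPrimes B ∧ P.comap (algebraMap A B) = p := by
  have hpprime : p.IsPrime := hp.1.1
  have hPprime : P.IsPrime := hP.1.1
  have hle : p ≤ P.under A := Ideal.map_le_iff_le_comap.mp hP.1.2
  have hlo : P.LiesOver (P.under A) := ⟨rfl⟩
  obtain ⟨P₀, hP₀le, hP₀prime, hP₀lo⟩ := Ideal.exists_ideal_le_liesOver_of_le P hle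
  have hP₀ : p = P₀.under A := P₀.over_def p
  have h1 : p.map (algebraMap A B) ≤ P₀ := by
    rw [Ideal.map_le_iff_le_comap]
    exact hP₀.le
  have h2 : P ≤ P₀ := hP.2 ⟨hP₀prime, h1⟩ hP₀le
  have h3 : P = P₀ := le_antisymm h2 hP₀le
  have hcomap : P.comap (algebraMap A B) = p := by
    rw [h3]; exact hP₀.symm
  refine ⟨⟨⟨hPprime, bot_le⟩, fun Q hQ hQP => ?_⟩, hcomap⟩
  have hQprime : Q.IsPrime := hQ.1
  have h4 : Q.comap (algebraMap A B) ≤ p := hcomap ▸ Ideal.comap_mono hQP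
  have h5 : p ≤ Q.comap (algebraMap A B) :=
    hp.2 ⟨Ideal.comap_isPrime _ _, bot_le⟩ h4
  exact hP.2 ⟨hQprime, Ideal.map_le_iff_le_comap.mpr h5⟩ hQP

/-- A minimal prime `P` of `B` lies over a minimal prime `p` of `A` and is minimal over `pB`. -/
theorem comap_mem_minimalPrimes_of_mem_minimalPrimes {P : Ideal B} (hP : P ∈ minimalPrimes B) :
    P.comap (algebraMap A B) ∈ minimalPrimes A ∧
      P ∈ ((P.comap (algebraMap A B)).map (algebraMap A B)).minimalPrimes := by
  have hPprime : P.IsPrime := hP.1.1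
  refine ⟨⟨⟨Ideal.comap_isPrime _ _, bot_le⟩, fun q hq hqp => ?_⟩,
    ⟨⟨hPprime, Ideal.map_comap_le⟩, fun Q hQ hQP => hP.2 ⟨hQ.1, bot_le⟩ hQP⟩⟩
  have hqprime : q.IsPrime := hq.1
  have hlo : P.LiesOver (P.under A) := ⟨rfl⟩
  have hqp' : q ≤ P.under A := hqp
  obtain ⟨P₀, hP₀le, hP₀prime, hP₀lo⟩ := Ideal.exists_ideal_le_liesOver_of_le P hqp'
  have hP₀ : q = P₀.under A := P₀.over_def q
  have h2 : P ≤ P₀ := hP.2 ⟨hP₀prime, bot_le⟩ hP₀le
  rw [hP₀]
  exact Ideal.comap_mono h2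

end Groth.Agent.Lib.Helper29

namespace Groth.Agent.Lib.Helper29

/-- `dim (R/J)/P = dim R/(P ∩ R)`. -/
theorem ringKrullDim_quotient_quotient {R : Type u} [CommRing R] (J : Ideal R) (P : Ideal (R ⧸ J)) :
    ringKrullDim ((R ⧸ J) ⧸ P) = ringKrullDim (R ⧸ P.comap (Ideal.Quotient.mk J)) := by
  let φ : R →+* (R ⧸ J) ⧸ P := (Ideal.Quotient.mk P).comp (Ideal.Quotient.mk J)
  have hφ : Function.Surjective φ :=
    Ideal.Quotient.mk_surjective.comp Ideal.Quotient.mk_surjective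
  have hkerφ : RingHom.ker φ = P.comap (Ideal.Quotient.mk J) := by
    ext r
    rw [RingHom.mem_ker, Ideal.mem_comap]
    change Ideal.Quotient.mk P _ = 0 ↔ _
    rw [Ideal.Quotient.eq_zero_iff_mem]
  rw [← hkerφ]
  exact (ringKrullDim_eq_of_ringEquiv (RingHom.quotientKerEquivOfSurjective hφ)).symm

end Groth.Agent.Lib.Helper29
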