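import Groth.Agent.Lib.Helper29.DepthLoc4

/-!
Helper lemmas (helper29): heights in `Set.Ici p`, covering primes, and the depth inequality
`depth M_{p'} ≤ depth M_p + 1` for `p ⋖ p'`.
-/

set_option autoImplicit false
universe u

namespace Groth.Agent.Lib.Helper29

section Poset

variable {α : Type*} [PartialOrder α]

/-- `ht_{≥ b}(c) + 1 ≤ ht_{≥ a}(c)` for `a < b ≤ c`. -/
theorem height_Ici_add_one_le {a b c : α} (hab : a < b) (hbc : b ≤ c) :
    Order.height (⟨c, hbc⟩ : Set.Ici b) + 1 ≤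
      Order.height (⟨c, hab.le.trans hbc⟩ : Set.Ici a) := by
  let g : WithBot (Set.Ici b) → Set.Ici a := fun x =>
    WithBot.recBotCoe (C := fun _ => Set.Ici a) ⟨a, le_rfl⟩ (fun y => ⟨y.1, hab.le.trans y.2⟩) x
  have hg : StrictMono g := by
    intro x y hxy
    induction x with
    | bot =>
      induction y with
      | bot => exact absurd hxy (lt_irrefl _)
      | coe y =>
        exact (show (⟨a, le_rfl⟩ : Set.Ici a) < ⟨y.1, hab.le.trans y.2⟩ from
          Subtype.mk_lt_mk.mpr (lt_of_lt_of_le hab y.2))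
    | coe x =>
      induction y with
      | bot => exact absurd hxy (not_lt_bot)
      | coe y =>
        exact (show (⟨x.1, hab.le.trans x.2⟩ : Set.Ici a) < ⟨y.1, hab.le.trans y.2⟩ from
          Subtype.mk_lt_mk.mpr (Subtype.coe_lt_coe.mpr (WithBot.coe_lt_coe.mp hxy)))
  have h := Order.height_le_height_apply_of_strictMono g hg
    ((⟨c, hbc⟩ : Set.Ici b) : WithBot (Set.Ici b))
  rwa [Order.height_coe_withBot] at h

/-- `ht_{≥ a}(b) ≤ 1` for `a ⋖ b`. -/
theorem height_Ici_le_one_of_covBy {a b : α} (h : a ⋖ b) :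
    Order.height (⟨b, h.le⟩ : Set.Ici a) ≤ 1 := by
  rw [show (1 : ℕ∞) = ((1 : ℕ) : ℕ∞) from rfl, Order.height_le_coe_iff]
  intro y hy
  have hya : y = ⟨a, le_rfl⟩ := by
    apply Subtype.ext
    have hyb : y.1 < b := hy
    exact (h.eq_or_eq y.2 hyb.le).resolve_right hyb.ne
  rw [hya]
  have hmin : IsMin (⟨a, le_rfl⟩ : Set.Ici a) := fun z _ => z.2
  rw [Order.height_eq_zero.mpr hmin]
  exact_mod_cast zero_lt_one

/-- `ht_{≥ a}(b) ≠ 0` for `a < b`. -/
theorem one_le_height_Ici_of_lt {a b : α} (h : a < b) :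
    1 ≤ Order.height (⟨b, h.le⟩ : Set.Ici a) := by
  rw [Order.one_le_iff_ne_zero, Ne, Order.height_eq_zero]
  intro hmin
  have : (⟨b, h.le⟩ : Set.Ici a) ≤ ⟨a, le_rfl⟩ := hmin (b := ⟨a, le_rfl⟩) h.le
  exact absurd (this : b ≤ a) (not_le_of_gt h)

end Poset

section Primes

variable {A : Type u} [CommRing A] [IsNoetherianRing A]

theorem wellFoundedLT_primeSpectrum : WellFoundedLT (PrimeSpectrum A) :=
  StrictMono.wellFoundedLT (f := fun r : PrimeSpectrum A => r.asIdeal.height)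
    (fun _ _ hab => Ideal.height_strict_mono_of_isPrime_of_isPrime hab)

/-- For primes `p < q` of a Noetherian ring there is a prime `p'` with `p ⋖ p' ≤ q`. -/
theorem exists_covBy_le_of_lt {p q : PrimeSpectrum A} (h : p < q) :
    ∃ p', p ⋖ p' ∧ p' ≤ q := by
  have wf := wellFoundedLT_primeSpectrum (A := A)
  have hne : {r : PrimeSpectrum A | p < r ∧ r ≤ q}.Nonempty := ⟨q, h, le_rfl⟩
  refine ⟨wf.wf.min _ hne, ⟨(wf.wf.min_mem _ hne).1, ?_⟩, (wf.wf.min_mem _ hne).2⟩
  intro r hpr hr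
  exact wf.wf.not_lt_min {r : PrimeSpectrum A | p < r ∧ r ≤ q} (x := r)
    (show p < r ∧ r ≤ q from ⟨hpr, hr.le.trans (wf.wf.min_mem _ hne).2⟩) hr

/-- `ht(p'/p) ≤ 1` for `p ⋖ p'`. -/
theorem height_map_quotient_le_one_of_covBy {A : Type*} [CommRing A] {p p' : PrimeSpectrum A}
    (h : p ⋖ p') : (p'.asIdeal.map (Ideal.Quotient.mk p.asIdeal)).height ≤ 1 := by
  have hpq : p.asIdeal ≤ p'.asIdeal := h.le
  have hprime : (p'.asIdeal.map (Ideal.Quotient.mk p.asIdeal)).IsPrime :=
    Ideal.map_isPrime_of_surjective Ideal.Quotient.mk_surjective (by rwa [Ideal.mk_ker])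
  have hcm : (p'.asIdeal.map (Ideal.Quotient.mk p.asIdeal)).comap (Ideal.Quotient.mk p.asIdeal) =
      p'.asIdeal := by
    rw [Ideal.comap_map_of_surjective _ Ideal.Quotient.mk_surjective, ← RingHom.ker_eq_comap_bot,
      Ideal.mk_ker]
    exact sup_eq_left.mpr hpq
  rw [show (1 : ℕ∞) = ((1 : ℕ) : ℕ∞) from rfl, Ideal.height_le_iff]
  intro Q hQ hlt
  let r : PrimeSpectrum A := ⟨Q.comap (Ideal.Quotient.mk p.asIdeal), inferInstance⟩
  have hpr : p ≤ r := by
    change p.asIdeal ≤ Q.comap (Ideal.Quotient.mk p.asIdeal)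
    intro x hx
    rw [Ideal.mem_comap, Ideal.Quotient.eq_zero_iff_mem.mpr hx]
    exact Q.zero_mem
  have hrp' : r < p' := by
    change Q.comap (Ideal.Quotient.mk p.asIdeal) < p'.asIdeal
    rw [← hcm]
    refine lt_of_le_of_ne (Ideal.comap_mono hlt.le) ?_
    intro heq
    have := congrArg (Ideal.map (Ideal.Quotient.mk p.asIdeal)) heq
    rw [Ideal.map_comap_of_surjective _ Ideal.Quotient.mk_surjective,
      Ideal.map_comap_of_surjective _ Ideal.Quotient.mk_surjective] at this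
    exact hlt.ne this
  have hrp : r = p := (h.eq_or_eq hpr hrp'.le).resolve_right hrp'.ne
  have hQbot : Q = ⊥ := by
    have h1 : Q = (Q.comap (Ideal.Quotient.mk p.asIdeal)).map (Ideal.Quotient.mk p.asIdeal) :=
      (Ideal.map_comap_of_surjective _ Ideal.Quotient.mk_surjective Q).symm
    have h2 : Q.comap (Ideal.Quotient.mk p.asIdeal) = p.asIdeal := congrArg PrimeSpectrum.asIdeal hrp
    rw [h1, h2, Ideal.map_quotient_self]
  rw [hQbot]
  have : Nontrivial (A ⧸ p.asIdeal) := Ideal.Quotient.nontrivial_iff.mpr p.isPrime.ne_top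
  rw [Ideal.height_bot]
  exact_mod_cast zero_lt_one

/-- `depth M_{p'} ≤ depth M_p + 1` for `p ⋖ p'`. -/
theorem depth_localization_le_add_one_of_covBy {p p' : PrimeSpectrum A} (h : p ⋖ p')
    (M : Type u) [AddCommGroup M] [Module A M] [Module.Finite A M] :
    LocCoh.depth (Localization.AtPrime p'.asIdeal) (LocalizedModule p'.asIdeal.primeCompl M) ≤
      LocCoh.depth (Localization.AtPrime p.asIdeal) (LocalizedModule p.asIdeal.primeCompl M) + 1 :=
  (depth_localization_le_depth_localization_add_height A (show p.asIdeal ≤ p'.asIdeal from h.le)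
    M).trans (add_le_add_right (height_map_quotient_le_one_of_covBy h) _)

end Primes

end Groth.Agent.Lib.Helper29
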