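import Groth.Agent.H46.CatenaryDim
import Groth.Agent.Lib.Helper29.CatenaryEquidim
import Groth.Agent.Lib.Helper29.GoingDownMin
import Groth.Agent.Lib.Helper29.RelCodim
import Groth.Prelude.Def_EGA4b
import Groth.Agent.Lib.Helper29.DepthFlat2

/-!
Helper lemmas (helper29): in an equidimensional catenary Noetherian local ring,
`dim B/Q + ht Q = dim B` for every prime `Q`; descent of "equidimensional and catenary" along flat
local homomorphisms (EGA IV 7.1.x).
-/

set_option autoImplicit false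
universe u

namespace Groth.Agent.Lib.Helper29

open IsLocalRing

section K

variable (B : Type u) [CommRing B] [IsNoetherianRing B] [IsLocalRing B]

/-- In an equidimensional catenary Noetherian local ring, `dim B/Q + ht Q = dim B`. -/
theorem ringKrullDim_quotient_add_height_of_isEquidim_of_isCatenary (heq : EGA4.IsEquidim B)
    (hcat : CAlg.IsCatenary B) (Q : PrimeSpectrum B) :
    ringKrullDim (B ⧸ Q.asIdeal) + ((Q.asIdeal.height : ℕ∞) : WithBot ℕ∞) = ringKrullDim B := by
  have hdim := (Groth.Agent.H46.isCatenary_iff_dimFun B).mp hcat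
  have key : ∀ (n : ℕ) (Q : PrimeSpectrum B), Q.asIdeal.height = n →
      ringKrullDim (B ⧸ Q.asIdeal) + ((n : ℕ) : WithBot ℕ∞) = ringKrullDim B := by
    intro n
    induction n with
    | zero =>
      intro Q hQ
      have hmin : Q.asIdeal ∈ minimalPrimes B := Ideal.height_eq_zero_iff.mp (by exact_mod_cast hQ)
      rw [heq _ hmin]
      simp
    | succ n ih =>
      intro Q hQ
      rw [PrimeSpectrum.height_eq_orderHeight] at hQ
      have hQ' : Order.height Q = (n : ℕ∞) + 1 := by exact_mod_cast hQ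
      obtain ⟨-, ⟨y, hyQ, hy⟩, hall⟩ := Order.height_eq_coe_add_one_iff.mp hQ'
      have hcov : y ⋖ Q := by
        refine ⟨hyQ, fun z hyz hzQ => ?_⟩
        have h1 := hall z hzQ
        have h2 : Order.height y + 1 ≤ Order.height z := Order.height_add_one_le hyz
        rw [hy] at h2
        have h3 : ((n : ℕ∞) + 1) ≤ n := h2.trans h1
        have h4 : n + 1 ≤ n := by exact_mod_cast h3
        omega
      have h5 := (hdim y Q hyQ).2 hcov
      have h6 := ih y (by rw [PrimeSpectrum.height_eq_orderHeight]; exact hy)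
      rw [← h6, h5]
      push_cast
      rw [add_assoc, add_comm (1 : WithBot ℕ∞)]
  obtain ⟨n, hn⟩ := ENat.ne_top_iff_exists.mp (Ideal.height_ne_top_of_isPrime (I := Q.asIdeal))
  rw [← hn]
  exact key n Q hn.symm

end K

section GoingDown

variable {A : Type u} {B : Type u} [CommRing A] [CommRing B] [Algebra A B]
  [Algebra.HasGoingDown A B]

/-- A minimal prime over `pB` lies over `p` (going down). -/
theorem comap_eq_of_mem_minimalPrimes_map (p : Ideal A) [p.IsPrime] {P : Ideal B}
    (hP : P ∈ (p.map (algebraMap A B)).minimalPrimes) : P.comap (algebraMap A B) = p := by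
  have hPprime : P.IsPrime := hP.1.1
  have hle : p ≤ P.under A := Ideal.map_le_iff_le_comap.mp hP.1.2
  have hlo : P.LiesOver (P.under A) := ⟨rfl⟩
  obtain ⟨P₀, hP₀le, hP₀prime, hP₀lo⟩ := Ideal.exists_ideal_le_liesOver_of_le P hle
  have hP₀ : p = P₀.under A := P₀.over_def p
  have h1 : p.map (algebraMap A B) ≤ P₀ := by
    rw [Ideal.map_le_iff_le_comap]
    exact hP₀.le
  have h2 : P ≤ P₀ := hP.2 ⟨hP₀prime, h1⟩ hP₀le
  have h3 : P = P₀ := le_antisymm h2 hP₀le
  rw [h3]; exact hP₀.symm

/-- A minimal prime over `pB` has the same height as `p`. -/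
theorem height_eq_of_mem_minimalPrimes_map [IsNoetherianRing A] [IsNoetherianRing B] (p : Ideal A) [p.IsPrime]
    {P : Ideal B} (hP : P ∈ (p.map (algebraMap A B)).minimalPrimes) : P.height = p.height := by
  have hPprime : P.IsPrime := hP.1.1
  have hlo : P.LiesOver p := ⟨(comap_eq_of_mem_minimalPrimes_map p hP).symm⟩
  rw [Ideal.height_eq_height_add_of_liesOver_of_hasGoingDown p P]
  have hP' := hP
  rw [Ideal.minimalPrimes_eq_comap] at hP'
  obtain ⟨𝔓, h𝔓, h𝔓P⟩ := hP'
  have h𝔓prime : 𝔓.IsPrime := h𝔓.1.1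
  have hmap : P.map (Ideal.Quotient.mk (p.map (algebraMap A B))) = 𝔓 := by
    rw [← h𝔓P, Ideal.map_comap_of_surjective _ Ideal.Quotient.mk_surjective]
  rw [hmap, Ideal.height_eq_zero_iff.mpr h𝔓, add_zero]

/-- Minimal primes over `aB` contract to minimal primes over `a`. -/
theorem comap_mem_minimalPrimes_of_mem_minimalPrimes_map (a : Ideal A) {P : Ideal B}
    (hP : P ∈ (a.map (algebraMap A B)).minimalPrimes) :
    P.comap (algebraMap A B) ∈ a.minimalPrimes ∧
      P ∈ ((P.comap (algebraMap A B)).map (algebraMap A B)).minimalPrimes := by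
  have hPprime : P.IsPrime := hP.1.1
  have hle : a ≤ P.comap (algebraMap A B) := Ideal.map_le_iff_le_comap.mp hP.1.2
  refine ⟨⟨⟨Ideal.comap_isPrime _ _, hle⟩, fun q hq hqp => ?_⟩,
    ⟨⟨hPprime, Ideal.map_comap_le⟩, fun Q hQ hQP => hP.2 ⟨hQ.1, ?_⟩ hQP⟩⟩
  · have hqprime : q.IsPrime := hq.1
    have hlo : P.LiesOver (P.under A) := ⟨rfl⟩
    have hqp' : q ≤ P.under A := hqp
    obtain ⟨P₀, hP₀le, hP₀prime, hP₀lo⟩ := Ideal.exists_ideal_le_liesOver_of_le P hqp'
    have hP₀ : q = P₀.under A := P₀.over_def q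
    have h1 : a.map (algebraMap A B) ≤ P₀ := by
      rw [Ideal.map_le_iff_le_comap]
      exact hq.2.trans hP₀.le
    have h2 : P ≤ P₀ := hP.2 ⟨hP₀prime, h1⟩ hP₀le
    rw [hP₀]
    exact Ideal.comap_mono h2
  · exact (Ideal.map_mono hle).trans hQ.2

/-- A minimal prime over `pB`, for `p` minimal over `a`, is minimal over `aB`. -/
theorem mem_minimalPrimes_map_of_mem_minimalPrimes (a : Ideal A) {p : Ideal A}
    (hp : p ∈ a.minimalPrimes) {P : Ideal B} (hP : P ∈ (p.map (algebraMap A B)).minimalPrimes) :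
    P ∈ (a.map (algebraMap A B)).minimalPrimes := by
  have hpprime : p.IsPrime := hp.1.1
  have hPprime : P.IsPrime := hP.1.1
  have hcomap := comap_eq_of_mem_minimalPrimes_map p hP
  refine ⟨⟨hPprime, (Ideal.map_mono hp.1.2).trans hP.1.2⟩, fun Q hQ hQP => ?_⟩
  have hQprime : Q.IsPrime := hQ.1
  have h4 : Q.comap (algebraMap A B) ≤ p := hcomap ▸ Ideal.comap_mono hQP
  have h5 : p ≤ Q.comap (algebraMap A B) :=
    hp.2 ⟨Ideal.comap_isPrime _ _, Ideal.map_le_iff_le_comap.mp hQ.2⟩ h4
  exact hP.2 ⟨hQprime, Ideal.map_le_iff_le_comap.mpr h5⟩ hQP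

end GoingDown

section FlatQuot

variable (A B : Type u) [CommRing A] [CommRing B] [IsLocalRing A] [IsLocalRing B]
  [IsNoetherianRing A] [IsNoetherianRing B] [Algebra A B] [IsLocalHom (algebraMap A B)]
  [Module.Flat A B] (a : Ideal A)

omit [IsNoetherianRing A] [IsNoetherianRing B] [Module.Flat A B] in
theorem map_maximalIdeal_le_of_isLocalHom :
    (maximalIdeal A).map (algebraMap A B) ≤ maximalIdeal B :=
  map_maximalIdeal_le (algebraMap A B)

omit [IsNoetherianRing A] [IsNoetherianRing B] [Module.Flat A B] in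
theorem map_ne_top_of_isLocalHom (ha : a ≠ ⊤) : a.map (algebraMap A B) ≠ ⊤ := by
  intro h
  have h1 : a.map (algebraMap A B) ≤ maximalIdeal B :=
    (Ideal.map_mono (le_maximalIdeal ha)).trans (map_maximalIdeal_le_of_isLocalHom A B)
  rw [h] at h1
  exact (maximalIdeal.isMaximal B).ne_top (top_le_iff.mp h1)

omit [IsLocalRing B] [IsNoetherianRing A] [IsNoetherianRing B] [Algebra A B]
  [IsLocalHom (algebraMap A B)] [Module.Flat A B] in
theorem isLocalRing_quotient_of_ne_top (ha : a ≠ ⊤) : IsLocalRing (A ⧸ a) :=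
  haveI : Nontrivial (A ⧸ a) := Ideal.Quotient.nontrivial_iff.mpr ha
  IsLocalRing.of_surjective' (Ideal.Quotient.mk a) Ideal.Quotient.mk_surjective

omit [IsNoetherianRing A] [IsNoetherianRing B] [Module.Flat A B] in
theorem isLocalRing_quotient_map_of_ne_top (ha : a ≠ ⊤) :
    IsLocalRing (B ⧸ a.map (algebraMap A B)) :=
  haveI : Nontrivial (B ⧸ a.map (algebraMap A B)) :=
    Ideal.Quotient.nontrivial_iff.mpr (map_ne_top_of_isLocalHom A B a ha)
  IsLocalRing.of_surjective' (Ideal.Quotient.mk _) Ideal.Quotient.mk_surjective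

omit [IsLocalRing A] [IsLocalRing B] [IsNoetherianRing A] [IsNoetherianRing B]
  [IsLocalHom (algebraMap A B)] in
theorem flat_quotient_map : Module.Flat (A ⧸ a) (B ⧸ a.map (algebraMap A B)) :=
  Module.Flat.of_linearEquiv
    (Algebra.TensorProduct.quotIdealMapEquivQuotTensor B a).toLinearEquiv

omit [IsNoetherianRing A] [IsNoetherianRing B] [Module.Flat A B] in
theorem map_maximalIdeal_quotient_map [IsLocalRing (A ⧸ a)] :
    (maximalIdeal (A ⧸ a)).map (algebraMap (A ⧸ a) (B ⧸ a.map (algebraMap A B))) =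
      ((maximalIdeal A).map (algebraMap A B)).map
        (Ideal.Quotient.mk (a.map (algebraMap A B))) := by
  rw [← IsLocalRing.map_maximalIdeal_of_surjective (Ideal.Quotient.mk a)
    Ideal.Quotient.mk_surjective, Ideal.map_map, Ideal.map_map]
  rfl

omit [IsNoetherianRing A] [IsNoetherianRing B] [Module.Flat A B] in
theorem isLocalHom_quotient_map [IsLocalRing (A ⧸ a)]
    [IsLocalRing (B ⧸ a.map (algebraMap A B))] :
    IsLocalHom (algebraMap (A ⧸ a) (B ⧸ a.map (algebraMap A B))) := by
  apply ((IsLocalRing.local_hom_TFAE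
    (algebraMap (A ⧸ a) (B ⧸ a.map (algebraMap A B)))).out 0 2).mpr
  rw [map_maximalIdeal_quotient_map, ← IsLocalRing.map_maximalIdeal_of_surjective
    (Ideal.Quotient.mk (a.map (algebraMap A B))) Ideal.Quotient.mk_surjective]
  exact Ideal.map_mono (map_maximalIdeal_le_of_isLocalHom A B)

/-- `dim B/aB = dim A/a + dim B/m_A B` for a flat local homomorphism `A → B`. -/
theorem ringKrullDim_quotient_map_eq_add (ha : a ≠ ⊤) :
    ringKrullDim (B ⧸ a.map (algebraMap A B)) =
      ringKrullDim (A ⧸ a) + ringKrullDim (EGA4.FibRing A B) := by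
  have hntA : Nontrivial (A ⧸ a) := Ideal.Quotient.nontrivial_iff.mpr ha
  have hntB : Nontrivial (B ⧸ a.map (algebraMap A B)) :=
    Ideal.Quotient.nontrivial_iff.mpr (map_ne_top_of_isLocalHom A B a ha)
  have hlocA : IsLocalRing (A ⧸ a) :=
    IsLocalRing.of_surjective' (Ideal.Quotient.mk a) Ideal.Quotient.mk_surjective
  have hlocB : IsLocalRing (B ⧸ a.map (algebraMap A B)) :=
    IsLocalRing.of_surjective' (Ideal.Quotient.mk _) Ideal.Quotient.mk_surjective
  have hflat : Module.Flat (A ⧸ a) (B ⧸ a.map (algebraMap A B)) :=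
    Module.Flat.of_linearEquiv
      (Algebra.TensorProduct.quotIdealMapEquivQuotTensor B a).toLinearEquiv
  have hmapmax : (maximalIdeal (A ⧸ a)).map
      (algebraMap (A ⧸ a) (B ⧸ a.map (algebraMap A B))) =
      ((maximalIdeal A).map (algebraMap A B)).map (Ideal.Quotient.mk (a.map (algebraMap A B))) := by
    rw [← IsLocalRing.map_maximalIdeal_of_surjective (Ideal.Quotient.mk a)
      Ideal.Quotient.mk_surjective, Ideal.map_map, Ideal.map_map]
    rfl
  have hlh : IsLocalHom (algebraMap (A ⧸ a) (B ⧸ a.map (algebraMap A B))) := by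
    apply ((IsLocalRing.local_hom_TFAE
      (algebraMap (A ⧸ a) (B ⧸ a.map (algebraMap A B)))).out 0 2).mpr
    rw [hmapmax, ← IsLocalRing.map_maximalIdeal_of_surjective
      (Ideal.Quotient.mk (a.map (algebraMap A B))) Ideal.Quotient.mk_surjective]
    exact Ideal.map_mono (map_maximalIdeal_le_of_isLocalHom A B)
  rw [ringKrullDim_eq_add_of_flat (A ⧸ a) (B ⧸ a.map (algebraMap A B))]
  congr 1
  change ringKrullDim ((B ⧸ a.map (algebraMap A B)) ⧸ (maximalIdeal (A ⧸ a)).map
      (algebraMap (A ⧸ a) (B ⧸ a.map (algebraMap A B)))) = _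
  rw [ringKrullDim_quotient_quotient, hmapmax,
    Ideal.comap_map_of_surjective _ Ideal.Quotient.mk_surjective, ← RingHom.ker_eq_comap_bot,
    Ideal.mk_ker]
  have : (maximalIdeal A).map (algebraMap A B) ⊔ a.map (algebraMap A B) =
      (maximalIdeal A).map (algebraMap A B) :=
    sup_eq_left.mpr (Ideal.map_mono (le_maximalIdeal ha))
  rw [this]

end FlatQuot

section Cancel

theorem withBot_enat_add_right_cancel {a b : WithBot ℕ∞} (n : ℕ)
    (h : a + ((n : ℕ) : WithBot ℕ∞) = b + ((n : ℕ) : WithBot ℕ∞)) : a = b := by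
  have hn : ((n : ℕ) : WithBot ℕ∞) = (((n : ℕ) : ℕ∞) : WithBot ℕ∞) := rfl
  rw [hn] at h
  induction a using WithBot.recBotCoe with
  | bot =>
    rw [WithBot.bot_add] at h
    rcases WithBot.add_eq_bot.mp h.symm with h1 | h1
    · exact h1.symm
    · exact absurd h1 WithBot.coe_ne_bot
  | coe x =>
    induction b using WithBot.recBotCoe with
    | bot =>
      rw [WithBot.bot_add] at h
      rcases WithBot.add_eq_bot.mp h with h1 | h1
      · exact absurd h1 WithBot.coe_ne_bot
      · exact absurd h1 WithBot.coe_ne_bot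
    | coe y =>
      rw [← WithBot.coe_add, ← WithBot.coe_add, WithBot.coe_inj] at h
      rw [ENat.add_left_injective_of_ne_top (ENat.natCast_ne_top n) h]

theorem exists_nat_ringKrullDim_eq (F : Type u) [CommRing F] [IsNoetherianRing F] [IsLocalRing F] :
    ∃ n : ℕ, ringKrullDim F = ((n : ℕ) : WithBot ℕ∞) := by
  rw [← IsLocalRing.maximalIdeal_height_eq_ringKrullDim]
  obtain ⟨n, hn⟩ := ENat.ne_top_iff_exists.mp
    (Ideal.height_ne_top_of_isPrime (I := maximalIdeal F))
  exact ⟨n, by rw [← hn]; rfl⟩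

end Cancel

section X

variable (A B : Type u) [CommRing A] [CommRing B] [IsLocalRing A] [IsLocalRing B]
  [IsNoetherianRing A] [IsNoetherianRing B] [Algebra A B] [IsLocalHom (algebraMap A B)]
  [Module.Flat A B] (heq : EGA4.IsEquidim B) (hcat : CAlg.IsCatenary B)

include heq hcat

/-- `dim B/P + ht p = dim B` for `P` minimal over `pB`. -/
theorem ringKrullDim_quotient_add_height_of_mem_minimalPrimes_map (p : Ideal A) [p.IsPrime]
    {P : Ideal B} (hP : P ∈ (p.map (algebraMap A B)).minimalPrimes) :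
    ringKrullDim (B ⧸ P) + ((p.height : ℕ∞) : WithBot ℕ∞) = ringKrullDim B := by
  have hPprime : P.IsPrime := hP.1.1
  have h1 := ringKrullDim_quotient_add_height_of_isEquidim_of_isCatenary B heq hcat ⟨P, hPprime⟩
  rw [← height_eq_of_mem_minimalPrimes_map p hP]
  exact h1

/-- `dim B/pB + ht p = dim B`. -/
theorem ringKrullDim_quotient_map_add_height (p : Ideal A) [p.IsPrime] :
    ringKrullDim (B ⧸ p.map (algebraMap A B)) + ((p.height : ℕ∞) : WithBot ℕ∞) =
      ringKrullDim B := by
  have hp : p ≠ ⊤ := Ideal.IsPrime.ne_top inferInstance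
  have hntB : Nontrivial (B ⧸ p.map (algebraMap A B)) :=
    Ideal.Quotient.nontrivial_iff.mpr (map_ne_top_of_isLocalHom A B p hp)
  have hlocB : IsLocalRing (B ⧸ p.map (algebraMap A B)) :=
    IsLocalRing.of_surjective' (Ideal.Quotient.mk _) Ideal.Quotient.mk_surjective
  obtain ⟨𝔓, h𝔓, hdim⟩ := exists_minimalPrimes_ringKrullDim_quotient_eq
    (B ⧸ p.map (algebraMap A B))
  rw [← hdim, ringKrullDim_quotient_quotient]
  apply ringKrullDim_quotient_add_height_of_mem_minimalPrimes_map A B heq hcat p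
  rw [Ideal.minimalPrimes_eq_comap]
  exact ⟨𝔓, h𝔓, rfl⟩

/-- `B/pB` is equidimensional. -/
theorem isEquidim_quotient_map (p : Ideal A) [p.IsPrime] :
    EGA4.IsEquidim (B ⧸ p.map (algebraMap A B)) := by
  intro 𝔓 h𝔓
  obtain ⟨n, hn⟩ := ENat.ne_top_iff_exists.mp (Ideal.height_ne_top_of_isPrime (I := p))
  have h1 : 𝔓.comap (Ideal.Quotient.mk (p.map (algebraMap A B))) ∈
      (p.map (algebraMap A B)).minimalPrimes := by
    rw [Ideal.minimalPrimes_eq_comap]
    exact ⟨𝔓, h𝔓, rfl⟩
  have h2 := ringKrullDim_quotient_add_height_of_mem_minimalPrimes_map A B heq hcat p h1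
  have h3 := ringKrullDim_quotient_map_add_height A B heq hcat p
  rw [ringKrullDim_quotient_quotient]
  rw [← h3, ← hn] at h2
  exact withBot_enat_add_right_cancel n h2

/-- `dim A/p + ht p = dim A`. -/
theorem ringKrullDim_quotient_add_height_of_flat (p : Ideal A) [p.IsPrime] :
    ringKrullDim (A ⧸ p) + ((p.height : ℕ∞) : WithBot ℕ∞) = ringKrullDim A := by
  have hp : p ≠ ⊤ := Ideal.IsPrime.ne_top inferInstance
  have h1 := ringKrullDim_quotient_map_add_height A B heq hcat p
  rw [ringKrullDim_quotient_map_eq_add A B p hp, ringKrullDim_eq_add_of_flat A B] at h1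
  have hne : (maximalIdeal A).map (algebraMap A B) ≠ ⊤ :=
    map_ne_top_of_isLocalHom A B _ (Ideal.IsPrime.ne_top inferInstance)
  have hnt : Nontrivial (EGA4.FibRing A B) := Ideal.Quotient.nontrivial_iff.mpr hne
  have hloc : IsLocalRing (EGA4.FibRing A B) :=
    IsLocalRing.of_surjective' (Ideal.Quotient.mk _) Ideal.Quotient.mk_surjective
  obtain ⟨f, hf⟩ := exists_nat_ringKrullDim_eq (EGA4.FibRing A B)
  change _ = ringKrullDim A + ringKrullDim (EGA4.FibRing A B) at h1
  rw [hf] at h1
  apply withBot_enat_add_right_cancel f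
  rw [← h1]
  abel

/-- `A` is equidimensional. -/
theorem isEquidim_of_flat : EGA4.IsEquidim A := by
  intro p hp
  have hpprime : p.IsPrime := hp.1.1
  have h1 := ringKrullDim_quotient_add_height_of_flat A B heq hcat p
  rw [Ideal.height_eq_zero_iff.mpr hp] at h1
  simpa using h1

/-- `A` is catenary. -/
theorem isCatenary_of_flat : CAlg.IsCatenary A := by
  rw [Groth.Agent.H46.isCatenary_iff_dimFun]
  intro p q hpq
  have hp := ringKrullDim_quotient_add_height_of_flat A B heq hcat p.asIdeal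
  have hq := ringKrullDim_quotient_add_height_of_flat A B heq hcat q.asIdeal
  obtain ⟨np, hnp⟩ := ENat.ne_top_iff_exists.mp
    (Ideal.height_ne_top_of_isPrime (I := p.asIdeal))
  obtain ⟨nq, hnq⟩ := ENat.ne_top_iff_exists.mp
    (Ideal.height_ne_top_of_isPrime (I := q.asIdeal))
  have hlt : np < nq := by
    have := Ideal.height_strict_mono_of_isPrime_of_isPrime
      (show p.asIdeal < q.asIdeal from hpq)
    rw [← hnp, ← hnq] at this
    exact_mod_cast this
  have hpne : p.asIdeal ≠ ⊤ := p.isPrime.ne_top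
  have hqne : q.asIdeal ≠ ⊤ := q.isPrime.ne_top
  have hlp := isLocalRing_quotient_of_ne_top A p.asIdeal hpne
  have hlq := isLocalRing_quotient_of_ne_top A q.asIdeal hqne
  obtain ⟨dp, hdp⟩ := exists_nat_ringKrullDim_eq (A ⧸ p.asIdeal)
  obtain ⟨dq, hdq⟩ := exists_nat_ringKrullDim_eq (A ⧸ q.asIdeal)
  obtain ⟨dA, hdA⟩ := exists_nat_ringKrullDim_eq A
  rw [hdp, ← hnp, hdA] at hp
  rw [hdq, ← hnq, hdA] at hq
  have e1 : dp + np = dA := by exact_mod_cast hp
  have e2 : dq + nq = dA := by exact_mod_cast hq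
  have hlt' : dq < dp := by omega
  refine ⟨by rw [hdp, hdq]; exact_mod_cast hlt', fun hcov => ?_⟩
  -- apply the height formula to `A/p → B/pB`
  have hlB := isLocalRing_quotient_map_of_ne_top A B p.asIdeal hpne
  have hflat := flat_quotient_map A B p.asIdeal
  have hlh := isLocalHom_quotient_map A B p.asIdeal
  have heq' := isEquidim_quotient_map A B heq hcat p.asIdeal
  have hcat' : CAlg.IsCatenary (B ⧸ p.asIdeal.map (algebraMap A B)) :=
    Groth.Agent.H46.isCatenary_of_surjective (Ideal.Quotient.mk _) Ideal.Quotient.mk_surjective hcat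
  have hple : p.asIdeal ≤ q.asIdeal := hpq.le
  have hq'prime : (q.asIdeal.map (Ideal.Quotient.mk p.asIdeal)).IsPrime :=
    Ideal.map_isPrime_of_surjective Ideal.Quotient.mk_surjective (by rwa [Ideal.mk_ker])
  have hX := ringKrullDim_quotient_add_height_of_flat (A ⧸ p.asIdeal)
    (B ⧸ p.asIdeal.map (algebraMap A B)) heq' hcat' (q.asIdeal.map (Ideal.Quotient.mk p.asIdeal))
  have hcm : (q.asIdeal.map (Ideal.Quotient.mk p.asIdeal)).comap (Ideal.Quotient.mk p.asIdeal) =
      q.asIdeal := by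
    rw [Ideal.comap_map_of_surjective _ Ideal.Quotient.mk_surjective, ← RingHom.ker_eq_comap_bot,
      Ideal.mk_ker]
    exact sup_eq_left.mpr hple
  rw [ringKrullDim_quotient_quotient, hcm, hdq, hdp] at hX
  have hle1 := height_map_quotient_le_one_of_covBy hcov
  obtain ⟨h', hh'⟩ := ENat.ne_top_iff_exists.mp
    (Ideal.height_ne_top_of_isPrime (I := q.asIdeal.map (Ideal.Quotient.mk p.asIdeal)))
  rw [← hh'] at hX hle1
  have e3 : dq + h' = dp := by exact_mod_cast hX
  have e4 : h' ≤ 1 := by exact_mod_cast hle1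
  rw [hdp, hdq]
  have : dp = dq + 1 := by omega
  exact_mod_cast this

end X

end Groth.Agent.Lib.Helper29
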