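import Groth.Agent.Lib.Helper29.DepthLoc2

/-!
Helper lemmas (helper29): `depth M ≤ depth M_p + dim A/p`; codepth does not increase under
localization; maximal regular sequences.
-/

set_option autoImplicit false
universe u v

namespace Groth.Agent.Lib.Helper29

open IsLocalRing RingTheory.Sequence
open scoped Pointwise

section Local

variable (A : Type u) [CommRing A] [IsLocalRing A] [IsNoetherianRing A]

theorem depth_le_depth_localization_add_aux (p : Ideal A) [p.IsPrime] (n : ℕ) :
    ∀ (M : Type u) [AddCommGroup M] [Module A M] [Module.Finite A M],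
      LocCoh.idealDepth p M = n → (⟨p, inferInstance⟩ : PrimeSpectrum A) ∈ Module.support A M →
      ((LocCoh.depth A M : ℕ∞) : WithBot ℕ∞) ≤
        ((LocCoh.depth (Localization.AtPrime p) (LocalizedModule p.primeCompl M) : ℕ∞) :
          WithBot ℕ∞) + ringKrullDim (A ⧸ p) := by
  induction n with
  | zero =>
    intro M _ _ _ h hp
    have hnt : Nontrivial M := by
      by_contra hcon
      rw [not_nontrivial_iff_subsingleton] at hcon
      rw [Module.support_eq_empty] at hp
      exact hp
    have hnoreg : ∀ x ∈ p, ¬ IsSMulRegular M x := by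
      intro x hx hreg
      have h1 := length_le_idealDepth p M [x] ((isWeaklyRegular_singleton_iff M x).mpr hreg)
        (by simpa using hx)
      rw [h] at h1
      simp at h1
    obtain ⟨q, hq, hpq⟩ := exists_le_mem_associatedPrimes_of_forall_not_isSMulRegular A M p hnoreg
    have hqp : q.IsPrime := IsAssociatedPrime.isPrime hq
    have h1 := depth_le_ringKrullDim_quotient_of_mem_associatedPrimes A M q hq
    have h2 := ringKrullDim_quotient_anti (p := (⟨p, inferInstance⟩ : PrimeSpectrum A))
      (q := ⟨q, hqp⟩) hpq
    calc ((LocCoh.depth A M : ℕ∞) : WithBot ℕ∞) ≤ ringKrullDim (A ⧸ p) := h1.trans h2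
      _ = 0 + ringKrullDim (A ⧸ p) := by simp
      _ ≤ _ := by
        gcongr
        exact WithBot.coe_le_coe.mpr zero_le
  | succ n ih =>
    intro M _ _ _ h hp
    have hnt : Nontrivial M := by
      by_contra hcon
      rw [not_nontrivial_iff_subsingleton] at hcon
      rw [Module.support_eq_empty] at hp
      exact hp
    have hpm : p ≤ maximalIdeal A := le_maximalIdeal (Ideal.IsPrime.ne_top inferInstance)
    have hpM : p • (⊤ : Submodule A M) ≠ ⊤ := by
      intro htop
      exact maximalIdeal_smul_top_ne_top A M
        (top_le_iff.mp (htop.symm.le.trans (Submodule.smul_mono_left hpm)))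
    rcases (le_idealDepth_iff p M (n + 1)).mp h.ge with htop | ⟨rs, hlen, hmem, hreg⟩
    · exact absurd htop hpM
    · match rs, hlen, hmem, hreg with
      | [], hlen, _, _ => simp at hlen
      | x :: rs', hlen, hmem, hreg =>
        have hxp : x ∈ p := hmem x (by simp)
        have hx : x ∈ maximalIdeal A := hpm hxp
        have hxreg : IsSMulRegular M x := ((isWeaklyRegular_cons_iff M x rs').mp hreg).1
        have h1 := idealDepth_quotSMulTop_add_one p M hxp hxreg
        rw [h] at h1
        have h1' : LocCoh.idealDepth p (QuotSMulTop x M) = n := by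
          have h3 : LocCoh.idealDepth p (QuotSMulTop x M) + 1 = (n : ℕ∞) + 1 := by
            rw [h1]; push_cast; rfl
          rw [add_comm, add_comm (n : ℕ∞) 1] at h3
          exact ENat.add_right_injective_of_ne_top (by simp) h3
        have hp' : (⟨p, inferInstance⟩ : PrimeSpectrum A) ∈
            Module.support A (QuotSMulTop x M) := by
          rw [Module.support_quotSMulTop]
          exact ⟨hp, by simpa [PrimeSpectrum.mem_zeroLocus] using hxp⟩
        have h2 := ih (QuotSMulTop x M) h1' hp'
        rw [← depth_quotSMulTop_add_one A M hx hxreg,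
          ← depth_localizedModule_quotSMulTop_add_one A p M hxp hxreg]
        push_cast
        rw [add_right_comm]
        gcongr

/-- `depth M ≤ depth M_p + dim A/p` for `p ∈ Supp M`. -/
theorem depth_le_depth_localization_add (p : Ideal A) [p.IsPrime] (M : Type u) [AddCommGroup M]
    [Module A M] [Module.Finite A M]
    (hp : (⟨p, inferInstance⟩ : PrimeSpectrum A) ∈ Module.support A M) :
    ((LocCoh.depth A M : ℕ∞) : WithBot ℕ∞) ≤
      ((LocCoh.depth (Localization.AtPrime p) (LocalizedModule p.primeCompl M) : ℕ∞) :
        WithBot ℕ∞) + ringKrullDim (A ⧸ p) := by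
  have hnt : Nontrivial M := by
    by_contra hcon
    rw [not_nontrivial_iff_subsingleton] at hcon
    rw [Module.support_eq_empty] at hp
    exact hp
  have hle : LocCoh.idealDepth p M ≤ LocCoh.depth A M :=
    idealDepth_mono (le_maximalIdeal (Ideal.IsPrime.ne_top inferInstance)) M
  have hne : LocCoh.idealDepth p M ≠ ⊤ := fun h => depth_ne_top A M (top_le_iff.mp (h ▸ hle))
  obtain ⟨n, hn⟩ := ENat.ne_top_iff_exists.mp hne
  exact depth_le_depth_localization_add_aux A p n M hn.symm hp

/-- The codepth does not increase under localization. -/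
theorem supportDim_localizedModule_add_depth_le (p : Ideal A) [p.IsPrime] (M : Type u)
    [AddCommGroup M] [Module A M] [Module.Finite A M]
    [Nontrivial (LocalizedModule p.primeCompl M)] :
    Module.supportDim (Localization.AtPrime p) (LocalizedModule p.primeCompl M) +
        ((LocCoh.depth A M : ℕ∞) : WithBot ℕ∞) ≤
      Module.supportDim A M +
        ((LocCoh.depth (Localization.AtPrime p) (LocalizedModule p.primeCompl M) : ℕ∞) :
          WithBot ℕ∞) := by
  have hp : (⟨p, inferInstance⟩ : PrimeSpectrum A) ∈ Module.support A M :=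
    Module.mem_support_iff.mpr ‹_›
  have h1 := depth_le_depth_localization_add A p M hp
  have h2 := supportDim_localizedModule_add_supportDim_quotient_le A M p
  rw [supportDim_quotient_smul_top_eq_ringKrullDim_quotient M ⟨p, inferInstance⟩ hp] at h2
  calc Module.supportDim (Localization.AtPrime p) (LocalizedModule p.primeCompl M) +
        ((LocCoh.depth A M : ℕ∞) : WithBot ℕ∞)
      ≤ Module.supportDim (Localization.AtPrime p) (LocalizedModule p.primeCompl M) +
        (((LocCoh.depth (Localization.AtPrime p) (LocalizedModule p.primeCompl M) : ℕ∞) :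
          WithBot ℕ∞) + ringKrullDim (A ⧸ p)) := by gcongr
    _ = (Module.supportDim (Localization.AtPrime p) (LocalizedModule p.primeCompl M) +
          ringKrullDim (A ⧸ p)) +
        ((LocCoh.depth (Localization.AtPrime p) (LocalizedModule p.primeCompl M) : ℕ∞) :
          WithBot ℕ∞) := by rw [add_assoc, add_comm (ringKrullDim (A ⧸ p)), ← add_assoc]
    _ ≤ _ := by gcongr

end Local

section General

variable (A : Type u) [CommRing A] [IsNoetherianRing A]

/-- `depth_I M < ⊤` when `IM ≠ M` (Noetherian ring, finite module). -/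
theorem idealDepth_ne_top (I : Ideal A) (M : Type v) [AddCommGroup M] [Module A M]
    [Module.Finite A M] (hIM : I • (⊤ : Submodule A M) ≠ ⊤) : LocCoh.idealDepth I M ≠ ⊤ := by
  have hnt : Nontrivial (M ⧸ (I • (⊤ : Submodule A M))) :=
    Submodule.Quotient.nontrivial_iff.mpr hIM
  obtain ⟨p, hp⟩ := (Module.nonempty_support_of_nontrivial (R := A)
    (M := M ⧸ (I • (⊤ : Submodule A M))))
  rw [Module.support_quotient] at hp
  obtain ⟨hpM, hpI⟩ := hp
  rw [PrimeSpectrum.mem_zeroLocus] at hpI
  have : p.asIdeal.IsPrime := p.isPrime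
  have h1 : LocCoh.idealDepth I M ≤ LocCoh.idealDepth p.asIdeal M := idealDepth_mono hpI M
  have h2 := idealDepth_le_depth_localization A p.asIdeal M
  have hntp : Nontrivial (LocalizedModule p.asIdeal.primeCompl M) := Module.mem_support_iff.mp hpM
  have h3 := depth_ne_top (Localization.AtPrime p.asIdeal) (LocalizedModule p.asIdeal.primeCompl M)
  intro htop
  rw [htop] at h1
  exact h3 (top_le_iff.mp (h1.trans h2))

omit [IsNoetherianRing A] in
/-- If no element of `I` is `M`-regular and `IM ≠ M` then `depth_I M = 0`. -/
theorem idealDepth_eq_zero_of_forall_not_isSMulRegular (I : Ideal A) (M : Type v)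
    [AddCommGroup M] [Module A M] (hIM : I • (⊤ : Submodule A M) ≠ ⊤)
    (h : ∀ r ∈ I, ¬ IsSMulRegular M r) : LocCoh.idealDepth I M = 0 := by
  by_contra hne
  have h1 : ((1 : ℕ) : ℕ∞) ≤ LocCoh.idealDepth I M := by
    have := Order.one_le_iff_pos.mpr (pos_iff_ne_zero.mpr hne)
    exact_mod_cast this
  rcases (le_idealDepth_iff I M 1).mp h1 with htop | ⟨rs, hlen, hmem, hreg⟩
  · exact hIM htop
  · match rs, hlen, hmem, hreg with
    | [x], _, hmem, hreg =>
      exact h x (hmem x (by simp)) ((isWeaklyRegular_singleton_iff M x).mp hreg)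

/-- A maximal weakly regular sequence in `I` has length `depth_I M`. -/
theorem length_eq_idealDepth_of_maximal (I : Ideal A) (rs : List A) :
    ∀ (M : Type u) [AddCommGroup M] [Module A M] [Module.Finite A M],
      I • (⊤ : Submodule A M) ≠ ⊤ → IsWeaklyRegular M rs → (∀ r ∈ rs, r ∈ I) →
      (∀ r ∈ I, ¬ IsWeaklyRegular M (rs ++ [r])) → (rs.length : ℕ∞) = LocCoh.idealDepth I M := by
  induction rs with
  | nil =>
    intro M _ _ _ hIM _ _ hmax
    rw [idealDepth_eq_zero_of_forall_not_isSMulRegular A I M hIM]
    · rfl
    · intro r hr hreg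
      exact hmax r hr (by simpa using (isWeaklyRegular_singleton_iff M r).mpr hreg)
  | cons x rs' ih =>
    intro M _ _ _ hIM hreg hmem hmax
    obtain ⟨hxreg, hrs'⟩ := (isWeaklyRegular_cons_iff M x rs').mp hreg
    have hxI : x ∈ I := hmem x (by simp)
    have hIM' : I • (⊤ : Submodule A (QuotSMulTop x M)) ≠ ⊤ :=
      fun h => hIM ((smul_top_quotSMulTop_eq_top_iff hxI M).mp h)
    have h1 := ih (QuotSMulTop x M) hIM' hrs' (fun r hr => hmem r (List.mem_cons_of_mem _ hr))
      (fun r hr hcon => hmax r hr (by
        rw [List.cons_append]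
        exact (isWeaklyRegular_cons_iff M x _).mpr ⟨hxreg, hcon⟩))
    rw [← idealDepth_quotSMulTop_add_one I M hxI hxreg, ← h1]
    simp

end General

end Groth.Agent.Lib.Helper29
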