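import Groth.Agent.Lib.Helper29.DepthRees

/-!
Helper lemmas (helper29) on Cohen–Macaulay modules (`LocCoh.IsCohenMacaulayModule`,
Prelude `Def_CAlg`).
-/

set_option autoImplicit false
universe u v

namespace Groth.Agent.Lib.Helper29

open IsLocalRing RingTheory.Sequence CategoryTheory Abelian
open scoped Pointwise

theorem withBot_enat_add_one_cancel {a b : WithBot ℕ∞} (ha : a ≠ ⊤) (h : a + 1 = b + 1) :
    a = b := by
  induction a with
  | bot =>
    induction b with
    | bot => rfl
    | coe b =>
      have h' : (⊥ : WithBot ℕ∞) = ((b + 1 : ℕ∞) : WithBot ℕ∞) := by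
        rw [WithBot.bot_add] at h
        exact_mod_cast h
      exact absurd h' (WithBot.bot_ne_coe)
  | coe n =>
    induction b with
    | bot =>
      have h' : ((n + 1 : ℕ∞) : WithBot ℕ∞) = (⊥ : WithBot ℕ∞) := by
        rw [WithBot.bot_add] at h
        exact_mod_cast h
      exact absurd h' (WithBot.coe_ne_bot)
    | coe m =>
      have hn : n ≠ ⊤ := fun hn => ha (by rw [hn]; rfl)
      have h' : n + 1 = m + 1 := by exact_mod_cast h
      obtain ⟨k, rfl⟩ := ENat.ne_top_iff_exists.mp hn
      induction m with
      | top => exact absurd h' (by simp)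
      | coe m =>
        have : k + 1 = m + 1 := by exact_mod_cast h'
        have : k = m := by omega
        rw [this]

section

variable (A : Type u) [CommRing A] [IsLocalRing A]

theorem nontrivial_of_isCohenMacaulayModule {M : Type v} [AddCommGroup M] [Module A M]
    (hM : LocCoh.IsCohenMacaulayModule A M) : Nontrivial M := by
  by_contra hcon
  rw [not_nontrivial_iff_subsingleton] at hcon
  unfold LocCoh.IsCohenMacaulayModule at hM
  rw [Module.supportDim_eq_bot_of_subsingleton] at hM
  exact absurd hM (by simp)

theorem isCohenMacaulayModule_congr {M : Type v} {M' : Type*} [AddCommGroup M] [Module A M]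
    [AddCommGroup M'] [Module A M'] (e : M ≃ₗ[A] M') :
    LocCoh.IsCohenMacaulayModule A M ↔ LocCoh.IsCohenMacaulayModule A M' := by
  unfold LocCoh.IsCohenMacaulayModule LocCoh.depth
  rw [Module.supportDim_eq_of_equiv e, idealDepth_congr _ e]

variable [IsNoetherianRing A]

/-- `dim M ≤ dim M/(rs)M + length rs` for a sequence in the maximal ideal. -/
theorem supportDim_le_supportDim_quotient_ofList_add_length (M : Type v) [AddCommGroup M]
    [Module A M] [Module.Finite A M] (rs : List A) (hrs : ∀ r ∈ rs, r ∈ maximalIdeal A) :
    Module.supportDim A M ≤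
      Module.supportDim A (M ⧸ Ideal.ofList rs • (⊤ : Submodule A M)) + rs.length := by
  induction rs generalizing M with
  | nil =>
    rw [Ideal.ofList_nil, Submodule.bot_smul]
    simpa using (Module.supportDim_eq_of_equiv (Submodule.quotEquivOfEqBot
      (⊥ : Submodule A M) rfl)).ge
  | cons x rs' ih =>
    have hx : x ∈ maximalIdeal A := hrs x (by simp)
    have h1 := Module.supportDim_le_supportDim_quotSMulTop_succ (M := M) hx
    have h2 := ih (QuotSMulTop x M) (fun r hr => hrs r (List.mem_cons_of_mem _ hr))
    rw [Module.supportDim_eq_of_equiv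
      (Submodule.quotOfListConsSMulTopEquivQuotSMulTopInner M x rs')]
    calc Module.supportDim A M ≤ Module.supportDim A (QuotSMulTop x M) + 1 := h1
      _ ≤ (Module.supportDim A (QuotSMulTop x M ⧸
            Ideal.ofList rs' • (⊤ : Submodule A (QuotSMulTop x M))) + rs'.length) + 1 := by
          gcongr
      _ = _ := by
          rw [List.length_cons, add_assoc]
          push_cast
          rfl

/-- Quotient of a CM module by a regular element of the maximal ideal is CM. -/
theorem isCohenMacaulayModule_quotSMulTop (M : Type u) [AddCommGroup M] [Module A M]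
    [Module.Finite A M] (hM : LocCoh.IsCohenMacaulayModule A M) {x : A}
    (hx : x ∈ maximalIdeal A) (hreg : IsSMulRegular M x) :
    LocCoh.IsCohenMacaulayModule A (QuotSMulTop x M) := by
  unfold LocCoh.IsCohenMacaulayModule at hM ⊢
  have h1 := Module.supportDim_quotSMulTop_succ_eq_supportDim hreg hx
  have h2 := depth_quotSMulTop_add_one A M hx hreg
  apply withBot_enat_add_one_cancel (supportDim_ne_top A _)
  rw [h1, hM, ← h2]
  push_cast
  rfl

/-- Quotient of a CM module by a regular sequence in the maximal ideal is CM. -/
theorem isCohenMacaulayModule_quotient_ofList (M : Type u) [AddCommGroup M] [Module A M]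
    [Module.Finite A M] (hM : LocCoh.IsCohenMacaulayModule A M) (rs : List A)
    (hrs : ∀ r ∈ rs, r ∈ maximalIdeal A) (hreg : IsWeaklyRegular M rs) :
    LocCoh.IsCohenMacaulayModule A (M ⧸ Ideal.ofList rs • (⊤ : Submodule A M)) := by
  induction rs generalizing M with
  | nil =>
    rw [Ideal.ofList_nil, Submodule.bot_smul]
    exact (isCohenMacaulayModule_congr A (Submodule.quotEquivOfEqBot
      (⊥ : Submodule A M) rfl)).mpr hM
  | cons x rs' ih =>
    have hx : x ∈ maximalIdeal A := hrs x (by simp)
    obtain ⟨h1, h2⟩ := (isWeaklyRegular_cons_iff M x rs').mp hreg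
    rw [isCohenMacaulayModule_congr A
      (Submodule.quotOfListConsSMulTopEquivQuotSMulTopInner M x rs')]
    exact ih (QuotSMulTop x M) (isCohenMacaulayModule_quotSMulTop A M hM hx h1)
      (fun r hr => hrs r (List.mem_cons_of_mem _ hr)) h2

/-- In a CM module, a parameter element is regular. -/
theorem isSMulRegular_of_supportDim_quotSMulTop_add_one_eq (M : Type u) [AddCommGroup M]
    [Module A M] [Module.Finite A M] (hM : LocCoh.IsCohenMacaulayModule A M) {x : A}
    (hx : x ∈ maximalIdeal A)
    (h : Module.supportDim A (QuotSMulTop x M) + 1 = Module.supportDim A M) :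
    IsSMulRegular M x := by
  have hx' : x ∈ Ring.jacobson A := by rwa [IsLocalRing.ringJacobson_eq_maximalIdeal]
  have h1 := (supportDim_quotSMulTop_add_one_eq_iff A M x hx').mp h
  by_contra hcon
  have : x ∈ {r : A | IsSMulRegular M r}ᶜ := hcon
  rw [← biUnion_associatedPrimes_eq_compl_regular A M] at this
  obtain ⟨p, hp, hxp⟩ := Set.mem_iUnion₂.mp this
  exact h1 ⟨p, IsAssociatedPrime.isPrime hp⟩ (mem_support_of_mem_associatedPrimes A hp)
    (ringKrullDim_quotient_eq_supportDim_of_isCohenMacaulayModule A M hM p hp) hxp

/-- In a CM module, a sequence in the maximal ideal is regular iff it is part of a system of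
parameters. -/
theorem isWeaklyRegular_iff_supportDim_of_isCohenMacaulayModule (M : Type u) [AddCommGroup M]
    [Module A M] [Module.Finite A M] (hM : LocCoh.IsCohenMacaulayModule A M) (xs : List A)
    (hxs : ∀ x ∈ xs, x ∈ maximalIdeal A) :
    IsWeaklyRegular M xs ↔
      Module.supportDim A (M ⧸ Ideal.ofList xs • (⊤ : Submodule A M)) + xs.length =
        Module.supportDim A M := by
  constructor
  · intro hreg
    have := nontrivial_of_isCohenMacaulayModule A hM
    exact Module.supportDim_add_length_eq_supportDim_of_isRegular xs
      (isRegular_of_isWeaklyRegular_of_mem (maximalIdeal_smul_top_ne_top A M) hreg hxs)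
  · intro h
    induction xs generalizing M with
    | nil => exact IsWeaklyRegular.nil A M
    | cons x rs ih =>
      have hx : x ∈ maximalIdeal A := hxs x (by simp)
      have hrs : ∀ r ∈ rs, r ∈ maximalIdeal A := fun r hr => hxs r (List.mem_cons_of_mem _ hr)
      rw [Module.supportDim_eq_of_equiv
        (Submodule.quotOfListConsSMulTopEquivQuotSMulTopInner M x rs)] at h
      have h1 := Module.supportDim_le_supportDim_quotSMulTop_succ (M := M) hx
      have h2 := supportDim_le_supportDim_quotient_ofList_add_length A (QuotSMulTop x M) rs hrs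
      have h3 : Module.supportDim A (QuotSMulTop x M ⧸
            Ideal.ofList rs • (⊤ : Submodule A (QuotSMulTop x M))) + rs.length + 1 =
          Module.supportDim A M := by
        rw [← h, List.length_cons, add_assoc]
        push_cast
        rfl
      have h4 : Module.supportDim A (QuotSMulTop x M) + 1 = Module.supportDim A M := by
        apply le_antisymm
        · rw [← h3]
          gcongr
        · exact h1
      have hxreg := isSMulRegular_of_supportDim_quotSMulTop_add_one_eq A M hM hx h4
      have hN := isCohenMacaulayModule_quotSMulTop A M hM hx hxreg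
      have h5 : Module.supportDim A (QuotSMulTop x M ⧸
            Ideal.ofList rs • (⊤ : Submodule A (QuotSMulTop x M))) + rs.length =
          Module.supportDim A (QuotSMulTop x M) := by
        apply withBot_enat_add_one_cancel
        · intro htop
          have : Module.supportDim A M = ⊤ := by
            rw [← h3, htop]
            rfl
          exact supportDim_ne_top A M this
        · rw [h3, h4]
      exact (isWeaklyRegular_cons_iff M x rs).mpr ⟨hxreg, ih (QuotSMulTop x M) hN hrs h5⟩

end

end Groth.Agent.Lib.Helper29
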