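import Groth.Prelude.Def_Flat
import Mathlib.Topology.KrullDimension
import Mathlib.Topology.NoetherianSpace
import Mathlib.Topology.Semicontinuity.Basic

/-!
Helper lemmas (helper29) on the topological Krull dimension and the Prelude's
`FlatMor.localDim` (local dimension at a point).
-/

set_option autoImplicit false
universe u

namespace Groth.Agent.Lib.Helper29

open TopologicalSpace Order

variable {X : Type*} [TopologicalSpace X]

/-- A chain of irreducible closed subsets of `X` whose smallest member meets the open set `U`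
restricts to a chain of the same length in `U`. -/
theorem length_le_topologicalKrullDim_of_isOpen (p : LTSeries (IrreducibleCloseds X))
    {U : Set X} (hU : IsOpen U) (hne : ((p.head : Set X) ∩ U).Nonempty) :
    (p.length : WithBot ℕ∞) ≤ topologicalKrullDim U := by
  let f : U → X := Subtype.val
  have hf : Topology.IsOpenEmbedding f := hU.isOpenEmbedding_subtypeVal
  let e := IrreducibleCloseds.orderIsoOfIsOpenEmbedding f hf
  have hmeet : ∀ i, (f ⁻¹' ((p i : IrreducibleCloseds X) : Set X)).Nonempty := by
    intro i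
    obtain ⟨x, hx1, hx2⟩ := hne
    exact ⟨⟨x, hx2⟩, (p.head_le i) hx1⟩
  let q : LTSeries (IrreducibleCloseds U) :=
    LTSeries.mk p.length (fun i => e.symm ⟨p i, hmeet i⟩) (by
      intro i j hij
      apply e.symm.strictMono
      exact p.strictMono hij)
  exact LTSeries.length_le_krullDim q

/-- The preimage in a subspace `Y` of an irreducible subset `Z ⊆ Y` is irreducible. -/
theorem isIrreducible_preimage_val' {Y Z : Set X}
    (hZ : IsIrreducible Z) (hZY : Z ⊆ Y) : IsIrreducible ((↑) ⁻¹' Z : Set Y) := by
  obtain ⟨⟨z, hz⟩, hpre⟩ := hZ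
  refine ⟨⟨⟨z, hZY hz⟩, hz⟩, ?_⟩
  rintro U' V' hU' hV' ⟨y₁, hy₁Z, hy₁U⟩ ⟨y₂, hy₂Z, hy₂V⟩
  obtain ⟨U, hU, rfl⟩ := isOpen_induced_iff.mp hU'
  obtain ⟨V, hV, rfl⟩ := isOpen_induced_iff.mp hV'
  obtain ⟨x, hxZ, hxU, hxV⟩ := hpre U V hU hV ⟨y₁, hy₁Z, hy₁U⟩ ⟨y₂, hy₂Z, hy₂V⟩
  exact ⟨⟨x, hZY hxZ⟩, hxZ, hxU, hxV⟩

/-- A chain of irreducible closed subsets of `X` all contained in the subset `Y` restricts to a
chain of the same length in `Y`. -/
theorem length_le_topologicalKrullDim_of_subset (p : LTSeries (IrreducibleCloseds X))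
    {Y : Set X} (hY : ((p.last : IrreducibleCloseds X) : Set X) ⊆ Y) :
    (p.length : WithBot ℕ∞) ≤ topologicalKrullDim Y := by
  have hsub : ∀ i, ((p i : IrreducibleCloseds X) : Set X) ⊆ Y := fun i =>
    (show ((p i : IrreducibleCloseds X) : Set X) ⊆ (p.last : IrreducibleCloseds X) from
      p.monotone (Fin.le_last i)).trans hY
  let q : LTSeries (IrreducibleCloseds Y) :=
    LTSeries.mk p.length (fun i =>
      ⟨(↑) ⁻¹' ((p i : IrreducibleCloseds X) : Set X),
        isIrreducible_preimage_val' (p i).isIrreducible (hsub i),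
        (p i).isClosed.preimage continuous_subtype_val⟩) (by
      intro i j hij
      have hlt := p.strictMono hij
      have hle : ((p i : IrreducibleCloseds X) : Set X) ⊆ (p j : IrreducibleCloseds X) := hlt.le
      refine lt_of_le_of_ne (fun y hy => hle hy) ?_
      intro h
      apply hlt.ne
      apply IrreducibleCloseds.ext
      apply Set.Subset.antisymm hle
      intro x hx
      have hxY : x ∈ Y := hsub j hx
      have h' := congrArg (fun Z : IrreducibleCloseds Y => (⟨x, hxY⟩ : Y) ∈ (Z : Set Y)) h
      simp only [eq_iff_iff] at h'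
      exact h'.mpr hx)
  exact LTSeries.length_le_krullDim q

/-- `localDim` is bounded by the dimension of any open neighbourhood. -/
theorem localDim_le_of_mem (x : X) (U : Opens X) (hx : x ∈ U) :
    FlatMor.localDim X x ≤ topologicalKrullDim (U : Set X) :=
  iInf_le (fun U : {U : Opens X // x ∈ U} => topologicalKrullDim (U.1 : Set X)) ⟨U, hx⟩

theorem localDim_le_topologicalKrullDim (x : X) :
    FlatMor.localDim X x ≤ topologicalKrullDim X :=
  (localDim_le_of_mem x ⊤ trivial).trans (topologicalKrullDim_subspace_le X _)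

/-- A chain starting at an irreducible closed set containing `x` bounds the local dimension at
`x` from below. -/
theorem length_le_localDim (p : LTSeries (IrreducibleCloseds X)) (x : X)
    (hx : x ∈ (p.head : Set X)) : (p.length : WithBot ℕ∞) ≤ FlatMor.localDim X x := by
  unfold FlatMor.localDim
  refine le_iInf fun U => ?_
  exact length_le_topologicalKrullDim_of_isOpen p U.1.2 ⟨x, hx, U.2⟩

theorem topologicalKrullDim_le_iff {Y : Type*} [TopologicalSpace Y] (c : WithBot ℕ∞) :
    topologicalKrullDim Y ≤ c ↔
      ∀ p : LTSeries (IrreducibleCloseds Y), (p.length : WithBot ℕ∞) ≤ c := by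
  unfold topologicalKrullDim
  rw [krullDim]
  exact iSup_le_iff

/-- An irreducible set contained in a finite union of closed sets lies in one of them. -/
theorem exists_subset_of_subset_iUnion_of_finite {ι : Type*} [Finite ι] {Z : Set X}
    (hZ : IsIrreducible Z) (Y : ι → Set X) (hY : ∀ i, IsClosed (Y i)) (hcov : Z ⊆ ⋃ i, Y i) :
    ∃ i, Z ⊆ Y i := by
  classical
  have := Fintype.ofFinite ι
  obtain ⟨z, hz, hZz⟩ := isIrreducible_iff_sUnion_isClosed.mp hZ (Finset.univ.image Y)
    (by simp only [Finset.mem_image, Finset.mem_univ, true_and]; rintro z ⟨i, rfl⟩; exact hY i)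
    (by simpa using hcov)
  simp only [Finset.mem_image, Finset.mem_univ, true_and] at hz
  obtain ⟨i, rfl⟩ := hz
  exact ⟨i, hZz⟩

/-- Finite closed covers compute the dimension. -/
theorem topologicalKrullDim_eq_iSup_of_finite_isClosed_cover {ι : Type*} [Finite ι]
    (Y : ι → Set X) (hY : ∀ i, IsClosed (Y i)) (hcov : ⋃ i, Y i = Set.univ) :
    topologicalKrullDim X = ⨆ i, topologicalKrullDim (Y i) := by
  apply le_antisymm
  · rw [topologicalKrullDim_le_iff]
    intro p
    obtain ⟨i, hi⟩ := exists_subset_of_subset_iUnion_of_finite p.last.isIrreducible Y hY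
      (by rw [hcov]; exact Set.subset_univ _)
    exact (length_le_topologicalKrullDim_of_subset p hi).trans
      (le_iSup (fun i => topologicalKrullDim (Y i)) i)
  · exact iSup_le fun i => topologicalKrullDim_subspace_le X (Y i)

/-- In a T0 space of dimension `≤ 0` every point is closed. -/
theorem isClosed_singleton_of_topologicalKrullDim_le_zero [T0Space X]
    (h : topologicalKrullDim X ≤ 0) (x : X) : IsClosed ({x} : Set X) := by
  unfold topologicalKrullDim at h
  rw [krullDim_nonpos_iff_forall_isMax] at h
  have hcl : closure ({x} : Set X) = {x} := by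
    apply Set.Subset.antisymm _ subset_closure
    intro y hy
    let Zx : IrreducibleCloseds X := ⟨closure {x}, isIrreducible_singleton.closure, isClosed_closure⟩
    let Zy : IrreducibleCloseds X := ⟨closure {y}, isIrreducible_singleton.closure, isClosed_closure⟩
    have hle : Zy ≤ Zx := by
      change closure ({y} : Set X) ⊆ closure {x}
      exact closure_minimal (Set.singleton_subset_iff.mpr hy) isClosed_closure
    have hge : Zx ≤ Zy := h Zy hle
    have hxy : x ∈ closure ({y} : Set X) := hge (subset_closure (Set.mem_singleton x))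
    have h1 : y ⤳ x := specializes_iff_mem_closure.mpr hxy
    have h2 : x ⤳ y := specializes_iff_mem_closure.mpr hy
    exact (h1.antisymm h2).eq
  rw [← hcl]
  exact isClosed_closure

/-- A Noetherian T0 space of dimension `≤ 0` is finite and discrete. -/
theorem finite_and_discreteTopology_of_topologicalKrullDim_le_zero [NoetherianSpace X] [T0Space X]
    (h : topologicalKrullDim X ≤ 0) : Finite X ∧ DiscreteTopology X := by
  have hT1 : T1Space X := ⟨isClosed_singleton_of_topologicalKrullDim_le_zero h⟩
  have hmax := h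
  unfold topologicalKrullDim at hmax
  rw [krullDim_nonpos_iff_forall_isMax] at hmax
  have hcomp : ∀ Z ∈ irreducibleComponents X, ∃ z : X, Z = {z} := by
    intro Z hZ
    obtain ⟨z, hz⟩ := hZ.1.nonempty
    refine ⟨z, ?_⟩
    let Zz : IrreducibleCloseds X := ⟨{z}, isIrreducible_singleton, isClosed_singleton⟩
    let ZZ : IrreducibleCloseds X := ⟨Z, hZ.1, isClosed_of_mem_irreducibleComponents Z hZ⟩
    have hle : Zz ≤ ZZ := by
      change ({z} : Set X) ⊆ Z
      exact Set.singleton_subset_iff.mpr hz
    have hge : ZZ ≤ Zz := hmax Zz hle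
    exact Set.Subset.antisymm hge hle
  have hfin : (irreducibleComponents X).Finite := NoetherianSpace.finite_irreducibleComponents
  have huniv : (Set.univ : Set X).Finite := by
    rw [← sUnion_irreducibleComponents]
    refine Set.Finite.sUnion hfin ?_
    intro Z hZ
    obtain ⟨z, rfl⟩ := hcomp Z hZ
    exact Set.finite_singleton z
  have hX : Finite X := Set.finite_univ_iff.mp huniv
  exact ⟨hX, inferInstance⟩

/-- The dimension of a nonempty space is nonnegative. -/
theorem topologicalKrullDim_nonneg [Nonempty X] : 0 ≤ topologicalKrullDim X := by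
  unfold topologicalKrullDim
  have : Nonempty (IrreducibleCloseds X) := by
    obtain ⟨x⟩ := ‹Nonempty X›
    exact ⟨⟨closure {x}, isIrreducible_singleton.closure, isClosed_closure⟩⟩
  exact krullDim_nonneg

/-- The local dimension is attained on some open neighbourhood. -/
theorem exists_localDim_eq (x : X) :
    ∃ U : Opens X, x ∈ U ∧ FlatMor.localDim X x = topologicalKrullDim (U : Set X) := by
  have : Nonempty {U : Opens X // x ∈ U} := ⟨⟨⊤, trivial⟩⟩
  obtain ⟨U, hU⟩ := ciInf_mem (fun U : {U : Opens X // x ∈ U} => topologicalKrullDim (U.1 : Set X))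
  exact ⟨U.1, U.2, hU.symm⟩

theorem localDim_nonneg (x : X) : 0 ≤ FlatMor.localDim X x := by
  unfold FlatMor.localDim
  refine le_iInf fun U => ?_
  have : Nonempty (U.1 : Set X) := ⟨⟨x, U.2⟩⟩
  exact topologicalKrullDim_nonneg

/-- In a Noetherian T0 space, a point is isolated iff the local dimension there is zero. -/
theorem isOpen_singleton_iff_localDim_eq_zero [NoetherianSpace X] [T0Space X] (x : X) :
    IsOpen ({x} : Set X) ↔ FlatMor.localDim X x = 0 := by
  constructor
  · intro h
    apply le_antisymm _ (localDim_nonneg x)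
    refine (localDim_le_of_mem x ⟨{x}, h⟩ rfl).trans ?_
    have : Subsingleton (({x} : Set X)) :=
      (Set.subsingleton_coe _).mpr Set.subsingleton_singleton
    exact topologicalKrullDim_zero_of_discreteTopology _
  · intro h
    obtain ⟨U, hxU, hU⟩ := exists_localDim_eq x
    rw [h] at hU
    obtain ⟨-, hdisc⟩ := finite_and_discreteTopology_of_topologicalKrullDim_le_zero
      (X := (U : Set X)) hU.symm.le
    have hopen : IsOpen ({⟨x, hxU⟩} : Set (U : Set X)) := isOpen_discrete _
    have := U.2.isOpenEmbedding_subtypeVal.isOpenMap _ hopen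
    simpa using this

/-- An irreducible set contained in a locally finite union of closed sets lies in one of them. -/
theorem exists_subset_of_subset_iUnion_of_locallyFinite {ι : Type*} {Z : Set X}
    (hZ : IsIrreducible Z) (Y : ι → Set X) (hY : ∀ i, IsClosed (Y i)) (hlf : LocallyFinite Y)
    (hcov : Z ⊆ ⋃ i, Y i) : ∃ i, Z ⊆ Y i := by
  obtain ⟨x, hx⟩ := hZ.nonempty
  obtain ⟨t, ht, hfin⟩ := hlf x
  obtain ⟨U, hUt, hU, hxU⟩ := mem_nhds_iff.mp ht
  have hfin' : {i | (Y i ∩ U).Nonempty}.Finite :=
    hfin.subset fun i hi => hi.mono (Set.inter_subset_inter_right _ hUt)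
  have hdense : Z ⊆ closure (Z ∩ U) :=
    subset_closure_inter_of_isPreirreducible_of_isOpen hZ.isPreirreducible hU ⟨x, hx, hxU⟩
  have hsub : Z ∩ U ⊆ ⋃ i : {i | (Y i ∩ U).Nonempty}, Y i := by
    intro z hz
    obtain ⟨i, hi⟩ := Set.mem_iUnion.mp (hcov hz.1)
    exact Set.mem_iUnion.mpr ⟨⟨i, ⟨z, hi, hz.2⟩⟩, hi⟩
  have : Finite {i | (Y i ∩ U).Nonempty} := hfin'.to_subtype
  have hclosed : IsClosed (⋃ i : {i | (Y i ∩ U).Nonempty}, Y i) :=
    isClosed_iUnion_of_finite fun i => hY i
  have hZsub : Z ⊆ ⋃ i : {i | (Y i ∩ U).Nonempty}, Y i :=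
    hdense.trans (closure_minimal hsub hclosed)
  obtain ⟨i, hi⟩ := exists_subset_of_subset_iUnion_of_finite hZ
    (fun i : {i | (Y i ∩ U).Nonempty} => Y i) (fun i => hY i) hZsub
  exact ⟨i, hi⟩

/-- Locally finite closed covers compute the dimension. -/
theorem topologicalKrullDim_eq_iSup_of_locallyFinite_isClosed_cover {ι : Type*}
    (Y : ι → Set X) (hY : ∀ i, IsClosed (Y i)) (hlf : LocallyFinite Y)
    (hcov : ⋃ i, Y i = Set.univ) :
    topologicalKrullDim X = ⨆ i, topologicalKrullDim (Y i) := by
  apply le_antisymm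
  · rw [topologicalKrullDim_le_iff]
    intro p
    obtain ⟨i, hi⟩ := exists_subset_of_subset_iUnion_of_locallyFinite p.last.isIrreducible Y hY hlf
      (by rw [hcov]; exact Set.subset_univ _)
    exact (length_le_topologicalKrullDim_of_subset p hi).trans
      (le_iSup (fun i => topologicalKrullDim (Y i)) i)
  · exact iSup_le fun i => topologicalKrullDim_subspace_le X (Y i)

/-- Comparison of dimensions for two subspace-like spaces over `X`. -/
theorem topologicalKrullDim_le_of_comp_eq {S T : Type*} [TopologicalSpace S] [TopologicalSpace T]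
    {s : S → X} {t : T → X} (hs : Topology.IsInducing s) (ht : Topology.IsInducing t)
    (f : S → T) (h : t ∘ f = s) : topologicalKrullDim S ≤ topologicalKrullDim T := by
  have hf : Continuous f := ht.continuous_iff.mpr (h ▸ hs.continuous)
  have : Topology.IsInducing f := Topology.IsInducing.of_comp hf ht.continuous (h ▸ hs)
  exact this.topologicalKrullDim_le

/-- Local dimension at a point of a finite union of closed subsets through the point. -/
theorem localDim_eq_iSup_localDim_of_finite_isClosed_cover (x : X)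
    {ι : Type*} [Finite ι] (Y : ι → Set X) (hY : ∀ i, IsClosed (Y i)) (hx : ∀ i, x ∈ Y i)
    (hcov : ⋃ i, Y i = Set.univ) :
    FlatMor.localDim X x = ⨆ i, FlatMor.localDim (Y i) ⟨x, hx i⟩ := by
  apply le_antisymm
  · -- choose neighbourhoods realizing the local dimensions
    choose V hxV hV using fun i => exists_localDim_eq (X := Y i) ⟨x, hx i⟩
    have hVopen : ∀ i, ∃ U : Set X, IsOpen U ∧ Subtype.val ⁻¹' U = ((V i : Opens (Y i)) : Set (Y i)) :=
      fun i => isOpen_induced_iff.mp (V i).2
    choose U hUopen hUV using hVopen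
    let W : Opens X := ⟨⋂ i, U i, isOpen_iInter_of_finite hUopen⟩
    have hxW : x ∈ W := by
      change x ∈ ⋂ i, U i
      refine Set.mem_iInter.mpr fun i => ?_
      have : (⟨x, hx i⟩ : Y i) ∈ Subtype.val ⁻¹' U i := by rw [hUV i]; exact hxV i
      exact this
    refine (localDim_le_of_mem x W hxW).trans ?_
    -- cover of `W` by the closed subsets `Y i ∩ W`
    rw [topologicalKrullDim_eq_iSup_of_finite_isClosed_cover
      (X := (W : Set X)) (fun i => (Subtype.val ⁻¹' (Y i) : Set (W : Set X)))
      (fun i => (hY i).preimage continuous_subtype_val)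
      (by
        ext w
        simp only [Set.mem_iUnion, Set.mem_preimage, Set.mem_univ, iff_true]
        have : (w : X) ∈ ⋃ i, Y i := by rw [hcov]; trivial
        exact Set.mem_iUnion.mp this)]
    refine iSup_mono fun i => ?_
    rw [hV i]
    -- the map `Y i ∩ W → V i`
    let f : (Subtype.val ⁻¹' (Y i) : Set (W : Set X)) → ((V i : Opens (Y i)) : Set (Y i)) :=
      fun w => ⟨⟨w.1.1, w.2⟩, by
        have h1 : (w.1.1 : X) ∈ U i := Set.mem_iInter.mp w.1.2 i
        have : (⟨w.1.1, w.2⟩ : Y i) ∈ Subtype.val ⁻¹' U i := h1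
        rw [hUV i] at this
        exact this⟩
    exact topologicalKrullDim_le_of_comp_eq
      (s := fun w : (Subtype.val ⁻¹' (Y i) : Set (W : Set X)) => (w.1.1 : X))
      (t := fun v : ((V i : Opens (Y i)) : Set (Y i)) => (v.1.1 : X))
      (Topology.IsInducing.subtypeVal.comp Topology.IsInducing.subtypeVal)
      (Topology.IsInducing.subtypeVal.comp Topology.IsInducing.subtypeVal) f rfl
  · refine iSup_le fun i => ?_
    unfold FlatMor.localDim
    refine le_iInf fun U => ?_
    let V : Opens (Y i) := ⟨Subtype.val ⁻¹' (U.1 : Set X), U.1.2.preimage continuous_subtype_val⟩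
    have hxV : (⟨x, hx i⟩ : Y i) ∈ V := U.2
    refine (iInf_le (fun V : {V : Opens (Y i) // (⟨x, hx i⟩ : Y i) ∈ V} =>
      topologicalKrullDim (V.1 : Set (Y i))) ⟨V, hxV⟩).trans ?_
    let f : ((V : Opens (Y i)) : Set (Y i)) → ((U.1 : Opens X) : Set X) := fun v => ⟨v.1.1, v.2⟩
    exact topologicalKrullDim_le_of_comp_eq
      (s := fun v : ((V : Opens (Y i)) : Set (Y i)) => (v.1.1 : X))
      (t := fun u : ((U.1 : Opens X) : Set X) => (u.1 : X))
      (Topology.IsInducing.subtypeVal.comp Topology.IsInducing.subtypeVal)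
      Topology.IsInducing.subtypeVal f rfl

end Groth.Agent.Lib.Helper29
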