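import Groth.Agent.Lib.Helper29.SkDescent
import Groth.Agent.Lib.Helper29.DepthQuot
import Groth.Agent.Lib.Helper29.FibreDescent
import Groth.Agent.Lib.Helper13.RkAt
import Groth.Agent.Lib.Helper47.RegularLocalFlat2
import Groth.Prelude.Def_EGA4b

/-!
Helper lemmas (helper29): ascent of depth, dimension, `(S_k)`, `(R_k)`, Cohen–Macaulayness along
flat ring maps in terms of the base and the fibre local rings (EGA IV 6.3–6.5).
-/

set_option autoImplicit false
universe u

namespace Groth.Agent.Lib.Helper29

open IsLocalRing TensorProduct

section Local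

variable (A B : Type u) [CommRing A] [CommRing B] [IsLocalRing A] [IsLocalRing B]
  [IsNoetherianRing A] [IsNoetherianRing B] [Algebra A B] [Module.Flat A B]
  [IsLocalHom (algebraMap A B)]

/-- Depth formula for a flat local homomorphism: `depth B = depth A + depth B/m_A B`. -/
theorem depth_self_eq_add_of_flat :
    LocCoh.depth B B = LocCoh.depth A A +
      LocCoh.depth (EGA4.FibRing A B) (EGA4.FibRing A B) := by
  have h1 := Groth.Agent.Lib.Helper93.DepthFlat.depth_tensor_of_flat (R := A) (S := B) A B
  have h2 : LocCoh.depth B (B ⊗[A] A) = LocCoh.depth B B :=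
    idealDepth_congr _ (TensorProduct.AlgebraTensorModule.rid A B B)
  rw [h2] at h1
  have heq : ((maximalIdeal A).map (algebraMap A B)) • (⊤ : Submodule B B) =
      (maximalIdeal A).map (algebraMap A B) := by
    rw [smul_eq_mul, Ideal.mul_top]
  have h4 : LocCoh.depth B
      (B ⧸ ((maximalIdeal A).map (algebraMap A B)) • (⊤ : Submodule B B)) =
      LocCoh.depth B (B ⧸ (maximalIdeal A).map (algebraMap A B)) :=
    idealDepth_congr _ (Submodule.quotEquivOfEq _ _ heq)
  rw [h4] at h1
  rw [h1, depth_self_eq_depth_of_surjective (R := B) (R' := EGA4.FibRing A B)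
    Ideal.Quotient.mk_surjective]

end Local

section AtPrime

variable {R S : Type u} [CommRing R] [CommRing S] [Algebra R S] [IsNoetherianRing R]
  [IsNoetherianRing S] [Module.Flat R S]

omit [IsNoetherianRing R] [IsNoetherianRing S] [Module.Flat R S] in
/-- The fibre local ring `S_q / p S_q` is nontrivial. -/
theorem nontrivial_fibLoc (p : Ideal R) [p.IsPrime] (q : Ideal S) [q.IsPrime] [q.LiesOver p] :
    Nontrivial (Localization.AtPrime q ⧸ p.map (algebraMap R (Localization.AtPrime q))) := by
  apply Ideal.Quotient.nontrivial_iff.mpr
  have hle : p.map (algebraMap R (Localization.AtPrime q)) ≤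
      maximalIdeal (Localization.AtPrime q) := by
    rw [Ideal.map_le_iff_le_comap]
    intro x hx
    rw [Ideal.mem_comap, IsScalarTower.algebraMap_apply R S (Localization.AtPrime q),
      IsLocalization.AtPrime.to_map_mem_maximal_iff (Localization.AtPrime q) q]
    have : x ∈ q.under R := by rw [← Ideal.over_def q p]; exact hx
    exact this
  exact (hle.trans_lt (maximalIdeal.isMaximal _).lt_top).ne

/-- Depth and dimension formulas for the flat local map `R_p → S_q` in terms of the fibre local
ring `S_q / p S_q`. -/
theorem depth_and_dim_add_of_flat (p : Ideal R) [p.IsPrime] (q : Ideal S) [q.IsPrime]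
    [q.LiesOver p]
    [IsLocalRing (Localization.AtPrime q ⧸ p.map (algebraMap R (Localization.AtPrime q)))] :
    LocCoh.depth (Localization.AtPrime q) (Localization.AtPrime q) =
        LocCoh.depth (Localization.AtPrime p) (Localization.AtPrime p) +
        LocCoh.depth (Localization.AtPrime q ⧸ p.map (algebraMap R (Localization.AtPrime q)))
          (Localization.AtPrime q ⧸ p.map (algebraMap R (Localization.AtPrime q))) ∧
      ringKrullDim (Localization.AtPrime q) = ringKrullDim (Localization.AtPrime p) +
        ringKrullDim (Localization.AtPrime q ⧸ p.map (algebraMap R (Localization.AtPrime q))) := by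
  let _ := Localization.AtPrime.algebraOfLiesOver p q
  have hNp : IsNoetherianRing (Localization.AtPrime p) :=
    IsLocalization.isNoetherianRing p.primeCompl _ inferInstance
  have hNq : IsNoetherianRing (Localization.AtPrime q) :=
    IsLocalization.isNoetherianRing q.primeCompl _ inferInstance
  have hflat : Module.Flat (Localization.AtPrime p) (Localization.AtPrime q) := inferInstance
  have hloc : IsLocalHom (algebraMap (Localization.AtPrime p) (Localization.AtPrime q)) := by
    rw [Localization.AtPrime.IsLiesOverAlgebra.algebraMap_eq]
    exact Localization.isLocalHom_localRingHom _ _ _ _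
  have hmap : (maximalIdeal (Localization.AtPrime p)).map
      (algebraMap (Localization.AtPrime p) (Localization.AtPrime q)) =
      p.map (algebraMap R (Localization.AtPrime q)) := by
    rw [← Localization.AtPrime.map_eq_maximalIdeal, Ideal.map_map,
      ← IsScalarTower.algebraMap_eq]
  let e : EGA4.FibRing (Localization.AtPrime p) (Localization.AtPrime q) ≃+*
      (Localization.AtPrime q ⧸ p.map (algebraMap R (Localization.AtPrime q))) :=
    Ideal.quotEquivOfEq hmap
  have hNF : IsNoetherianRing (EGA4.FibRing (Localization.AtPrime p) (Localization.AtPrime q)) :=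
    inferInstance
  refine ⟨?_, ?_⟩
  · rw [depth_self_eq_add_of_flat (Localization.AtPrime p) (Localization.AtPrime q),
      depth_self_eq_of_ringEquiv e]
  · rw [ringKrullDim_eq_add_of_flat (Localization.AtPrime p) (Localization.AtPrime q),
      ← ringKrullDim_eq_of_ringEquiv e]

end AtPrime

end Groth.Agent.Lib.Helper29

namespace Groth.Agent.Lib.Helper29

open IsLocalRing TensorProduct

/-- `min k (a + b) ≤ min k a + min k b` in `ℕ∞`. -/
theorem min_add_le_min_add_min (k a b : ℕ∞) : min k (a + b) ≤ min k a + min k b := by
  rcases le_total k a with h | h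
  · rw [min_eq_left h]
    exact (min_le_left _ _).trans le_self_add
  rcases le_total k b with h' | h'
  · rw [min_eq_left h']
    exact (min_le_left _ _).trans le_add_self
  rw [min_eq_right h, min_eq_right h']
  exact min_le_right _ _

section LocalRing

variable (F : Type u) [CommRing F] [IsLocalRing F]

/-- A local ring is isomorphic to its localization at the maximal ideal. -/
noncomputable def equivLocalizationMaximalIdeal :
    F ≃+* Localization.AtPrime (maximalIdeal F) :=
  (IsLocalization.atUnits F (maximalIdeal F).primeCompl
    (fun x ↦ by simpa using! fun a ↦ a)).toRingEquiv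

/-- `(S_k)` for a Noetherian local ring gives the inequality at the closed point. -/
theorem min_le_depth_of_hasSk [IsNoetherianRing F] (k : ℕ) (h : LocCoh.HasSk k F F) :
    min (k : ℕ∞) (maximalIdeal F).height ≤ LocCoh.depth F F := by
  rw [hasSk_self_iff] at h
  rw [depth_self_eq_of_ringEquiv (equivLocalizationMaximalIdeal F)]
  exact h (maximalIdeal F)

/-- `(R_k)` for a Noetherian local ring of dimension `≤ k` gives regularity. -/
theorem isRegularLocalRing_of_hasRk (k : ℕ) (h : LocCoh.HasRk k F)
    (hk : (maximalIdeal F).height ≤ k) : IsRegularLocalRing F := by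
  have := h (maximalIdeal F) hk
  exact IsRegularLocalRing.of_ringEquiv (equivLocalizationMaximalIdeal F).symm

/-- A local ring all of whose localizations are integrally closed domains is an integrally
closed domain. -/
theorem isDomain_and_isIntegrallyClosed_of_isNormalRing (h : EGA4.IsNormalRing F) :
    IsDomain F ∧ IsIntegrallyClosed F := by
  obtain ⟨h1, h2⟩ := h (maximalIdeal F)
  have hd : IsDomain F := (equivLocalizationMaximalIdeal F).toMulEquiv.isDomain _
  exact ⟨hd, IsIntegrallyClosed.of_equiv (equivLocalizationMaximalIdeal F).symm⟩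

end LocalRing

/-- An integrally closed domain is a normal ring. -/
theorem isNormalRing_of_isIntegrallyClosed (R : Type u) [CommRing R] [IsDomain R]
    [IsIntegrallyClosed R] : EGA4.IsNormalRing R := by
  intro p hp
  have hle : p.primeCompl ≤ nonZeroDivisors R := by
    intro x hx
    apply mem_nonZeroDivisors_of_ne_zero
    rintro rfl
    exact hx p.zero_mem
  have hd : IsDomain (Localization.AtPrime p) :=
    IsLocalization.isDomain_localization hle
  exact ⟨hd, isIntegrallyClosed_of_isLocalization _ p.primeCompl hle⟩

/-- `(S_k)` for the localization `R_q` in terms of the primes of `R` below `q`. -/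
theorem hasSk_localization_iff (k : ℕ) (R : Type u) [CommRing R] [IsNoetherianRing R]
    (q : Ideal R) [q.IsPrime] :
    LocCoh.HasSk k (Localization.AtPrime q) (Localization.AtPrime q) ↔
      ∀ (Q : Ideal R) [Q.IsPrime], Q ≤ q →
        min (k : ℕ∞) Q.height ≤
          LocCoh.depth (Localization.AtPrime Q) (Localization.AtPrime Q) := by
  have hNq : IsNoetherianRing (Localization.AtPrime q) :=
    IsLocalization.isNoetherianRing q.primeCompl _ inferInstance
  rw [hasSk_self_iff]
  constructor
  · intro h Q hQ hQq
    have hdisj : Disjoint (q.primeCompl : Set R) (Q : Set R) := by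
      rw [Set.disjoint_left]
      intro x hx hxQ
      exact hx (hQq hxQ)
    have hQ' : (Q.map (algebraMap R (Localization.AtPrime q))).IsPrime :=
      IsLocalization.isPrime_of_isPrime_disjoint q.primeCompl _ Q hQ hdisj
    have hcomap : (Q.map (algebraMap R (Localization.AtPrime q))).comap
        (algebraMap R (Localization.AtPrime q)) = Q :=
      IsLocalization.under_map_of_isPrime_disjoint q.primeCompl _ hQ hdisj
    have hht : (Q.map (algebraMap R (Localization.AtPrime q))).height = Q.height :=
      IsLocalization.height_map_of_disjoint q.primeCompl Q hdisj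
    have h1 := h (Q.map (algebraMap R (Localization.AtPrime q)))
    let e := IsLocalization.localizationLocalizationAtPrimeIsoLocalization q.primeCompl
      (Q.map (algebraMap R (Localization.AtPrime q)))
    have hN1 : IsNoetherianRing (Localization.AtPrime
        ((Q.map (algebraMap R (Localization.AtPrime q))).comap
          (algebraMap R (Localization.AtPrime q)))) :=
      IsLocalization.isNoetherianRing (Ideal.primeCompl
        ((Q.map (algebraMap R (Localization.AtPrime q))).comap
          (algebraMap R (Localization.AtPrime q)))) _ inferInstance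
    rw [hht, ← depth_self_eq_of_ringEquiv e.toRingEquiv] at h1
    have key : ∀ (Q' : Ideal R) (hQ' : Q'.IsPrime), Q' = Q →
        min (k : ℕ∞) Q.height ≤
          LocCoh.depth (Localization.AtPrime Q') (Localization.AtPrime Q') →
        min (k : ℕ∞) Q.height ≤
          LocCoh.depth (Localization.AtPrime Q) (Localization.AtPrime Q) := by
      rintro Q' hQ' rfl h
      exact h
    exact key _ _ hcomap h1
  · intro h Q' hQ'
    let e := IsLocalization.localizationLocalizationAtPrimeIsoLocalization q.primeCompl Q'
    have hN1 : IsNoetherianRing (Localization.AtPrime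
        (Q'.comap (algebraMap R (Localization.AtPrime q)))) :=
      IsLocalization.isNoetherianRing (Ideal.primeCompl
        (Q'.comap (algebraMap R (Localization.AtPrime q)))) _ inferInstance
    have hle : Q'.comap (algebraMap R (Localization.AtPrime q)) ≤ q := by
      intro x hx
      by_contra hxq
      have hu : IsUnit (algebraMap R (Localization.AtPrime q) x) :=
        IsLocalization.map_units (Localization.AtPrime q) (⟨x, hxq⟩ : q.primeCompl)
      exact hQ'.ne_top (Ideal.eq_top_of_isUnit_mem _ hx hu)
    have h1 := h (Q'.comap (algebraMap R (Localization.AtPrime q))) hle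
    have hht := IsLocalization.height_under q.primeCompl Q'
    rw [Ideal.under_def] at hht
    rw [hht, depth_self_eq_of_ringEquiv (R := Localization.AtPrime
      (Q'.comap (algebraMap R (Localization.AtPrime q)))) e.toRingEquiv] at h1
    exact h1

end Groth.Agent.Lib.Helper29

namespace Groth.Agent.Lib.Helper29

open IsLocalRing TensorProduct

section Ascent

variable {R S : Type u} [CommRing R] [CommRing S] [Algebra R S] [IsNoetherianRing R]
  [IsNoetherianRing S] [Module.Flat R S]

/-- Height formula `ht q = ht p + dim (S_q / p S_q)` for a flat map. -/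
theorem height_eq_add_of_flat (p : Ideal R) [p.IsPrime] (q : Ideal S) [q.IsPrime]
    [q.LiesOver p]
    [IsLocalRing (Localization.AtPrime q ⧸ p.map (algebraMap R (Localization.AtPrime q)))] :
    q.height = p.height + (maximalIdeal
      (Localization.AtPrime q ⧸ p.map (algebraMap R (Localization.AtPrime q)))).height := by
  have h := (depth_and_dim_add_of_flat p q).2
  rw [IsLocalization.AtPrime.ringKrullDim_eq_height q,
    IsLocalization.AtPrime.ringKrullDim_eq_height p,
    ← IsLocalRing.maximalIdeal_height_eq_ringKrullDim] at h
  exact_mod_cast h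

/-- Ascent of the `(S_k)` inequality. -/
theorem min_le_depth_of_flat_of_fibLoc (k : ℕ) (p : Ideal R) [p.IsPrime] (q : Ideal S)
    [q.IsPrime] [q.LiesOver p]
    [IsLocalRing (Localization.AtPrime q ⧸ p.map (algebraMap R (Localization.AtPrime q)))]
    (hp : min (k : ℕ∞) p.height ≤
      LocCoh.depth (Localization.AtPrime p) (Localization.AtPrime p))
    (hF : min (k : ℕ∞) (maximalIdeal
      (Localization.AtPrime q ⧸ p.map (algebraMap R (Localization.AtPrime q)))).height ≤
      LocCoh.depth (Localization.AtPrime q ⧸ p.map (algebraMap R (Localization.AtPrime q)))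
        (Localization.AtPrime q ⧸ p.map (algebraMap R (Localization.AtPrime q)))) :
    min (k : ℕ∞) q.height ≤
      LocCoh.depth (Localization.AtPrime q) (Localization.AtPrime q) := by
  rw [height_eq_add_of_flat p q, (depth_and_dim_add_of_flat p q).1]
  exact (min_add_le_min_add_min _ _ _).trans (add_le_add hp hF)

/-- Ascent of regularity. -/
theorem isRegularLocalRing_of_flat_of_fibLoc (p : Ideal R) [p.IsPrime] (q : Ideal S)
    [q.IsPrime] [q.LiesOver p]
    (hp : IsRegularLocalRing (Localization.AtPrime p))
    (hF : IsRegularLocalRing
      (Localization.AtPrime q ⧸ p.map (algebraMap R (Localization.AtPrime q)))) :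
    IsRegularLocalRing (Localization.AtPrime q) := by
  let _ := Localization.AtPrime.algebraOfLiesOver p q
  have hNq : IsNoetherianRing (Localization.AtPrime q) :=
    IsLocalization.isNoetherianRing q.primeCompl _ inferInstance
  have hflat : Module.Flat (Localization.AtPrime p) (Localization.AtPrime q) := inferInstance
  have hloc : IsLocalHom (algebraMap (Localization.AtPrime p) (Localization.AtPrime q)) := by
    rw [Localization.AtPrime.IsLiesOverAlgebra.algebraMap_eq]
    exact Localization.isLocalHom_localRingHom _ _ _ _
  have hmap : (maximalIdeal (Localization.AtPrime p)).map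
      (algebraMap (Localization.AtPrime p) (Localization.AtPrime q)) =
      p.map (algebraMap R (Localization.AtPrime q)) := by
    rw [← Localization.AtPrime.map_eq_maximalIdeal, Ideal.map_map,
      ← IsScalarTower.algebraMap_eq]
  apply Groth.Agent.Lib.Helper47.isRegularLocalRing_of_flat_of_isRegularLocalRing_quotient
    (A := Localization.AtPrime p)
  exact IsRegularLocalRing.of_ringEquiv (Ideal.quotEquivOfEq hmap.symm)

/-- Ascent of Cohen–Macaulayness. -/
theorem isCohenMacaulayLocalRing_of_flat_of_fibLoc (p : Ideal R) [p.IsPrime] (q : Ideal S)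
    [q.IsPrime] [q.LiesOver p]
    (hp : LocCoh.IsCohenMacaulayLocalRing (Localization.AtPrime p))
    (hF : LocCoh.IsCohenMacaulayLocalRing
      (Localization.AtPrime q ⧸ p.map (algebraMap R (Localization.AtPrime q)))) :
    LocCoh.IsCohenMacaulayLocalRing (Localization.AtPrime q) := by
  have hNq : IsNoetherianRing (Localization.AtPrime q) :=
    IsLocalization.isNoetherianRing q.primeCompl _ inferInstance
  have := hF.toIsLocalRing
  obtain ⟨h1, h2⟩ := depth_and_dim_add_of_flat p q
  refine { supportDim_eq_depth := ?_ }
  have h3 := hp.supportDim_eq_depth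
  have h4 := hF.supportDim_eq_depth
  rw [Module.supportDim_self_eq_ringKrullDim] at h3 h4 ⊢
  rw [h2, h1, h3, h4]
  rfl

end Ascent

end Groth.Agent.Lib.Helper29

namespace Groth.Agent.Lib.Helper29

open IsLocalRing TensorProduct

section FibreRing

variable {R S : Type u} [CommRing R] [CommRing S] [Algebra R S]

/-- The localization of the fibre ring `κ(p) ⊗ S` at a prime `q'` is the fibre local ring
`S_r / p S_r`, `r = q' ∩ S`. -/
noncomputable def fiberLocalizationEquiv (p : Ideal R) [p.IsPrime] (q' : Ideal (p.Fiber S))
    [q'.IsPrime] :
    Localization.AtPrime q' ≃+*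
      (Localization.AtPrime
          (q'.comap (Algebra.TensorProduct.includeRight : S →ₐ[R] p.Fiber S)) ⧸
        p.map (algebraMap R (Localization.AtPrime
          (q'.comap (Algebra.TensorProduct.includeRight : S →ₐ[R] p.Fiber S))))) :=
  letI := Localization.AtPrime.algebraOfLiesOver p
    (q'.comap (Algebra.TensorProduct.includeRight : S →ₐ[R] p.Fiber S))
  (Ideal.Fiber.localizationAlgEquivQuotient p q').toRingEquiv

/-- Every prime `q` of `S` over `p` comes from a prime of the fibre ring. -/
theorem exists_fiber_prime (p : Ideal R) [p.IsPrime] (q : Ideal S) [hq : q.IsPrime]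
    [hqp : q.LiesOver p] :
    ∃ q' : Ideal (p.Fiber S), q'.IsPrime ∧
      q'.comap (Algebra.TensorProduct.includeRight : S →ₐ[R] p.Fiber S) = q := by
  let x : p.primesOver S := ⟨q, ⟨hq, hqp⟩⟩
  let q' := PrimeSpectrum.primesOverOrderIsoFiber R S p x
  refine ⟨q'.asIdeal, q'.isPrime, ?_⟩
  have h1 : (PrimeSpectrum.primesOverOrderIsoFiber R S p).symm q' = x :=
    (PrimeSpectrum.primesOverOrderIsoFiber R S p).symm_apply_apply x
  have h2 := congrArg (fun y : p.primesOver S => (y : Ideal S)) h1
  rw [PrimeSpectrum.coe_primesOverOrderIsoFiber_symm_apply] at h2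
  exact h2

end FibreRing

section Global

variable {R S : Type u} [CommRing R] [CommRing S] [Algebra R S] [IsNoetherianRing R]
  [IsNoetherianRing S] [Module.Flat R S]

/-- The `(S_k)` inequality at `r = q' ∩ S` from `(S_k)` of the base at `p` and of the fibre ring
at `q'`. -/
theorem min_le_depth_of_flat_of_fiber (k : ℕ) (p : Ideal R) [p.IsPrime]
    (q' : Ideal (p.Fiber S)) [q'.IsPrime]
    (hp : min (k : ℕ∞) p.height ≤
      LocCoh.depth (Localization.AtPrime p) (Localization.AtPrime p))
    (hq' : min (k : ℕ∞) q'.height ≤
      LocCoh.depth (Localization.AtPrime q') (Localization.AtPrime q')) :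
    min (k : ℕ∞) (q'.comap (Algebra.TensorProduct.includeRight : S →ₐ[R] p.Fiber S)).height ≤
      LocCoh.depth
        (Localization.AtPrime (q'.comap (Algebra.TensorProduct.includeRight : S →ₐ[R] p.Fiber S)))
        (Localization.AtPrime
          (q'.comap (Algebra.TensorProduct.includeRight : S →ₐ[R] p.Fiber S))) := by
  have hNF : IsNoetherianRing (p.Fiber S) := isNoetherianRing_fiber R S p
  have hNq' : IsNoetherianRing (Localization.AtPrime q') :=
    IsLocalization.isNoetherianRing q'.primeCompl _ inferInstance
  let e := fiberLocalizationEquiv p q'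
  have hloc : IsLocalRing (Localization.AtPrime
      (q'.comap (Algebra.TensorProduct.includeRight : S →ₐ[R] p.Fiber S)) ⧸
      p.map (algebraMap R (Localization.AtPrime
        (q'.comap (Algebra.TensorProduct.includeRight : S →ₐ[R] p.Fiber S))))) :=
    e.isLocalRing
  apply min_le_depth_of_flat_of_fibLoc k p
    (q'.comap (Algebra.TensorProduct.includeRight : S →ₐ[R] p.Fiber S)) hp
  rw [← depth_self_eq_of_ringEquiv (R := Localization.AtPrime q') e]
  have h1 : ((maximalIdeal (Localization.AtPrime
      (q'.comap (Algebra.TensorProduct.includeRight : S →ₐ[R] p.Fiber S)) ⧸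
      p.map (algebraMap R (Localization.AtPrime
        (q'.comap (Algebra.TensorProduct.includeRight : S →ₐ[R] p.Fiber S)))))).height :
          WithBot ℕ∞) = q'.height := by
    rw [IsLocalRing.maximalIdeal_height_eq_ringKrullDim, ← ringKrullDim_eq_of_ringEquiv e]
    exact IsLocalization.AtPrime.ringKrullDim_eq_height q' (Localization.AtPrime q')
  have h2 : (maximalIdeal (Localization.AtPrime
      (q'.comap (Algebra.TensorProduct.includeRight : S →ₐ[R] p.Fiber S)) ⧸
      p.map (algebraMap R (Localization.AtPrime
        (q'.comap (Algebra.TensorProduct.includeRight : S →ₐ[R] p.Fiber S)))))).height =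
          q'.height := by exact_mod_cast h1
  rw [h2]
  exact hq'

/-- **Ascent of `(S_k)`**: a flat map of Noetherian rings with `(S_k)` base and `(S_k)` fibre
rings has `(S_k)` total ring. -/
theorem hasSk_of_flat_of_fibers (k : ℕ) (hR : LocCoh.HasSk k R R)
    (hfib : ∀ (p : Ideal R) [p.IsPrime], LocCoh.HasSk k (p.Fiber S) (p.Fiber S)) :
    LocCoh.HasSk k S S := by
  rw [hasSk_self_iff] at hR ⊢
  intro q hq
  have hlies : q.LiesOver (q.under R) := ⟨rfl⟩
  obtain ⟨q', hq', hq'q⟩ := exists_fiber_prime (q.under R) q
  have h1 := min_le_depth_of_flat_of_fiber k (q.under R) q' (hR (q.under R))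
    ((hasSk_self_iff k _).mp (hfib (q.under R)) q')
  have key : ∀ (r : Ideal S) (hr : r.IsPrime), r = q →
      min (k : ℕ∞) r.height ≤
          LocCoh.depth (Localization.AtPrime r) (Localization.AtPrime r) →
      min (k : ℕ∞) q.height ≤
          LocCoh.depth (Localization.AtPrime q) (Localization.AtPrime q) := by
    rintro r hr rfl h
    exact h
  exact key _ _ hq'q h1

end Global

end Groth.Agent.Lib.Helper29
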