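import Groth.Agent.Lib.Helper29.FiniteRestrict

/-!
# Consequences of `FiniteRestrict` (helper29): localization at the maximal ideal of a local ring,
existence of a prime above `p` computing the depth.
-/

set_option autoImplicit false

namespace Groth.Agent.Lib.Helper29

open IsLocalRing PrimeSpectrum
open scoped Pointwise

universe u v

section LocalMax

variable (A : Type u) [CommRing A] [IsLocalRing A]

/-- Localizing at the maximal ideal of a local ring does not change the depth. -/
theorem depth_localization_maximalIdeal [IsNoetherianRing A] (M : Type u) [AddCommGroup M]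
    [Module A M] [Module.Finite A M] :
    LocCoh.depth (Localization.AtPrime (maximalIdeal A))
      (LocalizedModule (maximalIdeal A).primeCompl M) = LocCoh.depth A M := by
  unfold LocCoh.depth
  rw [idealDepth_eq_iInf_depth_localization A (maximalIdeal A) M]
  apply le_antisymm
  · refine le_iInf₂ fun p hp => ?_
    have hpm : p = ⟨maximalIdeal A, inferInstance⟩ :=
      PrimeSpectrum.ext ((maximalIdeal.isMaximal A).eq_of_le p.2.ne_top hp).symm
    subst hpm
    exact le_rfl
  · exact iInf₂_le (⟨maximalIdeal A, inferInstance⟩ : PrimeSpectrum A) le_rfl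

/-- Localizing at the maximal ideal of a local ring does not change the dimension. -/
theorem supportDim_localization_maximalIdeal (M : Type v) [AddCommGroup M]
    [Module A M] [Module.Finite A M] [Nontrivial M] :
    Module.supportDim (Localization.AtPrime (maximalIdeal A))
      (LocalizedModule (maximalIdeal A).primeCompl M) = Module.supportDim A M := by
  have hmem : (⟨maximalIdeal A, inferInstance⟩ : PrimeSpectrum A) ∈ Module.support A M :=
    IsLocalRing.closedPoint_mem_support A M
  rw [supportDim_localizedModule_eq_height A M (maximalIdeal A) hmem]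
  have : Nonempty (Module.support A M) := ⟨⟨_, hmem⟩⟩
  unfold Module.supportDim
  rw [Order.krullDim_eq_iSup_height_of_nonempty, WithBot.coe_inj]
  apply le_antisymm
  · exact le_iSup (fun a : Module.support A M => Order.height a) _
  · refine iSup_le fun a' => Order.height_mono ?_
    exact IsLocalRing.le_maximalIdeal a'.1.2.ne_top

end LocalMax

section Exists

variable (A B : Type u) [CommRing A] [CommRing B] [Algebra A B] [IsNoetherianRing A]
  [IsNoetherianRing B] (M : Type u) [AddCommGroup M] [Module B M] [Module A M]
  [IsScalarTower A B M] [Module.Finite A M]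

/-- Some prime of `Supp_B M` above `p ∈ Supp_A M` computes the depth of `M_p`. -/
theorem exists_depth_localizedModule_eq (p : Ideal A) [p.IsPrime]
    (hp : (⟨p, inferInstance⟩ : PrimeSpectrum A) ∈ Module.support A M) :
    ∃ q : PrimeSpectrum B, q.asIdeal.comap (algebraMap A B) = p ∧ q ∈ Module.support B M ∧
      LocCoh.depth (Localization.AtPrime q.asIdeal) (LocalizedModule q.asIdeal.primeCompl M) =
        LocCoh.depth (Localization.AtPrime p) (LocalizedModule p.primeCompl M) := by
  have hM : Nontrivial (LocalizedModule p.primeCompl M) := Module.mem_support_iff.mp hp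
  obtain ⟨n, hn⟩ := ENat.ne_top_iff_exists.mp
    (depth_ne_top (Localization.AtPrime p) (LocalizedModule p.primeCompl M))
  obtain ⟨-, q0, hq0, hq0s, hq0d⟩ := depth_localizedModule_fibre_aux A B p n M hn.symm
  exact ⟨q0, hq0, hq0s, by rw [hq0d, hn]⟩

/-- `depth M_p ≤ depth M_q` for `q` above `p` in the support. -/
theorem depth_localizedModule_le_of_comap_eq (p : Ideal A) [p.IsPrime] (q : PrimeSpectrum B)
    (hq : q.asIdeal.comap (algebraMap A B) = p) (hqs : q ∈ Module.support B M) :
    LocCoh.depth (Localization.AtPrime p) (LocalizedModule p.primeCompl M) ≤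
      LocCoh.depth (Localization.AtPrime q.asIdeal) (LocalizedModule q.asIdeal.primeCompl M) := by
  rw [depth_localizedModule_eq_iInf A B M p]
  exact iInf₂_le q ⟨hq, hqs⟩

omit [IsNoetherianRing B] in
/-- `dim M_q ≤ dim M_p` for `q` above `p` in the support. -/
theorem supportDim_localizedModule_le_of_comap_eq (p : Ideal A) [p.IsPrime] (q : PrimeSpectrum B)
    (hq : q.asIdeal.comap (algebraMap A B) = p) (hqs : q ∈ Module.support B M) :
    Module.supportDim (Localization.AtPrime q.asIdeal) (LocalizedModule q.asIdeal.primeCompl M) ≤
      Module.supportDim (Localization.AtPrime p) (LocalizedModule p.primeCompl M) := by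
  rw [supportDim_localizedModule_eq_iSup A B M p]
  exact le_iSup₂_of_le q ⟨hq, hqs⟩ le_rfl

omit [IsNoetherianRing B] in
/-- Some prime of `Supp_B M` lies above `p ∈ Supp_A M`. -/
theorem exists_mem_support_comap_eq (p : Ideal A) [p.IsPrime]
    (hp : (⟨p, inferInstance⟩ : PrimeSpectrum A) ∈ Module.support A M) :
    ∃ q : PrimeSpectrum B, q.asIdeal.comap (algebraMap A B) = p ∧ q ∈ Module.support B M := by
  obtain ⟨b, hb⟩ := exists_supportContr_eq A B M ⟨⟨p, inferInstance⟩, hp⟩
  exact ⟨b.1, congrArg (fun z : Module.support A M => z.1.asIdeal) hb, b.2⟩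

end Exists

end Groth.Agent.Lib.Helper29
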