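import Mathlib

/-!
# Heights of primes along integral and surjective ring maps (helper29)

* `height_le_height_comap_of_isIntegral`: for an integral ring map `f : R → S` and a prime `Q` of
  `S`, `ht Q ≤ ht (f⁻¹ Q)` (incomparability).
* `height_comap_le_of_surjective_of_ker_le`: for a surjective ring map `f : R → S` and a prime `n`
  of `S` such that every prime below `f⁻¹ n` contains `ker f`, `ht (f⁻¹ n) ≤ ht n`.
-/

set_option autoImplicit false
universe u v

namespace Groth.Agent.Lib.Helper29

theorem height_le_height_comap_of_isIntegral {R : Type u} {S : Type v} [CommRing R] [CommRing S]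
    (f : R →+* S) (hf : f.IsIntegral) (Q : Ideal S) [Q.IsPrime] :
    Q.height ≤ (Q.comap f).height := by
  let _ : Algebra R S := f.toAlgebra
  have hint : Algebra.IsIntegral R S := ⟨hf⟩
  have hmono : StrictMono (PrimeSpectrum.comap f) := by
    intro P1 P2 h
    have h1 : P1.asIdeal < P2.asIdeal := h
    have h2 : P1.asIdeal.comap (algebraMap R S) < P2.asIdeal.comap (algebraMap R S) :=
      Ideal.IsIntegral.comap_lt_comap h1
    exact h2
  have h3 := Order.height_le_height_apply_of_strictMono _ hmono (⟨Q, inferInstance⟩ : PrimeSpectrum S)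
  rw [← PrimeSpectrum.height_eq_orderHeight, ← PrimeSpectrum.height_eq_orderHeight] at h3
  exact h3

theorem height_comap_le_of_surjective_of_ker_le {R : Type u} {S : Type v} [CommRing R]
    [CommRing S] (f : R →+* S) (hf : Function.Surjective f) (n : Ideal S) [n.IsPrime]
    (H : ∀ Q : Ideal R, Q.IsPrime → Q ≤ n.comap f → RingHom.ker f ≤ Q) :
    (n.comap f).height ≤ n.height := by
  let P : PrimeSpectrum R := ⟨n.comap f, inferInstance⟩
  let N : PrimeSpectrum S := ⟨n, inferInstance⟩
  have hker : ∀ Q : Set.Iic P, RingHom.ker f ≤ Q.1.asIdeal := fun Q => H _ Q.1.2 Q.2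
  have hprime : ∀ Q : Set.Iic P, (Q.1.asIdeal.map f).IsPrime := fun Q =>
    Ideal.map_isPrime_of_surjective hf (hker Q)
  have hcm : ∀ Q : Set.Iic P, (Q.1.asIdeal.map f).comap f = Q.1.asIdeal := fun Q => by
    rw [Ideal.comap_map_of_surjective f hf, sup_eq_left]
    exact hker Q
  let g : Set.Iic P → Set.Iic N := fun Q => ⟨⟨Q.1.asIdeal.map f, hprime Q⟩, by
    change Q.1.asIdeal.map f ≤ n
    rw [Ideal.map_le_iff_le_comap]
    exact Q.2⟩
  have hg : StrictMono g := by
    intro Q1 Q2 h
    have hle : Q1.1.asIdeal.map f ≤ Q2.1.asIdeal.map f := Ideal.map_mono (le_of_lt h)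
    refine lt_of_le_of_ne hle ?_
    intro heq
    have h1 : Q1.1.asIdeal = Q2.1.asIdeal := by
      rw [← hcm Q1, ← hcm Q2]
      exact congrArg (Ideal.comap f) (congrArg (fun x : Set.Iic N => x.1.asIdeal) heq)
    have h2 : Q1 = Q2 := Subtype.ext (PrimeSpectrum.ext h1)
    exact (ne_of_lt h) h2
  have h3 := Order.krullDim_le_of_strictMono g hg
  rw [← Order.height_eq_krullDim_Iic, ← Order.height_eq_krullDim_Iic] at h3
  have h4 : Order.height P ≤ Order.height N := by exact_mod_cast h3
  rw [← PrimeSpectrum.height_eq_orderHeight, ← PrimeSpectrum.height_eq_orderHeight] at h4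
  exact h4

end Groth.Agent.Lib.Helper29
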