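import Groth.Agent.Lib.Helper29.FlatAscent3
import Groth.Agent.Lib.Helper73.RegularNormal
import Mathlib.RingTheory.Ideal.AssociatedPrime.Localization
import Mathlib.RingTheory.Ideal.AssociatedPrime.Finiteness

/-!
Helper lemmas (helper29): openness of the normal locus (EGA IV 6.13.x).
-/

set_option autoImplicit false
universe u

namespace Groth.Agent.Lib.Helper29

open IsLocalRing

section General

variable (A : Type u) [CommRing A]

/-- The normal locus is stable under generization. -/
theorem mem_norLocus_of_le {p q : PrimeSpectrum A} (hp : p ∈ EGA4.norLocus A) (hqp : q ≤ p) :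
    q ∈ EGA4.norLocus A := by
  obtain ⟨hd, hic⟩ := hp
  have hn : EGA4.IsNormalRing (Localization.AtPrime p.asIdeal) :=
    isNormalRing_of_isIntegrallyClosed _
  have hdisj : Disjoint (p.asIdeal.primeCompl : Set A) (q.asIdeal : Set A) := by
    rw [Set.disjoint_left]
    intro x hx hxq
    exact hx (hqp hxq)
  have hQ' : (q.asIdeal.map (algebraMap A (Localization.AtPrime p.asIdeal))).IsPrime :=
    IsLocalization.isPrime_of_isPrime_disjoint p.asIdeal.primeCompl _ q.asIdeal q.isPrime hdisj
  have hcomap : (q.asIdeal.map (algebraMap A (Localization.AtPrime p.asIdeal))).comap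
      (algebraMap A (Localization.AtPrime p.asIdeal)) = q.asIdeal :=
    IsLocalization.under_map_of_isPrime_disjoint p.asIdeal.primeCompl _ q.isPrime hdisj
  obtain ⟨h1, h2⟩ := hn (q.asIdeal.map (algebraMap A (Localization.AtPrime p.asIdeal)))
  let e := IsLocalization.localizationLocalizationAtPrimeIsoLocalization p.asIdeal.primeCompl
    (q.asIdeal.map (algebraMap A (Localization.AtPrime p.asIdeal)))
  have h3 : IsDomain (Localization.AtPrime
      ((q.asIdeal.map (algebraMap A (Localization.AtPrime p.asIdeal))).comap
        (algebraMap A (Localization.AtPrime p.asIdeal)))) :=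
    e.toRingEquiv.toMulEquiv.isDomain _
  have h4 : IsIntegrallyClosed (Localization.AtPrime
      ((q.asIdeal.map (algebraMap A (Localization.AtPrime p.asIdeal))).comap
        (algebraMap A (Localization.AtPrime p.asIdeal)))) :=
    IsIntegrallyClosed.of_equiv e.toRingEquiv.symm
  have key : ∀ (Q' : Ideal A) (hQ' : Q'.IsPrime), Q' = q.asIdeal →
      IsDomain (Localization.AtPrime Q') ∧ IsIntegrallyClosed (Localization.AtPrime Q') →
      IsDomain (Localization.AtPrime q.asIdeal) ∧
        IsIntegrallyClosed (Localization.AtPrime q.asIdeal) := by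
    rintro Q' hQ' rfl h
    exact h
  exact key _ _ hcomap ⟨h3, h4⟩

variable [IsNoetherianRing A]

/-- A Noetherian local normal domain satisfies `(S_2)` at the closed point. -/
theorem min_two_le_depth_of_mem_norLocus {q : PrimeSpectrum A} (hq : q ∈ EGA4.norLocus A) :
    min ((2 : ℕ) : ℕ∞) q.asIdeal.height ≤
      LocCoh.depth (Localization.AtPrime q.asIdeal) (Localization.AtPrime q.asIdeal) := by
  obtain ⟨hd, hic⟩ := hq
  have hN : IsNoetherianRing (Localization.AtPrime q.asIdeal) :=
    IsLocalization.isNoetherianRing q.asIdeal.primeCompl _ inferInstance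
  have h1 := min_le_depth_of_hasSk (Localization.AtPrime q.asIdeal) 2
    (hasSk_two_of_isNormalRing _ (isNormalRing_of_isIntegrallyClosed _))
  have h2 : ((maximalIdeal (Localization.AtPrime q.asIdeal)).height : WithBot ℕ∞) =
      q.asIdeal.height := by
    rw [IsLocalRing.maximalIdeal_height_eq_ringKrullDim,
      IsLocalization.AtPrime.ringKrullDim_eq_height q.asIdeal]
  have h3 : (maximalIdeal (Localization.AtPrime q.asIdeal)).height = q.asIdeal.height := by
    exact_mod_cast h2
  rw [h3] at h1
  exact h1

/-- A point of the normal locus of height at most one is regular. -/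
theorem isRegularLocalRing_of_mem_norLocus_of_height_le_one {q : PrimeSpectrum A}
    (hq : q ∈ EGA4.norLocus A) (hht : q.asIdeal.height ≤ 1) :
    IsRegularLocalRing (Localization.AtPrime q.asIdeal) := by
  obtain ⟨hd, hic⟩ := hq
  have hN : IsNoetherianRing (Localization.AtPrime q.asIdeal) :=
    IsLocalization.isNoetherianRing q.asIdeal.primeCompl _ inferInstance
  apply isRegularLocalRing_of_isIntegrallyClosed_of_dim_le_one
  rw [IsLocalization.AtPrime.ringKrullDim_eq_height q.asIdeal]
  exact_mod_cast hht

/-- If `A` is normal at all proper generizations of `Q` and `depth A_Q ≥ 2` then `A` is normal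
at `Q`. -/
theorem mem_norLocus_of_punctured_of_two_le_depth (Q : PrimeSpectrum A)
    (hpunct : ∀ Q' : PrimeSpectrum A, Q' < Q → Q' ∈ EGA4.norLocus A)
    (hdepth : (2 : ℕ∞) ≤
      LocCoh.depth (Localization.AtPrime Q.asIdeal) (Localization.AtPrime Q.asIdeal)) :
    Q ∈ EGA4.norLocus A := by
  have hN : IsNoetherianRing (Localization.AtPrime Q.asIdeal) :=
    IsLocalization.isNoetherianRing Q.asIdeal.primeCompl _ inferInstance
  have hht : (2 : ℕ∞) ≤ Q.asIdeal.height := by
    have h1 := depth_le_supportDim (Localization.AtPrime Q.asIdeal)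
      (Localization.AtPrime Q.asIdeal)
    rw [Module.supportDim_self_eq_ringKrullDim,
      IsLocalization.AtPrime.ringKrullDim_eq_height Q.asIdeal] at h1
    have h2 : LocCoh.depth (Localization.AtPrime Q.asIdeal) (Localization.AtPrime Q.asIdeal) ≤
        Q.asIdeal.height := by exact_mod_cast h1
    exact hdepth.trans h2
  have hR1 : LocCoh.HasRk 1 (Localization.AtPrime Q.asIdeal) := by
    change EGA4.HasRkAt 1 A Q.asIdeal
    rw [Groth.Agent.Lib.Helper13.hasRkAt_iff]
    intro Q' hQ' hQ'Q hQ'1
    have hlt : (⟨Q', hQ'⟩ : PrimeSpectrum A) < Q := by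
      refine lt_of_le_of_ne hQ'Q ?_
      rintro rfl
      have h21 : ((2 : ℕ) : ℕ∞) ≤ ((1 : ℕ) : ℕ∞) := by exact_mod_cast hht.trans hQ'1
      exact absurd (Nat.cast_le.mp h21) (by decide)
    exact isRegularLocalRing_of_mem_norLocus_of_height_le_one A (hpunct _ hlt) hQ'1
  have hS2 : LocCoh.HasSk 2 (Localization.AtPrime Q.asIdeal) (Localization.AtPrime Q.asIdeal) := by
    rw [hasSk_localization_iff]
    intro Q' hQ' hQ'Q
    rcases eq_or_lt_of_le (show (⟨Q', hQ'⟩ : PrimeSpectrum A) ≤ Q from hQ'Q) with heq | hlt
    · have hQeq : Q' = Q.asIdeal := congrArg PrimeSpectrum.asIdeal heq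
      subst hQeq
      have hdepth' : ((2 : ℕ) : ℕ∞) ≤
          LocCoh.depth (Localization.AtPrime Q.asIdeal) (Localization.AtPrime Q.asIdeal) := by
        exact_mod_cast hdepth
      exact (min_le_left _ _).trans hdepth'
    · have h5 := min_two_le_depth_of_mem_norLocus A (hpunct ⟨Q', hQ'⟩ hlt)
      exact h5
  exact isDomain_and_isIntegrallyClosed_of_isNormalRing _
    (isNormalRing_of_hasRk_one_of_hasSk_two _ hR1 hS2)

end General

end Groth.Agent.Lib.Helper29

namespace Groth.Agent.Lib.Helper29

open IsLocalRing

section Domain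

variable (B : Type u) [CommRing B] [IsDomain B] [IsNoetherianRing B]

/-- If `a ≠ 0` lies in the prime `Q` of the Noetherian domain `B` and `Q` is not an associated
prime of `B/aB`, then `depth B_Q ≥ 2`. -/
theorem two_le_depth_of_not_mem_associatedPrimes (a : B) (ha : a ≠ 0) (Q : Ideal B) [Q.IsPrime]
    (haQ : a ∈ Q) (hQ : Q ∉ associatedPrimes B (QuotSMulTop a B)) :
    (2 : ℕ∞) ≤ LocCoh.depth (Localization.AtPrime Q) (Localization.AtPrime Q) := by
  have hN : IsNoetherianRing (Localization.AtPrime Q) :=
    IsLocalization.isNoetherianRing Q.primeCompl _ inferInstance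
  have hreg : IsSMulRegular B a := fun x y hxy => mul_left_cancel₀ ha hxy
  have h1 := depth_localizedModule_quotSMulTop_add_one B Q B haQ hreg
  rw [depth_localizedModule_self] at h1
  have h2 : LocCoh.depth (Localization.AtPrime Q)
      (LocalizedModule Q.primeCompl (QuotSMulTop a B)) ≠ 0 := by
    intro h0
    rw [depth_eq_zero_iff] at h0
    have h3 := Module.associatedPrimes.preimage_comap_associatedPrimes_eq_associatedPrimes_of_isLocalizedModule
      Q.primeCompl (R' := Localization.AtPrime Q)
      (LocalizedModule.mkLinearMap Q.primeCompl (QuotSMulTop a B))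
    have h4 : maximalIdeal (Localization.AtPrime Q) ∈
        (Ideal.comap (algebraMap B (Localization.AtPrime Q))) ⁻¹'
          (associatedPrimes B (QuotSMulTop a B)) := by
      rw [h3]; exact h0
    rw [Set.mem_preimage] at h4
    have h7 : Ideal.comap (algebraMap B (Localization.AtPrime Q))
        (maximalIdeal (Localization.AtPrime Q)) = Q :=
      Localization.AtPrime.under_maximalIdeal
    rw [h7] at h4
    exact hQ h4
  have h5 : (1 : ℕ∞) ≤ LocCoh.depth (Localization.AtPrime Q)
      (LocalizedModule Q.primeCompl (QuotSMulTop a B)) :=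
    Order.one_le_iff_pos.mpr (pos_iff_ne_zero.mpr h2)
  rw [← h1]
  have h6 : (2 : ℕ∞) = 1 + 1 := by norm_num
  rw [h6]
  exact add_le_add h5 le_rfl

/-- Key lemma: in a Noetherian domain, if the normal locus contains a nonempty basic open set
then it is open. -/
theorem isOpen_norLocus_of_isDomain (a : B) (ha : a ≠ 0)
    (h : ∀ q : PrimeSpectrum B, a ∉ q.asIdeal → q ∈ EGA4.norLocus B) :
    IsOpen (EGA4.norLocus B) := by
  classical
  rw [← isClosed_compl_iff]
  let T : Set (PrimeSpectrum B) :=
    {Q | Q.asIdeal ∈ associatedPrimes B (QuotSMulTop a B) ∧ Q ∉ EGA4.norLocus B}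
  have hTfin : T.Finite := by
    have hfin : (associatedPrimes B (QuotSMulTop a B)).Finite :=
      associatedPrimes.finite B (QuotSMulTop a B)
    refine Set.Finite.of_finite_image (f := PrimeSpectrum.asIdeal) (hfin.subset ?_) ?_
    · rintro _ ⟨Q, hQ, rfl⟩
      exact hQ.1
    · intro x _ y _ hxy
      exact PrimeSpectrum.ext hxy
  have hset : (EGA4.norLocus B)ᶜ = ⋃ Q ∈ T, PrimeSpectrum.zeroLocus (Q.asIdeal : Set B) := by
    ext q
    simp only [Set.mem_compl_iff, Set.mem_iUnion, PrimeSpectrum.mem_zeroLocus,
      SetLike.coe_subset_coe, exists_prop]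
    constructor
    · intro hq
      -- choose a non-normal generization of minimal height
      let S : Set (PrimeSpectrum B) := {Q | Q ≤ q ∧ Q ∉ EGA4.norLocus B}
      have hSne : S.Nonempty := ⟨q, le_rfl, hq⟩
      obtain ⟨Q, hQS, hQmin⟩ := WellFounded.has_min
        (InvImage.wf (fun Q : PrimeSpectrum B => Q.asIdeal.height) wellFounded_lt) S hSne
      have hpunct : ∀ Q' : PrimeSpectrum B, Q' < Q → Q' ∈ EGA4.norLocus B := by
        intro Q' hlt
        by_contra hQ'
        have hlt' : Q'.asIdeal.height < Q.asIdeal.height :=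
          Ideal.height_strict_mono_of_isPrime hlt
        exact hQmin Q' ⟨hlt.le.trans hQS.1, hQ'⟩ hlt'
      refine ⟨Q, ⟨?_, hQS.2⟩, hQS.1⟩
      by_contra hQass
      have haQ : a ∈ Q.asIdeal := by
        by_contra haQ
        exact hQS.2 (h Q haQ)
      have hd := two_le_depth_of_not_mem_associatedPrimes B a ha Q.asIdeal haQ hQass
      exact hQS.2 (mem_norLocus_of_punctured_of_two_le_depth B Q hpunct hd)
    · rintro ⟨Q, hQT, hQq⟩ hq
      exact hQT.2 (mem_norLocus_of_le B hq hQq)
  rw [hset]
  exact hTfin.isClosed_biUnion fun Q _ => PrimeSpectrum.isClosed_zeroLocus _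

end Domain

end Groth.Agent.Lib.Helper29

namespace Groth.Agent.Lib.Helper29

open IsLocalRing

section Away

variable (A : Type u) [CommRing A]

/-- If `A_p` is a domain (`A` Noetherian) there is `s ∉ p` with `A_s` a domain. -/
theorem exists_isDomain_away [IsNoetherianRing A] (p : Ideal A) [p.IsPrime]
    [IsDomain (Localization.AtPrime p)] :
    ∃ s : A, s ∉ p ∧ IsDomain (Localization.Away s) := by
  classical
  have hfg : (RingHom.ker (algebraMap A (Localization.AtPrime p))).FG :=
    (isNoetherianRing_iff_ideal_fg A).mp inferInstance _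
  obtain ⟨G, hG⟩ := hfg
  have hGt : ∀ g ∈ G, ∃ t : p.primeCompl, (t : A) * g = 0 := by
    intro g hg
    have hgK : g ∈ RingHom.ker (algebraMap A (Localization.AtPrime p)) := by
      rw [← hG]; exact Submodule.subset_span hg
    exact (IsLocalization.map_eq_zero_iff p.primeCompl (Localization.AtPrime p) g).mp hgK
  choose! t ht using hGt
  let s : p.primeCompl := ∏ g ∈ G, t g
  have hs : ∀ x ∈ RingHom.ker (algebraMap A (Localization.AtPrime p)), (s : A) * x = 0 := by
    intro x hx
    rw [← hG] at hx
    refine Submodule.span_induction ?_ ?_ ?_ ?_ hx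
    · intro g hg
      have hdvd : (t g : A) ∣ (s : A) := by
        have : (s : A) = ∏ g ∈ G, (t g : A) := by
          simp [s]
        rw [this]
        exact Finset.dvd_prod_of_mem _ hg
      obtain ⟨c, hc⟩ := hdvd
      rw [hc, mul_comm (t g : A) c, mul_assoc, ht g hg, mul_zero]
    · simp
    · intro x y _ _ hx hy
      rw [mul_add, hx, hy, add_zero]
    · intro c x _ hx
      rw [smul_eq_mul, mul_left_comm, hx, mul_zero]
  refine ⟨s, s.2, ?_⟩
  have hunit : IsUnit (algebraMap A (Localization.AtPrime p) (s : A)) :=
    IsLocalization.map_units (Localization.AtPrime p) s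
  let φ : Localization.Away (s : A) →+* Localization.AtPrime p :=
    IsLocalization.Away.lift (s : A) hunit
  have hinj : Function.Injective φ := by
    rw [injective_iff_map_eq_zero]
    intro y hy
    obtain ⟨x, m, rfl⟩ := IsLocalization.exists_mk'_eq (Submonoid.powers (s : A)) y
    have h1 : φ (IsLocalization.mk' (Localization.Away (s : A)) x m) *
        φ (algebraMap A (Localization.Away (s : A)) (m : A)) =
        φ (algebraMap A (Localization.Away (s : A)) x) := by
      rw [← map_mul, IsLocalization.mk'_spec]
    rw [hy, zero_mul, IsLocalization.Away.lift_eq] at h1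
    have h2 : x ∈ RingHom.ker (algebraMap A (Localization.AtPrime p)) := h1.symm
    rw [IsLocalization.mk'_eq_zero_iff]
    exact ⟨⟨(s : A), Submonoid.mem_powers _⟩, hs x h2⟩
  exact Function.Injective.isDomain φ hinj

/-- The normal locus of `A_s` is the preimage of the normal locus of `A`. -/
theorem mem_norLocus_away_iff (s : A) (q' : PrimeSpectrum (Localization.Away s)) :
    q' ∈ EGA4.norLocus (Localization.Away s) ↔
      PrimeSpectrum.comap (algebraMap A (Localization.Away s)) q' ∈ EGA4.norLocus A := by
  let e := IsLocalization.localizationLocalizationAtPrimeIsoLocalization (Submonoid.powers s)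
    q'.asIdeal
  constructor
  · rintro ⟨h1, h2⟩
    exact ⟨e.toRingEquiv.toMulEquiv.isDomain _, IsIntegrallyClosed.of_equiv e.toRingEquiv.symm⟩
  · rintro ⟨h1, h2⟩
    have h1' : IsDomain (Localization.AtPrime
        (q'.asIdeal.comap (algebraMap A (Localization (Submonoid.powers s))))) := h1
    have h2' : IsIntegrallyClosed (Localization.AtPrime
        (q'.asIdeal.comap (algebraMap A (Localization (Submonoid.powers s))))) := h2
    exact ⟨e.symm.toRingEquiv.toMulEquiv.isDomain _, IsIntegrallyClosed.of_equiv e.toRingEquiv⟩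

/-- The regular locus of `A_s` is the preimage of the regular locus of `A`. -/
theorem mem_regLocus_away_iff (s : A) (q' : PrimeSpectrum (Localization.Away s)) :
    q' ∈ EGA4.regLocus (Localization.Away s) ↔
      PrimeSpectrum.comap (algebraMap A (Localization.Away s)) q' ∈ EGA4.regLocus A := by
  let e := IsLocalization.localizationLocalizationAtPrimeIsoLocalization (Submonoid.powers s)
    q'.asIdeal
  constructor
  · intro h
    have : IsRegularLocalRing (Localization.AtPrime q'.asIdeal) := h
    exact IsRegularLocalRing.of_ringEquiv e.symm.toRingEquiv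
  · intro h
    have h' : IsRegularLocalRing (Localization.AtPrime
        (q'.asIdeal.comap (algebraMap A (Localization (Submonoid.powers s))))) := h
    exact IsRegularLocalRing.of_ringEquiv e.toRingEquiv

end Away

end Groth.Agent.Lib.Helper29

namespace Groth.Agent.Lib.Helper29

open IsLocalRing

section Main

variable (A : Type u) [CommRing A] [IsNoetherianRing A]

/-- A domain is normal at its generic point. -/
theorem bot_mem_norLocus (B : Type u) [CommRing B] [IsDomain B] :
    (⟨⊥, Ideal.isPrime_bot⟩ : PrimeSpectrum B) ∈ EGA4.norLocus B := by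
  have hle : (⊥ : Ideal B).primeCompl ≤ nonZeroDivisors B := by
    intro x hx
    apply mem_nonZeroDivisors_of_ne_zero
    rintro rfl
    exact hx (Ideal.zero_mem _)
  have hd : IsDomain (Localization.AtPrime (⊥ : Ideal B)) :=
    IsLocalization.isDomain_localization hle
  have hfield : IsField (Localization.AtPrime (⊥ : Ideal B)) := by
    rw [IsLocalRing.isField_iff_maximalIdeal_eq, ← Localization.AtPrime.map_eq_maximalIdeal,
      Ideal.map_bot]
  let _ := hfield.toField
  exact ⟨hd, inferInstance⟩

/-- Openness of the normal locus from generic information on the domains `A_s`. -/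
theorem isOpen_norLocus_of_generic
    (H : ∀ s : A, IsDomain (Localization.Away s) →
      ∃ a : Localization.Away s, a ≠ 0 ∧ ∀ q : PrimeSpectrum (Localization.Away s),
        a ∉ q.asIdeal → q ∈ EGA4.norLocus (Localization.Away s)) :
    IsOpen (EGA4.norLocus A) := by
  rw [isOpen_iff_forall_mem_open]
  intro p hp
  obtain ⟨hd, hic⟩ := hp
  obtain ⟨s, hsp, hdom⟩ := exists_isDomain_away A p.asIdeal
  obtain ⟨a, ha, hD⟩ := H s hdom
  have hN : IsNoetherianRing (Localization.Away s) :=
    IsLocalization.isNoetherianRing (Submonoid.powers s) _ inferInstance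
  have hopen := isOpen_norLocus_of_isDomain (Localization.Away s) a ha hD
  have hemb := PrimeSpectrum.localization_away_isOpenEmbedding (Localization.Away s) s
  refine ⟨PrimeSpectrum.comap (algebraMap A (Localization.Away s)) ''
    EGA4.norLocus (Localization.Away s), ?_, hemb.isOpenMap _ hopen, ?_⟩
  · rintro _ ⟨q', hq', rfl⟩
    exact (mem_norLocus_away_iff A s q').mp hq'
  · have hpr : p ∈ Set.range (PrimeSpectrum.comap (algebraMap A (Localization.Away s))) := by
      rw [PrimeSpectrum.localization_away_comap_range (Localization.Away s) s]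
      exact hsp
    obtain ⟨p', rfl⟩ := hpr
    exact ⟨p', (mem_norLocus_away_iff A s p').mpr ⟨hd, hic⟩, rfl⟩

/-- If the regular locus is open, so is the normal locus. -/
theorem isOpen_norLocus_of_isOpen_regLocus (h : IsOpen (EGA4.regLocus A)) :
    IsOpen (EGA4.norLocus A) := by
  apply isOpen_norLocus_of_generic
  intro s hdom
  have hcont : Continuous (PrimeSpectrum.comap (algebraMap A (Localization.Away s))) :=
    PrimeSpectrum.continuous_comap _
  have hopen : IsOpen (EGA4.regLocus (Localization.Away s)) := by
    have : EGA4.regLocus (Localization.Away s) =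
        PrimeSpectrum.comap (algebraMap A (Localization.Away s)) ⁻¹' EGA4.regLocus A := by
      ext q'
      exact mem_regLocus_away_iff A s q'
    rw [this]
    exact h.preimage hcont
  have hbot : (⟨⊥, Ideal.isPrime_bot⟩ : PrimeSpectrum (Localization.Away s)) ∈
      EGA4.regLocus (Localization.Away s) := by
    obtain ⟨h1, h2⟩ := bot_mem_norLocus (Localization.Away s)
    have hN : IsNoetherianRing (Localization.AtPrime (⊥ : Ideal (Localization.Away s))) :=
      IsLocalization.isNoetherianRing (Ideal.primeCompl (⊥ : Ideal (Localization.Away s))) _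
        (IsLocalization.isNoetherianRing (Submonoid.powers s) _ inferInstance)
    change IsRegularLocalRing (Localization.AtPrime (⊥ : Ideal (Localization.Away s)))
    apply isRegularLocalRing_of_isIntegrallyClosed_of_dim_le_one
    rw [IsLocalization.AtPrime.ringKrullDim_eq_height (⊥ : Ideal (Localization.Away s))]
    have : (⊥ : Ideal (Localization.Away s)).height = 0 := by
      rw [Ideal.height_eq_zero_iff, IsDomain.minimalPrimes_eq_singleton_bot]
      rfl
    rw [this]
    exact zero_le_one
  obtain ⟨_, ⟨a, rfl⟩, hmem, hsub⟩ :=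
    PrimeSpectrum.isTopologicalBasis_basic_opens.exists_subset_of_mem_open hbot hopen
  refine ⟨a, ?_, ?_⟩
  · rintro rfl
    exact hmem (Ideal.zero_mem _)
  · intro q hq
    have hreg : IsRegularLocalRing (Localization.AtPrime q.asIdeal) := hsub hq
    exact Groth.Agent.Lib.Helper73.RegularNormal.isIntegrallyClosed_of_isRegularLocalRing _

end Main

end Groth.Agent.Lib.Helper29

namespace Groth.Agent.Lib.Helper29

open IsLocalRing

section Main2

variable (A : Type u) [CommRing A] [IsNoetherianRing A]

/-- For `s` with `A_s` a domain, the kernel of `A → A_s` is a minimal prime of `A`. -/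
theorem comap_bot_mem_minimalPrimes_of_isDomain_away (s : A) [IsDomain (Localization.Away s)] :
    (⊥ : Ideal (Localization.Away s)).comap (algebraMap A (Localization.Away s)) ∈
      minimalPrimes A := by
  have hprime : ((⊥ : Ideal (Localization.Away s)).comap
      (algebraMap A (Localization.Away s))).IsPrime := Ideal.IsPrime.comap _
  have hs : s ∉ (⊥ : Ideal (Localization.Away s)).comap (algebraMap A (Localization.Away s)) := by
    intro hmem
    rw [Ideal.mem_comap, Ideal.mem_bot] at hmem
    have hu : IsUnit (algebraMap A (Localization.Away s) s) :=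
      IsLocalization.Away.algebraMap_isUnit s
    rw [hmem] at hu
    exact not_isUnit_zero hu
  refine ⟨⟨hprime, bot_le⟩, ?_⟩
  rintro P ⟨hP, -⟩ hPle
  have hsP : s ∉ P := fun h => hs (hPle h)
  have hdisj : Disjoint (Submonoid.powers s : Set A) (P : Set A) := by
    rw [Set.disjoint_left]
    rintro x ⟨n, rfl⟩ hx
    exact hsP (hP.mem_of_pow_mem n hx)
  have hcomap : (P.map (algebraMap A (Localization.Away s))).comap
      (algebraMap A (Localization.Away s)) = P :=
    IsLocalization.under_map_of_isPrime_disjoint (Submonoid.powers s) _ hP hdisj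
  rw [← hcomap]
  exact Ideal.comap_mono bot_le

/-- The normal locus is open iff every generic point in it has a neighbourhood in it. -/
theorem isOpen_norLocus_iff_generic :
    IsOpen (EGA4.norLocus A) ↔
      ∀ p : PrimeSpectrum A, p.asIdeal ∈ minimalPrimes A → p ∈ EGA4.norLocus A →
        ∃ U : Set (PrimeSpectrum A), IsOpen U ∧ p ∈ U ∧ U ⊆ EGA4.norLocus A := by
  constructor
  · intro h p _ hp
    exact ⟨_, h, hp, subset_rfl⟩
  · intro h
    apply isOpen_norLocus_of_generic
    intro s hdom
    let p0 : PrimeSpectrum A := PrimeSpectrum.comap (algebraMap A (Localization.Away s))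
      ⟨⊥, Ideal.isPrime_bot⟩
    have hp0min : p0.asIdeal ∈ minimalPrimes A :=
      comap_bot_mem_minimalPrimes_of_isDomain_away A s
    have hp0nor : p0 ∈ EGA4.norLocus A :=
      (mem_norLocus_away_iff A s _).mp (bot_mem_norLocus (Localization.Away s))
    obtain ⟨U, hUo, hpU, hUsub⟩ := h p0 hp0min hp0nor
    have hcont : Continuous (PrimeSpectrum.comap (algebraMap A (Localization.Away s))) :=
      PrimeSpectrum.continuous_comap _
    have hVo : IsOpen (PrimeSpectrum.comap (algebraMap A (Localization.Away s)) ⁻¹' U) :=
      hUo.preimage hcont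
    have hbot : (⟨⊥, Ideal.isPrime_bot⟩ : PrimeSpectrum (Localization.Away s)) ∈
        PrimeSpectrum.comap (algebraMap A (Localization.Away s)) ⁻¹' U := hpU
    obtain ⟨_, ⟨a, rfl⟩, hmem, hsub⟩ :=
      PrimeSpectrum.isTopologicalBasis_basic_opens.exists_subset_of_mem_open hbot hVo
    refine ⟨a, ?_, ?_⟩
    · rintro rfl
      exact hmem (Ideal.zero_mem _)
    · intro q hq
      exact (mem_norLocus_away_iff A s q).mpr (hUsub (hsub hq))

end Main2

end Groth.Agent.Lib.Helper29
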