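import Groth.Agent.Lib.Helper93.DepthFlat

/-!
Helper lemmas (helper29): a sequence which is weakly regular on the closed fibre of a module flat
over the base is weakly regular on the module and the successive quotients are flat
(EGA 0_IV 15.1.16).
-/

set_option autoImplicit false
universe u

namespace Groth.Agent.Lib.Helper29

open IsLocalRing RingTheory.Sequence
open scoped Pointwise

theorem isWeaklyRegular_and_flat_of_fibre (A B : Type u) [CommRing A] [CommRing B]
    [IsLocalRing A] [IsLocalRing B] [IsNoetherianRing B] [Algebra A B]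
    [IsLocalHom (algebraMap A B)] (fs : List B) :
    ∀ (M : Type u) [AddCommGroup M] [Module B M] [Module A M]
      [IsScalarTower A B M] [Module.Finite B M] [Module.Flat A M],
      IsWeaklyRegular
        (M ⧸ ((maximalIdeal A).map (algebraMap A B) • (⊤ : Submodule B M))) fs →
      IsWeaklyRegular M fs ∧
        ∀ i ≤ fs.length, Module.Flat A (M ⧸ (Ideal.ofList (fs.take i) • (⊤ : Submodule B M))) := by
  induction fs with
  | nil =>
    intro M _ _ _ _ _ _ _
    refine ⟨IsWeaklyRegular.nil B M, fun i _ => ?_⟩
    have hbot : Ideal.ofList (([] : List B).take i) • (⊤ : Submodule B M) = ⊥ := by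
      rw [List.take_nil, Ideal.ofList_nil, Submodule.bot_smul]
    exact Module.Flat.of_linearEquiv
      ((Submodule.quotEquivOfEqBot _ hbot).restrictScalars A)
  | cons y l ih =>
    intro M _ _ _ _ _ _ hreg
    rw [isWeaklyRegular_cons_iff] at hreg
    obtain ⟨h1, h2⟩ := Groth.Agent.Lib.Helper93.DepthFlat.isSMulRegular_and_flat_of_regular_fibre
      (R := A) (S := B) M hreg.1
    have h3 : IsWeaklyRegular (QuotSMulTop y M ⧸
        ((maximalIdeal A).map (algebraMap A B) • (⊤ : Submodule B (QuotSMulTop y M)))) l :=
      ((Groth.Agent.Lib.Helper93.DepthFlat.fibreQuotSMulTopEquiv M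
        ((maximalIdeal A).map (algebraMap A B)) y).isWeaklyRegular_congr l).mpr hreg.2
    obtain ⟨h4, h5⟩ := ih (QuotSMulTop y M) h3
    refine ⟨(isWeaklyRegular_cons_iff M y l).mpr ⟨h1, h4⟩, fun i hi => ?_⟩
    cases i with
    | zero =>
      have hbot : Ideal.ofList ((y :: l).take 0) • (⊤ : Submodule B M) = ⊥ := by
        rw [List.take_zero, Ideal.ofList_nil, Submodule.bot_smul]
      exact Module.Flat.of_linearEquiv
        ((Submodule.quotEquivOfEqBot _ hbot).restrictScalars A)
    | succ j =>
      have hj : j ≤ l.length := by simpa using hi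
      have := h5 j hj
      rw [List.take_succ_cons]
      exact Module.Flat.of_linearEquiv
        ((Submodule.quotOfListConsSMulTopEquivQuotSMulTopInner M y (l.take j)).restrictScalars A)

end Groth.Agent.Lib.Helper29
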