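import Groth.Agent.Lib.Helper29.DepthLoc4
import Groth.Agent.Lib.Helper29.SuppDim
import Groth.Agent.Lib.Helper24.SupportBaseChange
import Mathlib.RingTheory.Ideal.GoingUp
import Mathlib.RingTheory.Ideal.AssociatedPrime.Localization
import Mathlib.RingTheory.Ideal.MinimalPrime.Localization
import Mathlib.RingTheory.Localization.Module

/-!
# Modules over `B` which are finite over `A` (helper29)

For `A → B` Noetherian, `M` a `B`-module finite over `A`, `p` a prime of `A`:
`dim_{A_p} M_p = sup dim_{B_q} M_q` and `depth_{A_p} M_p = inf depth_{B_q} M_q`, `q` running over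
the primes of `Supp_B M` above `p` (EGA 0_IV 16.4.8 / EGA IV 5.7.x-type statements).
-/

set_option autoImplicit false

namespace Groth.Agent.Lib.Helper29

open IsLocalRing PrimeSpectrum
open scoped Pointwise

universe u v

section Height

variable (R : Type u) [CommRing R] (X : Type v) [AddCommGroup X] [Module R X]

/-- The dimension of `X_P` is the height of `P` in `Supp X`. -/
theorem supportDim_localizedModule_eq_height [Module.Finite R X] (P : Ideal R) [P.IsPrime]
    (hP : (⟨P, inferInstance⟩ : PrimeSpectrum R) ∈ Module.support R X) :
    Module.supportDim (Localization.AtPrime P) (LocalizedModule P.primeCompl X) =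
      ((Order.height (⟨⟨P, inferInstance⟩, hP⟩ : Module.support R X) : ℕ∞) : WithBot ℕ∞) := by
  set a : Module.support R X := ⟨⟨P, inferInstance⟩, hP⟩ with ha
  rw [Order.height_eq_krullDim_Iic]
  apply le_antisymm
  · refine Order.krullDim_le_of_strictMono
      (fun q' : Module.support (Localization.AtPrime P) (LocalizedModule P.primeCompl X) =>
        (⟨⟨comap (algebraMap R (Localization.AtPrime P)) q'.1,
          support_localizedModule_subset P.primeCompl X
            (Module.support_subset_preimage_comap (R := R) (A := Localization.AtPrime P)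
              (M := LocalizedModule P.primeCompl X) q'.2)⟩, ?_⟩ : Set.Iic a)) ?_
    · change comap (algebraMap R (Localization.AtPrime P)) q'.1 ≤ ⟨P, inferInstance⟩
      have hmem : comap (algebraMap R (Localization.AtPrime P)) q'.1 ∈
          Set.range (comap (algebraMap R (Localization.AtPrime P))) := ⟨_, rfl⟩
      rw [localization_comap_range (Localization.AtPrime P) P.primeCompl] at hmem
      intro x hx
      by_contra hxp
      exact Set.disjoint_left.mp hmem hxp hx
    · intro q₁ q₂ h12
      have hle : comap (algebraMap R (Localization.AtPrime P)) q₁.1 ≤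
          comap (algebraMap R (Localization.AtPrime P)) q₂.1 :=
        Ideal.comap_mono (show q₁.1.asIdeal ≤ q₂.1.asIdeal from h12.le)
      refine lt_of_le_of_ne hle ?_
      intro heq
      have := localization_comap_injective (Localization.AtPrime P) P.primeCompl
        (congrArg (fun z : Set.Iic a => z.1.1) heq)
      exact h12.ne (Subtype.ext this)
  · have hdisj : ∀ b : Set.Iic a, Disjoint (P.primeCompl : Set R) (b.1.1.asIdeal : Set R) := by
      intro b
      have hb : b.1.1.asIdeal ≤ P := b.2
      exact Set.disjoint_left.mpr (fun x hx hx' => hx (hb hx'))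
    have hprime : ∀ b : Set.Iic a,
        (b.1.1.asIdeal.map (algebraMap R (Localization.AtPrime P))).IsPrime := fun b =>
      IsLocalization.isPrime_of_isPrime_disjoint P.primeCompl _ _ b.1.1.2 (hdisj b)
    have hcomap : ∀ b : Set.Iic a,
        (b.1.1.asIdeal.map (algebraMap R (Localization.AtPrime P))).comap
          (algebraMap R (Localization.AtPrime P)) = b.1.1.asIdeal := fun b =>
      IsLocalization.comap_map_of_isPrime_disjoint P.primeCompl _ b.1.1.2 (hdisj b)
    refine Order.krullDim_le_of_strictMono
      (fun b : Set.Iic a =>
        (⟨⟨b.1.1.asIdeal.map (algebraMap R (Localization.AtPrime P)), hprime b⟩, ?_⟩ :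
          Module.support (Localization.AtPrime P) (LocalizedModule P.primeCompl X))) ?_
    · rw [(LocalizedModule.equivTensorProduct P.primeCompl X).support_eq,
        Groth.Agent.Lib.Helper24.mem_support_baseChange_iff]
      have : comap (algebraMap R (Localization.AtPrime P))
          ⟨b.1.1.asIdeal.map (algebraMap R (Localization.AtPrime P)), hprime b⟩ = b.1.1 :=
        PrimeSpectrum.ext (hcomap b)
      rw [this]
      exact b.1.2
    · intro b₁ b₂ h12
      have hle : b₁.1.1.asIdeal.map (algebraMap R (Localization.AtPrime P)) ≤
          b₂.1.1.asIdeal.map (algebraMap R (Localization.AtPrime P)) :=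
        Ideal.map_mono (show b₁.1.1.asIdeal ≤ b₂.1.1.asIdeal from h12.le)
      refine lt_of_le_of_ne hle ?_
      intro heq
      have h1 : b₁.1.1.asIdeal.map (algebraMap R (Localization.AtPrime P)) =
          b₂.1.1.asIdeal.map (algebraMap R (Localization.AtPrime P)) :=
        congrArg (fun z : Module.support (Localization.AtPrime P)
          (LocalizedModule P.primeCompl X) => z.1.asIdeal) heq
      have h2 : b₁.1.1.asIdeal = b₂.1.1.asIdeal := by
        rw [← hcomap b₁, ← hcomap b₂, h1]
      exact h12.ne (Subtype.ext (Subtype.ext (PrimeSpectrum.ext h2)))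

end Height

section IntegralQuot

variable {A B : Type*} [CommRing A] [CommRing B] [Algebra A B] (I : Ideal B)
  [Algebra.IsIntegral A (B ⧸ I)]

omit [Algebra.IsIntegral A (B ⧸ I)] in
theorem comap_algebraMap_quotient_comap_mk (Q : Ideal (B ⧸ I)) :
    (Q.comap (Ideal.Quotient.mk I)).comap (algebraMap A B) = Q.comap (algebraMap A (B ⧸ I)) := by
  rw [Ideal.comap_comap]
  rfl

omit [Algebra.IsIntegral A (B ⧸ I)] in
theorem comap_algebraMap_quotient_map_mk {q : Ideal B} (hq : I ≤ q) :
    (q.map (Ideal.Quotient.mk I)).comap (algebraMap A (B ⧸ I)) = q.comap (algebraMap A B) := by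
  rw [← comap_algebraMap_quotient_comap_mk,
    Ideal.comap_map_of_surjective _ Ideal.Quotient.mk_surjective, ← RingHom.ker_eq_comap_bot,
    Ideal.mk_ker, sup_eq_left.mpr hq]

/-- Lying over, for primes containing `I`, when `B ⧸ I` is integral over `A`. -/
theorem exists_prime_comap_eq_of_isIntegral_quotient (p : Ideal A) [p.IsPrime]
    (hp : I.comap (algebraMap A B) ≤ p) :
    ∃ q : Ideal B, q.IsPrime ∧ I ≤ q ∧ q.comap (algebraMap A B) = p := by
  have h0 : (⊥ : Ideal (B ⧸ I)).comap (algebraMap A (B ⧸ I)) ≤ p := by
    intro a ha
    apply hp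
    rw [Ideal.mem_comap, Ideal.mem_bot, IsScalarTower.algebraMap_apply A B (B ⧸ I),
      Ideal.Quotient.algebraMap_eq, Ideal.Quotient.eq_zero_iff_mem] at ha
    exact ha
  obtain ⟨Q, -, hQ, hQp⟩ := Ideal.exists_ideal_over_prime_of_isIntegral p (⊥ : Ideal (B ⧸ I)) h0
  refine ⟨Q.comap (Ideal.Quotient.mk I), Ideal.comap_isPrime _ Q, ?_, ?_⟩
  · intro b hb
    rw [Ideal.mem_comap, Ideal.Quotient.eq_zero_iff_mem.mpr hb]
    exact Q.zero_mem
  · rw [comap_algebraMap_quotient_comap_mk, hQp]

/-- Going up, for primes containing `I`, when `B ⧸ I` is integral over `A`. -/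
theorem exists_prime_ge_comap_eq_of_isIntegral_quotient (q : Ideal B) [q.IsPrime] (hq : I ≤ q)
    (p' : Ideal A) [p'.IsPrime] (hp' : q.comap (algebraMap A B) ≤ p') :
    ∃ q' : Ideal B, q'.IsPrime ∧ q ≤ q' ∧ q'.comap (algebraMap A B) = p' := by
  have hQ : (q.map (Ideal.Quotient.mk I)).IsPrime :=
    Ideal.map_isPrime_of_surjective Ideal.Quotient.mk_surjective (by rwa [Ideal.mk_ker])
  have h0 : (q.map (Ideal.Quotient.mk I)).comap (algebraMap A (B ⧸ I)) ≤ p' := by
    rw [comap_algebraMap_quotient_map_mk I hq]
    exact hp'
  obtain ⟨Q', hle, hQ', hQp'⟩ :=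
    Ideal.exists_ideal_over_prime_of_isIntegral_of_isPrime p' (q.map (Ideal.Quotient.mk I)) h0
  refine ⟨Q'.comap (Ideal.Quotient.mk I), Ideal.comap_isPrime _ Q', ?_, ?_⟩
  · exact Ideal.map_le_iff_le_comap.mp hle
  · rw [comap_algebraMap_quotient_comap_mk, hQp']

/-- Incomparability, for primes containing `I`, when `B ⧸ I` is integral over `A`. -/
theorem comap_lt_comap_of_isIntegral_quotient {q q' : Ideal B} [q.IsPrime] (hq : I ≤ q)
    (hlt : q < q') : q.comap (algebraMap A B) < q'.comap (algebraMap A B) := by
  have hQ : (q.map (Ideal.Quotient.mk I)).IsPrime :=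
    Ideal.map_isPrime_of_surjective Ideal.Quotient.mk_surjective (by rwa [Ideal.mk_ker])
  have hq' : I ≤ q' := hq.trans hlt.le
  have hcm : ∀ J : Ideal B, I ≤ J → (J.map (Ideal.Quotient.mk I)).comap (Ideal.Quotient.mk I) = J := by
    intro J hJ
    rw [Ideal.comap_map_of_surjective _ Ideal.Quotient.mk_surjective, ← RingHom.ker_eq_comap_bot,
      Ideal.mk_ker, sup_eq_left.mpr hJ]
  have hlt' : q.map (Ideal.Quotient.mk I) < q'.map (Ideal.Quotient.mk I) := by
    refine lt_of_le_of_ne (Ideal.map_mono hlt.le) ?_
    intro heq
    apply hlt.ne
    rw [← hcm q hq, ← hcm q' hq', heq]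
  have := Ideal.IsIntegral.comap_lt_comap (R := A) hlt'
  rwa [comap_algebraMap_quotient_map_mk I hq, comap_algebraMap_quotient_map_mk I hq'] at this

end IntegralQuot

section Support

variable (A B : Type u) [CommRing A] [CommRing B] [Algebra A B]
  (M : Type v) [AddCommGroup M] [Module B M] [Module A M] [IsScalarTower A B M]

/-- The contraction of a prime in `Supp_B M` lies in `Supp_A M`. -/
theorem comap_mem_support_of_mem_support {q : PrimeSpectrum B} (hq : q ∈ Module.support B M) :
    comap (algebraMap A B) q ∈ Module.support A M := by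
  rw [Module.mem_support_iff'] at hq ⊢
  obtain ⟨m, hm⟩ := hq
  refine ⟨m, fun a ha h0 => hm (algebraMap A B a) ha ?_⟩
  rw [algebraMap_smul, h0]

theorem annihilator_eq_comap_annihilator :
    Module.annihilator A M = (Module.annihilator B M).comap (algebraMap A B) := by
  ext a
  rw [Ideal.mem_comap, Module.mem_annihilator, Module.mem_annihilator]
  simp only [algebraMap_smul]

variable [IsNoetherianRing A] [Module.Finite A M]

/-- `B ⧸ Ann_B M` is integral over `A` when `M` is finite over `A`. -/
theorem isIntegral_quotient_annihilator :
    Algebra.IsIntegral A (B ⧸ Module.annihilator B M) := by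
  set I := Module.annihilator B M with hI
  have hNoeth : IsNoetherian A M := isNoetherian_of_isNoetherianRing_of_finite A M
  let φ : B →ₗ[A] Module.End A M := (Algebra.lsmul A A M).toLinearMap
  have hker : LinearMap.ker φ = I.restrictScalars A := by
    ext b
    simp only [LinearMap.mem_ker, Submodule.restrictScalars_mem, hI, Module.mem_annihilator, φ]
    constructor
    · intro h m
      have := LinearMap.congr_fun h m
      simpa using this
    · intro h
      ext m
      simpa using h m
  let ψ : (B ⧸ I) →ₗ[A] Module.End A M :=
    Submodule.liftQ (I.restrictScalars A) φ (le_of_eq hker.symm)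
  have hψ : Function.Injective ψ := by
    rw [← LinearMap.ker_eq_bot]
    exact Submodule.ker_liftQ_eq_bot _ _ _ (le_of_eq hker)
  have hfin : Module.Finite A (B ⧸ I) := Module.Finite.of_injective ψ hψ
  exact Algebra.IsIntegral.of_finite A (B ⧸ I)

/-- The contraction map `Supp_B M → Supp_A M`. -/
def supportContr : Module.support B M → Module.support A M := fun q =>
  ⟨comap (algebraMap A B) q.1, comap_mem_support_of_mem_support A B M q.2⟩

theorem strictMono_supportContr : StrictMono (supportContr A B M) := by
  have hB : Module.Finite B M := Module.Finite.of_restrictScalars_finite A B M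
  have := isIntegral_quotient_annihilator A B M
  intro q₁ q₂ h12
  have h1 : Module.annihilator B M ≤ q₁.1.asIdeal := Module.mem_support_iff_of_finite.mp q₁.2
  exact comap_lt_comap_of_isIntegral_quotient (A := A) (Module.annihilator B M) h1
    (show q₁.1.asIdeal < q₂.1.asIdeal from h12)

/-- Lying over for supports. -/
theorem exists_supportContr_eq (a : Module.support A M) :
    ∃ b : Module.support B M, supportContr A B M b = a := by
  have hB : Module.Finite B M := Module.Finite.of_restrictScalars_finite A B M
  have := isIntegral_quotient_annihilator A B M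
  have ha : Module.annihilator A M ≤ a.1.asIdeal := Module.mem_support_iff_of_finite.mp a.2
  rw [annihilator_eq_comap_annihilator A B M] at ha
  obtain ⟨q, hq, hIq, hqp⟩ :=
    exists_prime_comap_eq_of_isIntegral_quotient (Module.annihilator B M) a.1.asIdeal ha
  exact ⟨⟨⟨q, hq⟩, Module.mem_support_iff_of_finite.mpr hIq⟩,
    Subtype.ext (PrimeSpectrum.ext hqp)⟩

/-- Going up for supports. -/
theorem exists_ge_supportContr_eq (b : Module.support B M) (a : Module.support A M)
    (hab : supportContr A B M b ≤ a) :
    ∃ b' : Module.support B M, b ≤ b' ∧ supportContr A B M b' = a := by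
  have hB : Module.Finite B M := Module.Finite.of_restrictScalars_finite A B M
  have := isIntegral_quotient_annihilator A B M
  have hb : Module.annihilator B M ≤ b.1.asIdeal := Module.mem_support_iff_of_finite.mp b.2
  obtain ⟨q', hq', hle, hqp⟩ :=
    exists_prime_ge_comap_eq_of_isIntegral_quotient (Module.annihilator B M) b.1.asIdeal hb
      a.1.asIdeal (show b.1.asIdeal.comap (algebraMap A B) ≤ a.1.asIdeal from hab)
  exact ⟨⟨⟨q', hq'⟩, Module.mem_support_iff_of_finite.mpr (hb.trans hle)⟩, hle,
    Subtype.ext (PrimeSpectrum.ext hqp)⟩

/-- Chains in `Supp_A M` lift to `Supp_B M`. -/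
theorem exists_supportContr_eq_last_le_height (l : LTSeries (Module.support A M)) :
    ∃ b : Module.support B M, supportContr A B M b = l.last ∧
      (l.length : ℕ∞) ≤ Order.height b := by
  induction l using RelSeries.inductionOn' with
  | singleton a =>
    obtain ⟨b, hb⟩ := exists_supportContr_eq A B M a
    exact ⟨b, by simpa using hb, by simp⟩
  | snoc l a hla ih =>
    obtain ⟨b, hb, hlen⟩ := ih
    have hla' : l.last < a := hla
    obtain ⟨b', hbb', hb'⟩ := exists_ge_supportContr_eq A B M b a (hb ▸ hla'.le)
    have hlt : b < b' := by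
      refine lt_of_le_of_ne hbb' ?_
      rintro rfl
      rw [hb] at hb'
      exact hla'.ne hb'
    refine ⟨b', by simpa using hb', ?_⟩
    have h1 : Order.height b + 1 ≤ Order.height b' := Order.height_add_one_le hlt
    have h2 : ((l.snoc a hla).length : ℕ∞) = (l.length : ℕ∞) + 1 := by
      simp
    rw [h2]
    exact (add_le_add_left hlen 1).trans h1

/-- The height of a point of `Supp_A M` is the supremum of the heights of the points of
`Supp_B M` above it. -/
theorem height_eq_iSup_height_supportContr (a : Module.support A M) :
    Order.height a = ⨆ (b : Module.support B M) (_ : supportContr A B M b = a), Order.height b := by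
  apply le_antisymm
  · rw [Order.height_le_iff']
    intro l hl
    obtain ⟨b, hb, hlen⟩ := exists_supportContr_eq_last_le_height A B M l
    exact hlen.trans (le_iSup₂_of_le b (hb.trans hl) le_rfl)
  · refine iSup₂_le fun b hb => ?_
    rw [← hb]
    exact Order.height_le_height_apply_of_strictMono _ (strictMono_supportContr A B M) b

end Support

section Dim

variable (A B : Type u) [CommRing A] [CommRing B] [Algebra A B] [IsNoetherianRing A]
  (M : Type v) [AddCommGroup M] [Module B M] [Module A M] [IsScalarTower A B M]
  [Module.Finite A M]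

/-- Variant of `supportDim_localizedModule_eq_height` for points of the support. -/
theorem supportDim_localizedModule_eq_height' (R : Type u) [CommRing R] (X : Type v)
    [AddCommGroup X] [Module R X] [Module.Finite R X] (b : Module.support R X) :
    Module.supportDim (Localization.AtPrime b.1.asIdeal)
      (LocalizedModule b.1.asIdeal.primeCompl X) = ((Order.height b : ℕ∞) : WithBot ℕ∞) :=
  supportDim_localizedModule_eq_height R X b.1.asIdeal b.2

/-- `dim_{A_p} M_p = sup_q dim_{B_q} M_q`, `q` over `p` in `Supp_B M`. -/
theorem supportDim_localizedModule_eq_iSup (p : Ideal A) [p.IsPrime] :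
    Module.supportDim (Localization.AtPrime p) (LocalizedModule p.primeCompl M) =
      ⨆ q ∈ {q : PrimeSpectrum B | q.asIdeal.comap (algebraMap A B) = p ∧
          q ∈ Module.support B M},
        Module.supportDim (Localization.AtPrime q.asIdeal)
          (LocalizedModule q.asIdeal.primeCompl M) := by
  have hB : Module.Finite B M := Module.Finite.of_restrictScalars_finite A B M
  by_cases hp : (⟨p, inferInstance⟩ : PrimeSpectrum A) ∈ Module.support A M
  · set a : Module.support A M := ⟨⟨p, inferInstance⟩, hp⟩ with ha
    rw [supportDim_localizedModule_eq_height A M p hp]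
    apply le_antisymm
    · rw [height_eq_iSup_height_supportContr A B M]
      obtain ⟨b0, hb0⟩ := exists_supportContr_eq A B M a
      have hmem : ∀ b : Module.support B M, supportContr A B M b = a →
          b.1 ∈ {q : PrimeSpectrum B | q.asIdeal.comap (algebraMap A B) = p ∧
            q ∈ Module.support B M} := by
        intro b hb
        refine ⟨?_, b.2⟩
        exact congrArg (fun z : Module.support A M => z.1.asIdeal) hb
      have hle : ∀ b : Module.support B M, supportContr A B M b = a →
          ((Order.height b : ℕ∞) : WithBot ℕ∞) ≤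
            ⨆ q ∈ {q : PrimeSpectrum B | q.asIdeal.comap (algebraMap A B) = p ∧
                q ∈ Module.support B M},
              Module.supportDim (Localization.AtPrime q.asIdeal)
                (LocalizedModule q.asIdeal.primeCompl M) := by
        intro b hb
        rw [← supportDim_localizedModule_eq_height' B M b]
        exact le_iSup₂_of_le b.1 (hmem b hb) le_rfl
      have hne : (⨆ q ∈ {q : PrimeSpectrum B | q.asIdeal.comap (algebraMap A B) = p ∧
                q ∈ Module.support B M},
              Module.supportDim (Localization.AtPrime q.asIdeal)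
                (LocalizedModule q.asIdeal.primeCompl M)) ≠ ⊥ := by
        intro h
        have := hle b0 hb0
        rw [h] at this
        exact WithBot.coe_ne_bot (le_bot_iff.mp this)
      obtain ⟨x, hx⟩ := WithBot.ne_bot_iff_exists.mp hne
      rw [← hx, WithBot.coe_le_coe]
      refine iSup₂_le fun b hb => ?_
      have := hle b hb
      rw [← hx, WithBot.coe_le_coe] at this
      exact this
    · refine iSup₂_le fun q hq => ?_
      have h1 := supportDim_localizedModule_eq_height' B M ⟨q, hq.2⟩
      rw [h1, WithBot.coe_le_coe]
      have h2 : supportContr A B M ⟨q, hq.2⟩ = a :=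
        Subtype.ext (PrimeSpectrum.ext hq.1)
      have h3 := Order.height_le_height_apply_of_strictMono _ (strictMono_supportContr A B M)
        ⟨q, hq.2⟩
      rw [h2] at h3
      exact h3
  · have : Subsingleton (LocalizedModule p.primeCompl M) := Module.notMem_support_iff.mp hp
    rw [Module.supportDim_eq_bot_of_subsingleton]
    symm
    rw [eq_bot_iff]
    refine iSup₂_le fun q hq => ?_
    exfalso
    apply hp
    have h1 := comap_mem_support_of_mem_support A B M hq.2
    have h2 : comap (algebraMap A B) q = ⟨p, inferInstance⟩ := PrimeSpectrum.ext hq.1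
    rwa [h2] at h1

end Dim

section DepthFibre

variable (A B : Type u) [CommRing A] [CommRing B] [Algebra A B] [IsNoetherianRing A]
  [IsNoetherianRing B]

/-- Every associated prime of `M` over `A` is the contraction of an associated prime over `B`. -/
theorem exists_mem_associatedPrimes_comap_eq (M : Type v) [AddCommGroup M] [Module B M]
    [Module A M] [IsScalarTower A B M] (p : Ideal A) (hp : p ∈ associatedPrimes A M) :
    ∃ q ∈ associatedPrimes B M, q.comap (algebraMap A B) = p := by
  have hpp : p.IsPrime := IsAssociatedPrime.isPrime hp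
  obtain ⟨-, m0, hm0⟩ := isAssociatedPrime_iff.mp hp
  let N : Submodule B M := Submodule.span B {m0}
  have hann : (N.annihilator).comap (algebraMap A B) = p := by
    ext a
    rw [Ideal.mem_comap, Submodule.mem_annihilator_span_singleton, hm0,
      Submodule.mem_colon_singleton, Submodule.mem_bot, algebraMap_smul]
  have hmin : p ∈ ((N.annihilator).comap (algebraMap A B)).minimalPrimes := by
    rw [hann, Ideal.minimalPrimes_eq_subsingleton_self]
    rfl
  obtain ⟨q, hq, hqp⟩ := Ideal.exists_minimalPrimes_comap_eq (algebraMap A B) p hmin
  refine ⟨q, ?_, hqp⟩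
  have h1 : q ∈ associatedPrimes B N :=
    Module.associatedPrimes.minimalPrimes_annihilator_subset_associatedPrimes B N hq
  exact associatedPrimes.subset_of_injective N.injective_subtype h1

/-- An associated prime lies in the support. -/
theorem mem_support_of_mem_associatedPrimes' (M : Type v) [AddCommGroup M] [Module B M]
    (q : PrimeSpectrum B) (hq : q.asIdeal ∈ associatedPrimes B M) : q ∈ Module.support B M := by
  obtain ⟨-, m0, hm0⟩ := isAssociatedPrime_iff.mp hq
  rw [Module.mem_support_iff']
  refine ⟨m0, fun b hb h0 => hb ?_⟩
  rw [hm0, Submodule.mem_colon_singleton, Submodule.mem_bot]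
  exact h0

/-- Key induction for the depth of fibre localizations. -/
theorem depth_localizedModule_fibre_aux (p : Ideal A) [p.IsPrime] (n : ℕ) :
    ∀ (M : Type u) [AddCommGroup M] [Module B M] [Module A M] [IsScalarTower A B M]
      [Module.Finite A M],
      LocCoh.depth (Localization.AtPrime p) (LocalizedModule p.primeCompl M) = n →
      (∀ q : PrimeSpectrum B, q.asIdeal.comap (algebraMap A B) = p → q ∈ Module.support B M →
        (n : ℕ∞) ≤ LocCoh.depth (Localization.AtPrime q.asIdeal)
          (LocalizedModule q.asIdeal.primeCompl M)) ∧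
      (∃ q : PrimeSpectrum B, q.asIdeal.comap (algebraMap A B) = p ∧ q ∈ Module.support B M ∧
        LocCoh.depth (Localization.AtPrime q.asIdeal)
          (LocalizedModule q.asIdeal.primeCompl M) = n) := by
  induction n with
  | zero =>
    intro M _ _ _ _ _ h
    have hB : Module.Finite B M := Module.Finite.of_restrictScalars_finite A B M
    refine ⟨fun q _ _ => by simp, ?_⟩
    have h0 : maximalIdeal (Localization.AtPrime p) ∈
        associatedPrimes (Localization.AtPrime p) (LocalizedModule p.primeCompl M) :=
      (depth_eq_zero_iff _ _).mp (by simpa using h)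
    have h1 : p ∈ associatedPrimes A M := by
      have := Module.associatedPrimes.comap_mem_associatedPrimes_of_mem_associatedPrimes_of_isLocalizedModule_of_fg
        p.primeCompl (LocalizedModule.mkLinearMap p.primeCompl M) _ h0
        ((isNoetherianRing_iff_ideal_fg A).mp inferInstance _)
      have hc : Ideal.comap (algebraMap A (Localization.AtPrime p))
          (maximalIdeal (Localization.AtPrime p)) = p :=
        Localization.AtPrime.under_maximalIdeal
      rwa [hc] at this
    obtain ⟨q, hq, hqp⟩ := exists_mem_associatedPrimes_comap_eq A B M p h1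
    have hqprime : q.IsPrime := IsAssociatedPrime.isPrime hq
    refine ⟨⟨q, hqprime⟩, hqp, mem_support_of_mem_associatedPrimes' B M ⟨q, hqprime⟩ hq, ?_⟩
    simpa using depth_localizedModule_eq_zero_of_mem_associatedPrimes B M q hq
  | succ n ih =>
    intro M _ _ _ _ _ h
    have hB : Module.Finite B M := Module.Finite.of_restrictScalars_finite A B M
    have hnt : Nontrivial (LocalizedModule p.primeCompl M) := by
      by_contra hcon
      rw [not_nontrivial_iff_subsingleton] at hcon
      rw [depth_eq_top_of_subsingleton] at h
      exact ENat.natCast_ne_top _ h.symm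
    -- a regular element of `p`
    obtain ⟨x, hxp, hxreg⟩ : ∃ x ∈ p, IsSMulRegular (LocalizedModule p.primeCompl M)
        (algebraMap A (Localization.AtPrime p) x) := by
      have h1 : ((1 : ℕ) : ℕ∞) ≤ LocCoh.depth (Localization.AtPrime p)
          (LocalizedModule p.primeCompl M) := by
        rw [h]; exact_mod_cast Nat.succ_le_succ (Nat.zero_le n)
      obtain ⟨rs, hlen, hmem, hreg⟩ := (le_depth_iff _ _ 1).mp h1
      match rs, hlen, hmem, hreg with
      | [b], _, hmem, hreg =>
        have hb : b ∈ maximalIdeal (Localization.AtPrime p) := hmem b (by simp)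
        have hbreg : IsSMulRegular (LocalizedModule p.primeCompl M) b :=
          ((RingTheory.Sequence.isWeaklyRegular_cons_iff _ b []).mp hreg.toIsWeaklyRegular).1
        obtain ⟨a, s, rfl⟩ := IsLocalization.exists_mk'_eq p.primeCompl b
        have hspec : IsLocalization.mk' (Localization.AtPrime p) a s *
            algebraMap A (Localization.AtPrime p) s = algebraMap A (Localization.AtPrime p) a :=
          IsLocalization.mk'_spec _ a s
        refine ⟨a, ?_, ?_⟩
        · rw [← IsLocalization.AtPrime.to_map_mem_maximal_iff (Localization.AtPrime p) p,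
            ← hspec]
          exact Ideal.mul_mem_right _ _ hb
        · rw [← hspec]
          exact hbreg.mul ((IsLocalization.map_units (Localization.AtPrime p) s).isSMulRegular _)
    set y : B := algebraMap A B x with hy
    -- the quotient module
    let e := quotSMulTopAlgebraMapEquiv A B M x
    have hfin : Module.Finite A (QuotSMulTop y M) := Module.Finite.equiv e
    have hd1 := depth_localizedModule_quotSMulTop_add_one' A p M hxp hxreg
    rw [h] at hd1
    have hd2 : LocCoh.depth (Localization.AtPrime p)
        (LocalizedModule p.primeCompl (QuotSMulTop x M)) = n := by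
      have h3 : LocCoh.depth (Localization.AtPrime p)
          (LocalizedModule p.primeCompl (QuotSMulTop x M)) + 1 = (n : ℕ∞) + 1 := by
        rw [hd1]; push_cast; rfl
      rw [add_comm, add_comm (n : ℕ∞) 1] at h3
      exact ENat.add_right_injective_of_ne_top (by simp) h3
    have hd3 : LocCoh.depth (Localization.AtPrime p)
        (LocalizedModule p.primeCompl (QuotSMulTop y M)) = n := by
      rw [← hd2]
      exact (idealDepth_congr _ (IsLocalizedModule.mapEquiv p.primeCompl
        (LocalizedModule.mkLinearMap p.primeCompl (QuotSMulTop x M))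
        (LocalizedModule.mkLinearMap p.primeCompl (QuotSMulTop y M))
        (Localization.AtPrime p) e)).symm
    obtain ⟨ih1, ih2⟩ := ih (QuotSMulTop y M) hd3
    -- regularity upstairs
    have hyq : ∀ q : PrimeSpectrum B, q.asIdeal.comap (algebraMap A B) = p → y ∈ q.asIdeal := by
      intro q hq
      have : x ∈ q.asIdeal.comap (algebraMap A B) := hq ▸ hxp
      exact this
    have hyreg : ∀ q : PrimeSpectrum B, q.asIdeal.comap (algebraMap A B) = p →
        IsSMulRegular (LocalizedModule q.asIdeal.primeCompl M)
          (algebraMap B (Localization.AtPrime q.asIdeal) y) := by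
      intro q hq
      rw [isSMulRegular_localizedModule_iff]
      intro m hm
      have hm' : x • m = 0 := by rw [← hm, hy, algebraMap_smul]
      obtain ⟨t, ht, htm⟩ := (isSMulRegular_localizedModule_iff A p.primeCompl M x).mp hxreg m hm'
      refine ⟨algebraMap A B t, ?_, by rw [algebraMap_smul, htm]⟩
      intro hcon
      apply ht
      have : t ∈ q.asIdeal.comap (algebraMap A B) := hcon
      rwa [hq] at this
    have hsupp : ∀ q : PrimeSpectrum B, q.asIdeal.comap (algebraMap A B) = p →
        (q ∈ Module.support B (QuotSMulTop y M) ↔ q ∈ Module.support B M) := by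
      intro q hq
      rw [Module.support_quotSMulTop]
      constructor
      · exact fun h => h.1
      · intro h
        refine ⟨h, ?_⟩
        rw [PrimeSpectrum.mem_zeroLocus, Set.singleton_subset_iff]
        exact hyq q hq
    have hstep : ∀ q : PrimeSpectrum B, q.asIdeal.comap (algebraMap A B) = p →
        LocCoh.depth (Localization.AtPrime q.asIdeal)
          (LocalizedModule q.asIdeal.primeCompl (QuotSMulTop y M)) + 1 =
        LocCoh.depth (Localization.AtPrime q.asIdeal)
          (LocalizedModule q.asIdeal.primeCompl M) := fun q hq =>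
      depth_localizedModule_quotSMulTop_add_one' B q.asIdeal M (hyq q hq) (hyreg q hq)
    constructor
    · intro q hq hqs
      have := ih1 q hq ((hsupp q hq).mpr hqs)
      rw [← hstep q hq]
      push_cast
      exact add_le_add_left this 1
    · obtain ⟨q, hq, hqs, hqd⟩ := ih2
      refine ⟨q, hq, (hsupp q hq).mp hqs, ?_⟩
      rw [← hstep q hq, hqd]
      push_cast
      rfl

/-- `depth_{A_p} M_p = inf_q depth_{B_q} M_q`, `q` over `p` in `Supp_B M`. -/
theorem depth_localizedModule_eq_iInf (M : Type u) [AddCommGroup M] [Module B M] [Module A M]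
    [IsScalarTower A B M] [Module.Finite A M] (p : Ideal A) [p.IsPrime] :
    LocCoh.depth (Localization.AtPrime p) (LocalizedModule p.primeCompl M) =
      ⨅ q ∈ {q : PrimeSpectrum B | q.asIdeal.comap (algebraMap A B) = p ∧
          q ∈ Module.support B M},
        LocCoh.depth (Localization.AtPrime q.asIdeal)
          (LocalizedModule q.asIdeal.primeCompl M) := by
  rcases subsingleton_or_nontrivial (LocalizedModule p.primeCompl M) with hM | hM
  · rw [depth_eq_top_of_subsingleton]
    symm
    rw [eq_top_iff]
    refine le_iInf₂ fun q hq => ?_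
    exfalso
    have h1 := comap_mem_support_of_mem_support A B M hq.2
    have h2 : comap (algebraMap A B) q = ⟨p, inferInstance⟩ := PrimeSpectrum.ext hq.1
    rw [h2, Module.mem_support_iff] at h1
    exact not_subsingleton _ hM
  · obtain ⟨n, hn⟩ := ENat.ne_top_iff_exists.mp
      (depth_ne_top (Localization.AtPrime p) (LocalizedModule p.primeCompl M))
    obtain ⟨h1, q0, hq0, hq0s, hq0d⟩ := depth_localizedModule_fibre_aux A B p n M hn.symm
    rw [← hn]
    apply le_antisymm
    · exact le_iInf₂ fun q hq => h1 q hq.1 hq.2
    · exact iInf₂_le_of_le q0 ⟨hq0, hq0s⟩ (le_of_eq hq0d)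

end DepthFibre

end Groth.Agent.Lib.Helper29
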