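import Groth.Agent.Lib.Helper73.PdLocalize
import Groth.Agent.Lib.Helper82.AusBuch
import Groth.Agent.S0563
import Groth.Agent.Lib.Helper89.CMCatenary
import Groth.Agent.Lib.Helper82.CMPoly
import Groth.Agent.Lib.Helper29.FiniteRestrict
import Groth.Agent.Lib.Helper29.GoingDownMin
import Groth.Agent.Lib.Helper29.CatenaryEquidim
import Groth.Agent.S2669

/-!
Helper lemmas (helper29): over a regular ring `R`, for a finite module `M`, the codepth
`dim M_P - depth M_P` equals `pd_{R_P} M_P - ht (Ann M)_P`; hence the loci `codepth ≤ n` are open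
(EGA IV 6.11.2).
-/

set_option autoImplicit false
universe u

namespace Groth.Agent.Lib.Helper29

open CategoryTheory IsLocalRing

section LocalData

variable (R : Type u) [CommRing R] [IsRegularRing R] (M : Type u) [AddCommGroup M] [Module R M]
  [Module.Finite R M]

/-- projective dimension data at a point of the support of `M`, over a regular ring:
Auslander–Buchsbaum `pd + depth = ht P`. -/
theorem exists_pd_add_depth_eq_height (P : PrimeSpectrum R) (hP : P ∈ Module.support R M) :
    ∃ e d h : ℕ, P.asIdeal.height = h ∧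
      LocCoh.depth (Localization.AtPrime P.asIdeal) (LocalizedModule P.asIdeal.primeCompl M) = d ∧
      HasProjectiveDimensionLT (ModuleCat.of (Localization.AtPrime P.asIdeal)
        (LocalizedModule P.asIdeal.primeCompl M)) (e + 1) ∧
      ¬ HasProjectiveDimensionLT (ModuleCat.of (Localization.AtPrime P.asIdeal)
        (LocalizedModule P.asIdeal.primeCompl M)) e ∧ e + d = h := by
  have hnt : Nontrivial (LocalizedModule P.asIdeal.primeCompl M) := Module.mem_support_iff.mp hP
  have hreg : IsRegularLocalRing (Localization.AtPrime P.asIdeal) :=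
    IsRegularRing.isRegularLocalRing_localization P.asIdeal
  obtain ⟨h, hh⟩ := ENat.ne_top_iff_exists.mp (Ideal.height_ne_top_of_isPrime (I := P.asIdeal))
  have hdim : ringKrullDim (Localization.AtPrime P.asIdeal) = (h : ℕ) := by
    rw [IsLocalization.AtPrime.ringKrullDim_eq_height P.asIdeal, ← hh]; rfl
  have hpd := Groth.Agent.S0563.result (Localization.AtPrime P.asIdeal) h hdim
    (LocalizedModule P.asIdeal.primeCompl M)
  classical
  let Q : ℕ → Prop := fun k => HasProjectiveDimensionLT (ModuleCat.of (Localization.AtPrime P.asIdeal)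
        (LocalizedModule P.asIdeal.primeCompl M)) (k + 1)
  have hQ : ∃ k, Q k := ⟨h, hpd⟩
  have he1 : Q (Nat.find hQ) := Nat.find_spec hQ
  have he2 : ¬ HasProjectiveDimensionLT (ModuleCat.of (Localization.AtPrime P.asIdeal)
        (LocalizedModule P.asIdeal.primeCompl M)) (Nat.find hQ) := by
    intro hlt
    rcases Nat.eq_zero_or_pos (Nat.find hQ) with h0 | hpos
    · rw [h0, hasProjectiveDimensionLT_zero_iff_isZero, ModuleCat.isZero_iff_subsingleton] at hlt
      exact not_subsingleton _ hlt
    · obtain ⟨k, hk⟩ := Nat.exists_eq_succ_of_ne_zero hpos.ne'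
      have : Q k := by
        change HasProjectiveDimensionLT _ (k + 1)
        rw [← Nat.succ_eq_add_one, ← hk]; exact hlt
      exact Nat.find_min hQ (by omega) this
  have hAB := Groth.Agent.Lib.Helper82.AusBuch.auslander_buchsbaum_aux (Nat.find hQ)
    (LocalizedModule P.asIdeal.primeCompl M) he1 he2
  have hCM : LocCoh.IsCohenMacaulayLocalRing (Localization.AtPrime P.asIdeal) :=
    (Groth.Agent.Lib.Helper82.CMPoly.isCohenMacaulayRing_of_isRegularRing
      R).isCohenMacaulayLocalRing_localization P.asIdeal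
  have hdepthA : LocCoh.depth (Localization.AtPrime P.asIdeal) (Localization.AtPrime P.asIdeal) =
      (h : ℕ∞) := by
    have h1 := hCM.supportDim_eq_depth
    rw [Module.supportDim_self_eq_ringKrullDim, hdim] at h1
    exact_mod_cast h1.symm
  rw [hdepthA] at hAB
  have hdfin : LocCoh.depth (Localization.AtPrime P.asIdeal)
      (LocalizedModule P.asIdeal.primeCompl M) ≠ ⊤ := by
    intro htop
    rw [htop, add_top] at hAB
    exact ENat.natCast_ne_top h hAB
  obtain ⟨d, hd⟩ := ENat.ne_top_iff_exists.mp hdfin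
  refine ⟨Nat.find hQ, d, h, hh.symm, hd.symm, he1, he2, ?_⟩
  rw [← hd] at hAB
  exact_mod_cast hAB.symm

omit [Module.Finite R M] in
/-- In a regular ring, `ht P ≤ dim M_P + ht 𝔮` for `𝔮 ≤ P` in the support of `M`. -/
theorem height_le_supportDim_add_height (P 𝔮 : PrimeSpectrum R) (h𝔮 : 𝔮 ∈ Module.support R M)
    (hle : 𝔮 ≤ P) :
    ((P.asIdeal.height : ℕ∞) : WithBot ℕ∞) ≤
      Module.supportDim (Localization.AtPrime P.asIdeal) (LocalizedModule P.asIdeal.primeCompl M) +
        ((𝔮.asIdeal.height : ℕ∞) : WithBot ℕ∞) := by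
  have hCM : LocCoh.IsCohenMacaulayLocalRing (Localization.AtPrime P.asIdeal) :=
    (Groth.Agent.Lib.Helper82.CMPoly.isCohenMacaulayRing_of_isRegularRing
      R).isCohenMacaulayLocalRing_localization P.asIdeal
  have hdisj : Disjoint (P.asIdeal.primeCompl : Set R) (𝔮.asIdeal : Set R) := by
    rw [Set.disjoint_left]
    intro x hx hxq
    exact hx (hle hxq)
  have hprime : (𝔮.asIdeal.map (algebraMap R (Localization.AtPrime P.asIdeal))).IsPrime :=
    IsLocalization.isPrime_of_isPrime_disjoint P.asIdeal.primeCompl _ _ 𝔮.isPrime hdisj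
  let 𝔔 : PrimeSpectrum (Localization.AtPrime P.asIdeal) :=
    ⟨𝔮.asIdeal.map (algebraMap R (Localization.AtPrime P.asIdeal)), hprime⟩
  have hcomap : 𝔔.asIdeal.comap (algebraMap R (Localization.AtPrime P.asIdeal)) = 𝔮.asIdeal :=
    IsLocalization.under_map_of_isPrime_disjoint P.asIdeal.primeCompl _ 𝔮.isPrime hdisj
  have hsupp := Groth.Agent.Lib.Helper89.CMCatenary.map_mem_support_localizedModule 𝔮 P hle h𝔮 𝔔
    hcomap
  have h1 := ringKrullDim_quotient_le_supportDim 𝔔 hsupp
  have h2 := Groth.Agent.Lib.Helper89.CMCatenary.ringKrullDim_quotient_add_height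
    (Localization.AtPrime P.asIdeal) (Localization.AtPrime P.asIdeal) hCM.supportDim_eq_depth
    (Groth.Agent.Lib.Helper89.CMCatenary.support_self_eq_univ _) 𝔔
  have h3 : 𝔔.asIdeal.height = 𝔮.asIdeal.height :=
    IsLocalization.height_map_of_disjoint P.asIdeal.primeCompl 𝔮.asIdeal hdisj
  rw [IsLocalization.AtPrime.ringKrullDim_eq_height P.asIdeal (Localization.AtPrime P.asIdeal),
    h3] at h2
  rw [← h2]
  exact add_le_add_left h1 _

/-- In a regular ring, `dim M_P + ht 𝔮 = ht P` for some `𝔮 ≤ P` in the support of `M`. -/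
theorem exists_supportDim_add_height_eq (P : PrimeSpectrum R) (hP : P ∈ Module.support R M) :
    ∃ 𝔮 : PrimeSpectrum R, 𝔮 ∈ Module.support R M ∧ 𝔮 ≤ P ∧
      Module.supportDim (Localization.AtPrime P.asIdeal) (LocalizedModule P.asIdeal.primeCompl M) +
        ((𝔮.asIdeal.height : ℕ∞) : WithBot ℕ∞) = ((P.asIdeal.height : ℕ∞) : WithBot ℕ∞) := by
  have hnt : Nontrivial (LocalizedModule P.asIdeal.primeCompl M) := Module.mem_support_iff.mp hP
  have hCM : LocCoh.IsCohenMacaulayLocalRing (Localization.AtPrime P.asIdeal) :=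
    (Groth.Agent.Lib.Helper82.CMPoly.isCohenMacaulayRing_of_isRegularRing
      R).isCohenMacaulayLocalRing_localization P.asIdeal
  set A := Localization.AtPrime P.asIdeal with hA
  set N := LocalizedModule P.asIdeal.primeCompl M with hN
  set J : Ideal A := Module.annihilator A N with hJ
  have hJne : J ≠ ⊤ := by
    intro htop
    have h1 : (1 : A) ∈ Module.annihilator A N := by rw [← hJ, htop]; trivial
    have h2 : ∀ x : N, x = 0 := fun x => by
      have := Module.mem_annihilator.mp h1 x
      rwa [one_smul] at this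
    obtain ⟨x, y, hxy⟩ := hnt
    exact hxy ((h2 x).trans (h2 y).symm)
  have hntq : Nontrivial (A ⧸ J) := Ideal.Quotient.nontrivial_iff.mpr hJne
  have hloc : IsLocalRing (A ⧸ J) :=
    IsLocalRing.of_surjective' (Ideal.Quotient.mk J) Ideal.Quotient.mk_surjective
  obtain ⟨𝔭, h𝔭min, h𝔭dim⟩ := exists_minimalPrimes_ringKrullDim_quotient_eq (A ⧸ J)
  have h𝔭prime : 𝔭.IsPrime := h𝔭min.1.1
  let 𝔔 : PrimeSpectrum A := ⟨𝔭.comap (Ideal.Quotient.mk J), inferInstance⟩
  have hJ𝔔 : J ≤ 𝔔.asIdeal := by
    intro x hx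
    change Ideal.Quotient.mk J x ∈ 𝔭
    rw [Ideal.Quotient.eq_zero_iff_mem.mpr hx]
    exact 𝔭.zero_mem
  have h𝔔supp : 𝔔 ∈ Module.support A N := Module.mem_support_iff_of_finite.mpr hJ𝔔
  have hdim𝔔 : ringKrullDim (A ⧸ 𝔔.asIdeal) = Module.supportDim A N := by
    rw [Module.supportDim_eq_ringKrullDim_quotient_annihilator, ← h𝔭dim,
      ringKrullDim_quotient_quotient]
  let 𝔮 : PrimeSpectrum R := PrimeSpectrum.comap (algebraMap R A) 𝔔
  have h𝔮supp : 𝔮 ∈ Module.support R M :=
    support_localizedModule_subset P.asIdeal.primeCompl M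
      (Module.support_subset_preimage_comap (R := R) (A := A) (M := N) h𝔔supp)
  have h𝔮le : 𝔮 ≤ P := by
    change 𝔔.asIdeal.comap (algebraMap R A) ≤ P.asIdeal
    have h1 : 𝔔.asIdeal ≤ maximalIdeal A := le_maximalIdeal 𝔔.isPrime.ne_top
    refine (Ideal.comap_mono h1).trans (le_of_eq ?_)
    exact Localization.AtPrime.under_maximalIdeal
  have hht : 𝔮.asIdeal.height = 𝔔.asIdeal.height :=
    IsLocalization.height_under P.asIdeal.primeCompl 𝔔.asIdeal
  have h2 := Groth.Agent.Lib.Helper89.CMCatenary.ringKrullDim_quotient_add_height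
    A A hCM.supportDim_eq_depth
    (Groth.Agent.Lib.Helper89.CMCatenary.support_self_eq_univ _) 𝔔
  rw [IsLocalization.AtPrime.ringKrullDim_eq_height P.asIdeal A, hdim𝔔, ← hht] at h2
  exact ⟨𝔮, h𝔮supp, h𝔮le, h2⟩

end LocalData

section Semicontinuity

variable (R : Type u) [CommRing R] [IsNoetherianRing R] (M : Type u) [AddCommGroup M] [Module R M]
  [Module.Finite R M]

/-- The set of primes containing a prime of the support of `M` of height `< g` is closed. -/
theorem isClosed_setOf_exists_height_lt (g : ℕ∞) :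
    IsClosed {P : PrimeSpectrum R | ∃ 𝔮 : PrimeSpectrum R, 𝔮 ∈ Module.support R M ∧ 𝔮 ≤ P ∧
      𝔮.asIdeal.height < g} := by
  have heq : {P : PrimeSpectrum R | ∃ 𝔮 : PrimeSpectrum R, 𝔮 ∈ Module.support R M ∧ 𝔮 ≤ P ∧
      𝔮.asIdeal.height < g} =
      ⋃ 𝔮 ∈ {𝔮 : Ideal R | 𝔮 ∈ (Module.annihilator R M).minimalPrimes ∧ 𝔮.height < g},
        PrimeSpectrum.zeroLocus (𝔮 : Set R) := by
    ext P
    simp only [Set.mem_ofPred_eq, Set.mem_iUnion, PrimeSpectrum.mem_zeroLocus, exists_prop]
    constructor
    · rintro ⟨𝔮, h𝔮, hle, hlt⟩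
      obtain ⟨𝔮', hmin, hle'⟩ := Ideal.exists_minimalPrimes_le
        (Module.mem_support_iff_of_finite.mp h𝔮)
      exact ⟨𝔮', ⟨hmin, lt_of_le_of_lt (Ideal.height_mono hle') hlt⟩,
        fun x hx => hle (hle' hx)⟩
    · rintro ⟨𝔮', ⟨hmin, hlt⟩, hle⟩
      have hprime : 𝔮'.IsPrime := hmin.1.1
      exact ⟨⟨𝔮', hprime⟩, Module.mem_support_iff_of_finite.mpr hmin.1.2, hle, hlt⟩
  rw [heq]
  refine Set.Finite.isClosed_biUnion ?_ (fun 𝔮 _ => PrimeSpectrum.isClosed_zeroLocus _)
  exact (Ideal.finite_minimalPrimes_of_isNoetherianRing R _).subset (fun 𝔮 h => h.1)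

/-- The locus where `pd_{R_P} M_P < e` is open. -/
theorem isOpen_setOf_hasProjectiveDimensionLT (e : ℕ) :
    IsOpen {P : PrimeSpectrum R | HasProjectiveDimensionLT
      (ModuleCat.of (Localization.AtPrime P.asIdeal) (LocalizedModule P.asIdeal.primeCompl M)) e} := by
  rw [isOpen_iff_forall_mem_open]
  intro P hP
  obtain ⟨s, hs, hpd⟩ :=
    Groth.Agent.Lib.Helper73.PdLocalize.exists_away_hasProjectiveDimensionLT P.asIdeal e M hP
  refine ⟨PrimeSpectrum.basicOpen s, ?_, (PrimeSpectrum.basicOpen s).isOpen, hs⟩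
  intro Q hQ
  exact Groth.Agent.Lib.Helper73.PdLocalize.hasProjectiveDimensionLT_atPrime_of_away Q.asIdeal s hQ
    M e hpd

end Semicontinuity

section Main

variable (R : Type u) [CommRing R] [IsRegularRing R] (M : Type u) [AddCommGroup M] [Module R M]
  [Module.Finite R M]

/-- **Openness of the codepth loci** over a regular ring (EGA IV 6.11.2). -/
theorem isOpen_setOf_supportDim_le_depth_add (n : ℕ) :
    IsOpen {P : PrimeSpectrum R |
      Module.supportDim (Localization.AtPrime P.asIdeal)
          (LocalizedModule P.asIdeal.primeCompl M) ≤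
        ((LocCoh.depth (Localization.AtPrime P.asIdeal)
          (LocalizedModule P.asIdeal.primeCompl M) : ℕ∞) : WithBot ℕ∞) + n} := by
  rw [isOpen_iff_forall_mem_open]
  intro P₀ hP₀
  by_cases hsupp : P₀ ∈ Module.support R M
  · -- data at `P₀`
    obtain ⟨e₀, d₀, h₀, hh₀, hd₀, hpd₀, hnpd₀, hed₀⟩ := exists_pd_add_depth_eq_height R M P₀ hsupp
    obtain ⟨𝔮₀, h𝔮₀, hle₀, hdim₀⟩ := exists_supportDim_add_height_eq R M P₀ hsupp
    obtain ⟨g₀, hg₀⟩ := ENat.ne_top_iff_exists.mp
      (Ideal.height_ne_top_of_isPrime (I := 𝔮₀.asIdeal))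
    have hnt₀ : Nontrivial (LocalizedModule P₀.asIdeal.primeCompl M) :=
      Module.mem_support_iff.mp hsupp
    obtain ⟨δ₀, hδ₀⟩ : ∃ δ₀ : ℕ, Module.supportDim (Localization.AtPrime P₀.asIdeal)
        (LocalizedModule P₀.asIdeal.primeCompl M) = (δ₀ : ℕ) := by
      have hne := Module.supportDim_ne_bot_of_nontrivial (Localization.AtPrime P₀.asIdeal)
        (LocalizedModule P₀.asIdeal.primeCompl M)
      obtain ⟨x, hx⟩ := WithBot.ne_bot_iff_exists.mp hne
      rw [← hx, hh₀] at hdim₀
      have hxtop : x ≠ ⊤ := by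
        intro h
        rw [h] at hdim₀
        have h2 : ((⊤ : ℕ∞) : WithBot ℕ∞) + ((𝔮₀.asIdeal.height : ℕ∞) : WithBot ℕ∞) =
            (((⊤ : ℕ∞) + 𝔮₀.asIdeal.height : ℕ∞) : WithBot ℕ∞) := rfl
        rw [h2, top_add] at hdim₀
        exact ENat.natCast_ne_top h₀ (WithBot.coe_injective hdim₀).symm
      obtain ⟨δ, hδ⟩ := ENat.ne_top_iff_exists.mp hxtop
      exact ⟨δ, by rw [← hx, ← hδ]; rfl⟩
    have hsum₀ : δ₀ + g₀ = h₀ := by
      rw [hδ₀, hh₀, ← hg₀] at hdim₀
      exact_mod_cast hdim₀
    have hcod₀ : δ₀ ≤ d₀ + n := by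
      have h1 : Module.supportDim (Localization.AtPrime P₀.asIdeal)
          (LocalizedModule P₀.asIdeal.primeCompl M) ≤
        ((LocCoh.depth (Localization.AtPrime P₀.asIdeal)
          (LocalizedModule P₀.asIdeal.primeCompl M) : ℕ∞) : WithBot ℕ∞) + n := hP₀
      rw [hδ₀, hd₀] at h1
      exact_mod_cast h1
    -- the neighbourhood
    refine ⟨{P : PrimeSpectrum R | HasProjectiveDimensionLT
        (ModuleCat.of (Localization.AtPrime P.asIdeal) (LocalizedModule P.asIdeal.primeCompl M))
        (e₀ + 1)} ∩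
      {P : PrimeSpectrum R | ∃ 𝔮 : PrimeSpectrum R, 𝔮 ∈ Module.support R M ∧ 𝔮 ≤ P ∧
        𝔮.asIdeal.height < (g₀ : ℕ∞)}ᶜ, ?_,
      (isOpen_setOf_hasProjectiveDimensionLT R M (e₀ + 1)).inter
        (isClosed_setOf_exists_height_lt R M g₀).isOpen_compl, ⟨hpd₀, ?_⟩⟩
    · rintro P ⟨hpdP, hZP⟩
      change Module.supportDim _ _ ≤ _
      by_cases hPs : P ∈ Module.support R M
      · obtain ⟨e, d, h, hh, hd, hpd, hnpd, hed⟩ := exists_pd_add_depth_eq_height R M P hPs
        obtain ⟨𝔮, h𝔮, hle, hdim⟩ := exists_supportDim_add_height_eq R M P hPs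
        obtain ⟨g, hg⟩ := ENat.ne_top_iff_exists.mp
          (Ideal.height_ne_top_of_isPrime (I := 𝔮.asIdeal))
        have hnt : Nontrivial (LocalizedModule P.asIdeal.primeCompl M) :=
          Module.mem_support_iff.mp hPs
        obtain ⟨δ, hδ⟩ : ∃ δ : ℕ, Module.supportDim (Localization.AtPrime P.asIdeal)
            (LocalizedModule P.asIdeal.primeCompl M) = (δ : ℕ) := by
          have hne := Module.supportDim_ne_bot_of_nontrivial (Localization.AtPrime P.asIdeal)
            (LocalizedModule P.asIdeal.primeCompl M)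
          obtain ⟨x, hx⟩ := WithBot.ne_bot_iff_exists.mp hne
          rw [← hx, hh] at hdim
          have hxtop : x ≠ ⊤ := by
            intro h'
            rw [h'] at hdim
            have h2 : ((⊤ : ℕ∞) : WithBot ℕ∞) + ((𝔮.asIdeal.height : ℕ∞) : WithBot ℕ∞) =
                (((⊤ : ℕ∞) + 𝔮.asIdeal.height : ℕ∞) : WithBot ℕ∞) := rfl
            rw [h2, top_add] at hdim
            exact ENat.natCast_ne_top h (WithBot.coe_injective hdim).symm
          obtain ⟨δ, hδ⟩ := ENat.ne_top_iff_exists.mp hxtop
          exact ⟨δ, by rw [← hx, ← hδ]; rfl⟩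
        have hsum : δ + g = h := by
          rw [hδ, hh, ← hg] at hdim
          exact_mod_cast hdim
        have hgg : g₀ ≤ g := by
          by_contra hlt
          apply hZP
          refine ⟨𝔮, h𝔮, hle, ?_⟩
          rw [← hg]
          exact_mod_cast not_le.mp hlt
        have hee : e ≤ e₀ := by
          by_contra hlt
          apply hnpd
          have hpdP' : HasProjectiveDimensionLT (ModuleCat.of (Localization.AtPrime P.asIdeal)
            (LocalizedModule P.asIdeal.primeCompl M)) (e₀ + 1) := hpdP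
          exact hasProjectiveDimensionLT_of_ge _ (e₀ + 1) e (by omega)
        rw [hδ, hd]
        have : δ ≤ d + n := by omega
        exact_mod_cast this
      · have hsub : Subsingleton (LocalizedModule P.asIdeal.primeCompl M) :=
          Module.notMem_support_iff.mp hPs
        rw [Module.supportDim_eq_bot_of_subsingleton]
        exact bot_le
    · rintro ⟨𝔮, h𝔮, hle, hlt⟩
      have h1 := height_le_supportDim_add_height R M P₀ 𝔮 h𝔮 hle
      obtain ⟨g, hg⟩ := ENat.ne_top_iff_exists.mp
        (Ideal.height_ne_top_of_isPrime (I := 𝔮.asIdeal))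
      rw [hδ₀, hh₀, ← hg] at h1
      rw [← hg] at hlt
      have h2 : h₀ ≤ δ₀ + g := by exact_mod_cast h1
      have h3 : g < g₀ := by exact_mod_cast hlt
      omega
  · refine ⟨(Module.support R M)ᶜ, ?_, (Module.isClosed_support (R := R) (M := M)).isOpen_compl, hsupp⟩
    intro P hP
    have hsub : Subsingleton (LocalizedModule P.asIdeal.primeCompl M) :=
      Module.notMem_support_iff.mp hP
    change Module.supportDim _ _ ≤ _
    rw [Module.supportDim_eq_bot_of_subsingleton]
    exact bot_le

end Main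

section Quotient

variable (R A : Type u) [CommRing R] [CommRing A] [IsNoetherianRing R] [Algebra R A]
  (hs : Function.Surjective (algebraMap R A))
  (M : Type u) [AddCommGroup M] [Module A M] [Module R M] [IsScalarTower R A M]
  [Module.Finite A M]

include hs in
/-- Depth and dimension of `M_p` can be computed over `R` when `A` is a quotient of `R`. -/
theorem depth_and_supportDim_localizedModule_of_surjective (p : PrimeSpectrum A) :
    LocCoh.depth (Localization.AtPrime (p.asIdeal.comap (algebraMap R A)))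
        (LocalizedModule (p.asIdeal.comap (algebraMap R A)).primeCompl M) =
      LocCoh.depth (Localization.AtPrime p.asIdeal) (LocalizedModule p.asIdeal.primeCompl M) ∧
    Module.supportDim (Localization.AtPrime (p.asIdeal.comap (algebraMap R A)))
        (LocalizedModule (p.asIdeal.comap (algebraMap R A)).primeCompl M) =
      Module.supportDim (Localization.AtPrime p.asIdeal)
        (LocalizedModule p.asIdeal.primeCompl M) := by
  have hfinA : Module.Finite R A := Module.Finite.of_surjective (Algebra.linearMap R A) hs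
  have hfinM : Module.Finite R M := Module.Finite.trans A M
  have hNA : IsNoetherianRing A := isNoetherianRing_of_surjective R A (algebraMap R A) hs
  obtain ⟨h1, h2⟩ := Groth.Agent.S2669.result R A M (p.asIdeal.comap (algebraMap R A))
  by_cases hp : p ∈ Module.support A M
  · have hS : {q : PrimeSpectrum A | q.asIdeal.comap (algebraMap R A) =
        p.asIdeal.comap (algebraMap R A) ∧ q ∈ Module.support A M} = {p} := by
      ext q
      simp only [Set.mem_ofPred_eq, Set.mem_singleton_iff]
      constructor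
      · rintro ⟨hq, -⟩
        exact PrimeSpectrum.comap_injective_of_surjective (algebraMap R A) hs
          (PrimeSpectrum.ext hq)
      · rintro rfl
        exact ⟨rfl, hp⟩
    rw [hS] at h1 h2
    rw [h1, h2]
    simp
  · have hS : {q : PrimeSpectrum A | q.asIdeal.comap (algebraMap R A) =
        p.asIdeal.comap (algebraMap R A) ∧ q ∈ Module.support A M} = ∅ := by
      ext q
      simp only [Set.mem_ofPred_eq, Set.mem_empty_iff_false, iff_false, not_and]
      intro hq
      have : q = p := PrimeSpectrum.comap_injective_of_surjective (algebraMap R A) hs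
          (PrimeSpectrum.ext hq)
      rw [this]; exact hp
    rw [hS] at h1 h2
    have hsub : Subsingleton (LocalizedModule p.asIdeal.primeCompl M) :=
      Module.notMem_support_iff.mp hp
    rw [h1, h2, depth_eq_top_of_subsingleton, Module.supportDim_eq_bot_of_subsingleton]
    simp

end Quotient

section QuotientOpen

variable (R A : Type u) [CommRing R] [CommRing A] [IsRegularRing R] [Algebra R A]
  (hs : Function.Surjective (algebraMap R A))
  (M : Type u) [AddCommGroup M] [Module A M] [Module.Finite A M]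

include hs in
/-- **Openness of the codepth loci** for a quotient of a regular ring (EGA IV 6.11.2). -/
theorem isOpen_setOf_supportDim_le_depth_add_of_surjective (n : ℕ) :
    IsOpen {p : PrimeSpectrum A |
      Module.supportDim (Localization.AtPrime p.asIdeal)
          (LocalizedModule p.asIdeal.primeCompl M) ≤
        ((LocCoh.depth (Localization.AtPrime p.asIdeal)
          (LocalizedModule p.asIdeal.primeCompl M) : ℕ∞) : WithBot ℕ∞) + n} := by
  let _ : Module R M := Module.compHom M (algebraMap R A)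
  have htower : IsScalarTower R A M := IsScalarTower.of_algebraMap_smul (fun _ _ => rfl)
  have hfinA : Module.Finite R A := Module.Finite.of_surjective (Algebra.linearMap R A) hs
  have hfinM : Module.Finite R M := Module.Finite.trans A M
  have hopen := (isOpen_setOf_supportDim_le_depth_add R M n).preimage
    (PrimeSpectrum.continuous_comap (algebraMap R A))
  convert hopen using 1
  ext p
  obtain ⟨h1, h2⟩ := depth_and_supportDim_localizedModule_of_surjective R A hs M p
  change _ ↔ Module.supportDim (Localization.AtPrime (p.asIdeal.comap (algebraMap R A)))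
      (LocalizedModule (p.asIdeal.comap (algebraMap R A)).primeCompl M) ≤
    ((LocCoh.depth (Localization.AtPrime (p.asIdeal.comap (algebraMap R A)))
      (LocalizedModule (p.asIdeal.comap (algebraMap R A)).primeCompl M) : ℕ∞) : WithBot ℕ∞) + n
  rw [h1, h2]
  rfl

end QuotientOpen

end Groth.Agent.Lib.Helper29
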