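import Groth.Agent.Lib.Helper29.FlatAscent2
import Groth.Agent.Lib.Helper29.SerreNormal

/-!
Helper lemmas (helper29): ascent of `(R_k)`, `(S_k)` and normality at a prime along a flat map
in terms of the fibre local rings `EGA4.FibLocRing` (EGA IV 6.5.3, 6.5.4).
-/

set_option autoImplicit false
universe u

namespace Groth.Agent.Lib.Helper29

open IsLocalRing TensorProduct

section

variable (A B : Type u) [CommRing A] [CommRing B] [IsNoetherianRing A] [IsNoetherianRing B]
  [Algebra A B] [Module.Flat A B]

/-- Ascent of `(R_k)` at a prime. -/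
theorem hasRkAt_of_flat_of_fibLoc (k : ℕ)
    (hfib : ∀ (q : Ideal B) [q.IsPrime], LocCoh.HasRk k (EGA4.FibLocRing A B q))
    (q : Ideal B) [q.IsPrime] (hA : EGA4.HasRkAt k A (q.comap (algebraMap A B))) :
    EGA4.HasRkAt k B q := by
  rw [Groth.Agent.Lib.Helper13.hasRkAt_iff] at hA ⊢
  intro Q hQ hQq hQk
  have hlies : Q.LiesOver (Q.comap (algebraMap A B)) := ⟨rfl⟩
  have hnt : Nontrivial (EGA4.FibLocRing A B Q) := nontrivial_fibLoc (Q.comap (algebraMap A B)) Q
  have hht := height_eq_add_of_flat (Q.comap (algebraMap A B)) Q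
  have hP : (Q.comap (algebraMap A B)).height ≤ k := by
    refine le_trans ?_ hQk
    rw [hht]
    exact le_self_add
  have hF : (maximalIdeal (EGA4.FibLocRing A B Q)).height ≤ k := by
    refine le_trans ?_ hQk
    rw [hht]
    exact le_add_self
  have h1 := hA (Q.comap (algebraMap A B)) (Ideal.comap_mono hQq) hP
  have h2 := isRegularLocalRing_of_hasRk (EGA4.FibLocRing A B Q) k (hfib Q) hF
  exact isRegularLocalRing_of_flat_of_fibLoc (Q.comap (algebraMap A B)) Q h1 h2

/-- Ascent of `(S_k)` (for the rings) at a prime. -/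
theorem hasSk_localization_of_flat_of_fibLoc (k : ℕ)
    (hfib : ∀ (q : Ideal B) [q.IsPrime],
      LocCoh.HasSk k (EGA4.FibLocRing A B q) (EGA4.FibLocRing A B q))
    (q : Ideal B) [q.IsPrime]
    (hA : LocCoh.HasSk k (Localization.AtPrime (q.comap (algebraMap A B)))
      (Localization.AtPrime (q.comap (algebraMap A B)))) :
    LocCoh.HasSk k (Localization.AtPrime q) (Localization.AtPrime q) := by
  rw [hasSk_localization_iff] at hA ⊢
  intro Q hQ hQq
  have hlies : Q.LiesOver (Q.comap (algebraMap A B)) := ⟨rfl⟩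
  have hnt : Nontrivial (EGA4.FibLocRing A B Q) := nontrivial_fibLoc (Q.comap (algebraMap A B)) Q
  have hNQ : IsNoetherianRing (Localization.AtPrime Q) :=
    IsLocalization.isNoetherianRing Q.primeCompl _ inferInstance
  have hNF : IsNoetherianRing (EGA4.FibLocRing A B Q) := inferInstance
  exact min_le_depth_of_flat_of_fibLoc k (Q.comap (algebraMap A B)) Q
    (hA (Q.comap (algebraMap A B)) (Ideal.comap_mono hQq))
    (min_le_depth_of_hasSk (EGA4.FibLocRing A B Q) k (hfib Q))

/-- Ascent of normality at a prime. -/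
theorem isNormal_localization_of_flat_of_fibLoc
    (hfib : ∀ (q : Ideal B) [q.IsPrime],
      IsDomain (EGA4.FibLocRing A B q) ∧ IsIntegrallyClosed (EGA4.FibLocRing A B q))
    (q : Ideal B) [q.IsPrime]
    [IsDomain (Localization.AtPrime (q.comap (algebraMap A B)))]
    [IsIntegrallyClosed (Localization.AtPrime (q.comap (algebraMap A B)))] :
    IsDomain (Localization.AtPrime q) ∧ IsIntegrallyClosed (Localization.AtPrime q) := by
  have hNq : IsNoetherianRing (Localization.AtPrime q) :=
    IsLocalization.isNoetherianRing q.primeCompl _ inferInstance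
  have hNp : IsNoetherianRing (Localization.AtPrime (q.comap (algebraMap A B))) :=
    IsLocalization.isNoetherianRing (Ideal.primeCompl (q.comap (algebraMap A B))) _ inferInstance
  have hAn : EGA4.IsNormalRing (Localization.AtPrime (q.comap (algebraMap A B))) :=
    isNormalRing_of_isIntegrallyClosed _
  have hFn : ∀ (Q : Ideal B) [Q.IsPrime], IsNoetherianRing (EGA4.FibLocRing A B Q) ∧
      EGA4.IsNormalRing (EGA4.FibLocRing A B Q) := by
    intro Q hQ
    have hNQ : IsNoetherianRing (Localization.AtPrime Q) :=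
      IsLocalization.isNoetherianRing Q.primeCompl _ inferInstance
    obtain ⟨h1, h2⟩ := hfib Q
    exact ⟨inferInstance, isNormalRing_of_isIntegrallyClosed _⟩
  have hR1 : LocCoh.HasRk 1 (Localization.AtPrime q) := by
    apply hasRkAt_of_flat_of_fibLoc A B 1 _ q (hasRk_one_of_isNormalRing _ hAn)
    intro Q hQ
    have := (hFn Q).1
    exact hasRk_one_of_isNormalRing _ (hFn Q).2
  have hS2 : LocCoh.HasSk 2 (Localization.AtPrime q) (Localization.AtPrime q) := by
    apply hasSk_localization_of_flat_of_fibLoc A B 2 _ q (hasSk_two_of_isNormalRing _ hAn)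
    intro Q hQ
    have := (hFn Q).1
    exact hasSk_two_of_isNormalRing _ (hFn Q).2
  exact isDomain_and_isIntegrallyClosed_of_isNormalRing _
    (isNormalRing_of_hasRk_one_of_hasSk_two _ hR1 hS2)

end

end Groth.Agent.Lib.Helper29
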