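import Groth.Agent.Lib.Helper29.DepthFlat2
import Groth.Agent.Lib.Helper29.DepthSelf
import Groth.Agent.Lib.Helper93.DepthFlat
import Mathlib.RingTheory.Flat.Localization
import Mathlib.RingTheory.Flat.FaithfullyFlat.Algebra
import Mathlib.RingTheory.Ideal.GoingDown

/-!
Helper lemmas (helper29): flat local homomorphisms with zero-dimensional closed fibre preserve
depth and dimension; Serre's condition `(S_k)` descends along faithfully flat ring maps.
-/

set_option autoImplicit false
universe u

namespace Groth.Agent.Lib.Helper29

open IsLocalRing TensorProduct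
open scoped Pointwise

section

variable (A B : Type u) [CommRing A] [CommRing B] [IsLocalRing A] [IsLocalRing B]
  [IsNoetherianRing A] [IsNoetherianRing B] [Algebra A B] [Module.Flat A B]
  [IsLocalHom (algebraMap A B)]

/-- Flat local homomorphism with zero-dimensional closed fibre: the depths agree. -/
theorem depth_self_eq_of_flat_of_fibre_dim_zero
    (hF : ringKrullDim (B ⧸ (maximalIdeal A).map (algebraMap A B)) = 0) :
    LocCoh.depth B B = LocCoh.depth A A := by
  have h1 := Groth.Agent.Lib.Helper93.DepthFlat.depth_tensor_of_flat (R := A) (S := B) A B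
  have h2 : LocCoh.depth B (B ⊗[A] A) = LocCoh.depth B B :=
    idealDepth_congr _ (TensorProduct.AlgebraTensorModule.rid A B B)
  rw [h2] at h1
  have hne : (maximalIdeal A).map (algebraMap A B) ≠ ⊤ :=
    ((map_maximalIdeal_le (algebraMap A B)).trans_lt (maximalIdeal.isMaximal B).lt_top).ne
  have h3 : LocCoh.depth B
      (B ⧸ ((maximalIdeal A).map (algebraMap A B)) • (⊤ : Submodule B B)) = 0 := by
    have heq : ((maximalIdeal A).map (algebraMap A B)) • (⊤ : Submodule B B) =
        (maximalIdeal A).map (algebraMap A B) := by
      rw [smul_eq_mul, Ideal.mul_top]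
    have h4 : LocCoh.depth B
        (B ⧸ ((maximalIdeal A).map (algebraMap A B)) • (⊤ : Submodule B B)) =
        LocCoh.depth B (B ⧸ (maximalIdeal A).map (algebraMap A B)) :=
      idealDepth_congr _ (Submodule.quotEquivOfEq _ _ heq)
    rw [h4]
    have : Nontrivial (B ⧸ (maximalIdeal A).map (algebraMap A B)) :=
      Ideal.Quotient.nontrivial_iff.mpr hne
    have h5 := depth_le_supportDim B (B ⧸ (maximalIdeal A).map (algebraMap A B))
    rw [Module.supportDim_quotient_eq_ringKrullDim, hF] at h5
    have h6 : LocCoh.depth B (B ⧸ (maximalIdeal A).map (algebraMap A B)) ≤ 0 := by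
      exact_mod_cast h5
    exact le_antisymm h6 bot_le
  rw [h1, h3, add_zero]

/-- Flat local homomorphism with zero-dimensional closed fibre: the dimensions agree. -/
theorem ringKrullDim_eq_of_flat_of_fibre_dim_zero
    (hF : ringKrullDim (B ⧸ (maximalIdeal A).map (algebraMap A B)) = 0) :
    ringKrullDim B = ringKrullDim A := by
  rw [ringKrullDim_eq_add_of_flat A B, hF, add_zero]

end

/-- If the maximal ideal of a local ring `B` is a minimal prime over `I`, then `B ⧸ I` has
dimension zero. -/
theorem ringKrullDim_quotient_eq_zero_of_maximalIdeal_mem_minimalPrimes (B : Type u) [CommRing B]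
    [IsLocalRing B] (I : Ideal B) (h : maximalIdeal B ∈ I.minimalPrimes) :
    ringKrullDim (B ⧸ I) = 0 := by
  rw [ringKrullDim_quotient]
  have hne : Nonempty (PrimeSpectrum.zeroLocus (R := B) I) :=
    ⟨⟨⟨maximalIdeal B, inferInstance⟩, h.1.2⟩⟩
  have hss : Subsingleton (PrimeSpectrum.zeroLocus (R := B) I) := by
    refine ⟨fun P Q => ?_⟩
    have key : ∀ P : PrimeSpectrum.zeroLocus (R := B) I, P.1.asIdeal = maximalIdeal B := by
      intro P
      have hle : P.1.asIdeal ≤ maximalIdeal B := IsLocalRing.le_maximalIdeal P.1.2.ne_top
      exact le_antisymm hle (h.2 ⟨P.1.2, P.2⟩ hle)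
    apply Subtype.ext
    apply PrimeSpectrum.ext
    rw [key P, key Q]
  exact Order.krullDim_eq_zero

section

variable {R S : Type u} [CommRing R] [CommRing S] [Algebra R S]

/-- A faithfully flat algebra with Noetherian total ring has Noetherian base. -/
theorem isNoetherianRing_of_faithfullyFlat [Module.FaithfullyFlat R S] [IsNoetherianRing S] :
    IsNoetherianRing R := by
  rw [isNoetherianRing_iff, isNoetherian_iff'] at *
  have hmono : StrictMono (Ideal.map (algebraMap R S)) :=
    Monotone.strictMono_of_injective (fun _ _ h => Ideal.map_mono h)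
      Ideal.map_injective_of_faithfullyFlat
  exact hmono.wellFoundedGT

end

section

variable {R S : Type u} [CommRing R] [CommRing S] [Algebra R S] [IsNoetherianRing R]
  [IsNoetherianRing S] [Module.Flat R S]

/-- For a flat map of Noetherian rings and `q` a minimal prime over `pS` lying over `p`:
`depth S_q = depth R_p` and `ht q = ht p`. -/
theorem depth_and_height_eq_of_flat_of_mem_minimalPrimes (p : Ideal R) [p.IsPrime] (q : Ideal S)
    [q.IsPrime] [q.LiesOver p] (hq : q ∈ (p.map (algebraMap R S)).minimalPrimes) :
    LocCoh.depth (Localization.AtPrime q) (Localization.AtPrime q) =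
        LocCoh.depth (Localization.AtPrime p) (Localization.AtPrime p) ∧
      q.height = p.height := by
  let _ := Localization.AtPrime.algebraOfLiesOver p q
  have hNp : IsNoetherianRing (Localization.AtPrime p) :=
    IsLocalization.isNoetherianRing p.primeCompl _ inferInstance
  have hNq : IsNoetherianRing (Localization.AtPrime q) :=
    IsLocalization.isNoetherianRing q.primeCompl _ inferInstance
  have hflat : Module.Flat (Localization.AtPrime p) (Localization.AtPrime q) := inferInstance
  have hloc : IsLocalHom (algebraMap (Localization.AtPrime p) (Localization.AtPrime q)) := by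
    rw [Localization.AtPrime.IsLiesOverAlgebra.algebraMap_eq]
    exact Localization.isLocalHom_localRingHom _ _ _ _
  -- the closed fibre has dimension zero
  have hmap : (maximalIdeal (Localization.AtPrime p)).map
      (algebraMap (Localization.AtPrime p) (Localization.AtPrime q)) =
      (p.map (algebraMap R S)).map (algebraMap S (Localization.AtPrime q)) := by
    rw [← Localization.AtPrime.map_eq_maximalIdeal, Ideal.map_map, Ideal.map_map,
      ← IsScalarTower.algebraMap_eq, ← IsScalarTower.algebraMap_eq]
  have hmin : maximalIdeal (Localization.AtPrime q) ∈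
      ((p.map (algebraMap R S)).map (algebraMap S (Localization.AtPrime q))).minimalPrimes := by
    rw [IsLocalization.minimalPrimes_map q.primeCompl (Localization.AtPrime q), Set.mem_preimage,
      Localization.AtPrime.under_maximalIdeal]
    exact hq
  have hF : ringKrullDim (Localization.AtPrime q ⧸ (maximalIdeal (Localization.AtPrime p)).map
      (algebraMap (Localization.AtPrime p) (Localization.AtPrime q))) = 0 := by
    rw [hmap]
    exact ringKrullDim_quotient_eq_zero_of_maximalIdeal_mem_minimalPrimes _ _ hmin
  refine ⟨depth_self_eq_of_flat_of_fibre_dim_zero _ _ hF, ?_⟩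
  have h1 := ringKrullDim_eq_of_flat_of_fibre_dim_zero (Localization.AtPrime p)
    (Localization.AtPrime q) hF
  rw [IsLocalization.AtPrime.ringKrullDim_eq_height q,
    IsLocalization.AtPrime.ringKrullDim_eq_height p] at h1
  exact_mod_cast h1

end

section

variable {R S : Type u} [CommRing R] [CommRing S] [Algebra R S] [Module.FaithfullyFlat R S]
  [IsNoetherianRing S]

/-- For a faithfully flat map every prime `p` of `R` has a prime `q` of `S` over it which is
minimal over `pS`. -/
theorem exists_liesOver_mem_minimalPrimes_of_faithfullyFlat (p : Ideal R) [p.IsPrime] :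
    ∃ q : Ideal S, q.IsPrime ∧ q.LiesOver p ∧ q ∈ (p.map (algebraMap R S)).minimalPrimes := by
  obtain ⟨Q, hQ, hQp⟩ := Ideal.exists_isPrime_liesOver_of_faithfullyFlat (B := S) p
  have hle : p.map (algebraMap R S) ≤ Q := by
    rw [Ideal.map_le_iff_le_comap]
    exact (Ideal.over_def Q p).le
  obtain ⟨q, hq, hqQ⟩ := Ideal.exists_minimalPrimes_le hle
  refine ⟨q, hq.1.1, ⟨?_⟩, hq⟩
  apply le_antisymm
  · exact Ideal.map_le_iff_le_comap.mp hq.1.2
  · calc q.under R ≤ Q.under R := Ideal.comap_mono hqQ
      _ = p := (Ideal.over_def Q p).symm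

/-- Serre's condition `(S_k)` descends along faithfully flat maps. -/
theorem hasSk_of_faithfullyFlat (k : ℕ) (hS : LocCoh.HasSk k S S) :
    IsNoetherianRing R ∧ LocCoh.HasSk k R R := by
  have hN : IsNoetherianRing R := isNoetherianRing_of_faithfullyFlat (S := S)
  refine ⟨hN, ?_⟩
  rw [hasSk_self_iff] at hS ⊢
  intro p hp
  obtain ⟨q, hq, hqp, hmin⟩ := exists_liesOver_mem_minimalPrimes_of_faithfullyFlat (S := S) p
  have h1 := depth_and_height_eq_of_flat_of_mem_minimalPrimes p q hmin
  rw [← h1.1, ← h1.2]
  exact hS q

end

end Groth.Agent.Lib.Helper29
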