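import Groth.Agent.Lib.Helper29.DepthFinite
import Groth.Agent.S5766
import Mathlib.RingTheory.Localization.LocalizationLocalization
import Mathlib.RingTheory.Localization.BaseChange
import Mathlib.RingTheory.Localization.Module

/-!
# Transfer of depth and dimension between different models of a localization (helper29)

If `S` is a local ring which is a localization of `A` at the prime `p` and `N` is a localization
of `M` at `p`, then `depth_S N = depth_{A_p} M_p` and `dim_S N = dim_{A_p} M_p`.  Application:
localizations of localizations.
-/

set_option autoImplicit false

namespace Groth.Agent.Lib.Helper29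

open IsLocalRing
open scoped Pointwise

universe u

section Transfer

variable {A : Type u} [CommRing A] [IsNoetherianRing A] (p : Ideal A) [p.IsPrime]
  (S : Type u) [CommRing S] [Algebra A S] [IsLocalization.AtPrime S p] [IsLocalRing S]
  {M : Type u} [AddCommGroup M] [Module A M] [Module.Finite A M]
  {N : Type u} [AddCommGroup N] [Module A N] [Module S N] [IsScalarTower A S N]
  (f : M →ₗ[A] N) [IsLocalizedModule p.primeCompl f]

include f in
theorem depth_and_supportDim_eq_of_isLocalizedModule :
    LocCoh.depth S N =
        LocCoh.depth (Localization.AtPrime p) (LocalizedModule p.primeCompl M) ∧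
      Module.supportDim S N =
        Module.supportDim (Localization.AtPrime p) (LocalizedModule p.primeCompl M) := by
  let e : Localization.AtPrime p ≃ₐ[A] S := IsLocalization.algEquiv p.primeCompl _ _
  let _ : Algebra (Localization.AtPrime p) S := (e : Localization.AtPrime p →+* S).toAlgebra
  have hST : IsScalarTower A (Localization.AtPrime p) S := IsScalarTower.of_algebraMap_eq (fun a => by
    change algebraMap A S a = e (algebraMap A (Localization.AtPrime p) a)
    rw [e.commutes])
  let _ : Module (Localization.AtPrime p) N := Module.compHom N (e : Localization.AtPrime p →+* S)
  have hsmul : ∀ (r : Localization.AtPrime p) (n : N), r • n = e r • n := fun _ _ => rfl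
  have hST2 : IsScalarTower (Localization.AtPrime p) S N := ⟨fun r s n => by
    rw [hsmul, Algebra.smul_def, mul_smul]
    rfl⟩
  have hST3 : IsScalarTower A (Localization.AtPrime p) N := ⟨fun a r n => by
    rw [hsmul, hsmul, map_smul, smul_assoc]⟩
  let φ : LocalizedModule p.primeCompl M ≃ₗ[A] N := IsLocalizedModule.iso p.primeCompl f
  let φ' : LocalizedModule p.primeCompl M ≃ₗ[Localization.AtPrime p] N :=
    φ.extendScalarsOfIsLocalization p.primeCompl (Localization.AtPrime p)
  have hfin : Module.Finite (Localization.AtPrime p) N := Module.Finite.equiv φ'
  have hloc : IsLocalHom (algebraMap (Localization.AtPrime p) S) := by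
    change IsLocalHom (e : Localization.AtPrime p →+* S)
    exact ⟨fun a ha => by
      have := ha.map (e.symm : S →+* Localization.AtPrime p)
      simpa using this⟩
  have hNoeth : IsNoetherianRing S :=
    isNoetherianRing_of_ringEquiv (Localization.AtPrime p) e.toRingEquiv
  constructor
  · rw [← depth_eq_of_finite (Localization.AtPrime p) S N]
    exact (idealDepth_congr _ φ').symm
  · rw [← Groth.Agent.S5766.result (Localization.AtPrime p) S N]
    exact (Module.supportDim_eq_of_equiv φ').symm

end Transfer

section Double

variable {A : Type u} [CommRing A] [IsNoetherianRing A] (T : Submonoid A)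
  (M : Type u) [AddCommGroup M] [Module A M] [Module.Finite A M]
  (P : Ideal (Localization T)) [P.IsPrime]

/-- Depth and dimension of a localization of a localization. -/
theorem depth_and_supportDim_localizedModule_localizedModule :
    LocCoh.depth (Localization.AtPrime P)
        (LocalizedModule P.primeCompl (LocalizedModule T M)) =
      LocCoh.depth (Localization.AtPrime (P.comap (algebraMap A (Localization T))))
        (LocalizedModule (P.comap (algebraMap A (Localization T))).primeCompl M) ∧
    Module.supportDim (Localization.AtPrime P)
        (LocalizedModule P.primeCompl (LocalizedModule T M)) =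
      Module.supportDim (Localization.AtPrime (P.comap (algebraMap A (Localization T))))
        (LocalizedModule (P.comap (algebraMap A (Localization T))).primeCompl M) := by
  let g : LocalizedModule T M →ₗ[Localization T]
      LocalizedModule P.primeCompl (LocalizedModule T M) :=
    LocalizedModule.mkLinearMap P.primeCompl (LocalizedModule T M)
  let f : M →ₗ[A] LocalizedModule P.primeCompl (LocalizedModule T M) :=
    (g.restrictScalars A).comp (LocalizedModule.mkLinearMap T M)
  have hbc1 : IsBaseChange (Localization T) (LocalizedModule.mkLinearMap T M) :=
    (isLocalizedModule_iff_isBaseChange T (Localization T) _).mp inferInstance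
  have hbc2 : IsBaseChange (Localization.AtPrime P) g :=
    (isLocalizedModule_iff_isBaseChange P.primeCompl (Localization.AtPrime P) _).mp inferInstance
  have hbc : IsBaseChange (Localization.AtPrime P) f := IsBaseChange.comp hbc1 hbc2
  have hloc : IsLocalizedModule (P.comap (algebraMap A (Localization T))).primeCompl f :=
    (isLocalizedModule_iff_isBaseChange (P.comap (algebraMap A (Localization T))).primeCompl
      (Localization.AtPrime P) f).mpr hbc
  exact depth_and_supportDim_eq_of_isLocalizedModule
    (P.comap (algebraMap A (Localization T))) (Localization.AtPrime P) f

end Double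

end Groth.Agent.Lib.Helper29
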