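import Groth.Agent.Lib.Helper29.SkEmbedded
import Groth.Agent.Lib.Helper29.LocTransfer
import Groth.Agent.Lib.Helper29.FiniteRestrict
import Groth.Prelude.Def_EGA4b

/-!
Helper lemmas (helper29): if the codepth loci `{P | dim M_P ≤ depth M_P + j}` of a finite module
over a Noetherian ring are all open, then the `(S_n)`-loci are open (EGA IV 6.11.2 (ii)).
-/

set_option autoImplicit false
universe u

namespace Groth.Agent.Lib.Helper29

open PrimeSpectrum

section

variable (A : Type u) [CommRing A] [IsNoetherianRing A] (M : Type u) [AddCommGroup M]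
  [Module A M] [Module.Finite A M]

/-- `(S_k)` at `p` means the `(S_k)` inequality at all generizations of `p`. -/
theorem hasSkAt_iff (k : ℕ) (p : PrimeSpectrum A) :
    EGA4.HasSkAt k A M p.asIdeal ↔ ∀ 𝔮 : PrimeSpectrum A, 𝔮 ≤ p →
      min (k : WithBot ℕ∞) (Module.supportDim (Localization.AtPrime 𝔮.asIdeal)
        (LocalizedModule 𝔮.asIdeal.primeCompl M)) ≤
      ((LocCoh.depth (Localization.AtPrime 𝔮.asIdeal)
        (LocalizedModule 𝔮.asIdeal.primeCompl M) : ℕ∞) : WithBot ℕ∞) := by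
  unfold EGA4.HasSkAt LocCoh.HasSk
  constructor
  · intro H 𝔮 hle
    have hdisj : Disjoint (p.asIdeal.primeCompl : Set A) (𝔮.asIdeal : Set A) :=
      Set.disjoint_left.mpr (fun x hx hx' => hx (hle hx'))
    have hprime : (𝔮.asIdeal.map (algebraMap A (Localization.AtPrime p.asIdeal))).IsPrime :=
      IsLocalization.isPrime_of_isPrime_disjoint p.asIdeal.primeCompl _ _ 𝔮.isPrime hdisj
    have hc : (𝔮.asIdeal.map (algebraMap A (Localization.AtPrime p.asIdeal))).comap
        (algebraMap A (Localization.AtPrime p.asIdeal)) = 𝔮.asIdeal :=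
      IsLocalization.under_map_of_isPrime_disjoint p.asIdeal.primeCompl _ 𝔮.isPrime hdisj
    have h1 := H (𝔮.asIdeal.map (algebraMap A (Localization.AtPrime p.asIdeal)))
    obtain ⟨h2, h3⟩ := depth_and_supportDim_localizedModule_localizedModule p.asIdeal.primeCompl M
      (𝔮.asIdeal.map (algebraMap A (Localization.AtPrime p.asIdeal)))
    rw [h2, h3] at h1
    have key : ∀ (q' : Ideal A) [q'.IsPrime], q' = 𝔮.asIdeal →
        min (k : WithBot ℕ∞) (Module.supportDim (Localization.AtPrime q')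
          (LocalizedModule q'.primeCompl M)) ≤
        ((LocCoh.depth (Localization.AtPrime q') (LocalizedModule q'.primeCompl M) : ℕ∞) :
          WithBot ℕ∞) →
        min (k : WithBot ℕ∞) (Module.supportDim (Localization.AtPrime 𝔮.asIdeal)
          (LocalizedModule 𝔮.asIdeal.primeCompl M)) ≤
        ((LocCoh.depth (Localization.AtPrime 𝔮.asIdeal)
          (LocalizedModule 𝔮.asIdeal.primeCompl M) : ℕ∞) : WithBot ℕ∞) := by
      intro q' _ hq' h
      subst hq'
      exact h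
    exact key _ hc h1
  · intro H P hP
    obtain ⟨h2, h3⟩ := depth_and_supportDim_localizedModule_localizedModule p.asIdeal.primeCompl M P
    rw [h2, h3]
    refine H ⟨P.comap (algebraMap A (Localization.AtPrime p.asIdeal)), inferInstance⟩ ?_
    change P.comap (algebraMap A (Localization.AtPrime p.asIdeal)) ≤ p.asIdeal
    have h1 : P ≤ IsLocalRing.maximalIdeal (Localization.AtPrime p.asIdeal) :=
      IsLocalRing.le_maximalIdeal hP.ne_top
    refine (Ideal.comap_mono h1).trans (le_of_eq ?_)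
    exact Localization.AtPrime.under_maximalIdeal

omit [IsNoetherianRing A] in
/-- `dim M_𝔮` is monotone in `𝔮`. -/
theorem supportDim_localizedModule_mono {𝔮' 𝔮 : PrimeSpectrum A} (h : 𝔮' ≤ 𝔮) :
    Module.supportDim (Localization.AtPrime 𝔮'.asIdeal) (LocalizedModule 𝔮'.asIdeal.primeCompl M) ≤
      Module.supportDim (Localization.AtPrime 𝔮.asIdeal)
        (LocalizedModule 𝔮.asIdeal.primeCompl M) := by
  by_cases h' : 𝔮' ∈ Module.support A M
  · have h2 : 𝔮 ∈ Module.support A M := Module.mem_support_mono h h'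
    rw [supportDim_localizedModule_eq_height' A M ⟨𝔮', h'⟩,
      supportDim_localizedModule_eq_height' A M ⟨𝔮, h2⟩]
    have : (⟨𝔮', h'⟩ : Module.support A M) ≤ ⟨𝔮, h2⟩ := h
    exact_mod_cast Order.height_mono this
  · have hsub : Subsingleton (LocalizedModule 𝔮'.asIdeal.primeCompl M) :=
      Module.notMem_support_iff.mp h'
    rw [Module.supportDim_eq_bot_of_subsingleton]
    exact bot_le

omit [IsNoetherianRing A] [Module.Finite A M] in
theorem exists_nat_of_not_min_le {n j₀ : ℕ} {δ : WithBot ℕ∞} {d : ℕ∞}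
    (hj : δ ≤ ((d : ℕ∞) : WithBot ℕ∞) + j₀)
    (hbad : ¬ (min (n : WithBot ℕ∞) δ ≤ ((d : ℕ∞) : WithBot ℕ∞))) :
    ∃ δn dn : ℕ, δ = (δn : ℕ) ∧ d = dn ∧ dn < n ∧ dn < δn ∧ δn ≤ dn + j₀ := by
  have hd : d ≠ ⊤ := by
    rintro rfl
    exact hbad le_top
  obtain ⟨dn, rfl⟩ := ENat.ne_top_iff_exists.mp hd
  have hδ : δ ≠ ⊥ := by
    rintro rfl
    apply hbad
    rw [min_eq_right bot_le]
    exact bot_le
  obtain ⟨x, rfl⟩ := WithBot.ne_bot_iff_exists.mp hδ
  have hx : x ≠ ⊤ := by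
    rintro rfl
    have h1 : (((⊤ : ℕ∞)) : WithBot ℕ∞) ≤ (((dn + j₀ : ℕ) : ℕ∞) : WithBot ℕ∞) := by
      refine hj.trans (le_of_eq ?_)
      push_cast
      rfl
    have h2 := WithBot.coe_le_coe.mp h1
    exact ENat.natCast_ne_top _ (top_le_iff.mp h2)
  obtain ⟨δn, rfl⟩ := ENat.ne_top_iff_exists.mp hx
  refine ⟨δn, dn, rfl, rfl, ?_, ?_, ?_⟩
  · by_contra hcon
    apply hbad
    refine (min_le_left _ _).trans ?_
    have : n ≤ dn := not_lt.mp hcon
    exact_mod_cast this
  · by_contra hcon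
    apply hbad
    refine (min_le_right _ _).trans ?_
    have : δn ≤ dn := not_lt.mp hcon
    exact_mod_cast this
  · exact_mod_cast hj

/-- If all codepth loci are open then the `(S_n)` loci are open. -/
theorem isOpen_setOf_hasSkAt_of_isOpen_codepth
    (hopen : ∀ j : ℕ, IsOpen {P : PrimeSpectrum A |
      Module.supportDim (Localization.AtPrime P.asIdeal)
          (LocalizedModule P.asIdeal.primeCompl M) ≤
        ((LocCoh.depth (Localization.AtPrime P.asIdeal)
          (LocalizedModule P.asIdeal.primeCompl M) : ℕ∞) : WithBot ℕ∞) + j}) (n : ℕ) :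
    IsOpen {p : PrimeSpectrum A | EGA4.HasSkAt n A M p.asIdeal} := by
  classical
  -- abbreviations
  set δ : PrimeSpectrum A → WithBot ℕ∞ := fun P =>
    Module.supportDim (Localization.AtPrime P.asIdeal) (LocalizedModule P.asIdeal.primeCompl M)
    with hδdef
  set d : PrimeSpectrum A → ℕ∞ := fun P =>
    LocCoh.depth (Localization.AtPrime P.asIdeal) (LocalizedModule P.asIdeal.primeCompl M)
    with hddef
  have hopen' : ∀ j : ℕ, IsOpen {P : PrimeSpectrum A | δ P ≤ ((d P : ℕ∞) : WithBot ℕ∞) + j} :=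
    hopen
  have hiff : ∀ p : PrimeSpectrum A, EGA4.HasSkAt n A M p.asIdeal ↔
      ∀ 𝔮 : PrimeSpectrum A, 𝔮 ≤ p → min (n : WithBot ℕ∞) (δ 𝔮) ≤ ((d 𝔮 : ℕ∞) : WithBot ℕ∞) :=
    fun p => hasSkAt_iff A M n p
  -- a uniform bound for the codepth
  obtain ⟨j₀, hj₀⟩ : ∃ j₀ : ℕ, ∀ P : PrimeSpectrum A,
      δ P ≤ ((d P : ℕ∞) : WithBot ℕ∞) + j₀ := by
    have hcover : (Set.univ : Set (PrimeSpectrum A)) ⊆
        ⋃ j : ℕ, {P : PrimeSpectrum A | δ P ≤ ((d P : ℕ∞) : WithBot ℕ∞) + j} := by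
      intro P _
      obtain ⟨h, hh⟩ := ENat.ne_top_iff_exists.mp
        (Ideal.height_ne_top_of_isPrime (I := P.asIdeal))
      rw [Set.mem_iUnion]
      refine ⟨h, ?_⟩
      change δ P ≤ _
      have h1 : δ P ≤ ringKrullDim (Localization.AtPrime P.asIdeal) :=
        Module.supportDim_le_ringKrullDim _ _
      rw [IsLocalization.AtPrime.ringKrullDim_eq_height P.asIdeal, ← hh] at h1
      refine h1.trans ?_
      have h2 : (((h : ℕ) : ℕ∞) : WithBot ℕ∞) = ((h : ℕ) : WithBot ℕ∞) := rfl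
      rw [h2]
      exact le_add_of_nonneg_left (by exact_mod_cast (zero_le : (0 : ℕ∞) ≤ d P))
    have hdir : Directed (· ⊆ ·)
        (fun j : ℕ => {P : PrimeSpectrum A | δ P ≤ ((d P : ℕ∞) : WithBot ℕ∞) + j}) := by
      intro i j
      refine ⟨max i j, ?_, ?_⟩
      · intro P hP
        refine le_trans (show δ P ≤ _ from hP) (add_le_add_right ?_ _)
        exact_mod_cast le_max_left i j
      · intro P hP
        refine le_trans (show δ P ≤ _ from hP) (add_le_add_right ?_ _)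
        exact_mod_cast le_max_right i j
    obtain ⟨j₀, hj₀⟩ := isCompact_univ.elim_directed_cover _ hopen' hcover hdir
    exact ⟨j₀, fun P => hj₀ (Set.mem_univ P)⟩
  -- the closed sets `Z j`
  have hZ : ∀ j : ℕ, ∃ I : Ideal A, {P : PrimeSpectrum A |
      δ P ≤ ((d P : ℕ∞) : WithBot ℕ∞) + j}ᶜ = zeroLocus (I : Set A) := fun j =>
    (isClosed_iff_zeroLocus_ideal _).mp (hopen' j).isClosed_compl
  choose I hI using hZ
  set C : Set (PrimeSpectrum A) := {p | ¬ EGA4.HasSkAt n A M p.asIdeal} with hC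
  set T : Set (PrimeSpectrum A) := {𝔮' | 𝔮' ∈ C ∧ ∃ j < j₀, 𝔮'.asIdeal ∈ (I j).minimalPrimes}
    with hT
  have hTfin : T.Finite := by
    have h1 : (⋃ j ∈ Finset.range j₀, (I j).minimalPrimes).Finite :=
      Set.Finite.biUnion (Finset.finite_toSet _)
        (fun j _ => Ideal.finite_minimalPrimes_of_isNoetherianRing A _)
    refine (h1.preimage (f := PrimeSpectrum.asIdeal) ?_).subset ?_
    · intro x _ y _ hxy
      exact PrimeSpectrum.ext hxy
    · rintro 𝔮' ⟨-, j, hj, hmin⟩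
      simp only [Set.mem_preimage, Set.mem_iUnion, Finset.mem_range]
      exact ⟨j, hj, hmin⟩
  have hCeq : C = ⋃ 𝔮' ∈ T, zeroLocus (𝔮'.asIdeal : Set A) := by
    ext p
    simp only [Set.mem_iUnion, mem_zeroLocus, SetLike.coe_subset_coe, exists_prop]
    constructor
    · intro hp
      have hp' : ¬ ∀ 𝔮 : PrimeSpectrum A, 𝔮 ≤ p →
          min (n : WithBot ℕ∞) (δ 𝔮) ≤ ((d 𝔮 : ℕ∞) : WithBot ℕ∞) := fun h => hp ((hiff p).mpr h)
      push Not at hp'
      obtain ⟨𝔮, h𝔮p, hbad⟩ := hp'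
      obtain ⟨δn, dn, hδn, hdn, h1, h2, h3⟩ := exists_nat_of_not_min_le (hj₀ 𝔮) (not_le.mpr hbad)
      -- the index
      obtain ⟨j, hjeq⟩ : ∃ j : ℕ, dn + j + 1 = δn := ⟨δn - dn - 1, by omega⟩
      have hjlt : j < j₀ := by omega
      have h𝔮Z : 𝔮 ∈ {P : PrimeSpectrum A | δ P ≤ ((d P : ℕ∞) : WithBot ℕ∞) + j}ᶜ := by
        intro hmem
        have h4 : δ 𝔮 ≤ ((d 𝔮 : ℕ∞) : WithBot ℕ∞) + j := hmem
        rw [hδn, hdn] at h4
        have h5 : δn ≤ dn + j := by exact_mod_cast h4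
        omega
      rw [hI j, mem_zeroLocus, SetLike.coe_subset_coe] at h𝔮Z
      obtain ⟨𝔮'i, hmin, hle⟩ := Ideal.exists_minimalPrimes_le h𝔮Z
      have hprime : 𝔮'i.IsPrime := hmin.1.1
      let 𝔮' : PrimeSpectrum A := ⟨𝔮'i, hprime⟩
      have h𝔮'𝔮 : 𝔮' ≤ 𝔮 := hle
      have h𝔮'Z : 𝔮' ∈ {P : PrimeSpectrum A | δ P ≤ ((d P : ℕ∞) : WithBot ℕ∞) + j}ᶜ := by
        rw [hI j, mem_zeroLocus, SetLike.coe_subset_coe]
        exact hmin.1.2
      have hnle : ¬ (δ 𝔮' ≤ ((d 𝔮' : ℕ∞) : WithBot ℕ∞) + j) := h𝔮'Z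
      have hmono : δ 𝔮' ≤ δ 𝔮 := supportDim_localizedModule_mono A M h𝔮'𝔮
      have hbad' : ¬ (min (n : WithBot ℕ∞) (δ 𝔮') ≤ ((d 𝔮' : ℕ∞) : WithBot ℕ∞)) := by
        intro hgood
        -- get naturals for `𝔮'`
        have hd' : d 𝔮' ≠ ⊤ := by
          intro htop
          apply hnle
          rw [htop]
          exact le_top
        obtain ⟨dn', hdn'⟩ := ENat.ne_top_iff_exists.mp hd'
        have hδ' : δ 𝔮' ≠ ⊥ := by
          intro hbot
          apply hnle
          rw [hbot]; exact bot_le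
        obtain ⟨x, hx⟩ := WithBot.ne_bot_iff_exists.mp hδ'
        have hxle : x ≤ (δn : ℕ∞) := by
          have h6 : ((x : ℕ∞) : WithBot ℕ∞) ≤ (((δn : ℕ) : ℕ∞) : WithBot ℕ∞) := by
            rw [hx]
            refine hmono.trans (le_of_eq ?_)
            rw [hδn]; rfl
          exact WithBot.coe_le_coe.mp h6
        have hxtop : x ≠ ⊤ := fun h => ENat.natCast_ne_top δn (top_le_iff.mp (h ▸ hxle))
        obtain ⟨δn', hδn'⟩ := ENat.ne_top_iff_exists.mp hxtop
        have hle' : δn' ≤ δn := by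
          rw [← hδn'] at hxle
          exact_mod_cast hxle
        have hδeq : δ 𝔮' = ((δn' : ℕ) : WithBot ℕ∞) := by
          rw [← hx, ← hδn']; rfl
        rw [hδeq, ← hdn'] at hnle hgood
        have h7 : ¬ (δn' ≤ dn' + j) := by
          intro h8
          apply hnle
          exact_mod_cast h8
        rcases le_total n δn' with h10 | h10
        · have h11 : ((n : ℕ) : WithBot ℕ∞) ≤ ((δn' : ℕ) : WithBot ℕ∞) := by exact_mod_cast h10
          rw [min_eq_left h11] at hgood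
          have h9 : n ≤ dn' := by exact_mod_cast hgood
          omega
        · have h11 : ((δn' : ℕ) : WithBot ℕ∞) ≤ ((n : ℕ) : WithBot ℕ∞) := by exact_mod_cast h10
          rw [min_eq_right h11] at hgood
          have h9 : δn' ≤ dn' := by exact_mod_cast hgood
          omega
      have h𝔮'C : 𝔮' ∈ C := by
        intro hSk
        exact hbad' ((hiff 𝔮').mp hSk 𝔮' le_rfl)
      exact ⟨𝔮', ⟨h𝔮'C, j, hjlt, hmin⟩, fun x hx => h𝔮p (hle hx)⟩
    · rintro ⟨𝔮', ⟨h𝔮'C, -⟩, hle⟩ hSk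
      apply h𝔮'C
      rw [hiff] at hSk ⊢
      intro 𝔮 h𝔮
      exact hSk 𝔮 (h𝔮.trans hle)
  have hclosed : IsClosed C := by
    rw [hCeq]
    exact hTfin.isClosed_biUnion (fun _ _ => isClosed_zeroLocus _)
  have : {p : PrimeSpectrum A | EGA4.HasSkAt n A M p.asIdeal} = Cᶜ := by
    ext p
    simp [hC]
  rw [this]
  exact hclosed.isOpen_compl

end

end Groth.Agent.Lib.Helper29
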