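import Groth.Agent.Lib.Helper24.CMFieldBaseChange
import Groth.Agent.Lib.Helper29.SkOpen
import Groth.Agent.Lib.Helper29.SkDescent
import Groth.Agent.Lib.Helper29.FlatAscent3
import Groth.Agent.Lib.Helper89.CMCatenary

/-!
Helper lemmas (helper29): codepth and `(S_n)` under extension of the base field (EGA IV 6.7.1).
-/

set_option autoImplicit false
universe u

namespace Groth.Agent.Lib.Helper29

open IsLocalRing TensorProduct

/-- A Cohen–Macaulay local ring satisfies `(S_k)` for all `k`. -/
theorem hasSk_of_isCohenMacaulayLocalRing (k : ℕ) (F : Type u) [CommRing F]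
    [LocCoh.IsCohenMacaulayLocalRing F] : LocCoh.HasSk k F F := by
  intro p hp
  obtain ⟨r, -, h2, h3⟩ := supportDim_localizedModule_eq_of_isCohenMacaulayModule F F
    (LocCoh.IsCohenMacaulayLocalRing.supportDim_eq_depth) ⟨p, hp⟩
    (by rw [Groth.Agent.Lib.Helper89.CMCatenary.support_self_eq_univ]; trivial)
  rw [h2, h3]
  exact min_le_right _ _

/-- `(S_k)` of the ring at a prime, in terms of the local ring. -/
theorem hasSkAt_self_iff_hasSk_localization (k : ℕ) (R : Type u) [CommRing R] [IsNoetherianRing R]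
    (q : Ideal R) [hq : q.IsPrime] :
    EGA4.HasSkAt k R R q ↔
      LocCoh.HasSk k (Localization.AtPrime q) (Localization.AtPrime q) := by
  rw [hasSk_localization_iff, hasSkAt_iff R R k ⟨q, hq⟩]
  constructor
  · intro h Q hQ hQq
    have h1 := h ⟨Q, hQ⟩ hQq
    rw [supportDim_localizedModule_self, depth_localizedModule_self,
      min_natCast_coe_le_coe_iff] at h1
    exact h1
  · intro h 𝔮 h𝔮
    rw [supportDim_localizedModule_self, depth_localizedModule_self, min_natCast_coe_le_coe_iff]
    exact h 𝔮.asIdeal h𝔮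

section Field

variable (k K A : Type u) [Field k] [Field K] [Algebra k K] [CommRing A] [Algebra k A]
  [IsNoetherianRing A] [IsNoetherianRing (A ⊗[k] K)]

/-- The fibre local ring of `A → A ⊗[k] K` at a prime `𝔓` is CM when `κ(𝔭) ⊗[k] K` is. -/
theorem isCohenMacaulayLocalRing_fibLocRing_tensor_field (𝔓 : Ideal (A ⊗[k] K)) [𝔓.IsPrime]
    (hfib : LocCoh.IsCohenMacaulayRing ((𝔓.under A).ResidueField ⊗[k] K)) :
    LocCoh.IsCohenMacaulayLocalRing (EGA4.FibLocRing A (A ⊗[k] K) 𝔓) := by
  have hlies : 𝔓.LiesOver (𝔓.under A) := ⟨rfl⟩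
  obtain ⟨q', hq', hq'q⟩ := exists_fiber_prime (𝔓.under A) 𝔓
  let eF : (𝔓.under A).Fiber (A ⊗[k] K) ≃+* (𝔓.under A).ResidueField ⊗[k] K :=
    (Algebra.TensorProduct.cancelBaseChange k A A (𝔓.under A).ResidueField K).toRingEquiv
  have hCMF : LocCoh.IsCohenMacaulayRing ((𝔓.under A).Fiber (A ⊗[k] K)) :=
    Groth.Agent.Lib.Helper82.CMPoly.isCohenMacaulayRing_of_ringEquiv eF.symm hfib
  have h1 := hCMF.isCohenMacaulayLocalRing_localization q'
  have h2 := isCohenMacaulayLocalRing_of_ringEquiv (fiberLocalizationEquiv (𝔓.under A) q') h1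
  have key : ∀ (r : Ideal (A ⊗[k] K)) (hr : r.IsPrime), r = 𝔓 →
      LocCoh.IsCohenMacaulayLocalRing (Localization.AtPrime r ⧸
        (𝔓.under A).map (algebraMap A (Localization.AtPrime r))) →
      LocCoh.IsCohenMacaulayLocalRing (Localization.AtPrime 𝔓 ⧸
        (𝔓.under A).map (algebraMap A (Localization.AtPrime 𝔓))) := by
    rintro r hr rfl h
    exact h
  exact key _ _ hq'q h2

/-- `κ(𝔭) ⊗[k] K` is CM when `A` is of finite type over `k` or `K` is essentially of finite type
over `k`. -/
theorem isCohenMacaulayRing_residueField_tensor_field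
    (hft : Algebra.FiniteType k A ∨ Algebra.EssFiniteType k K) (p : Ideal A) [p.IsPrime] :
    LocCoh.IsCohenMacaulayRing (p.ResidueField ⊗[k] K) := by
  rcases hft with hA | hK
  · have : Algebra.EssFiniteType k p.ResidueField := Algebra.EssFiniteType.comp k A _
    have h := Groth.Agent.Lib.Helper24.isCohenMacaulayRing_tensor_field_of_essFiniteType k
      p.ResidueField K
    exact Groth.Agent.Lib.Helper82.CMPoly.isCohenMacaulayRing_of_ringEquiv
      (Algebra.TensorProduct.comm k K p.ResidueField).toRingEquiv h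
  · exact Groth.Agent.Lib.Helper24.isCohenMacaulayRing_tensor_field_of_essFiniteType k K
      p.ResidueField

/-- EGA IV 6.7.1: codepth and `(S_n)` are invariant under extension of the base field. -/
theorem codepth_and_hasSkAt_tensor_field
    (hft : Algebra.FiniteType k A ∨ Algebra.EssFiniteType k K)
    (q' : Ideal (A ⊗[k] K)) [q'.IsPrime] (n : ℕ) :
    (ringKrullDim (Localization.AtPrime (q'.comap (algebraMap A (A ⊗[k] K)))) +
        ((LocCoh.depth (Localization.AtPrime q') (Localization.AtPrime q') : ℕ∞) : WithBot ℕ∞) =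
      ringKrullDim (Localization.AtPrime q') +
        ((LocCoh.depth (Localization.AtPrime (q'.comap (algebraMap A (A ⊗[k] K))))
          (Localization.AtPrime (q'.comap (algebraMap A (A ⊗[k] K)))) : ℕ∞) : WithBot ℕ∞)) ∧
    (EGA4.HasSkAt n A A (q'.comap (algebraMap A (A ⊗[k] K))) ↔
      EGA4.HasSkAt n (A ⊗[k] K) (A ⊗[k] K) q') := by
  have hlies : q'.LiesOver (q'.comap (algebraMap A (A ⊗[k] K))) := ⟨rfl⟩
  have hfibCM : ∀ (Q : Ideal (A ⊗[k] K)) [Q.IsPrime],
      LocCoh.IsCohenMacaulayLocalRing (EGA4.FibLocRing A (A ⊗[k] K) Q) := fun Q _ =>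
    isCohenMacaulayLocalRing_fibLocRing_tensor_field k K A Q
      (isCohenMacaulayRing_residueField_tensor_field k K A hft (Q.under A))
  have hF := hfibCM q'
  have hlocF : IsLocalRing (Localization.AtPrime q' ⧸
      (q'.comap (algebraMap A (A ⊗[k] K))).map (algebraMap A (Localization.AtPrime q'))) :=
    hF.toIsLocalRing
  refine ⟨?_, ?_⟩
  · obtain ⟨h1, h2⟩ := depth_and_dim_add_of_flat (q'.comap (algebraMap A (A ⊗[k] K))) q'
    have h3 := hF.supportDim_eq_depth
    rw [Module.supportDim_self_eq_ringKrullDim] at h3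
    rw [h1, h2]
    change _ = _ + ringKrullDim (EGA4.FibLocRing A (A ⊗[k] K) q') + _
    rw [h3]
    push_cast
    rw [add_assoc]
    congr 1
    exact add_comm (G := WithBot ℕ∞) _ _
  · rw [hasSkAt_self_iff_hasSk_localization, hasSkAt_self_iff_hasSk_localization]
    constructor
    · intro hA
      exact hasSk_localization_of_flat_of_fibLoc A (A ⊗[k] K) n
        (fun Q _ => @hasSk_of_isCohenMacaulayLocalRing n _ _ (hfibCM Q)) q' hA
    · intro hS
      let _ := Localization.AtPrime.algebraOfLiesOver (q'.comap (algebraMap A (A ⊗[k] K))) q'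
      have hNq : IsNoetherianRing (Localization.AtPrime q') :=
        IsLocalization.isNoetherianRing q'.primeCompl _ inferInstance
      have hloc : IsLocalHom (algebraMap
          (Localization.AtPrime (q'.comap (algebraMap A (A ⊗[k] K))))
          (Localization.AtPrime q')) := by
        rw [Localization.AtPrime.IsLiesOverAlgebra.algebraMap_eq]
        exact Localization.isLocalHom_localRingHom _ _ _ _
      have hff : Module.FaithfullyFlat
          (Localization.AtPrime (q'.comap (algebraMap A (A ⊗[k] K))))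
          (Localization.AtPrime q') := Module.FaithfullyFlat.of_flat_of_isLocalHom
      exact (hasSk_of_faithfullyFlat n hS).2

end Field

end Groth.Agent.Lib.Helper29
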