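import Groth.Agent.Lib.Helper29.SkEmbedded
import Groth.Agent.H46.CatenaryDim
import Groth.Prelude.Def_EGA4b
import Mathlib.RingTheory.Ideal.KrullsHeightTheorem

/-!
# Lifting `(S_k)` and equidimensionality from `M/tM` to `M` (helper29), EGA IV 5.12.x
-/

set_option autoImplicit false

namespace Groth.Agent.Lib.Helper29

open IsLocalRing RingTheory.Sequence PrimeSpectrum
open scoped Pointwise

universe u

section Cov

variable {A : Type u} [CommRing A] [IsNoetherianRing A]

/-- A minimal prime of `p + (t)` covers `p`. -/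
theorem covBy_of_mem_minimalPrimes_sup_span {p q : Ideal A} [hp : p.IsPrime] {t : A} (ht : t ∉ p)
    (hq : q ∈ (p ⊔ Ideal.span {t}).minimalPrimes) :
    (⟨p, hp⟩ : PrimeSpectrum A) ⋖ ⟨q, hq.1.1⟩ := by
  have hqprime : q.IsPrime := hq.1.1
  have hpq : p ≤ q := le_sup_left.trans hq.1.2
  have htq : t ∈ q := hq.1.2 (Ideal.mem_sup_right (Ideal.mem_span_singleton_self t))
  have hlt : p < q := lt_of_le_of_ne hpq (fun h => ht (h ▸ htq))
  refine ⟨hlt, ?_⟩
  intro r hpr hrq
  have hpr' : p < r.asIdeal := hpr
  have hrq' : r.asIdeal < q := hrq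
  have h1 := Ideal.map_height_le_one_of_mem_minimalPrimes hq
  have hcm : ∀ J : Ideal A, p ≤ J →
      (J.map (Ideal.Quotient.mk p)).comap (Ideal.Quotient.mk p) = J := by
    intro J hJ
    rw [Ideal.comap_map_of_surjective _ Ideal.Quotient.mk_surjective, ← RingHom.ker_eq_comap_bot,
      Ideal.mk_ker, sup_eq_left.mpr hJ]
  have hrprime : (r.asIdeal.map (Ideal.Quotient.mk p)).IsPrime :=
    Ideal.map_isPrime_of_surjective Ideal.Quotient.mk_surjective (by rw [Ideal.mk_ker]; exact hpr'.le)
  have hqprime' : (q.map (Ideal.Quotient.mk p)).IsPrime :=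
    Ideal.map_isPrime_of_surjective Ideal.Quotient.mk_surjective (by rw [Ideal.mk_ker]; exact hpq)
  have hlt1 : (⊥ : Ideal (A ⧸ p)) < r.asIdeal.map (Ideal.Quotient.mk p) := by
    refine lt_of_le_of_ne bot_le ?_
    intro heq
    have := hcm r.asIdeal hpr'.le
    rw [← heq, ← RingHom.ker_eq_comap_bot, Ideal.mk_ker] at this
    exact hpr'.ne this
  have hlt2 : r.asIdeal.map (Ideal.Quotient.mk p) < q.map (Ideal.Quotient.mk p) := by
    refine lt_of_le_of_ne (Ideal.map_mono hrq'.le) ?_
    intro heq
    apply hrq'.ne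
    rw [← hcm r.asIdeal hpr'.le, ← hcm q hpq, heq]
  have hbotprime : (⊥ : Ideal (A ⧸ p)).IsPrime := Ideal.isPrime_bot
  have h2 := Ideal.height_strict_mono_of_isPrime_of_isPrime hlt1
  have h3 := Ideal.height_strict_mono_of_isPrime_of_isPrime hlt2
  have h4 : (1 : ℕ∞) ≤ (r.asIdeal.map (Ideal.Quotient.mk p)).height :=
    Order.one_le_iff_pos.mpr (lt_of_le_of_lt zero_le h2)
  exact absurd (h4.trans_lt (h3.trans_le h1)) (lt_irrefl _)

end Cov

section Lift

variable (A : Type u) [CommRing A] [IsNoetherianRing A] [IsLocalRing A]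
  (M : Type u) [AddCommGroup M] [Module A M] [Module.Finite A M]

theorem withBot_min_add_one (k : ℕ) (d : WithBot ℕ∞) :
    min (((k + 1 : ℕ) : ℕ) : WithBot ℕ∞) (d + 1) = min (k : WithBot ℕ∞) d + 1 := by
  induction d using WithBot.recBotCoe with
  | bot => simp
  | coe d =>
    have h1 : ((d : ℕ∞) : WithBot ℕ∞) + 1 = (((d + 1 : ℕ∞) : ℕ∞) : WithBot ℕ∞) := rfl
    have h2 : (((k + 1 : ℕ) : ℕ) : WithBot ℕ∞) = (((k : ℕ∞) + 1 : ℕ∞) : WithBot ℕ∞) := by
      push_cast; rfl
    have h3 : ((k : ℕ) : WithBot ℕ∞) = (((k : ℕ∞)) : WithBot ℕ∞) := rfl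
    rw [h1, h2, h3, ← WithBot.coe_min, ← WithBot.coe_min, min_add_add_right]
    rfl

variable {A M}

omit [IsLocalRing A] in
/-- At primes containing the regular element `t`, `M` is `(S_{k+1})`-like. -/
theorem min_succ_le_depth_of_hasSk_quotSMulTop {k : ℕ} {t : A} (hreg : IsSMulRegular M t)
    (hS : LocCoh.HasSk k A (QuotSMulTop t M)) (q : Ideal A) [q.IsPrime] (htq : t ∈ q) :
    min (((k + 1 : ℕ) : ℕ) : WithBot ℕ∞)
        (Module.supportDim (Localization.AtPrime q) (LocalizedModule q.primeCompl M)) ≤
      ((LocCoh.depth (Localization.AtPrime q) (LocalizedModule q.primeCompl M) : ℕ∞) :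
        WithBot ℕ∞) := by
  have hNq : IsNoetherianRing (Localization.AtPrime q) :=
    IsLocalization.isNoetherianRing q.primeCompl _ inferInstance
  have h1 := depth_localizedModule_quotSMulTop_add_one A q M htq hreg
  have hy : algebraMap A (Localization.AtPrime q) t ∈ maximalIdeal (Localization.AtPrime q) := by
    rw [IsLocalization.AtPrime.to_map_mem_maximal_iff (Localization.AtPrime q) q]
    exact htq
  have : Module.Flat A (Localization.AtPrime q) := IsLocalization.flat _ q.primeCompl
  have hyreg : IsSMulRegular (LocalizedModule q.primeCompl M)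
      (algebraMap A (Localization.AtPrime q) t) :=
    hreg.of_flat_of_isBaseChange (LocalizedModule.isBaseChange q.primeCompl M)
  have h2 : Module.supportDim (Localization.AtPrime q)
      (LocalizedModule q.primeCompl (QuotSMulTop t M)) + 1 =
      Module.supportDim (Localization.AtPrime q) (LocalizedModule q.primeCompl M) := by
    rw [Module.supportDim_eq_of_equiv (localizedModuleQuotSMulTopEquiv A q M t)]
    exact Module.supportDim_quotSMulTop_succ_eq_supportDim hyreg hy
  have h3 := hS q
  rw [← h1, ← h2, withBot_min_add_one]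
  have h4 : ((LocCoh.depth (Localization.AtPrime q)
      (LocalizedModule q.primeCompl (QuotSMulTop t M)) + 1 : ℕ∞) : WithBot ℕ∞) =
      ((LocCoh.depth (Localization.AtPrime q)
      (LocalizedModule q.primeCompl (QuotSMulTop t M)) : ℕ∞) : WithBot ℕ∞) + 1 := rfl
  rw [h4]
  exact add_le_add_left h3 1

/-- `(S_k)` lifts from `M/tM` to `M`. -/
theorem hasSk_of_hasSk_quotSMulTop {k : ℕ} {t : A} (ht : t ∈ maximalIdeal A)
    (hreg : IsSMulRegular M t) (hS : LocCoh.HasSk k A (QuotSMulTop t M)) : LocCoh.HasSk k A M := by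
  intro p hpprime
  by_cases htp : t ∈ p
  · refine le_trans (min_le_min_right _ ?_) (min_succ_le_depth_of_hasSk_quotSMulTop hreg hS p htp)
    exact_mod_cast Nat.le_succ k
  · by_cases hps : (⟨p, hpprime⟩ : PrimeSpectrum A) ∈ Module.support A M
    · have hne : p ⊔ Ideal.span {t} ≠ ⊤ := by
        intro h
        have hle : p ⊔ Ideal.span {t} ≤ maximalIdeal A :=
          sup_le (IsLocalRing.le_maximalIdeal hpprime.ne_top)
            ((Ideal.span_singleton_le_iff_mem _).mpr ht)
        exact (maximalIdeal.isMaximal A).ne_top (top_le_iff.mp (h ▸ hle))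
      obtain ⟨q, hq⟩ := Ideal.nonempty_minimalPrimes hne
      have hqprime : q.IsPrime := hq.1.1
      have hpq : p ≤ q := le_sup_left.trans hq.1.2
      have htq : t ∈ q := hq.1.2 (Ideal.mem_sup_right (Ideal.mem_span_singleton_self t))
      have hlt : p < q := lt_of_le_of_ne hpq (fun h => htp (h ▸ htq))
      have hqs : (⟨q, hqprime⟩ : PrimeSpectrum A) ∈ Module.support A M :=
        Module.mem_support_mono (p := ⟨p, hpprime⟩) hpq hps
      have h1 := min_succ_le_depth_of_hasSk_quotSMulTop hreg hS q htq
      have h2 := depth_localization_le_depth_localization_add_height A hpq M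
      have h3 : (q.map (Ideal.Quotient.mk p)).height ≤ 1 :=
        Ideal.map_height_le_one_of_mem_minimalPrimes hq
      have h4 : LocCoh.depth (Localization.AtPrime q) (LocalizedModule q.primeCompl M) ≤
          LocCoh.depth (Localization.AtPrime p) (LocalizedModule p.primeCompl M) + 1 :=
        h2.trans (add_le_add_right h3 _)
      have h5 : Module.supportDim (Localization.AtPrime p) (LocalizedModule p.primeCompl M) + 1 ≤
          Module.supportDim (Localization.AtPrime q) (LocalizedModule q.primeCompl M) := by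
        rw [supportDim_localizedModule_eq_height A M p hps,
          supportDim_localizedModule_eq_height A M q hqs]
        have : Order.height (⟨⟨p, hpprime⟩, hps⟩ : Module.support A M) + 1 ≤
            Order.height (⟨⟨q, hqprime⟩, hqs⟩ : Module.support A M) :=
          Order.height_add_one_le (show (⟨⟨p, hpprime⟩, hps⟩ : Module.support A M) <
            ⟨⟨q, hqprime⟩, hqs⟩ from hlt)
        exact_mod_cast this
      apply withBot_min_succ_le k _ _
      calc _ ≤ min (((k + 1 : ℕ) : ℕ) : WithBot ℕ∞)
            (Module.supportDim (Localization.AtPrime q) (LocalizedModule q.primeCompl M)) :=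
            min_le_min_left _ h5
        _ ≤ _ := h1
        _ ≤ _ := WithBot.coe_le_coe.mpr h4
    · have : Subsingleton (LocalizedModule p.primeCompl M) := Module.notMem_support_iff.mp hps
      rw [Module.supportDim_eq_bot_of_subsingleton]
      simp

/-- Equidimensionality lifts from `M/tM` to `M` over a catenary local ring when `M/tM` is
`(S_1)`. -/
theorem isEquidimModule_of_quotSMulTop (hcat : CAlg.IsCatenary A) {t : A}
    (ht : t ∈ maximalIdeal A) (hreg : IsSMulRegular M t)
    (heq : EGA4.IsEquidimModule A (QuotSMulTop t M)) (hS : LocCoh.HasSk 1 A (QuotSMulTop t M)) :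
    EGA4.IsEquidimModule A M := by
  intro p hp
  have hpprime : p.IsPrime := hp.1.1
  have htp : t ∉ p := hreg.notMem_of_mem_minimalPrimes hp
  have hpass : p ∈ associatedPrimes A M :=
    Module.associatedPrimes.minimalPrimes_annihilator_subset_associatedPrimes A M hp
  have hne : p ⊔ Ideal.span {t} ≠ ⊤ := by
    intro h
    have hle : p ⊔ Ideal.span {t} ≤ maximalIdeal A :=
      sup_le (IsLocalRing.le_maximalIdeal hpprime.ne_top)
        ((Ideal.span_singleton_le_iff_mem _).mpr ht)
    exact (maximalIdeal.isMaximal A).ne_top (top_le_iff.mp (h ▸ hle))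
  obtain ⟨q, hq⟩ := Ideal.nonempty_minimalPrimes hne
  have hqprime : q.IsPrime := hq.1.1
  have hpq : p ≤ q := le_sup_left.trans hq.1.2
  have htq : t ∈ q := hq.1.2 (Ideal.mem_sup_right (Ideal.mem_span_singleton_self t))
  have hcov := covBy_of_mem_minimalPrimes_sup_span htp hq
  have hdim1 := ((Groth.Agent.H46.isCatenary_iff_dimFun A).mp hcat _ _ hcov.lt).2 hcov
  -- `q` is an associated prime of `M/tM`
  have hd0 := depth_localizedModule_eq_zero_of_mem_associatedPrimes A M p hpass
  have h2 := depth_localization_le_depth_localization_add_height A hpq M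
  have h3 : (q.map (Ideal.Quotient.mk p)).height ≤ 1 :=
    Ideal.map_height_le_one_of_mem_minimalPrimes hq
  rw [hd0, zero_add] at h2
  have h4 := depth_localizedModule_quotSMulTop_add_one A q M htq hreg
  have h5 : LocCoh.depth (Localization.AtPrime q)
      (LocalizedModule q.primeCompl (QuotSMulTop t M)) = 0 := by
    have : LocCoh.depth (Localization.AtPrime q)
        (LocalizedModule q.primeCompl (QuotSMulTop t M)) + 1 ≤ 0 + 1 := by
      rw [h4, zero_add]; exact h2.trans h3
    exact le_antisymm ((ENat.add_le_add_iff_right ENat.one_ne_top).mp this) zero_le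
  have hqass : q ∈ associatedPrimes A (QuotSMulTop t M) :=
    mem_associatedPrimes_of_depth_localizedModule_eq_zero A _ q h5
  have hqs : (⟨q, hqprime⟩ : PrimeSpectrum A) ∈ Module.support A (QuotSMulTop t M) :=
    mem_support_of_mem_associatedPrimes' A _ ⟨q, hqprime⟩ hqass
  have hann : Module.annihilator A (QuotSMulTop t M) ≤ q :=
    Module.mem_support_iff_of_finite.mp hqs
  obtain ⟨q', hq'min, hq'le⟩ := Ideal.exists_minimalPrimes_le hann
  have hq'ass : q' ∈ associatedPrimes A (QuotSMulTop t M) :=
    Module.associatedPrimes.minimalPrimes_annihilator_subset_associatedPrimes A _ hq'min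
  have hq'q : q' = q :=
    eq_of_le_of_mem_associatedPrimes_of_hasSk_one A _ hS hq'ass hqass hq'le
  rw [hq'q] at hq'min
  have hdim2 := heq q hq'min
  have hdim3 := Module.supportDim_quotSMulTop_succ_eq_supportDim hreg ht
  change ringKrullDim (A ⧸ p) = ringKrullDim (A ⧸ q) + 1 at hdim1
  rw [hdim1, hdim2, hdim3]

end Lift

end Groth.Agent.Lib.Helper29
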