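import Groth.Agent.Lib.Helper29.RegSeqExact

/-!
# Powers of a regular sequence are regular (Matsumura 16.1)
-/

set_option autoImplicit false

namespace Groth.Agent.Lib.Helper29

open RingTheory.Sequence Function
open scoped Pointwise

universe u v₁ v₂ v₃

variable {R : Type u} [CommRing R]

/-- Extensions: if `0 → M' → M → M'' → 0` is exact and `rs` is weakly regular on `M'` and `M''`
then it is weakly regular on `M`. -/
theorem isWeaklyRegular_of_shortExact_outer (rs : List R) :
    ∀ (M' : Type v₁) (M : Type v₂) (M'' : Type v₃)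
      [AddCommGroup M'] [Module R M'] [AddCommGroup M] [Module R M] [AddCommGroup M'']
      [Module R M''] (f : M' →ₗ[R] M) (g : M →ₗ[R] M''), Injective f → Surjective g →
      Exact f g → IsWeaklyRegular M' rs → IsWeaklyRegular M'' rs → IsWeaklyRegular M rs := by
  induction rs with
  | nil =>
    intro M' M M'' _ _ _ _ _ _ f g _ _ _ _ _
    exact IsWeaklyRegular.nil R M
  | cons a rs ih =>
    intro M' M M'' _ _ _ _ _ _ f g hf hg hfg hM' hM''
    rw [isWeaklyRegular_cons_iff] at hM' hM'' ⊢
    refine ⟨?_, ?_⟩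
    · exact isSMulRegular_of_range_eq_ker hf (LinearMap.exact_iff.mp hfg).symm hM'.1 hM''.1
    · exact ih (QuotSMulTop a M') (QuotSMulTop a M) (QuotSMulTop a M'')
        (QuotSMulTop.map a f) (QuotSMulTop.map a g)
        (quotSMulTop_map_injective hf hfg hM''.1) (QuotSMulTop.map_surjective a hg)
        (QuotSMulTop.map_exact a hfg hg) hM'.2 hM''.2

section Mul

variable (M : Type v₁) [AddCommGroup M] [Module R M] (a b : R)

/-- Multiplication by `b`, as a map `M/aM → M/abM`. -/
def quotSMulTopMulLeft : QuotSMulTop a M →ₗ[R] QuotSMulTop (a * b) M :=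
  Submodule.mapQ _ _ (LinearMap.lsmul R M b) (by
    intro m hm
    rw [Submodule.mem_smul_pointwise_iff_exists] at hm
    obtain ⟨m', -, rfl⟩ := hm
    rw [Submodule.mem_comap, Submodule.mem_smul_pointwise_iff_exists]
    exact ⟨m', Submodule.mem_top, by simp [mul_smul]⟩)

/-- The projection `M/abM → M/bM`. -/
def quotSMulTopMulRight : QuotSMulTop (a * b) M →ₗ[R] QuotSMulTop b M :=
  Submodule.mapQ _ _ LinearMap.id (by
    intro m hm
    rw [Submodule.mem_smul_pointwise_iff_exists] at hm
    obtain ⟨m', -, rfl⟩ := hm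
    rw [Submodule.mem_comap, Submodule.mem_smul_pointwise_iff_exists]
    exact ⟨a • m', Submodule.mem_top, by simp [mul_smul, smul_comm b a]⟩)

theorem quotSMulTopMulLeft_injective (hb : IsSMulRegular M b) :
    Injective (quotSMulTopMulLeft M a b) := by
  rw [injective_iff_map_eq_zero]
  intro x hx
  obtain ⟨m, rfl⟩ := Submodule.mkQ_surjective _ x
  change Submodule.mkQ _ (b • m) = 0 at hx
  rw [Submodule.mkQ_apply, Submodule.Quotient.mk_eq_zero,
    Submodule.mem_smul_pointwise_iff_exists] at hx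
  obtain ⟨m', -, hm'⟩ := hx
  rw [Submodule.mkQ_apply, Submodule.Quotient.mk_eq_zero,
    Submodule.mem_smul_pointwise_iff_exists]
  refine ⟨m', Submodule.mem_top, hb ?_⟩
  simp only
  rw [← hm', mul_smul, smul_comm b a]

theorem quotSMulTopMulRight_surjective : Surjective (quotSMulTopMulRight M a b) := by
  intro x
  obtain ⟨m, rfl⟩ := Submodule.mkQ_surjective _ x
  exact ⟨Submodule.mkQ _ m, rfl⟩

theorem quotSMulTopMul_exact :
    Exact (quotSMulTopMulLeft M a b) (quotSMulTopMulRight M a b) := by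
  intro y
  obtain ⟨m, rfl⟩ := Submodule.mkQ_surjective _ y
  change Submodule.mkQ _ m = 0 ↔ _
  rw [Submodule.mkQ_apply, Submodule.Quotient.mk_eq_zero,
    Submodule.mem_smul_pointwise_iff_exists]
  constructor
  · rintro ⟨m', -, rfl⟩
    exact ⟨Submodule.mkQ _ m', rfl⟩
  · rintro ⟨x, hx⟩
    obtain ⟨m', rfl⟩ := Submodule.mkQ_surjective _ x
    change Submodule.mkQ _ (b • m') = Submodule.mkQ _ m at hx
    rw [Submodule.mkQ_apply, Submodule.mkQ_apply, Submodule.Quotient.eq,
      Submodule.mem_smul_pointwise_iff_exists] at hx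
    obtain ⟨m'', -, hm''⟩ := hx
    refine ⟨m' - a • m'', Submodule.mem_top, ?_⟩
    have : m = b • m' - (a * b) • m'' := by rw [hm'']; abel
    rw [this, smul_sub, mul_smul, smul_comm b a]

/-- If `a :: rs` and `b :: rs` are weakly regular on `M`, so is `(a * b) :: rs`. -/
theorem isWeaklyRegular_mul_cons (rs : List R) (ha : IsWeaklyRegular M (a :: rs))
    (hb : IsWeaklyRegular M (b :: rs)) : IsWeaklyRegular M ((a * b) :: rs) := by
  rw [isWeaklyRegular_cons_iff] at ha hb ⊢
  refine ⟨ha.1.mul hb.1, ?_⟩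
  exact isWeaklyRegular_of_shortExact_outer rs _ _ _ (quotSMulTopMulLeft M a b)
    (quotSMulTopMulRight M a b) (quotSMulTopMulLeft_injective M a b hb.1)
    (quotSMulTopMulRight_surjective M a b) (quotSMulTopMul_exact M a b) ha.2 hb.2

/-- If `a :: rs` is weakly regular on `M`, so is `a ^ (v + 1) :: rs`. -/
theorem isWeaklyRegular_pow_cons (rs : List R) (ha : IsWeaklyRegular M (a :: rs)) (v : ℕ) :
    IsWeaklyRegular M (a ^ (v + 1) :: rs) := by
  induction v with
  | zero => simpa using ha
  | succ v ih =>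
    rw [pow_succ]
    exact isWeaklyRegular_mul_cons M _ _ rs ih ha

end Mul

/-- Powers of a weakly regular sequence form a weakly regular sequence. -/
theorem isWeaklyRegular_ofFn_pow (n : ℕ) :
    ∀ (M : Type v₁) [AddCommGroup M] [Module R M] (f : Fin n → R) (v : Fin n → ℕ),
      (∀ i, 1 ≤ v i) → IsWeaklyRegular M (List.ofFn f) →
      IsWeaklyRegular M (List.ofFn fun i => f i ^ v i) := by
  induction n with
  | zero =>
    intro M _ _ f v _ _
    simp only [List.ofFn_zero]
    exact IsWeaklyRegular.nil R M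
  | succ n ih =>
    intro M _ _ f v hv hf
    rw [List.ofFn_succ] at hf ⊢
    obtain ⟨w, hw⟩ : ∃ w, v 0 = w + 1 := ⟨v 0 - 1, by have := hv 0; omega⟩
    have h1 := isWeaklyRegular_pow_cons M (f 0) _ hf w
    rw [← hw, isWeaklyRegular_cons_iff] at h1
    rw [isWeaklyRegular_cons_iff]
    exact ⟨h1.1, ih _ (fun i => f i.succ) (fun i => v i.succ) (fun i => hv i.succ) h1.2⟩

end Groth.Agent.Lib.Helper29
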