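import Groth.Agent.Lib.Helper22.PureAlong
import Groth.Agent.Lib.Helper29.DepthLoc2
import Groth.Agent.Lib.Helper29.RegSeqPow
import Groth.Agent.Lib.Helper29.DepthSelf

/-!
# `Z`-closed modules and depth `≥ 2`

For a finite module `M` over a Noetherian ring `A` and an ideal `J`, the restriction map
`Γ(Spec A, M~) → Γ(Spec A ∖ V(J), M~)` is bijective iff `depth_J M ≥ 2`.
-/

set_option autoImplicit false
universe u
open AlgebraicGeometry CategoryTheory Opposite TopologicalSpace
open RingTheory.Sequence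
open scoped Pointwise

namespace Groth.Agent.Lib.Helper29

section Gluing

variable {A : Type*} [CommRing A] {M : Type*} [AddCommGroup M] [Module A M]

/-- Algebraic gluing: a compatible family `(m_i)` for `(g_i)` comes from a single element as soon
as the ideal `(g_i)` contains an `M`-regular sequence of length two. -/
theorem exists_smul_eq_of_compatible {ι : Type*} [Fintype ι] (g : ι → A) (m : ι → M)
    (hcomp : ∀ i j, g j • m i = g i • m j) (x y : A)
    (hxg : x ∈ Ideal.span (Set.range g)) (hyg : y ∈ Ideal.span (Set.range g))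
    (hx : IsSMulRegular M x) (hy : IsSMulRegular (QuotSMulTop x M) y) :
    ∃ μ : M, ∀ i, g i • μ = m i := by
  obtain ⟨a, ha⟩ := (Ideal.mem_span_range_iff_exists_fun).mp hxg
  obtain ⟨b, hb⟩ := (Ideal.mem_span_range_iff_exists_fun).mp hyg
  set μx : M := ∑ i, a i • m i with hμx
  set μy : M := ∑ i, b i • m i with hμy
  have h1 : ∀ j, g j • μx = x • m j := by
    intro j
    rw [hμx, Finset.smul_sum, ← ha, Finset.sum_smul]
    refine Finset.sum_congr rfl fun i _ => ?_
    rw [smul_comm, hcomp i j, mul_smul]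
  have h1' : ∀ j, g j • μy = y • m j := by
    intro j
    rw [hμy, Finset.smul_sum, ← hb, Finset.sum_smul]
    refine Finset.sum_congr rfl fun i _ => ?_
    rw [smul_comm, hcomp i j, mul_smul]
  have h2 : y • μx = x • μy := by
    rw [← hb, Finset.sum_smul, hμy, Finset.smul_sum]
    refine Finset.sum_congr rfl fun j _ => ?_
    rw [mul_smul, h1 j, smul_comm]
  have h3 : μx ∈ x • (⊤ : Submodule A M) := by
    have h4 : y • (Submodule.Quotient.mk μx : QuotSMulTop x M) = 0 := by
      rw [← Submodule.Quotient.mk_smul, h2, Submodule.Quotient.mk_eq_zero]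
      exact Submodule.smul_mem_pointwise_smul _ _ _ Submodule.mem_top
    have h5 : (Submodule.Quotient.mk μx : QuotSMulTop x M) = 0 :=
      hy (by change y • _ = y • (0 : QuotSMulTop x M); rw [h4, smul_zero])
    exact (Submodule.Quotient.mk_eq_zero _).mp h5
  obtain ⟨μ, -, hμ⟩ := (Submodule.mem_smul_pointwise_iff_exists _ _ _).mp h3
  refine ⟨μ, fun j => hx ?_⟩
  change x • g j • μ = x • m j
  rw [smul_comm, hμ, h1 j]

end Gluing

section Sections

variable (A : Type u) [CommRing A] (J : Ideal A) (M : Type u) [AddCommGroup M] [Module A M]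

/-- The open complement of `V(J)`, as an open of `PrimeSpectrum.Top A`
(definitionally `EGA4.openCompl A J`). -/
def openC : Opens (PrimeSpectrum.Top A) :=
  ⟨(PrimeSpectrum.zeroLocus (J : Set A))ᶜ, (PrimeSpectrum.isClosed_zeroLocus _).isOpen_compl⟩

theorem mem_openC_iff (x : PrimeSpectrum A) : x ∈ openC A J ↔ ¬ J ≤ x.asIdeal := by
  change x ∈ (PrimeSpectrum.zeroLocus (J : Set A))ᶜ ↔ _
  rw [Set.mem_compl_iff, PrimeSpectrum.mem_zeroLocus, SetLike.coe_subset_coe]

theorem basicOpen_le_openC {f : A} (hf : f ∈ J) :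
    PrimeSpectrum.basicOpen f ≤ openC A J := by
  intro x hx
  exact (mem_openC_iff A J x).mpr fun hJ => hx (hJ hf)

/-- On a basic open `D(f) ⊆ U`, a section is a fraction with denominator a power of `f`. -/
theorem exists_pow_smul_eq_mk
    (t : (structureSheafInType A M).obj.obj (op (openC A J))) {f : A} (hf : f ∈ J) :
    ∃ (n : ℕ) (m : M), ∀ (x : PrimeSpectrum A) (hx : x ∈ PrimeSpectrum.basicOpen f),
      f ^ n • t.1 ⟨x, basicOpen_le_openC A J hf hx⟩ =
        LocalizedModule.mk m (1 : x.asIdeal.primeCompl) := by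
  set tf := (structureSheafInType A M).obj.map (homOfLE (basicOpen_le_openC A J hf)).op t
    with htf
  obtain ⟨⟨m, ⟨_, n, rfl⟩⟩, hs⟩ := IsLocalizedModule.surj (Submonoid.powers f)
    (StructureSheaf.toOpenₗ A M (PrimeSpectrum.basicOpen f)) tf
  refine ⟨n, m, fun x hx => ?_⟩
  exact congrArg (fun u => u.1 ⟨x, hx⟩) hs

/-- An element of `M` which vanishes at all points of `D(h)` is killed by a power of `h`. -/
theorem exists_pow_smul_eq_zero_of_forall_mk_eq_zero (h : A) (m : M)
    (hm : ∀ x : PrimeSpectrum A, x ∈ PrimeSpectrum.basicOpen h →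
      LocalizedModule.mk m (1 : x.asIdeal.primeCompl) = 0) :
    ∃ k : ℕ, h ^ k • m = 0 := by
  have h0 : StructureSheaf.toOpenₗ A M (PrimeSpectrum.basicOpen h) m = 0 := by
    apply Subtype.ext
    funext x
    exact hm x.1 x.2
  obtain ⟨⟨_, k, rfl⟩, hc⟩ := (IsLocalizedModule.eq_zero_iff (Submonoid.powers h)
    (StructureSheaf.toOpenₗ A M (PrimeSpectrum.basicOpen h))).mp h0
  exact ⟨k, hc⟩

/-- Uniform compatible fractions representing a section on the basic opens `D(f_i)`. -/
theorem exists_uniform_fractions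
    (t : (structureSheafInType A M).obj.obj (op (openC A J))) {r : ℕ} (f : Fin r → A)
    (hf : ∀ i, f i ∈ J) :
    ∃ (N : ℕ) (m : Fin r → M),
      (∀ i (x : PrimeSpectrum A) (hx : x ∈ PrimeSpectrum.basicOpen (f i)),
        f i ^ N • t.1 ⟨x, basicOpen_le_openC A J (hf i) hx⟩ =
          LocalizedModule.mk (m i) (1 : x.asIdeal.primeCompl)) ∧
      ∀ i j, f j ^ N • m i = f i ^ N • m j := by
  choose n m0 hm0 using fun i => exists_pow_smul_eq_mk A J M t (hf i)
  -- uniform exponent
  set N1 := ∑ i, n i with hN1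
  have hn : ∀ i, n i ≤ N1 := fun i => Finset.single_le_sum (fun _ _ => Nat.zero_le _)
    (Finset.mem_univ i)
  set m1 : Fin r → M := fun i => f i ^ (N1 - n i) • m0 i with hm1
  have h1 : ∀ i (x : PrimeSpectrum A) (hx : x ∈ PrimeSpectrum.basicOpen (f i)),
      f i ^ N1 • t.1 ⟨x, basicOpen_le_openC A J (hf i) hx⟩ =
        LocalizedModule.mk (m1 i) (1 : x.asIdeal.primeCompl) := by
    intro i x hx
    have e : f i ^ N1 = f i ^ (N1 - n i) * f i ^ n i := by
      rw [← pow_add, Nat.sub_add_cancel (hn i)]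
    rw [e, mul_smul, hm0 i x hx, LocalizedModule.smul'_mk]
  -- compatibility up to powers
  have h2 : ∀ i j, ∃ k : ℕ, (f i * f j) ^ k • (f j ^ N1 • m1 i - f i ^ N1 • m1 j) = 0 := by
    intro i j
    apply exists_pow_smul_eq_zero_of_forall_mk_eq_zero
    intro x hx
    rw [PrimeSpectrum.basicOpen_mul] at hx
    have hxi : x ∈ PrimeSpectrum.basicOpen (f i) := hx.1
    have hxj : x ∈ PrimeSpectrum.basicOpen (f j) := hx.2
    have e1 := h1 i x hxi
    have e2 := h1 j x hxj
    have e3 : LocalizedModule.mk (f j ^ N1 • m1 i - f i ^ N1 • m1 j)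
        (1 : x.asIdeal.primeCompl) =
        f j ^ N1 • LocalizedModule.mk (m1 i) (1 : x.asIdeal.primeCompl) -
          f i ^ N1 • LocalizedModule.mk (m1 j) (1 : x.asIdeal.primeCompl) := by
      rw [LocalizedModule.smul'_mk, LocalizedModule.smul'_mk, sub_eq_add_neg, sub_eq_add_neg,
        ← LocalizedModule.mk_neg, LocalizedModule.mk_add_mk]
      simp
    rw [e3, ← e1, ← e2, smul_comm, sub_self]
  choose k hk using h2
  set K := ∑ i, ∑ j, k i j with hK
  have hkK : ∀ i j, k i j ≤ K := by
    intro i j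
    calc k i j ≤ ∑ j', k i j' := Finset.single_le_sum (f := fun j' => k i j')
          (fun _ _ => Nat.zero_le _) (Finset.mem_univ j)
      _ ≤ K := Finset.single_le_sum (f := fun i' => ∑ j', k i' j')
          (fun _ _ => Nat.zero_le _) (Finset.mem_univ i)
  have hK0 : ∀ i j, (f i * f j) ^ K • (f j ^ N1 • m1 i - f i ^ N1 • m1 j) = 0 := by
    intro i j
    have e : (f i * f j) ^ K = (f i * f j) ^ (K - k i j) * (f i * f j) ^ k i j := by
      rw [← pow_add, Nat.sub_add_cancel (hkK i j)]
    rw [e, mul_smul, hk i j, smul_zero]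
  refine ⟨N1 + K, fun i => f i ^ K • m1 i, ?_, ?_⟩
  · intro i x hx
    have e : f i ^ (N1 + K) = f i ^ K * f i ^ N1 := by rw [pow_add, mul_comm]
    rw [e, mul_smul, h1 i x hx, LocalizedModule.smul'_mk]
  · intro i j
    rw [← sub_eq_zero]
    have e : f j ^ (N1 + K) • f i ^ K • m1 i - f i ^ (N1 + K) • f j ^ K • m1 j =
        (f i * f j) ^ K • (f j ^ N1 • m1 i - f i ^ N1 • m1 j) := by
      rw [smul_sub, smul_smul, smul_smul, smul_smul, smul_smul]
      have e1 : f j ^ (N1 + K) * f i ^ K = (f i * f j) ^ K * f j ^ N1 := by ring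
      have e2 : f i ^ (N1 + K) * f j ^ K = (f i * f j) ^ K * f i ^ N1 := by ring
      rw [e1, e2]
      simp only [m1, smul_smul, mul_assoc]
    rw [e, hK0 i j]

/-- If `J` contains an `M`-regular sequence of length two, every section of `M~` over
`Spec A ∖ V(J)` is given by a global element. -/
theorem exists_forall_eq_mk_of_isWeaklyRegular [IsNoetherianRing A] (x0 y0 : A) (hx0 : x0 ∈ J)
    (hy0 : y0 ∈ J) (hreg : IsWeaklyRegular M [x0, y0])
    (t : (structureSheafInType A M).obj.obj (op (openC A J))) :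
    ∃ μ : M, ∀ (x : PrimeSpectrum A) (hx : x ∈ openC A J),
      t.1 ⟨x, hx⟩ = LocalizedModule.mk μ (1 : x.asIdeal.primeCompl) := by
  obtain ⟨r, f, hfJ⟩ := (Submodule.fg_iff_exists_fin_generating_family).mp
    (IsNoetherian.noetherian J)
  have hfmem : ∀ i, f i ∈ J := fun i => by
    rw [← hfJ]; exact Submodule.subset_span (Set.mem_range_self i)
  obtain ⟨N, m, h1, h2⟩ := exists_uniform_fractions A J M t f hfmem
  set J' : Ideal A := Ideal.span (Set.range fun i => f i ^ N) with hJ'
  have hrad : J ≤ J'.radical := by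
    rw [← hfJ]
    refine Submodule.span_le.mpr ?_
    rintro _ ⟨i, rfl⟩
    exact ⟨N, Ideal.subset_span ⟨i, rfl⟩⟩
  obtain ⟨a, ha⟩ := Ideal.exists_pow_le_of_le_radical_of_fg hrad (IsNoetherian.noetherian J)
  have hpow : ∀ z ∈ J, z ^ (a + 1) ∈ J' := fun z hz =>
    ha (Ideal.pow_le_pow_right (Nat.le_succ a) (Ideal.pow_mem_pow hz (a + 1)))
  have hreg' : IsWeaklyRegular M [x0 ^ (a + 1), y0] := isWeaklyRegular_pow_cons M x0 [y0] hreg a
  rw [isWeaklyRegular_cons_iff] at hreg'
  obtain ⟨hxreg, hyreg⟩ := hreg'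
  have hyreg' : IsSMulRegular (QuotSMulTop (x0 ^ (a + 1)) M) y0 :=
    ((isWeaklyRegular_cons_iff _ _ _).mp hyreg).1
  obtain ⟨μ, hμ⟩ := exists_smul_eq_of_compatible (fun i => f i ^ N) m h2 (x0 ^ (a + 1))
    (y0 ^ (a + 1)) (hpow x0 hx0) (hpow y0 hy0) hxreg (hyreg'.pow (a + 1))
  refine ⟨μ, fun x hx => ?_⟩
  obtain ⟨i, hi⟩ : ∃ i, f i ∉ x.asIdeal := by
    by_contra hcon
    push Not at hcon
    apply (mem_openC_iff A J x).mp hx
    rw [← hfJ]
    refine Submodule.span_le.mpr ?_
    rintro _ ⟨i, rfl⟩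
    exact hcon i
  have hxi : x ∈ PrimeSpectrum.basicOpen (f i) := hi
  have e1 := h1 i x hxi
  have hmem : f i ^ N ∈ x.asIdeal.primeCompl := fun h => hi (x.isPrime.mem_of_pow_mem N h)
  have e2 : (⟨f i ^ N, hmem⟩ : x.asIdeal.primeCompl) • t.1 ⟨x, hx⟩ =
      (⟨f i ^ N, hmem⟩ : x.asIdeal.primeCompl) •
        LocalizedModule.mk μ (1 : x.asIdeal.primeCompl) := by
    rw [Submonoid.smul_def, Submonoid.smul_def]
    change f i ^ N • t.1 ⟨x, _⟩ = f i ^ N • LocalizedModule.mk μ (1 : x.asIdeal.primeCompl)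
    rw [e1, LocalizedModule.smul'_mk]
    exact congrArg (fun v => LocalizedModule.mk v (1 : x.asIdeal.primeCompl)) (hμ i).symm
  exact IsLocalizedModule.smul_injective
    (LocalizedModule.mkLinearMap x.asIdeal.primeCompl M) _ e2

/-- The section "`μ / x0`" over `Spec A ∖ V(J)` when `J`-powers push `μ` into `x0 M`. -/
theorem exists_section_of_pow_smul_mem (x0 : A) (hx0 : IsSMulRegular M x0) (μ : M)
    (hμ : ∀ f ∈ J, ∃ n : ℕ, f ^ n • μ ∈ x0 • (⊤ : Submodule A M)) :
    ∃ t : (structureSheafInType A M).obj.obj (op (openC A J)),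
      ∀ (x : PrimeSpectrum A) (hx : x ∈ openC A J),
        x0 • t.1 ⟨x, hx⟩ = LocalizedModule.mk μ (1 : x.asIdeal.primeCompl) := by
  classical
  have hex : ∀ x : openC A J, ∃ f ∈ J, f ∉ x.1.asIdeal := fun x =>
    SetLike.not_le_iff_exists.mp ((mem_openC_iff A J x.1).mp x.2)
  choose f hfJ hfx using hex
  have hex2 : ∀ x : openC A J, ∃ (n : ℕ) (ν : M), f x ^ n • μ = x0 • ν := by
    intro x
    obtain ⟨n, hn⟩ := hμ (f x) (hfJ x)
    obtain ⟨ν, -, hν⟩ := (Submodule.mem_smul_pointwise_iff_exists _ _ _).mp hn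
    exact ⟨n, ν, hν.symm⟩
  choose n ν hν using hex2
  have hcompat : ∀ x y : openC A J, f x ^ n x • ν y = f y ^ n y • ν x := by
    intro x y
    apply hx0
    change x0 • f x ^ n x • ν y = x0 • f y ^ n y • ν x
    rw [smul_comm, ← hν y, smul_comm x0, ← hν x, smul_smul, smul_smul, mul_comm]
  have hmem : ∀ (x : openC A J) (y : PrimeSpectrum A), f x ∉ y.asIdeal →
      f x ^ n x ∈ y.asIdeal.primeCompl :=
    fun x y h h' => h (y.isPrime.mem_of_pow_mem _ h')
  let tfun : ∀ x : openC A J, StructureSheaf.Localizations M x.1 := fun x =>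
    LocalizedModule.mk (ν x) ⟨f x ^ n x, hmem x x.1 (hfx x)⟩
  refine ⟨⟨tfun, ?_⟩, ?_⟩
  · intro x
    refine ⟨PrimeSpectrum.basicOpen (f x), hfx x,
      homOfLE (basicOpen_le_openC A J (hfJ x)), ν x, f x ^ n x, ?_⟩
    intro y
    have hy : f x ∉ y.1.asIdeal := y.2
    refine ⟨hmem x y.1 hy, ?_⟩
    change LocalizedModule.mk (ν ⟨y.1, _⟩) ⟨f ⟨y.1, _⟩ ^ n ⟨y.1, _⟩, _⟩ = _
    rw [LocalizedModule.mk_eq]
    refine ⟨1, ?_⟩
    simp only [one_smul, Submonoid.smul_def]
    exact hcompat _ _
  · intro x hx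
    change x0 • LocalizedModule.mk (ν ⟨x, hx⟩) ⟨f ⟨x, hx⟩ ^ n ⟨x, hx⟩, _⟩ = _
    rw [LocalizedModule.smul'_mk, ← hν, LocalizedModule.mk_eq]
    exact ⟨1, by simp [Submonoid.smul_def]⟩

/-- A finite module without `J`-power torsion admits an `M`-regular element in `J`. -/
theorem exists_isSMulRegular_of_forall_pow_smul [IsNoetherianRing A] (N : Type*) [AddCommGroup N]
    [Module A N] [Module.Finite A N]
    (hinj : ∀ m : N, (∀ f ∈ J, ∃ n : ℕ, f ^ n • m = 0) → m = 0) :
    ∃ x ∈ J, IsSMulRegular N x := by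
  rcases subsingleton_or_nontrivial N with hN | hN
  · exact ⟨0, J.zero_mem, fun a b _ => Subsingleton.elim a b⟩
  by_contra hcon
  push Not at hcon
  obtain ⟨q, hq, hJq⟩ := exists_le_mem_associatedPrimes_of_forall_not_isSMulRegular A N J hcon
  obtain ⟨hprime, m, hm⟩ := (isAssociatedPrime_iff).mp hq
  have hm0 : m = 0 := by
    apply hinj
    intro f hf
    refine ⟨1, ?_⟩
    have := hJq hf
    rw [hm, Submodule.mem_colon_singleton, Submodule.mem_bot] at this
    rw [pow_one]; exact this
  apply hprime.ne_top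
  rw [hm, hm0, Ideal.eq_top_iff_one, Submodule.mem_colon_singleton, smul_zero]
  exact Submodule.zero_mem _

/-- From bijectivity of the restriction map to a regular sequence of length two in `J`. -/
theorem exists_isWeaklyRegular_of_bijective [IsNoetherianRing A] [Module.Finite A M]
    (hinj : ∀ m : M, (∀ f ∈ J, ∃ n : ℕ, f ^ n • m = 0) → m = 0)
    (hsurj : ∀ t : (structureSheafInType A M).obj.obj (op (openC A J)),
      ∃ m : M, ∀ (x : PrimeSpectrum A) (hx : x ∈ openC A J),
        t.1 ⟨x, hx⟩ = LocalizedModule.mk m (1 : x.asIdeal.primeCompl)) :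
    ∃ x0 ∈ J, ∃ y0 ∈ J, IsWeaklyRegular M [x0, y0] := by
  obtain ⟨x0, hx0J, hx0⟩ := exists_isSMulRegular_of_forall_pow_smul A J M hinj
  have hinj' : ∀ m : QuotSMulTop x0 M, (∀ f ∈ J, ∃ n : ℕ, f ^ n • m = 0) → m = 0 := by
    intro mbar hmbar
    obtain ⟨μ, rfl⟩ := Submodule.Quotient.mk_surjective _ mbar
    have hμ : ∀ f ∈ J, ∃ n : ℕ, f ^ n • μ ∈ x0 • (⊤ : Submodule A M) := by
      intro f hf
      obtain ⟨n, hn⟩ := hmbar f hf
      refine ⟨n, ?_⟩
      rwa [← Submodule.Quotient.mk_smul, Submodule.Quotient.mk_eq_zero] at hn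
    obtain ⟨t, ht⟩ := exists_section_of_pow_smul_mem A J M x0 hx0 μ hμ
    obtain ⟨m, hm⟩ := hsurj t
    have hzero : x0 • m - μ = 0 := by
      apply hinj
      rw [← Groth.Agent.Lib.Helper22.forall_exists_smul_eq_zero_iff]
      intro x hx
      have hx' : x ∈ openC A J := (mem_openC_iff A J x).mpr hx
      have e1 := ht x hx'
      rw [hm x hx', LocalizedModule.smul'_mk] at e1
      have e2 : LocalizedModule.mk (x0 • m - μ) (1 : x.asIdeal.primeCompl) = 0 := by
        have : LocalizedModule.mk (x0 • m - μ) (1 : x.asIdeal.primeCompl) =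
            LocalizedModule.mk (x0 • m) (1 : x.asIdeal.primeCompl) -
              LocalizedModule.mk μ (1 : x.asIdeal.primeCompl) := by
          rw [sub_eq_add_neg, sub_eq_add_neg, ← LocalizedModule.mk_neg,
            LocalizedModule.mk_add_mk]
          simp
        rw [this, e1, sub_self]
      rw [← LocalizedModule.mkLinearMap_apply,
        IsLocalizedModule.eq_zero_iff x.asIdeal.primeCompl] at e2
      obtain ⟨s, hs⟩ := e2
      exact ⟨s.1, s.2, hs⟩
    rw [Submodule.Quotient.mk_eq_zero]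
    have : μ = x0 • m := (sub_eq_zero.mp hzero).symm
    rw [this]
    exact Submodule.smul_mem_pointwise_smul _ _ _ Submodule.mem_top
  obtain ⟨y0, hy0J, hy0⟩ := exists_isSMulRegular_of_forall_pow_smul A J (QuotSMulTop x0 M) hinj'
  refine ⟨x0, hx0J, y0, hy0J, ?_⟩
  rw [isWeaklyRegular_cons_iff]
  refine ⟨hx0, ?_⟩
  rw [isWeaklyRegular_cons_iff]
  exact ⟨hy0, IsWeaklyRegular.nil _ _⟩

/-- From `depth_J M ≥ 2` to a weakly regular sequence of length two in `J`. -/
theorem exists_isWeaklyRegular_of_two_le_idealDepth [Module.Finite A M]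
    (h : (2 : ℕ∞) ≤ LocCoh.idealDepth J M) :
    ∃ x0 ∈ J, ∃ y0 ∈ J, IsWeaklyRegular M [x0, y0] := by
  rcases (le_idealDepth_iff J M 2).mp (by exact_mod_cast h) with htop | ⟨rs, hlen, hmem, hreg⟩
  · -- Nakayama: some `e ∈ J` acts as the identity
    obtain ⟨r, hr, hrM⟩ := Submodule.exists_sub_one_mem_and_smul_eq_zero_of_fg_of_le_smul J
      (⊤ : Submodule A M) Module.Finite.fg_top htop.ge
    have he : (1 - r) ∈ J := by
      have := J.neg_mem hr
      rwa [neg_sub] at this
    have hid : ∀ m : M, (1 - r) • m = m := fun m => by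
      rw [sub_smul, one_smul, hrM m Submodule.mem_top, sub_zero]
    refine ⟨1 - r, he, 1 - r, he, ?_⟩
    rw [isWeaklyRegular_cons_iff]
    refine ⟨fun a b hab => ?_, ?_⟩
    · have : (1 - r) • a = (1 - r) • b := hab
      rwa [hid, hid] at this
    · rw [isWeaklyRegular_cons_iff]
      refine ⟨fun a b hab => ?_, IsWeaklyRegular.nil _ _⟩
      obtain ⟨a, rfl⟩ := Submodule.Quotient.mk_surjective _ a
      obtain ⟨b, rfl⟩ := Submodule.Quotient.mk_surjective _ b
      have : (1 - r) • (Submodule.Quotient.mk a : QuotSMulTop (1 - r) M) =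
          (1 - r) • (Submodule.Quotient.mk b : QuotSMulTop (1 - r) M) := hab
      rwa [← Submodule.Quotient.mk_smul, ← Submodule.Quotient.mk_smul, hid, hid] at this
  · match rs, hlen with
    | [x0, y0], _ =>
      exact ⟨x0, hmem x0 (by simp), y0, hmem y0 (by simp), hreg⟩

/-- **Key theorem**: the restriction map `Γ(Spec A, M~) → Γ(Spec A ∖ V(J), M~)` is bijective iff
`depth_J M ≥ 2`. -/
theorem restrCompl_bijective_iff [IsNoetherianRing A] [Module.Finite A M] :
    Function.Bijective (EGA4.restrCompl A J M) ↔ (2 : ℕ∞) ≤ LocCoh.idealDepth J M := by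
  have hbij := StructureSheaf.toOpenₗ_top_bijective (R := A) (M := M)
  constructor
  · rintro ⟨hinj, hsurj⟩
    have hinj' := (Groth.Agent.Lib.Helper22.restrCompl_injective_iff' A J M).mp hinj
    have hsurj' : ∀ t : (structureSheafInType A M).obj.obj (op (openC A J)),
        ∃ m : M, ∀ (x : PrimeSpectrum A) (hx : x ∈ openC A J),
          t.1 ⟨x, hx⟩ = LocalizedModule.mk m (1 : x.asIdeal.primeCompl) := by
      intro t
      obtain ⟨s, hs⟩ := hsurj t
      obtain ⟨m, rfl⟩ := hbij.2 s
      refine ⟨m, fun x hx => ?_⟩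
      rw [← hs]
      rfl
    obtain ⟨x0, hx0, y0, hy0, hreg⟩ := exists_isWeaklyRegular_of_bijective A J M hinj' hsurj'
    have := length_le_idealDepth J M [x0, y0] hreg (by
      intro r hr
      simp only [List.mem_cons, List.not_mem_nil, or_false] at hr
      rcases hr with rfl | rfl
      · exact hx0
      · exact hy0)
    exact_mod_cast this
  · intro h
    obtain ⟨x0, hx0, y0, hy0, hreg⟩ := exists_isWeaklyRegular_of_two_le_idealDepth A J M h
    constructor
    · rw [Groth.Agent.Lib.Helper22.restrCompl_injective_iff']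
      intro m hm
      obtain ⟨n, hn⟩ := hm x0 hx0
      have hx0reg : IsSMulRegular M x0 := ((isWeaklyRegular_cons_iff _ _ _).mp hreg).1
      exact (hx0reg.pow n).right_eq_zero_of_smul hn
    · intro t
      obtain ⟨μ, hμ⟩ := exists_forall_eq_mk_of_isWeaklyRegular A J M x0 y0 hx0 hy0 hreg t
      refine ⟨StructureSheaf.toOpenₗ A M ⊤ μ, ?_⟩
      apply Subtype.ext
      funext x
      exact (hμ x.1 x.2).symm

/-- **`Z`-closedness is depth `≥ 2` along `Z`** (EGA IV 5.10.5). -/
theorem isClosedAlong_iff_depth [IsNoetherianRing A] [Module.Finite A M]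
    (Z : Set (PrimeSpectrum A)) (hZ : StableUnderSpecialization Z) :
    EGA4.IsClosedAlong Z M ↔
      ∀ p : PrimeSpectrum A, p ∈ Z → (2 : ℕ∞) ≤
        LocCoh.depth (Localization.AtPrime p.asIdeal) (LocalizedModule p.asIdeal.primeCompl M) := by
  unfold EGA4.IsClosedAlong
  constructor
  · intro h p hp
    have hV : PrimeSpectrum.zeroLocus (p.asIdeal : Set A) ⊆ Z := by
      intro q hq
      have hle : p.asIdeal ≤ q.asIdeal := hq
      exact hZ ((PrimeSpectrum.le_iff_specializes p q).mp hle) hp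
    have h2 := (restrCompl_bijective_iff A p.asIdeal M).mp (h p.asIdeal hV)
    exact h2.trans (idealDepth_le_depth_localization A p.asIdeal M)
  · intro h J hJ
    rw [restrCompl_bijective_iff, idealDepth_eq_iInf_depth_localization]
    refine le_iInf₂ fun p hp => h p (hJ ?_)
    exact hp

end Sections

section Pure

variable (A : Type u) [CommRing A] (J : Ideal A) (M : Type u) [AddCommGroup M] [Module A M]

/-- The restriction map `Γ(Spec A, M~) → Γ(Spec A ∖ V(J), M~)` is injective iff
`depth_J M ≥ 1`. -/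
theorem restrCompl_injective_iff_depth [IsNoetherianRing A] [Module.Finite A M] :
    Function.Injective (EGA4.restrCompl A J M) ↔ (1 : ℕ∞) ≤ LocCoh.idealDepth J M := by
  rw [Groth.Agent.Lib.Helper22.restrCompl_injective_iff']
  constructor
  · intro hinj
    obtain ⟨x, hxJ, hx⟩ := exists_isSMulRegular_of_forall_pow_smul A J M hinj
    have := length_le_idealDepth J M [x] ((isWeaklyRegular_singleton_iff M x).mpr hx)
      (by simpa using hxJ)
    exact_mod_cast this
  · intro h m hm
    rcases (le_idealDepth_iff J M 1).mp (by exact_mod_cast h) with htop | ⟨rs, hlen, hmem, hreg⟩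
    · obtain ⟨r, hr, hrM⟩ := Submodule.exists_sub_one_mem_and_smul_eq_zero_of_fg_of_le_smul J
        (⊤ : Submodule A M) Module.Finite.fg_top htop.ge
      have he : (1 - r) ∈ J := by
        have := J.neg_mem hr
        rwa [neg_sub] at this
      have hid : ∀ m : M, (1 - r) • m = m := fun m => by
        rw [sub_smul, one_smul, hrM m Submodule.mem_top, sub_zero]
      obtain ⟨n, hn⟩ := hm (1 - r) he
      have hpow : ∀ k : ℕ, (1 - r) ^ k • m = m := by
        intro k
        induction k with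
        | zero => simp
        | succ k ih => rw [pow_succ, mul_smul, hid, ih]
      rw [← hpow n, hn]
    · match rs, hlen with
      | [x0], _ =>
        have hx0 : IsSMulRegular M x0 := (isWeaklyRegular_singleton_iff M x0).mp hreg
        obtain ⟨n, hn⟩ := hm x0 (hmem x0 (by simp))
        exact (hx0.pow n).right_eq_zero_of_smul hn

/-- **`Z`-purity is depth `≥ 1` along `Z`**. -/
theorem isPureAlong_iff_depth [IsNoetherianRing A] [Module.Finite A M]
    (Z : Set (PrimeSpectrum A)) (hZ : StableUnderSpecialization Z) :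
    EGA4.IsPureAlong Z M ↔
      ∀ p : PrimeSpectrum A, p ∈ Z → (1 : ℕ∞) ≤
        LocCoh.depth (Localization.AtPrime p.asIdeal) (LocalizedModule p.asIdeal.primeCompl M) := by
  unfold EGA4.IsPureAlong
  constructor
  · intro h p hp
    have hV : PrimeSpectrum.zeroLocus (p.asIdeal : Set A) ⊆ Z := by
      intro q hq
      have hle : p.asIdeal ≤ q.asIdeal := hq
      exact hZ ((PrimeSpectrum.le_iff_specializes p q).mp hle) hp
    have h2 := (restrCompl_injective_iff_depth A p.asIdeal M).mp (h p.asIdeal hV)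
    exact h2.trans (idealDepth_le_depth_localization A p.asIdeal M)
  · intro h J hJ
    rw [restrCompl_injective_iff_depth, idealDepth_eq_iInf_depth_localization]
    refine le_iInf₂ fun p hp => h p (hJ ?_)
    exact hp

/-- The sets `Z^(n)` are stable under specialization. -/
theorem stableUnderSpecialization_Zge (n : ℕ) : StableUnderSpecialization (EGA4.Zge A n) := by
  intro p q hpq hp
  have hle : p.asIdeal ≤ q.asIdeal := (PrimeSpectrum.le_iff_specializes p q).mpr hpq
  exact le_trans hp (Ideal.height_mono hle)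

/-- If `Supp M = Spec A` then `Supp M_p = Spec A_p`. -/
theorem support_localizedModule_atPrime_eq_univ (hsupp : Module.support A M = Set.univ)
    (p : Ideal A) [p.IsPrime] :
    Module.support (Localization.AtPrime p) (LocalizedModule p.primeCompl M) = Set.univ := by
  rw [Set.eq_univ_iff_forall]
  intro p'
  set q : PrimeSpectrum A := ⟨p'.asIdeal.comap (algebraMap A (Localization.AtPrime p)),
    Ideal.IsPrime.comap _⟩ with hq
  have hqp : q.asIdeal ≤ p := by
    intro a ha
    by_contra hap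
    have h1 : algebraMap A (Localization.AtPrime p) a ∈ p'.asIdeal := ha
    exact p'.isPrime.ne_top (Ideal.eq_top_of_isUnit_mem _ h1
      (IsLocalization.map_units (Localization.AtPrime p) (⟨a, hap⟩ : p.primeCompl)))
  have hqs : q ∈ Module.support A M := hsupp ▸ Set.mem_univ q
  rw [Module.mem_support_iff'] at hqs ⊢
  obtain ⟨m, hm⟩ := hqs
  refine ⟨LocalizedModule.mk m 1, fun r' hr' h0 => ?_⟩
  obtain ⟨⟨a, s⟩, rfl⟩ := IsLocalization.mk'_surjective p.primeCompl r'
  have ha : a ∉ q.asIdeal := by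
    intro ha
    apply hr'
    have h1 : algebraMap A (Localization.AtPrime p) a ∈ p'.asIdeal := ha
    rw [← IsLocalization.mk'_spec' (Localization.AtPrime p) a s] at h1
    exact (p'.isPrime.mem_or_mem h1).resolve_left fun hs =>
      p'.isPrime.ne_top (Ideal.eq_top_of_isUnit_mem _ hs
        (IsLocalization.map_units (Localization.AtPrime p) s))
  have h1 : (algebraMap A (Localization.AtPrime p) s) •
      (IsLocalization.mk' (Localization.AtPrime p) a s •
        (LocalizedModule.mk m 1 : LocalizedModule p.primeCompl M)) = 0 := by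
    rw [h0, smul_zero]
  rw [smul_smul, IsLocalization.mk'_spec', algebraMap_smul, LocalizedModule.smul'_mk] at h1
  rw [← LocalizedModule.mkLinearMap_apply, IsLocalizedModule.eq_zero_iff p.primeCompl] at h1
  obtain ⟨u, hu⟩ := h1
  rw [← smul_assoc] at hu
  refine hm (u • a) ?_ hu
  rw [Submonoid.smul_def, smul_eq_mul]
  intro hmem
  rcases q.isPrime.mem_or_mem hmem with h | h
  · exact u.2 (hqp h)
  · exact ha h

/-- With full support, `(S_k)` is a condition on depths versus heights. -/
theorem hasSk_iff_of_support_eq_univ [IsNoetherianRing A] [Module.Finite A M]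
    (hsupp : Module.support A M = Set.univ) (k : ℕ) :
    LocCoh.HasSk k A M ↔ ∀ (p : Ideal A) [p.IsPrime], min (k : ℕ∞) p.height ≤
      LocCoh.depth (Localization.AtPrime p) (LocalizedModule p.primeCompl M) := by
  unfold LocCoh.HasSk
  refine forall_congr' fun p => forall_congr' fun hp => ?_
  have h1 : Module.supportDim (Localization.AtPrime p) (LocalizedModule p.primeCompl M) =
      (p.height : WithBot ℕ∞) := by
    rw [Module.supportDim, support_localizedModule_atPrime_eq_univ A M hsupp p,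
      ← IsLocalization.AtPrime.ringKrullDim_eq_height p (Localization.AtPrime p)]
    exact Order.krullDim_eq_of_orderIso OrderIso.Set.univ
  rw [h1, min_natCast_coe_le_coe_iff]

end Pure

end Groth.Agent.Lib.Helper29
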