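import Groth.Agent.Lib.Helper73.CMEssFT
import Groth.Agent.Lib.Helper29.ClosedAlong
import Groth.Agent.Lib.Helper29.LocTransfer
import Groth.Agent.Lib.Helper29.CplCM
import Groth.Agent.Lib.Helper89.CMCatenary
import Groth.Agent.Lib.Helper24.SupportBaseChange

/-!
Helper lemmas (helper29): a Noetherian local ring admitting a finite Cohen–Macaulay module of full
support has Cohen–Macaulay formal fibres (EGA IV 7.?).
-/

set_option autoImplicit false
universe u

namespace Groth.Agent.Lib.Helper29

open IsLocalRing TensorProduct

section Local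

variable (A B : Type u) [CommRing A] [CommRing B] [IsLocalRing A] [IsLocalRing B]
  [IsNoetherianRing A] [IsNoetherianRing B] [Algebra A B] [Module.Flat A B]
  [IsLocalHom (algebraMap A B)]

/-- Depth formula for a flat local homomorphism and a finite module:
`depth (B ⊗ M) = depth M + depth B/m_A B`. -/
theorem depth_tensor_eq_add_of_flat (M : Type u) [AddCommGroup M] [Module A M]
    [Module.Finite A M] :
    LocCoh.depth B (B ⊗[A] M) = LocCoh.depth A M +
      LocCoh.depth (EGA4.FibRing A B) (EGA4.FibRing A B) := by
  have h1 := Groth.Agent.Lib.Helper93.DepthFlat.depth_tensor_of_flat (R := A) (S := B) M B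
  have heq : ((maximalIdeal A).map (algebraMap A B)) • (⊤ : Submodule B B) =
      (maximalIdeal A).map (algebraMap A B) := by
    rw [smul_eq_mul, Ideal.mul_top]
  have h4 : LocCoh.depth B
      (B ⧸ ((maximalIdeal A).map (algebraMap A B)) • (⊤ : Submodule B B)) =
      LocCoh.depth B (B ⧸ (maximalIdeal A).map (algebraMap A B)) :=
    idealDepth_congr _ (Submodule.quotEquivOfEq _ _ heq)
  rw [h4] at h1
  rw [h1, depth_self_eq_depth_of_surjective (R := B) (R' := EGA4.FibRing A B)
    Ideal.Quotient.mk_surjective]

end Local

section AtPrime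

variable {R S : Type u} [CommRing R] [CommRing S] [Algebra R S] [IsNoetherianRing R]
  [IsNoetherianRing S] [Module.Flat R S]

/-- Depth formula for `R_p → S_q` flat and a finite `R`-module `M`:
`depth (S ⊗ M)_q = depth M_p + depth (S_q / p S_q)`. -/
theorem depth_localizedModule_tensor_of_flat (p : Ideal R) [p.IsPrime] (q : Ideal S) [q.IsPrime]
    [q.LiesOver p]
    [IsLocalRing (Localization.AtPrime q ⧸ p.map (algebraMap R (Localization.AtPrime q)))]
    (M : Type u) [AddCommGroup M] [Module R M] [Module.Finite R M] :
    LocCoh.depth (Localization.AtPrime q) (LocalizedModule q.primeCompl (S ⊗[R] M)) =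
      LocCoh.depth (Localization.AtPrime p) (LocalizedModule p.primeCompl M) +
        LocCoh.depth (Localization.AtPrime q ⧸ p.map (algebraMap R (Localization.AtPrime q)))
          (Localization.AtPrime q ⧸ p.map (algebraMap R (Localization.AtPrime q))) := by
  let _ := Localization.AtPrime.algebraOfLiesOver p q
  have hNp : IsNoetherianRing (Localization.AtPrime p) :=
    IsLocalization.isNoetherianRing p.primeCompl _ inferInstance
  have hNq : IsNoetherianRing (Localization.AtPrime q) :=
    IsLocalization.isNoetherianRing q.primeCompl _ inferInstance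
  have hflat : Module.Flat (Localization.AtPrime p) (Localization.AtPrime q) := inferInstance
  have hloc : IsLocalHom (algebraMap (Localization.AtPrime p) (Localization.AtPrime q)) := by
    rw [Localization.AtPrime.IsLiesOverAlgebra.algebraMap_eq]
    exact Localization.isLocalHom_localRingHom _ _ _ _
  have hmap : (maximalIdeal (Localization.AtPrime p)).map
      (algebraMap (Localization.AtPrime p) (Localization.AtPrime q)) =
      p.map (algebraMap R (Localization.AtPrime q)) := by
    rw [← Localization.AtPrime.map_eq_maximalIdeal, Ideal.map_map,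
      ← IsScalarTower.algebraMap_eq]
  let e : EGA4.FibRing (Localization.AtPrime p) (Localization.AtPrime q) ≃+*
      (Localization.AtPrime q ⧸ p.map (algebraMap R (Localization.AtPrime q))) :=
    Ideal.quotEquivOfEq hmap
  have hNF : IsNoetherianRing (EGA4.FibRing (Localization.AtPrime p) (Localization.AtPrime q)) :=
    inferInstance
  have hfinMp : Module.Finite (Localization.AtPrime p) (LocalizedModule p.primeCompl M) :=
    inferInstance
  have h1 := depth_tensor_eq_add_of_flat (Localization.AtPrime p) (Localization.AtPrime q)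
    (LocalizedModule p.primeCompl M)
  rw [depth_self_eq_of_ringEquiv e] at h1
  rw [← h1]
  -- both modules are base changes of `M` along `R → S_q`
  let f₁ : M →ₗ[R] LocalizedModule p.primeCompl M := LocalizedModule.mkLinearMap p.primeCompl M
  have hf₁ : IsBaseChange (Localization.AtPrime p) f₁ :=
    (isLocalizedModule_iff_isBaseChange p.primeCompl (Localization.AtPrime p) _).mp inferInstance
  let f₂ : LocalizedModule p.primeCompl M →ₗ[Localization.AtPrime p]
      (Localization.AtPrime q) ⊗[Localization.AtPrime p] (LocalizedModule p.primeCompl M) :=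
    TensorProduct.mk (Localization.AtPrime p) (Localization.AtPrime q)
      (LocalizedModule p.primeCompl M) 1
  have hf₂ : IsBaseChange (Localization.AtPrime q) f₂ :=
    TensorProduct.isBaseChange (Localization.AtPrime p) (LocalizedModule p.primeCompl M)
      (Localization.AtPrime q)
  have hf : IsBaseChange (Localization.AtPrime q) ((f₂.restrictScalars R).comp f₁) :=
    IsBaseChange.comp hf₁ hf₂
  let g₁ : M →ₗ[R] S ⊗[R] M := TensorProduct.mk R S M 1
  have hg₁ : IsBaseChange S g₁ := TensorProduct.isBaseChange R M S
  let g₂ : S ⊗[R] M →ₗ[S] LocalizedModule q.primeCompl (S ⊗[R] M) :=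
    LocalizedModule.mkLinearMap q.primeCompl (S ⊗[R] M)
  have hg₂ : IsBaseChange (Localization.AtPrime q) g₂ :=
    (isLocalizedModule_iff_isBaseChange q.primeCompl (Localization.AtPrime q) _).mp inferInstance
  have hg : IsBaseChange (Localization.AtPrime q) ((g₂.restrictScalars R).comp g₁) :=
    IsBaseChange.comp hg₁ hg₂
  exact idealDepth_congr _ (hg.equiv.symm.trans hf.equiv)

end AtPrime

section CMModule

variable (A : Type u) [CommRing A] [IsNoetherianRing A] [IsLocalRing A]
  (M : Type u) [AddCommGroup M] [Module A M] [Module.Finite A M]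

/-- For a CM module of full support, `depth M_p = dim A_p`. -/
theorem exists_nat_depth_localizedModule_eq_ringKrullDim
    (hCM : LocCoh.IsCohenMacaulayModule A M) (hsupp : Module.support A M = Set.univ)
    (p : Ideal A) [hp : p.IsPrime] :
    ∃ r : ℕ, ringKrullDim (Localization.AtPrime p) = (r : WithBot ℕ∞) ∧
      LocCoh.depth (Localization.AtPrime p) (LocalizedModule p.primeCompl M) = (r : ℕ∞) := by
  obtain ⟨r, -, h2, h3⟩ := supportDim_localizedModule_eq_of_isCohenMacaulayModule A M hCM ⟨p, hp⟩
    (by rw [hsupp]; trivial)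
  refine ⟨r, ?_, h3⟩
  rw [← h2]
  exact (Groth.Agent.Lib.Helper89.CMCatenary.supportDim_eq_ringKrullDim_of_support_eq_univ
    (support_localizedModule_atPrime_eq_univ A M hsupp p)).symm

/-- A Noetherian local ring with a finite Cohen–Macaulay module of full support has
Cohen–Macaulay formal fibres. -/
theorem hasCMFormalFibres_of_isCohenMacaulayModule
    (hCM : LocCoh.IsCohenMacaulayModule A M) (hsupp : Module.support A M = Set.univ) :
    EGA4.HasCMFormalFibres A := by
  have hNR : IsNoetherianRing (EGA4.Cpl A) := isNoetherianRing_cpl A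
  let hlocR : IsLocalRing (EGA4.Cpl A) := isLocalRing_cpl A
  have hfl : Module.Flat A (EGA4.Cpl A) := (faithfullyFlat_cpl A).toFlat
  have hCMN : LocCoh.IsCohenMacaulayModule (EGA4.Cpl A) (EGA4.Cpl A ⊗[A] M) :=
    isCohenMacaulayModule_cpl_tensor A M hCM
  have hsuppN : Module.support (EGA4.Cpl A) (EGA4.Cpl A ⊗[A] M) = Set.univ := by
    rw [Set.eq_univ_iff_forall]
    intro q
    rw [Groth.Agent.Lib.Helper24.mem_support_baseChange_iff, hsupp]
    trivial
  intro p _
  have hNF : IsNoetherianRing (p.Fiber (EGA4.Cpl A)) := isNoetherianRing_fiber A (EGA4.Cpl A) p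
  refine { isCohenMacaulayLocalRing_localization := fun q' hq' => ?_ }
  let e := fiberLocalizationEquiv p q'
  set r := q'.comap (Algebra.TensorProduct.includeRight : EGA4.Cpl A →ₐ[A] p.Fiber (EGA4.Cpl A))
    with hr
  have hloc : IsLocalRing (Localization.AtPrime r ⧸
      p.map (algebraMap A (Localization.AtPrime r))) := e.isLocalRing
  have hNr : IsNoetherianRing (Localization.AtPrime r) :=
    IsLocalization.isNoetherianRing r.primeCompl _ inferInstance
  obtain ⟨-, h2⟩ := depth_and_dim_add_of_flat p r
  have h1 := depth_localizedModule_tensor_of_flat p r M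
  obtain ⟨r₁, hd₁, hp₁⟩ := exists_nat_depth_localizedModule_eq_ringKrullDim A M hCM hsupp p
  obtain ⟨r₂, hd₂, hp₂⟩ := exists_nat_depth_localizedModule_eq_ringKrullDim (EGA4.Cpl A)
    (EGA4.Cpl A ⊗[A] M) hCMN hsuppN r
  rw [hp₁, hp₂] at h1
  rw [hd₁, hd₂] at h2
  have hF : LocCoh.IsCohenMacaulayLocalRing (Localization.AtPrime r ⧸
      p.map (algebraMap A (Localization.AtPrime r))) := by
    refine { supportDim_eq_depth := ?_ }
    rw [Module.supportDim_self_eq_ringKrullDim]
    generalize LocCoh.depth (Localization.AtPrime r ⧸ p.map (algebraMap A (Localization.AtPrime r)))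
      (Localization.AtPrime r ⧸ p.map (algebraMap A (Localization.AtPrime r))) = d at h1
    generalize ringKrullDim (Localization.AtPrime r ⧸
      p.map (algebraMap A (Localization.AtPrime r))) = x at h2
    have hd : d ≠ ⊤ := by
      rintro rfl
      rw [add_top] at h1
      exact ENat.natCast_ne_top _ h1
    lift d to ℕ using hd
    have e1 : r₂ = r₁ + d := by exact_mod_cast h1
    induction x using WithBot.recBotCoe with
    | bot =>
      rw [WithBot.add_bot] at h2
      exact absurd h2 (WithBot.coe_ne_bot)
    | coe y =>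
      have h3 : ((r₂ : ℕ∞) : WithBot ℕ∞) = (((r₁ : ℕ∞) + y : ℕ∞) : WithBot ℕ∞) := by
        rw [WithBot.coe_add]; exact_mod_cast h2
      have h4 : (r₂ : ℕ∞) = (r₁ : ℕ∞) + y := WithBot.coe_injective h3
      have hy : y ≠ ⊤ := by
        rintro rfl
        rw [add_top] at h4
        exact ENat.natCast_ne_top _ h4
      lift y to ℕ using hy
      have e2 : r₂ = r₁ + y := by exact_mod_cast h4
      have : y = d := by omega
      rw [this]
  exact isCohenMacaulayLocalRing_of_ringEquiv e.symm hF

end CMModule

/-- Cohen–Macaulay formal fibres pass to local quotients. -/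
theorem hasCMFormalFibres_of_surjective (A B : Type u) [CommRing A] [IsNoetherianRing A]
    [IsLocalRing A] [CommRing B] [IsNoetherianRing B] [IsLocalRing B] [Algebra A B]
    (hA : EGA4.HasCMFormalFibres A) (hsurj : Function.Surjective (algebraMap A B)) :
    EGA4.HasCMFormalFibres B := by
  let e : A ⧸ RingHom.ker (algebraMap A B) ≃+* B := RingHom.quotientKerEquivOfSurjective hsurj
  have : Nontrivial (A ⧸ RingHom.ker (algebraMap A B)) := e.toEquiv.nontrivial
  have h2 : EGA4.HasCMFormalFibres (A ⧸ RingHom.ker (algebraMap A B)) :=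
    Groth.Agent.S4755.result _ hA (RingHom.ker (algebraMap A B))
  let _ : Algebra B (A ⧸ RingHom.ker (algebraMap A B)) := e.symm.toRingHom.toAlgebra
  have : IsLocalHom (algebraMap B (A ⧸ RingHom.ker (algebraMap A B))) := by
    refine ⟨fun a ha => ?_⟩
    have h3 := ha.map e.toRingHom
    change IsUnit (e (e.symm a)) at h3
    rwa [RingEquiv.apply_symm_apply] at h3
  have : Module.Flat B (A ⧸ RingHom.ker (algebraMap A B)) :=
    RingHom.Flat.of_bijective (f := e.symm.toRingHom) e.symm.bijective
  have : Module.Finite B (A ⧸ RingHom.ker (algebraMap A B)) :=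
    Module.Finite.of_surjective (Algebra.linearMap B (A ⧸ RingHom.ker (algebraMap A B)))
      e.symm.surjective
  refine Groth.Agent.Lib.Helper73.CMEssFT.hasCMFormalFibres_of_flat_local B
    (A ⧸ RingHom.ker (algebraMap A B)) ?_ h2
  intro p _
  have : IsArtinianRing (p.Fiber (A ⧸ RingHom.ker (algebraMap A B))) :=
    IsArtinianRing.of_finite p.ResidueField _
  exact Groth.Agent.Lib.Helper73.CMFibre.isCohenMacaulayRing_of_isArtinianRing _

end Groth.Agent.Lib.Helper29
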