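import Groth.Agent.Lib.Helper93.DepthFlat
import Groth.Agent.Lib.Helper24.SupportBaseChange
import Groth.Agent.Lib.Helper29.DepthCM2

/-!
Helper lemmas (helper29): the dimension formula `dim_B (N ⊗_A M) = dim_A M + dim_B (N/m_A N)` for a
finite `B`-module `N` flat over `A` (lower bound; the upper bound is S5770).
-/

set_option autoImplicit false
universe u

namespace Groth.Agent.Lib.Helper29

open TensorProduct IsLocalRing Pointwise

section support

variable {B : Type u} [CommRing B] (X Y : Type u) [AddCommGroup X] [Module B X]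
  [Module.Finite B X] [AddCommGroup Y] [Module B Y] [Module.Finite B Y]

/-- `Supp X ∩ Supp Y ⊆ Supp (X ⊗ Y)` for finite modules. -/
theorem mem_support_tensorProduct {q : PrimeSpectrum B} (hX : q ∈ Module.support B X)
    (hY : q ∈ Module.support B Y) : q ∈ Module.support B (X ⊗[B] Y) := by
  rw [Module.mem_support_iff_nontrivial_residueField_tensorProduct] at hX hY ⊢
  rw [(AlgebraTensorModule.distribBaseChange B q.asIdeal.ResidueField X Y).nontrivial_congr]
  have : Module.FaithfullyFlat q.asIdeal.ResidueField (q.asIdeal.ResidueField ⊗[B] X) :=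
    inferInstance
  exact (Module.FaithfullyFlat.nontrivial_tensorProduct_iff_right _ _).mpr hY

end support

section

variable {A B : Type u} [CommRing A] [CommRing B] [Algebra A B]
  (N : Type u) [AddCommGroup N] [Module B N] [Module A N] [IsScalarTower A B N]
  [Module.Finite B N]

/-- `Supp_B N ∩ f⁻¹ (Supp_A M) ⊆ Supp_B (N ⊗_A M)`. -/
theorem mem_support_tensor_of_mem (M : Type u) [AddCommGroup M] [Module A M] [Module.Finite A M]
    {q : PrimeSpectrum B} (hN : q ∈ Module.support B N)
    (hM : PrimeSpectrum.comap (algebraMap A B) q ∈ Module.support A M) :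
    q ∈ Module.support B (N ⊗[A] M) := by
  rw [← (AlgebraTensorModule.cancelBaseChange A B B N M).support_eq]
  exact mem_support_tensorProduct N (B ⊗[A] M) hN
    ((Groth.Agent.Lib.Helper24.mem_support_baseChange_iff M q).mpr hM)

variable (B) in
/-- The module `N / I N`. -/
abbrev QuotMap (I : Ideal A) : Type u := N ⧸ (I.map (algebraMap A B) • (⊤ : Submodule B N))

/-- the canonical surjection `N/IN → N/JN` for `I ≤ J`. -/
noncomputable def quotMapFactor {I J : Ideal A} (h : I ≤ J) : QuotMap B N I →ₗ[B] QuotMap B N J :=
  Submodule.factor (show I.map (algebraMap A B) • (⊤ : Submodule B N) ≤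
    J.map (algebraMap A B) • (⊤ : Submodule B N) from
    Submodule.smul_mono_left (Ideal.map_mono h))

theorem quotMapFactor_surjective {I J : Ideal A} (h : I ≤ J) :
    Function.Surjective (quotMapFactor (B := B) N h) := by
  unfold quotMapFactor
  exact Submodule.factor_surjective _

theorem quotMapFactor_mk {I J : Ideal A} (h : I ≤ J) (n : N) :
    quotMapFactor (B := B) N h (Submodule.Quotient.mk n) = Submodule.Quotient.mk n := rfl

variable [Module.Flat A N]

/-- For `N` flat over `A` and `p` prime, an element `x ∉ p` is `N/pN`-regular. -/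
theorem isSMulRegular_quotMap (p : Ideal A) [hp : p.IsPrime] {x : A} (hx : x ∉ p) :
    IsSMulRegular (QuotMap B N p) (algebraMap A B x) := by
  -- regularity on `A/p`
  have h1 : IsSMulRegular (A ⧸ p) x := by
    intro a b hab
    obtain ⟨a, rfl⟩ := Ideal.Quotient.mk_surjective a
    obtain ⟨b, rfl⟩ := Ideal.Quotient.mk_surjective b
    have hab' : Ideal.Quotient.mk p x * Ideal.Quotient.mk p a =
        Ideal.Quotient.mk p x * Ideal.Quotient.mk p b := hab
    have hx0 : Ideal.Quotient.mk p x ≠ 0 := by
      rwa [Ne, Ideal.Quotient.eq_zero_iff_mem]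
    exact mul_left_cancel₀ hx0 hab'
  have h2 : IsSMulRegular (N ⊗[A] (A ⧸ p)) x := by
    have := Groth.Agent.Lib.Helper93.DepthFlat.isSMulRegular_tensor_of_flat (R := A) (S := A)
      (N := N) (M := A ⧸ p) h1
    simpa using this
  have h3 : IsSMulRegular (N ⧸ (p • (⊤ : Submodule A N))) x :=
    ((TensorProduct.tensorQuotEquivQuotSMul N p).isSMulRegular_congr x).mp h2
  rw [isSMulRegular_iff_right_eq_zero_of_smul]
  intro y hy
  obtain ⟨n, rfl⟩ := Submodule.Quotient.mk_surjective _ y
  rw [← Submodule.Quotient.mk_smul, Submodule.Quotient.mk_eq_zero, algebraMap_smul,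
    Groth.Agent.Lib.Helper93.DepthFlat.mem_map_smul_top_iff] at hy
  rw [Submodule.Quotient.mk_eq_zero, Groth.Agent.Lib.Helper93.DepthFlat.mem_map_smul_top_iff]
  have h4 : x • (Submodule.Quotient.mk n : N ⧸ (p • (⊤ : Submodule A N))) = 0 := by
    rw [← Submodule.Quotient.mk_smul, Submodule.Quotient.mk_eq_zero]
    exact hy
  have h5 := (isSMulRegular_iff_right_eq_zero_of_smul.mp h3) _ h4
  exact (Submodule.Quotient.mk_eq_zero _).mp h5

end

section chain

variable {A B : Type u} [CommRing A] [CommRing B] [IsNoetherianRing A] [IsNoetherianRing B]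
  [IsLocalRing A] [IsLocalRing B] [Algebra A B] [IsLocalHom (algebraMap A B)]
  (N : Type u) [AddCommGroup N] [Module B N] [Module A N] [IsScalarTower A B N]
  [Module.Finite B N] [Module.Flat A N]

/-- Along a chain of primes of `A` starting at `p`, the dimension of `N/pN` is at least the length
of the chain plus the dimension of the closed fibre. -/
theorem length_add_le_supportDim_quotMap (s : LTSeries (PrimeSpectrum A)) :
    (s.length : WithBot ℕ∞) + Module.supportDim B (QuotMap B N (maximalIdeal A)) ≤
      Module.supportDim B (QuotMap B N s.head.asIdeal) := by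
  induction s using RelSeries.inductionOn with
  | singleton p =>
    simp only [RelSeries.singleton_length, Nat.cast_zero, zero_add, RelSeries.head_singleton]
    exact Module.supportDim_le_of_surjective
      (quotMapFactor (B := B) N (le_maximalIdeal p.isPrime.ne_top))
      (quotMapFactor_surjective (B := B) N _)
  | cons s p hp ih =>
    simp only [RelSeries.cons_length, RelSeries.head_cons]
    have hlt : p.asIdeal < s.head.asIdeal := hp
    obtain ⟨x, hxs, hxp⟩ := SetLike.exists_of_lt hlt
    have hxm : algebraMap A B x ∈ maximalIdeal B :=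
      Groth.Agent.Lib.Helper93.DepthFlat.algebraMap_mem_maximalIdeal
        (le_maximalIdeal s.head.isPrime.ne_top hxs)
    have hreg := isSMulRegular_quotMap (B := B) N p.asIdeal hxp
    have hdim := Module.supportDim_quotSMulTop_succ_eq_supportDim hreg hxm
    -- the surjection `(N/pN)/x(N/pN) → N/p₁N`
    let π : QuotMap B N p.asIdeal →ₗ[B] QuotMap B N s.head.asIdeal := quotMapFactor (B := B) N hlt.le
    have hker : algebraMap A B x • (⊤ : Submodule B (QuotMap B N p.asIdeal)) ≤ LinearMap.ker π := by
      rintro _ ⟨y, -, rfl⟩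
      obtain ⟨n, rfl⟩ := Submodule.Quotient.mk_surjective _ y
      rw [LinearMap.mem_ker]
      change π (algebraMap A B x • Submodule.Quotient.mk n) = 0
      rw [map_smul, quotMapFactor_mk, ← Submodule.Quotient.mk_smul, Submodule.Quotient.mk_eq_zero]
      exact Submodule.smul_mem_smul (Ideal.mem_map_of_mem _ hxs) Submodule.mem_top
    let π' : QuotSMulTop (algebraMap A B x) (QuotMap B N p.asIdeal) →ₗ[B]
        QuotMap B N s.head.asIdeal := Submodule.liftQ _ π hker
    have hπ' : Function.Surjective π' := by
      intro z
      obtain ⟨y, rfl⟩ := quotMapFactor_surjective (B := B) N hlt.le z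
      exact ⟨Submodule.Quotient.mk y, rfl⟩
    have h1 : Module.supportDim B (QuotMap B N s.head.asIdeal) ≤
        Module.supportDim B (QuotSMulTop (algebraMap A B x) (QuotMap B N p.asIdeal)) :=
      Module.supportDim_le_of_surjective π' hπ'
    calc ((s.length + 1 : ℕ) : WithBot ℕ∞) + Module.supportDim B (QuotMap B N (maximalIdeal A))
        = ((s.length : WithBot ℕ∞) + Module.supportDim B (QuotMap B N (maximalIdeal A))) + 1 := by
          push_cast; abel
      _ ≤ Module.supportDim B (QuotMap B N s.head.asIdeal) + 1 := by gcongr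
      _ ≤ Module.supportDim B (QuotSMulTop (algebraMap A B x) (QuotMap B N p.asIdeal)) + 1 := by
          gcongr
      _ = _ := hdim

/-- The lower bound in the dimension formula for flat modules. -/
theorem supportDim_add_le_supportDim_tensor (M : Type u) [AddCommGroup M] [Module A M]
    [Module.Finite A M] [Nontrivial M] :
    Module.supportDim A M + Module.supportDim B (QuotMap B N (maximalIdeal A)) ≤
      Module.supportDim B (N ⊗[A] M) := by
  obtain ⟨d, hd⟩ := exists_nat_supportDim_eq A M
  have hle : (d : WithBot ℕ∞) ≤ Order.krullDim (Module.support A M) := le_of_eq hd.symm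
  obtain ⟨s, hs⟩ := (Order.le_krullDim_iff).mp hle
  let s' : LTSeries (PrimeSpectrum A) := s.map Subtype.val (fun _ _ h => h)
  have hs' : s'.length = d := hs
  have hhead : s'.head ∈ Module.support A M := s.head.2
  have h1 := length_add_le_supportDim_quotMap (B := B) N s'
  rw [hs'] at h1
  rw [hd]
  refine h1.trans ?_
  have : Module.Finite B (N ⊗[A] M) := Groth.Agent.Lib.Helper93.DepthFlat.finite_tensor
  refine Order.krullDim_le_of_strictMono (fun q => ⟨q.1, ?_⟩) (fun _ _ h => h)
  obtain ⟨hq1, hq2⟩ := (Set.ext_iff.mp (Module.support_quotient (R := B) (M := N)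
    (s'.head.asIdeal.map (algebraMap A B))) q.1).mp q.2
  refine mem_support_tensor_of_mem N M hq1 ?_
  refine Module.mem_support_mono ?_ hhead
  change s'.head.asIdeal ≤ q.1.asIdeal.comap (algebraMap A B)
  rw [← Ideal.map_le_iff_le_comap]
  exact hq2

end chain

end Groth.Agent.Lib.Helper29
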