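import Mathlib.RingTheory.Ideal.KrullsHeightTheorem
import Mathlib.RingTheory.LocalRing.RingHom.Basic
import Mathlib.RingTheory.KrullDimension.Regular

/-!
Helper lemmas (helper29): dimension inequality for local homomorphisms of Noetherian local rings.
-/

set_option autoImplicit false
universe u v

namespace Groth.Agent.Lib.Helper29

open IsLocalRing

/-- `dim B ≤ dim A + dim B/m_A B` for a local homomorphism of Noetherian local rings. -/
theorem ringKrullDim_le_add_fibre {A : Type u} {B : Type v} [CommRing A] [CommRing B]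
    [IsLocalRing A] [IsLocalRing B] [IsNoetherianRing A] [IsNoetherianRing B] [Algebra A B]
    [IsLocalHom (algebraMap A B)] :
    ringKrullDim B ≤ ringKrullDim A +
      ringKrullDim (B ⧸ (maximalIdeal A).map (algebraMap A B)) := by
  have hP : (maximalIdeal B).LiesOver (maximalIdeal A) :=
    ⟨(IsLocalRing.maximalIdeal_comap (algebraMap A B)).symm⟩
  have h := Ideal.height_le_height_add_of_liesOver (maximalIdeal A) (maximalIdeal B)
  rw [← IsLocalRing.maximalIdeal_height_eq_ringKrullDim (R := B),
    ← IsLocalRing.maximalIdeal_height_eq_ringKrullDim (R := A)]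
  set I := (maximalIdeal A).map (algebraMap A B) with hI
  have hle : I ≤ maximalIdeal B := IsLocalRing.map_maximalIdeal_le (algebraMap A B)
  have hne : (maximalIdeal B).map (Ideal.Quotient.mk I) ≠ ⊤ := by
    intro htop
    have h2 : ((maximalIdeal B).map (Ideal.Quotient.mk I)).comap (Ideal.Quotient.mk I) = ⊤ := by
      rw [htop]; rfl
    rw [Ideal.comap_map_of_surjective _ Ideal.Quotient.mk_surjective,
      ← RingHom.ker_eq_comap_bot, Ideal.mk_ker, sup_of_le_left hle] at h2
    exact (IsLocalRing.maximalIdeal.isMaximal B).ne_top h2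
  calc ((maximalIdeal B).height : WithBot ℕ∞)
      ≤ (((maximalIdeal A).height + ((maximalIdeal B).map (Ideal.Quotient.mk I)).height : ℕ∞) :
          WithBot ℕ∞) := by exact_mod_cast h
    _ = ((maximalIdeal A).height : WithBot ℕ∞) +
          (((maximalIdeal B).map (Ideal.Quotient.mk I)).height : WithBot ℕ∞) := by
        push_cast; rfl
    _ ≤ ((maximalIdeal A).height : WithBot ℕ∞) + ringKrullDim (B ⧸ I) := by
        gcongr
        exact Ideal.height_le_ringKrullDim_of_ne_top hne

/-- If `m_A B` is an ideal of definition, `A` is a domain and `dim A = dim B`, then `A → B` is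
injective. -/
theorem injective_of_ringKrullDim_eq {A : Type u} {B : Type v} [CommRing A] [CommRing B]
    [IsLocalRing A] [IsLocalRing B] [IsNoetherianRing A] [IsNoetherianRing B] [Algebra A B]
    [IsLocalHom (algebraMap A B)] [IsDomain A]
    (hdef : ringKrullDim (B ⧸ (maximalIdeal A).map (algebraMap A B)) = 0)
    (hdim : ringKrullDim A = ringKrullDim B) : Function.Injective (algebraMap A B) := by
  rw [RingHom.injective_iff_ker_eq_bot]
  by_contra hker
  set φ := algebraMap A B with hφ
  set K := RingHom.ker φ with hK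
  obtain ⟨x, hxK, hx0⟩ := Submodule.exists_mem_ne_zero_of_ne_bot hker
  have hKtop : K ≠ ⊤ := RingHom.ker_ne_top φ
  have : Nontrivial (A ⧸ K) := Ideal.Quotient.nontrivial_iff.mpr hKtop
  have hloc' : IsLocalRing (A ⧸ K) :=
    IsLocalRing.of_surjective' (Ideal.Quotient.mk K) Ideal.Quotient.mk_surjective
  let φ' : A ⧸ K →+* B := RingHom.kerLift φ
  let _ : Algebra (A ⧸ K) B := φ'.toAlgebra
  have hcomp : φ'.comp (Ideal.Quotient.mk K) = φ := by
    ext a; exact RingHom.kerLift_mk φ a
  have hlochom : IsLocalHom (algebraMap (A ⧸ K) B) := by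
    refine ⟨fun a' ha' => ?_⟩
    obtain ⟨a, rfl⟩ := Ideal.Quotient.mk_surjective a'
    have h1 : IsUnit (φ a) := by
      have : φ a = φ' (Ideal.Quotient.mk K a) := (RingHom.kerLift_mk φ a).symm
      rw [this]; exact ha'
    exact (isUnit_of_map_unit φ a h1).map (Ideal.Quotient.mk K)
  have hideal : (maximalIdeal (A ⧸ K)).map (algebraMap (A ⧸ K) B) =
      (maximalIdeal A).map (algebraMap A B) := by
    rw [← IsLocalRing.map_maximalIdeal_of_surjective (Ideal.Quotient.mk K)
      Ideal.Quotient.mk_surjective, Ideal.map_map]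
    change Ideal.map (φ'.comp (Ideal.Quotient.mk K)) _ = _
    rw [hcomp]
  have h1 := ringKrullDim_le_add_fibre (A := A ⧸ K) (B := B)
  rw [hideal, hdef, add_zero] at h1
  -- `dim A/K + 1 ≤ dim A`
  have hxnzd : x ∈ nonZeroDivisors A := mem_nonZeroDivisors_of_ne_zero hx0
  have h2 : ringKrullDim (A ⧸ Ideal.span {x}) + 1 ≤ ringKrullDim A :=
    ringKrullDim_quotient_succ_le_of_nonZeroDivisor hxnzd
  have hle : Ideal.span {x} ≤ K := (Ideal.span_singleton_le_iff_mem K).mpr hxK
  have h3 : ringKrullDim (A ⧸ K) ≤ ringKrullDim (A ⧸ Ideal.span {x}) :=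
    ringKrullDim_le_of_surjective (Ideal.Quotient.factor hle) (Ideal.Quotient.factor_surjective hle)
  have h4 : ringKrullDim B + 1 ≤ ringKrullDim B := by
    calc ringKrullDim B + 1 ≤ ringKrullDim (A ⧸ K) + 1 := by gcongr
      _ ≤ ringKrullDim (A ⧸ Ideal.span {x}) + 1 := by gcongr
      _ ≤ ringKrullDim A := h2
      _ = ringKrullDim B := hdim
  have hfin : ringKrullDim B ≠ ⊤ := ringKrullDim_ne_top
  have hbot : ringKrullDim B ≠ ⊥ := ringKrullDim_ne_bot
  obtain ⟨n, hn⟩ := WithBot.ne_bot_iff_exists.mp hbot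
  rw [← hn] at h4 hfin
  have hn' : n ≠ ⊤ := fun h => hfin (by rw [h]; rfl)
  have h5 : n + 1 ≤ n := by exact_mod_cast h4
  exact absurd h5 (by
    rw [not_le]
    exact ENat.lt_add_one_iff hn' |>.mpr le_rfl)

end Groth.Agent.Lib.Helper29
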