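import Groth.Agent.Lib.Helper29.DepthQuot
import Groth.Agent.Lib.Helper29.DepthExt
import Mathlib.RingTheory.Flat.EquationalCriterion
import Mathlib.RingTheory.HopkinsLevitzki
import Mathlib.RingTheory.Flat.Localization
import Mathlib.RingTheory.Localization.LocalizationLocalization
import Groth.Prelude.Def_EGA4b

/-!
# A flatness criterion over Artinian local rings

Let `A` be an Artinian local ring with maximal ideal `m` and `B` a Noetherian `A`-algebra which is
`(S₁)`, such that `B_red` is `(S₂)` and such that `B_q` is flat over `A` with reduced fibre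
`B_q/mB_q` for all primes `q` of height `≤ 1`.  Then `B` is flat over `A` and `B/mB` is reduced.
-/

set_option autoImplicit false

universe u

namespace Groth.Agent.Lib.Helper29

open IsLocalRing TensorProduct

section FlatColon

/-- For a flat module, `(IM : a) = (I : a)M`. -/
theorem mem_smul_top_of_smul_mem_smul_top_of_flat {A : Type*} [CommRing A] {M : Type*}
    [AddCommGroup M] [Module A M] [Module.Flat A M] (I J : Ideal A) (a : A)
    (hIa : ∀ r : A, a * r ∈ I → r ∈ J) (x : M) (hx : a • x ∈ I • (⊤ : Submodule A M)) :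
    x ∈ J • (⊤ : Submodule A M) := by
  classical
  have hspan : (⊤ : Submodule A M) = Submodule.span A (Set.range (id : M → M)) := by
    rw [Set.range_id, Submodule.span_univ]
  rw [hspan, Submodule.mem_ideal_smul_span_iff_exists_sum] at hx
  obtain ⟨c, hc, hsum⟩ := hx
  -- the relation `a • x - ∑ c m • m = 0`
  let f : Option c.support → A := fun o => Option.elim o a (fun m => - c m)
  let y : Option c.support → M := fun o => Option.elim o x (fun m => (m : M))
  have hrel : ∑ o, f o • y o = 0 := by
    rw [Fintype.sum_option]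
    simp only [f, y, Option.elim_none, Option.elim_some, neg_smul, Finset.sum_neg_distrib]
    rw [← hsum, Finsupp.sum]
    simp only [id]
    rw [Finset.sum_coe_sort c.support (fun m => c m • m)]
    exact add_neg_cancel _
  obtain ⟨k, α, z, hα1, hα2⟩ := Module.Flat.isTrivialRelation_of_sum_smul_eq_zero hrel
  have hx' := hα1 none
  simp only [y, Option.elim_none] at hx'
  rw [hx']
  refine Submodule.sum_mem _ fun j _ => Submodule.smul_mem_smul ?_ Submodule.mem_top
  apply hIa
  have h2 := hα2 j
  rw [Fintype.sum_option] at h2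
  simp only [f, Option.elim_none, Option.elim_some, neg_mul, Finset.sum_neg_distrib] at h2
  have h3 : a * α none j = ∑ m : c.support, c m * α (some m) j := by
    rw [← sub_eq_zero, sub_eq_add_neg]; exact h2
  rw [h3]
  exact Ideal.sum_mem _ fun m _ => I.mul_mem_right _ (hc m)

end FlatColon

section Decomp

variable {A : Type u} [CommRing A] [IsArtinianRing A] [IsLocalRing A]

/-- Every nonzero ideal of an Artinian local ring is of the form `I + (a)` with `I` strictly
smaller, `a ∉ I` and `m a ⊆ I`. -/
theorem exists_lt_sup_span_singleton_eq (J : Ideal A) (hJ : J ≠ ⊥) :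
    ∃ (I : Ideal A) (a : A), I < J ∧ a ∉ I ∧ I ⊔ Ideal.span {a} = J ∧
      ∀ x ∈ maximalIdeal A, x * a ∈ I := by
  obtain ⟨I, hIJ, hmax⟩ := WellFounded.has_min (wellFounded_gt (α := Ideal A)) {I | I < J}
    ⟨⊥, bot_lt_iff_ne_bot.mpr hJ⟩
  have hIJ' : I < J := hIJ
  obtain ⟨a, haJ, haI⟩ := SetLike.exists_of_lt hIJ'
  have key : ∀ b ∈ J, b ∉ I → I ⊔ Ideal.span {b} = J := by
    intro b hbJ hbI
    have hle : I ⊔ Ideal.span {b} ≤ J :=
      sup_le hIJ'.le ((Ideal.span_singleton_le_iff_mem J).mpr hbJ)
    have hlt : I < I ⊔ Ideal.span {b} := by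
      refine lt_of_le_of_ne le_sup_left fun h => hbI ?_
      rw [h]
      exact Ideal.mem_sup_right (Ideal.mem_span_singleton_self b)
    by_contra hne
    exact hmax _ (lt_of_le_of_ne hle hne) hlt
  refine ⟨I, a, hIJ', haI, key a haJ haI, fun x hx => ?_⟩
  by_contra hxa
  have h1 := key (x * a) (J.mul_mem_left x haJ) hxa
  have h2 : a ∈ I ⊔ Ideal.span {x * a} := h1 ▸ haJ
  obtain ⟨i, hi, w, hw, hsum⟩ := Submodule.mem_sup.mp h2
  obtain ⟨t, rfl⟩ := Ideal.mem_span_singleton'.mp hw
  have h3 : (1 - t * x) * a = i := by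
    linear_combination (-1 : A) * hsum
  have hunit : IsUnit (1 - t * x) :=
    IsLocalRing.isUnit_one_sub_self_of_mem_nonunits _
      (by rw [← IsLocalRing.mem_maximalIdeal]; exact Ideal.mul_mem_left _ t hx)
  apply haI
  rw [← Ideal.unit_mul_mem_iff_mem I hunit, h3]
  exact hi

theorem map_maximalIdeal_le_nilradical (C : Type*) [CommRing C] [Algebra A C] :
    (maximalIdeal A).map (algebraMap A C) ≤ nilradical C := by
  rw [Ideal.map_le_iff_le_comap]
  intro x hx
  rw [Ideal.mem_comap, mem_nilradical]
  have hnil : IsNilpotent (maximalIdeal A) := by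
    have := IsArtinianRing.isNilpotent_jacobson_bot (R := A)
    rwa [IsLocalRing.jacobson_eq_maximalIdeal _ bot_ne_top] at this
  obtain ⟨n, hn⟩ := hnil
  refine ⟨n, ?_⟩
  rw [← map_pow]
  have : x ^ n ∈ (maximalIdeal A) ^ n := Ideal.pow_mem_pow hx n
  rw [hn] at this
  rw [(Submodule.mem_bot A).mp this, map_zero]

end Decomp

section Elementwise

variable (A : Type u) [CommRing A] [IsLocalRing A]

/-- The condition at a prime `p` of an `A`-algebra `R`: `R_p` is flat over `A` and the fibre ring
`R_p / m R_p` is reduced. -/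
def GoodAt (R : Type u) [CommRing R] [Algebra A R] (p : Ideal R) [p.IsPrime] : Prop :=
  Module.Flat A (Localization.AtPrime p) ∧
    IsReduced (Localization.AtPrime p ⧸
      (maximalIdeal A).map (algebraMap A (Localization.AtPrime p)))

variable {A}

omit [IsLocalRing A] in
theorem mem_map_iff_mem_smul_top (I : Ideal A) (L : Type*) [CommRing L] [Algebra A L] (x : L) :
    x ∈ I.map (algebraMap A L) ↔ x ∈ I • (⊤ : Submodule A L) := by
  have h := map_smul_top_restrictScalars (B := L) I L
  have h2 : (I.map (algebraMap A L) • (⊤ : Submodule L L)) = I.map (algebraMap A L) := by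
    change I.map (algebraMap A L) • (⊤ : Ideal L) = _
    rw [smul_eq_mul, Ideal.mul_top]
  rw [← h, Submodule.restrictScalars_mem, h2]

variable {R : Type u} [CommRing R] [Algebra A R] (p : Ideal R) [p.IsPrime]

theorem GoodAt.exists_mul_mem_of_mem_nilradical (h : GoodAt A R p) (b : R)
    (hb : b ∈ nilradical R) :
    ∃ s, s ∉ p ∧ s * b ∈ (maximalIdeal A).map (algebraMap A R) := by
  have hnil : IsNilpotent (algebraMap R (Localization.AtPrime p) b) :=
    (mem_nilradical.mp hb).map _
  have hred := h.2
  have h0 : Ideal.Quotient.mk ((maximalIdeal A).map (algebraMap A (Localization.AtPrime p)))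
      (algebraMap R (Localization.AtPrime p) b) = 0 := (hnil.map _).eq_zero
  rw [Ideal.Quotient.eq_zero_iff_mem, IsScalarTower.algebraMap_eq A R (Localization.AtPrime p),
    ← Ideal.map_map,
    IsLocalization.algebraMap_mem_map_algebraMap_iff p.primeCompl (Localization.AtPrime p)] at h0
  obtain ⟨s, hs, hsb⟩ := h0
  exact ⟨s, hs, hsb⟩

theorem GoodAt.exists_mul_mem_of_mul_mem (h : GoodAt A R p) (I : Ideal A) (a : A)
    (hIa : ∀ r : A, a * r ∈ I → r ∈ maximalIdeal A) (b : R)
    (hb : algebraMap A R a * b ∈ I.map (algebraMap A R)) :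
    ∃ s, s ∉ p ∧ s * b ∈ (maximalIdeal A).map (algebraMap A R) := by
  have hflat := h.1
  have h1 : algebraMap R (Localization.AtPrime p) (algebraMap A R a * b) ∈
      I.map (algebraMap A (Localization.AtPrime p)) := by
    rw [IsScalarTower.algebraMap_eq A R (Localization.AtPrime p), ← Ideal.map_map]
    exact Ideal.mem_map_of_mem _ hb
  have h2 : algebraMap R (Localization.AtPrime p) (algebraMap A R a * b) =
      a • algebraMap R (Localization.AtPrime p) b := by
    rw [map_mul, ← IsScalarTower.algebraMap_apply, Algebra.smul_def]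
  rw [h2, mem_map_iff_mem_smul_top] at h1
  have h3 := mem_smul_top_of_smul_mem_smul_top_of_flat I (maximalIdeal A) a hIa _ h1
  rw [← mem_map_iff_mem_smul_top, IsScalarTower.algebraMap_eq A R (Localization.AtPrime p),
    ← Ideal.map_map,
    IsLocalization.algebraMap_mem_map_algebraMap_iff p.primeCompl (Localization.AtPrime p)] at h3
  obtain ⟨s, hs, hsb⟩ := h3
  exact ⟨s, hs, hsb⟩

end Elementwise

section LocalTheorem

variable {A : Type u} [CommRing A] [IsArtinianRing A] [IsLocalRing A]
variable (C : Type u) [CommRing C] [IsLocalRing C] [IsNoetherianRing C]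

/-- A finite module of positive depth has no nonzero elements which die at all non-maximal
primes (stated for cyclic modules). -/
theorem mem_of_forall_prime_exists_mul_mem (𝔞 : Ideal C) (hd : 1 ≤ LocCoh.depth C (C ⧸ 𝔞)) (b : C)
    (h : ∀ p : Ideal C, p.IsPrime → p ≠ maximalIdeal C → ∃ s, s ∉ p ∧ s * b ∈ 𝔞) : b ∈ 𝔞 := by
  by_contra hb
  have hx : (Ideal.Quotient.mk 𝔞 b) ≠ 0 := by
    rwa [Ne, Ideal.Quotient.eq_zero_iff_mem]
  obtain ⟨P, hP, hle⟩ :=
    exists_le_isAssociatedPrime_of_isNoetherianRing C (Ideal.Quotient.mk 𝔞 b) hx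
  have hPne : P ≠ maximalIdeal C := by
    rintro rfl
    have h0 := (depth_eq_zero_iff C (C ⧸ 𝔞)).mpr hP
    rw [h0] at hd
    simp at hd
  obtain ⟨s, hs, hsb⟩ := h P hP.isPrime hPne
  apply hs
  apply hle
  rw [Submodule.mem_colon_singleton, Submodule.mem_bot]
  have : s • (Ideal.Quotient.mk 𝔞 b) = Ideal.Quotient.mk 𝔞 (s * b) := rfl
  rw [this, Ideal.Quotient.eq_zero_iff_mem]
  exact hsb

variable [Algebra A C]

/-- One step of the induction along a composition series of `A`. -/
theorem artinFlat_step (h2 : 2 ≤ LocCoh.depth C (C ⧸ nilradical C))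
    (h3 : ∀ (p : Ideal C) [p.IsPrime], p ≠ maximalIdeal C → GoodAt A C p)
    (I : Ideal A) (a : A) (haI : a ∉ I) (hma : ∀ x ∈ maximalIdeal A, x * a ∈ I)
    (hQ : 1 ≤ LocCoh.depth C (C ⧸ I.map (algebraMap A C))) :
    (∀ b : C, algebraMap A C a * b ∈ I.map (algebraMap A C) ↔ b ∈ nilradical C) ∧
      1 ≤ LocCoh.depth C (C ⧸ (I ⊔ Ideal.span {a}).map (algebraMap A C)) := by
  have hIa : ∀ r : A, a * r ∈ I → r ∈ maximalIdeal A := by
    intro r hr
    by_contra hrm
    have hunit : IsUnit r := by
      by_contra hnu
      exact hrm ((IsLocalRing.mem_maximalIdeal r).mpr hnu)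
    apply haI
    rw [mul_comm] at hr
    exact (Ideal.unit_mul_mem_iff_mem I hunit).mp hr
  have hmul : ∀ y ∈ (maximalIdeal A).map (algebraMap A C),
      algebraMap A C a * y ∈ I.map (algebraMap A C) := by
    intro y hy
    unfold Ideal.map at hy
    induction hy using Submodule.span_induction with
    | mem y hy =>
      obtain ⟨x, hx, rfl⟩ := hy
      rw [← map_mul, mul_comm]
      exact Ideal.mem_map_of_mem _ (hma x hx)
    | zero => simp
    | add y z _ _ hy hz => rw [mul_add]; exact Ideal.add_mem _ hy hz
    | smul c y _ hy =>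
      rw [smul_eq_mul, mul_left_comm]
      exact Ideal.mul_mem_left _ c hy
  have h21 : 1 ≤ LocCoh.depth C (C ⧸ nilradical C) := le_trans (by norm_num) h2
  have hiff : ∀ b : C, algebraMap A C a * b ∈ I.map (algebraMap A C) ↔ b ∈ nilradical C := by
    intro b
    constructor
    · intro hb
      refine mem_of_forall_prime_exists_mul_mem C _ h21 b fun p hp hpne => ?_
      have := hp
      obtain ⟨s, hs, hsb⟩ := (h3 p hpne).exists_mul_mem_of_mul_mem p I a hIa b hb
      exact ⟨s, hs, map_maximalIdeal_le_nilradical C hsb⟩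
    · intro hb
      refine mem_of_forall_prime_exists_mul_mem C _ hQ _ fun p hp hpne => ?_
      have := hp
      obtain ⟨s, hs, hsb⟩ := (h3 p hpne).exists_mul_mem_of_mem_nilradical p b hb
      refine ⟨s, hs, ?_⟩
      rw [mul_left_comm]
      exact hmul _ hsb
  refine ⟨hiff, ?_⟩
  -- the short exact sequence `0 → C/N → C/IC → C/JC → 0`
  set a' := algebraMap A C a with ha'
  set IC := I.map (algebraMap A C) with hIC
  set JC := (I ⊔ Ideal.span {a}).map (algebraMap A C) with hJC
  have hJCeq : JC = IC ⊔ Ideal.span {a'} := by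
    rw [hJC, Ideal.map_sup, Ideal.map_span, Set.image_singleton]
  have hle1 : nilradical C ≤ Submodule.comap (LinearMap.mulLeft C a') IC := by
    intro b hb
    exact (hiff b).mpr hb
  have hle2 : IC ≤ Submodule.comap (LinearMap.id : C →ₗ[C] C) JC := by
    intro b hb
    rw [Submodule.mem_comap, LinearMap.id_apply, hJCeq]
    exact Ideal.mem_sup_left hb
  let f : (C ⧸ nilradical C) →ₗ[C] (C ⧸ IC) :=
    Submodule.mapQ (nilradical C) IC (LinearMap.mulLeft C a') hle1
  let g : (C ⧸ IC) →ₗ[C] (C ⧸ JC) := Submodule.mapQ IC JC LinearMap.id hle2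
  have hf : Function.Injective f := by
    rw [injective_iff_map_eq_zero]
    intro x hx
    obtain ⟨b, rfl⟩ := Submodule.Quotient.mk_surjective _ x
    have h1 : f (Submodule.Quotient.mk b) = Submodule.Quotient.mk (a' * b) := rfl
    rw [h1, Submodule.Quotient.mk_eq_zero] at hx
    rw [Submodule.Quotient.mk_eq_zero]
    exact (hiff b).mp hx
  have hg : Function.Surjective g := by
    intro y
    obtain ⟨b, rfl⟩ := Submodule.Quotient.mk_surjective _ y
    exact ⟨Submodule.Quotient.mk b, rfl⟩
  have hfg : Function.Exact f g := by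
    intro y
    obtain ⟨c, rfl⟩ := Submodule.Quotient.mk_surjective _ y
    have h1 : g (Submodule.Quotient.mk c) = Submodule.Quotient.mk c := rfl
    rw [h1, Submodule.Quotient.mk_eq_zero]
    constructor
    · intro hc
      rw [hJCeq] at hc
      obtain ⟨i, hi, w, hw, hsum⟩ := Submodule.mem_sup.mp hc
      obtain ⟨t, rfl⟩ := Ideal.mem_span_singleton'.mp hw
      refine ⟨Submodule.Quotient.mk t, ?_⟩
      have h2 : f (Submodule.Quotient.mk t) = Submodule.Quotient.mk (a' * t) := rfl
      rw [h2, Submodule.Quotient.eq]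
      have : a' * t - c = -i := by rw [← hsum]; ring
      rw [this]
      exact IC.neg_mem hi
    · rintro ⟨x, hx⟩
      obtain ⟨t, rfl⟩ := Submodule.Quotient.mk_surjective _ x
      have h2 : f (Submodule.Quotient.mk t) = Submodule.Quotient.mk (a' * t) := rfl
      rw [h2, Submodule.Quotient.eq] at hx
      have : c = a' * t - (a' * t - c) := by ring
      rw [this, hJCeq]
      refine Ideal.sub_mem _ (Ideal.mem_sup_right ?_) (Ideal.mem_sup_left hx)
      exact Ideal.mul_mem_right _ _ (Ideal.mem_span_singleton_self a')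
  have hses := (idealDepth_shortExact (maximalIdeal C) (C ⧸ nilradical C) (C ⧸ IC) (C ⧸ JC)
    f g hf hg hfg).2.1
  refine le_trans ?_ hses
  rw [le_min_iff]
  refine ⟨hQ, ?_⟩
  have h2' : (2 : ℕ∞) ≤ LocCoh.idealDepth (maximalIdeal C) (C ⧸ nilradical C) := h2
  generalize LocCoh.idealDepth (maximalIdeal C) (C ⧸ nilradical C) = e at h2'
  induction e with
  | top => simp
  | coe e =>
    have : 2 ≤ e := by exact_mod_cast h2'
    have : 1 ≤ e - 1 := by omega
    exact_mod_cast this

/-- All the quotients `C/JC` have positive depth. -/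
theorem artinFlat_depth_quotient (h1 : 1 ≤ LocCoh.depth C C)
    (h2 : 2 ≤ LocCoh.depth C (C ⧸ nilradical C))
    (h3 : ∀ (p : Ideal C) [p.IsPrime], p ≠ maximalIdeal C → GoodAt A C p) (J : Ideal A) :
    1 ≤ LocCoh.depth C (C ⧸ J.map (algebraMap A C)) := by
  induction J using WellFoundedLT.induction with
  | ind J ih =>
    by_cases hJ : J = ⊥
    · subst hJ
      have hbot : (⊥ : Ideal A).map (algebraMap A C) = ⊥ := Ideal.map_bot
      have e : (C ⧸ (⊥ : Ideal A).map (algebraMap A C)) ≃ₗ[C] C :=
        Submodule.quotEquivOfEqBot _ hbot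
      have := idealDepth_congr (maximalIdeal C) e
      unfold LocCoh.depth at h1 ⊢
      rw [this]
      exact h1
    · obtain ⟨I, a, hIJ, haI, hsup, hma⟩ := exists_lt_sup_span_singleton_eq J hJ
      have := (artinFlat_step C h2 h3 I a haI hma (ih I hIJ)).2
      rwa [hsup] at this

/-- The nilradical of `C` is `mC`. -/
theorem artinFlat_nilradical_eq (h1 : 1 ≤ LocCoh.depth C C)
    (h2 : 2 ≤ LocCoh.depth C (C ⧸ nilradical C))
    (h3 : ∀ (p : Ideal C) [p.IsPrime], p ≠ maximalIdeal C → GoodAt A C p) :
    nilradical C = (maximalIdeal A).map (algebraMap A C) := by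
  refine le_antisymm ?_ (map_maximalIdeal_le_nilradical C)
  intro b hb
  have hstep := (artinFlat_step C h2 h3 (maximalIdeal A) 1
    (fun h => (maximalIdeal.isMaximal A).ne_top ((Ideal.eq_top_iff_one _).mpr h))
    (fun x hx => by rwa [mul_one])
    (artinFlat_depth_quotient C h1 h2 h3 (maximalIdeal A))).1 b
  have := hstep.mpr hb
  rwa [map_one, one_mul] at this

end LocalTheorem

section FlatInduction

variable {A : Type u} [CommRing A] [IsArtinianRing A] [IsLocalRing A]
variable (C : Type u) [CommRing C] [Algebra A C]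

/-- Flatness over an Artinian local ring from the colon conditions along composition series. -/
theorem rTensor_subtype_injective_of_colon
    (hkey : ∀ (I : Ideal A) (a : A), a ∉ I → (∀ x ∈ maximalIdeal A, x * a ∈ I) →
      ∀ b : C, algebraMap A C a * b ∈ I.map (algebraMap A C) →
        b ∈ (maximalIdeal A).map (algebraMap A C)) (J : Ideal A) :
    Function.Injective (J.subtype.rTensor C) := by
  induction J using WellFoundedLT.induction with
  | ind J ih =>
    by_cases hJ : J = ⊥
    · subst hJ
      have hz : ∀ z : (⊥ : Ideal A) ⊗[A] C, z = 0 := by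
        intro z
        induction z using TensorProduct.induction_on with
        | zero => rfl
        | tmul j c =>
          have : j = 0 := Subtype.ext ((Submodule.mem_bot A).mp j.2)
          rw [this, zero_tmul]
        | add z1 z2 h1 h2 => rw [h1, h2, add_zero]
      intro z1 z2 _
      rw [hz z1, hz z2]
    · obtain ⟨I, a, hIJ, haI, hsup, hma⟩ := exists_lt_sup_span_singleton_eq J hJ
      have haJ : a ∈ J := hsup ▸ Ideal.mem_sup_right (Ideal.mem_span_singleton_self a)
      set ι : I →ₗ[A] J := Submodule.inclusion hIJ.le with hι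
      have hcomp : J.subtype ∘ₗ ι = I.subtype := Submodule.subtype_comp_inclusion _ _ _
      have hcomp' : ∀ z' : I ⊗[A] C,
          J.subtype.rTensor C (ι.rTensor C z') = I.subtype.rTensor C z' := by
        intro z'
        rw [← LinearMap.comp_apply, ← LinearMap.rTensor_comp, hcomp]
      -- decomposition
      have hdec : ∀ z : J ⊗[A] C, ∃ (z' : I ⊗[A] C) (c : C),
          z = ι.rTensor C z' + (⟨a, haJ⟩ : J) ⊗ₜ[A] c := by
        intro z
        induction z using TensorProduct.induction_on with
        | zero => exact ⟨0, 0, by simp⟩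
        | tmul j c0 =>
          have hj : (j : A) ∈ I ⊔ Ideal.span {a} := hsup ▸ j.2
          obtain ⟨i, hi, w, hw, hsum⟩ := Submodule.mem_sup.mp hj
          obtain ⟨t, rfl⟩ := Ideal.mem_span_singleton'.mp hw
          refine ⟨(⟨i, hi⟩ : I) ⊗ₜ[A] c0, t • c0, ?_⟩
          have hjeq : j = ι ⟨i, hi⟩ + t • (⟨a, haJ⟩ : J) :=
            Subtype.ext (by simp [hι, ← hsum])
          rw [hjeq, add_tmul, smul_tmul, LinearMap.rTensor_tmul]
        | add z1 z2 h1 h2 =>
          obtain ⟨z1', c1, e1⟩ := h1
          obtain ⟨z2', c2, e2⟩ := h2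
          refine ⟨z1' + z2', c1 + c2, ?_⟩
          rw [e1, e2, map_add, tmul_add]; abel
      have himg : ∀ z' : I ⊗[A] C,
          TensorProduct.lid A C (I.subtype.rTensor C z') ∈ I.map (algebraMap A C) := by
        intro z'
        induction z' using TensorProduct.induction_on with
        | zero => simp
        | tmul i c =>
          rw [LinearMap.rTensor_tmul, TensorProduct.lid_tmul, Submodule.subtype_apply,
            Algebra.smul_def]
          exact Ideal.mul_mem_right _ _ (Ideal.mem_map_of_mem _ i.2)
        | add z1 z2 h1 h2 => rw [map_add, map_add]; exact Ideal.add_mem _ h1 h2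
      have hlift : ∀ c ∈ (maximalIdeal A).map (algebraMap A C),
          ∃ z'' : I ⊗[A] C, (⟨a, haJ⟩ : J) ⊗ₜ[A] c = ι.rTensor C z'' := by
        intro c hc
        rw [mem_map_iff_mem_smul_top] at hc
        refine Submodule.smul_induction_on hc ?_ ?_
        · intro x hx c' _
          refine ⟨(⟨x * a, hma x hx⟩ : I) ⊗ₜ[A] c', ?_⟩
          rw [LinearMap.rTensor_tmul, ← smul_tmul]
          congr 1
        · rintro c1 c2 ⟨z1, e1⟩ ⟨z2, e2⟩
          exact ⟨z1 + z2, by rw [tmul_add, e1, e2, map_add]⟩
      rw [injective_iff_map_eq_zero]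
      intro z hz
      obtain ⟨z', c, hzc⟩ := hdec z
      have h1 : TensorProduct.lid A C (J.subtype.rTensor C z) = 0 := by rw [hz, map_zero]
      rw [hzc, map_add, hcomp', map_add, LinearMap.rTensor_tmul, TensorProduct.lid_tmul,
        Submodule.subtype_apply] at h1
      have h2 : algebraMap A C a * c ∈ I.map (algebraMap A C) := by
        have : algebraMap A C a * c = - TensorProduct.lid A C (I.subtype.rTensor C z') := by
          rw [← Algebra.smul_def]; exact eq_neg_of_add_eq_zero_right h1
        rw [this]
        exact Ideal.neg_mem_iff _ |>.mpr (himg z')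
      obtain ⟨z'', hz''⟩ := hlift c (hkey I a haI hma c h2)
      have h3 : z = ι.rTensor C (z' + z'') := by rw [map_add, ← hz'', hzc]
      have h4 : I.subtype.rTensor C (z' + z'') = 0 := by rw [← hcomp', ← h3, hz]
      have h5 := (injective_iff_map_eq_zero _).mp (ih I hIJ) _ h4
      rw [h3, h5, map_zero]

end FlatInduction

section LocalConclusion

variable {A : Type u} [CommRing A] [IsArtinianRing A] [IsLocalRing A]
variable (C : Type u) [CommRing C] [IsLocalRing C] [IsNoetherianRing C] [Algebra A C]

/-- **Local flatness criterion**: `C` Noetherian local over an Artinian local ring `A`, of positive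
depth, with `C_red` of depth `≥ 2`, flat with reduced fibre on the punctured spectrum. Then `C` is
flat over `A` with reduced fibre. -/
theorem artinFlat_local (h1 : 1 ≤ LocCoh.depth C C)
    (h2 : 2 ≤ LocCoh.depth C (C ⧸ nilradical C))
    (h3 : ∀ (p : Ideal C) [p.IsPrime], p ≠ maximalIdeal C → GoodAt A C p) :
    Module.Flat A C ∧ IsReduced (C ⧸ (maximalIdeal A).map (algebraMap A C)) := by
  have hN := artinFlat_nilradical_eq C h1 h2 h3
  constructor
  · rw [Module.Flat.iff_rTensor_injective']
    intro J
    refine rTensor_subtype_injective_of_colon C (fun I a haI hma b hb => ?_) J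
    rw [← hN]
    exact ((artinFlat_step C h2 h3 I a haI hma
      (artinFlat_depth_quotient C h1 h2 h3 I)).1 b).mp hb
  · rw [← hN]
    exact (Ideal.isRadical_iff_quotient_reduced _).mp (Ideal.radical_isRadical _)

end LocalConclusion

section Transfer

variable {A : Type u} [CommRing A] [IsLocalRing A]

/-- Flatness and reducedness of the fibre transfer along `A`-algebra isomorphisms. -/
theorem flat_and_isReduced_of_algEquiv {R1 R2 : Type u} [CommRing R1] [CommRing R2]
    [Algebra A R1] [Algebra A R2] (e : R1 ≃ₐ[A] R2)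
    (h : Module.Flat A R1 ∧ IsReduced (R1 ⧸ (maximalIdeal A).map (algebraMap A R1))) :
    Module.Flat A R2 ∧ IsReduced (R2 ⧸ (maximalIdeal A).map (algebraMap A R2)) := by
  obtain ⟨hflat, hred⟩ := h
  refine ⟨Module.Flat.of_linearEquiv e.symm.toLinearEquiv, ?_⟩
  have hIJ : (maximalIdeal A).map (algebraMap A R2) =
      ((maximalIdeal A).map (algebraMap A R1)).map ((e : R1 ≃+* R2) : R1 →+* R2) := by
    rw [Ideal.map_map]
    congr 1
    ext x
    simp
  let e' := Ideal.quotientEquiv _ _ (e : R1 ≃+* R2) hIJ
  exact isReduced_of_injective e'.symm e'.symm.injective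

variable {B : Type u} [CommRing B] [Algebra A B] (q : Ideal B) [q.IsPrime]

theorem GoodAt.of_comap (p' : Ideal (Localization.AtPrime q)) [p'.IsPrime]
    (h : GoodAt A B (p'.comap (algebraMap B (Localization.AtPrime q)))) :
    GoodAt A (Localization.AtPrime q) p' := by
  let e := IsLocalization.localizationLocalizationAtPrimeIsoLocalization q.primeCompl p'
  have : IsScalarTower A B (Localization.AtPrime p') :=
    IsScalarTower.of_algebraMap_eq' rfl
  exact flat_and_isReduced_of_algEquiv (e.restrictScalars A) h

end Transfer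

section DepthTransfer

theorem ringKrullDim_quotient_of_le_nilradical {R : Type*} [CommRing R] (I : Ideal R)
    (h : I ≤ nilradical R) : ringKrullDim (R ⧸ I) = ringKrullDim R := by
  have hz : PrimeSpectrum.zeroLocus (I : Set R) = Set.univ :=
    (PrimeSpectrum.zeroLocus_eq_univ_iff _).mpr h
  rw [ringKrullDim_quotient, hz]
  exact Order.krullDim_eq_of_orderIso OrderIso.Set.univ

variable (B : Type u) [CommRing B] [IsNoetherianRing B]

/-- `(S₂)` for `B_red` gives depth `≥ 2` for `B_q / nil(B_q)` when `ht q ≥ 2`. -/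
theorem two_le_depth_quotient_nilradical
    (hS2 : LocCoh.HasSk 2 (B ⧸ nilradical B) (B ⧸ nilradical B)) (q : Ideal B) [q.IsPrime]
    (hq : (2 : ℕ∞) ≤ q.height) :
    2 ≤ LocCoh.depth (Localization.AtPrime q)
      (Localization.AtPrime q ⧸ nilradical (Localization.AtPrime q)) := by
  have hNq : nilradical B ≤ q := nilradical_le_prime q
  have hP : (q.map (Ideal.Quotient.mk (nilradical B))).IsPrime :=
    Ideal.map_isPrime_of_surjective Ideal.Quotient.mk_surjective (by rwa [Ideal.mk_ker])
  set P := q.map (Ideal.Quotient.mk (nilradical B)) with hPdef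
  set N' := (nilradical B).map (algebraMap B (Localization.AtPrime q)) with hN'def
  have hN' : N' = nilradical (Localization.AtPrime q) := by
    have := IsLocalization.map_radical q.primeCompl (S := Localization.AtPrime q) (⊥ : Ideal B)
    rw [Ideal.map_bot] at this
    exact this
  have hN'top : N' ≠ ⊤ := by
    rw [hN']
    intro h
    have h1 : (1 : Localization.AtPrime q) ∈ nilradical (Localization.AtPrime q) := by
      rw [h]; exact Submodule.mem_top
    obtain ⟨n, hn⟩ := mem_nilradical.mp h1
    rw [one_pow] at hn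
    exact one_ne_zero hn
  have hnt : Nontrivial (Localization.AtPrime q ⧸ N') := Ideal.Quotient.nontrivial_iff.mpr hN'top
  have hloc : IsLocalRing (Localization.AtPrime q ⧸ N') :=
    IsLocalRing.of_surjective' (Ideal.Quotient.mk N') Ideal.Quotient.mk_surjective
  have h1 : IsLocalization (Algebra.algebraMapSubmonoid (B ⧸ nilradical B) q.primeCompl)
      (Localization.AtPrime q ⧸ N') := inferInstance
  rw [algebraMapSubmonoid_quotient_primeCompl' B hNq] at h1
  have hAt : IsLocalization.AtPrime (Localization.AtPrime q ⧸ N') P := h1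
  let e : Localization.AtPrime P ≃+* (Localization.AtPrime q ⧸ N') :=
    (IsLocalization.algEquiv P.primeCompl (Localization.AtPrime P)
      (Localization.AtPrime q ⧸ N')).toRingEquiv
  have d1 := depth_self_eq_of_ringEquiv e
  have d2 : LocCoh.depth (Localization.AtPrime q ⧸ N') (Localization.AtPrime q ⧸ N') =
      LocCoh.depth (Localization.AtPrime q) (Localization.AtPrime q ⧸ N') :=
    depth_self_eq_depth_of_surjective Ideal.Quotient.mk_surjective
  have k1 := IsLocalization.AtPrime.ringKrullDim_eq_height q (Localization.AtPrime q)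
  have k2 := IsLocalization.AtPrime.ringKrullDim_eq_height P (Localization.AtPrime q ⧸ N')
  have k3 : ringKrullDim (Localization.AtPrime q ⧸ N') = ringKrullDim (Localization.AtPrime q) :=
    ringKrullDim_quotient_of_le_nilradical N' hN'.le
  have hht : P.height = q.height := by
    rw [k2, k1] at k3
    exact_mod_cast k3
  have hS := (hasSk_self_iff 2 (B ⧸ nilradical B)).mp hS2 P
  rw [hht, min_eq_left (by exact_mod_cast hq), d1, d2] at hS
  rw [← hN']
  exact_mod_cast hS

end DepthTransfer

section Global

variable {A : Type u} [CommRing A] [IsArtinianRing A] [IsLocalRing A]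
variable (B : Type u) [CommRing B] [Algebra A B] [IsNoetherianRing B]

theorem goodAt_all (hS1 : LocCoh.HasSk 1 B B)
    (hS2 : LocCoh.HasSk 2 (B ⧸ nilradical B) (B ⧸ nilradical B))
    (hcodim : ∀ (q : Ideal B) [q.IsPrime], q.height ≤ 1 → GoodAt A B q) :
    ∀ (q : Ideal B) [q.IsPrime], GoodAt A B q := by
  have key : ∀ n : ℕ, ∀ (q : Ideal B) [q.IsPrime], q.height ≤ n → GoodAt A B q := by
    intro n
    induction n with
    | zero =>
      intro q _ hq
      exact hcodim q (hq.trans (by norm_num))
    | succ n ih =>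
      intro q _ hq
      by_cases hq1 : q.height ≤ 1
      · exact hcodim q hq1
      have hq1' : (1 : ℕ∞) < q.height := lt_of_not_ge hq1
      have hq2 : (2 : ℕ∞) ≤ q.height := by
        have := Order.add_one_le_of_lt hq1'
        rwa [one_add_one_eq_two] at this
      have h1 : 1 ≤ LocCoh.depth (Localization.AtPrime q) (Localization.AtPrime q) := by
        have := (hasSk_self_iff 1 B).mp hS1 q
        rwa [min_eq_left (by exact_mod_cast hq1'.le)] at this
      have h2 := two_le_depth_quotient_nilradical B hS2 q hq2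
      refine artinFlat_local (Localization.AtPrime q) (by exact_mod_cast h1) h2 ?_
      intro p' _ hp'
      apply GoodAt.of_comap
      apply ih
      have hle : p'.comap (algebraMap B (Localization.AtPrime q)) ≤ q := by
        have := Ideal.comap_mono (f := algebraMap B (Localization.AtPrime q))
          (IsLocalRing.le_maximalIdeal (Ideal.IsPrime.ne_top inferInstance : p' ≠ ⊤))
        rwa [show (maximalIdeal (Localization.AtPrime q)).comap
          (algebraMap B (Localization.AtPrime q)) = q from
          Localization.AtPrime.under_maximalIdeal] at this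
      have hne : p'.comap (algebraMap B (Localization.AtPrime q)) ≠ q := by
        intro h
        exact hp' (Localization.AtPrime.eq_maximalIdeal_iff_under_eq.mp h)
      have hlt := Ideal.height_strict_mono_of_isPrime (lt_of_le_of_ne hle hne)
      have h3 := (Order.add_one_le_of_lt hlt).trans hq
      rw [Nat.cast_add, Nat.cast_one] at h3
      exact (ENat.add_le_add_iff_right ENat.one_ne_top).mp h3
  intro q _
  have hne : q.height ≠ ⊤ := Ideal.height_ne_top_of_isPrime
  obtain ⟨n, hn⟩ := ENat.ne_top_iff_exists.mp hne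
  exact key n q (by rw [← hn])

omit [IsNoetherianRing B] in
/-- In an Artinian local ring the contraction of any prime is the maximal ideal. -/
theorem comap_algebraMap_eq_maximalIdeal (q : Ideal B) [q.IsPrime] :
    q.comap (algebraMap A B) = maximalIdeal A := by
  have hprime : (q.comap (algebraMap A B)).IsPrime := Ideal.IsPrime.comap _
  have hmax : (q.comap (algebraMap A B)).IsMaximal := IsArtinianRing.isMaximal_of_isPrime _
  exact IsLocalRing.eq_maximalIdeal hmax

omit [IsNoetherianRing B] in
theorem goodAt_of_fibLocRing (q : Ideal B) [q.IsPrime]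
    (h : Module.Flat A (Localization.AtPrime q) ∧ IsReduced (EGA4.FibLocRing A B q)) :
    GoodAt A B q := by
  refine ⟨h.1, ?_⟩
  have h2 := h.2
  unfold EGA4.FibLocRing at h2
  rwa [comap_algebraMap_eq_maximalIdeal B q] at h2

/-- **Global flatness criterion**, flatness part. -/
theorem flat_of_hasSk_of_codim_one (hS1 : LocCoh.HasSk 1 B B)
    (hS2 : LocCoh.HasSk 2 (B ⧸ nilradical B) (B ⧸ nilradical B))
    (hcodim : ∀ (q : Ideal B) [q.IsPrime], q.height ≤ 1 →
      Module.Flat A (Localization.AtPrime q) ∧ IsReduced (EGA4.FibLocRing A B q)) :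
    Module.Flat A B := by
  have hall := goodAt_all B hS1 hS2 (fun q _ hq => goodAt_of_fibLocRing B q (hcodim q hq))
  refine Module.flat_of_isLocalized_maximal B B (fun P _ => Localization.AtPrime P)
    (fun P _ => Algebra.linearMap B (Localization.AtPrime P)) fun P hP => ?_
  exact (hall P).1

/-- **Global flatness criterion**, reduced fibre part. -/
theorem isReduced_of_hasSk_of_codim_one (hS1 : LocCoh.HasSk 1 B B)
    (hS2 : LocCoh.HasSk 2 (B ⧸ nilradical B) (B ⧸ nilradical B))
    (hcodim : ∀ (q : Ideal B) [q.IsPrime], q.height ≤ 1 →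
      Module.Flat A (Localization.AtPrime q) ∧ IsReduced (EGA4.FibLocRing A B q)) :
    IsReduced (B ⧸ (maximalIdeal A).map (algebraMap A B)) := by
  have hall := goodAt_all B hS1 hS2 (fun q _ hq => goodAt_of_fibLocRing B q (hcodim q hq))
  have hN : nilradical B = (maximalIdeal A).map (algebraMap A B) := by
    refine le_antisymm ?_ (map_maximalIdeal_le_nilradical B)
    intro b hb
    by_contra hbm
    set K : Ideal B := ((maximalIdeal A).map (algebraMap A B)).colon {b} with hK
    have hKtop : K ≠ ⊤ := by
      intro h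
      have h1 : (1 : B) ∈ K := h ▸ Submodule.mem_top
      rw [hK, Submodule.mem_colon_singleton, one_smul] at h1
      exact hbm h1
    obtain ⟨Q, hQmax, hKQ⟩ := Ideal.exists_le_maximal K hKtop
    have hQprime : Q.IsPrime := hQmax.isPrime
    obtain ⟨s, hs, hsb⟩ := (hall Q).exists_mul_mem_of_mem_nilradical Q b hb
    apply hs
    apply hKQ
    rw [hK, Submodule.mem_colon_singleton]
    exact hsb
  rw [← hN]
  exact (Ideal.isRadical_iff_quotient_reduced _).mp (Ideal.radical_isRadical _)

end Global

end Groth.Agent.Lib.Helper29
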