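import Groth.Agent.Lib.Helper29.QuasiUnmixedHens

/-!
Helper lemmas (helper29): strict formal equidimensionality of quotients by associated primes, and
its transfer along maps like henselizations.
-/

set_option autoImplicit false
universe u

namespace Groth.Agent.Lib.Helper29

open IsLocalRing TensorProduct

section main

variable (A : Type u) [CommRing A] [IsLocalRing A] [IsNoetherianRing A]

/-- If `Â` is strictly equidimensional and `p` is an associated prime of `A`, then `Â/pÂ` is
strictly equidimensional. -/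
theorem isStrictlyEquidim_cplQ_of_mem_associatedPrimes (p : Ideal A) [hp : p.IsPrime]
    (hpA : p ∈ associatedPrimes A A) (hA : EGA4.IsStrictlyEquidim (EGA4.Cpl A)) :
    EGA4.IsStrictlyEquidim (CplQ A p) := by
  have hNC : IsNoetherianRing (EGA4.Cpl A) := isNoetherianRing_cpl A
  let hLC : IsLocalRing (EGA4.Cpl A) := isLocalRing_cpl A
  have hflat : Module.Flat A (EGA4.Cpl A) := (faithfullyFlat_cpl A).toFlat
  -- the injection `A/p → A`
  obtain ⟨-, n, hn⟩ := (isAssociatedPrime_iff (R := A)).mp hpA
  let f : A →ₗ[A] A := LinearMap.toSpanSingleton A A n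
  have hker : p = LinearMap.ker f := by
    ext r
    rw [hn, Submodule.mem_colon_singleton, Submodule.mem_bot, LinearMap.mem_ker,
      LinearMap.toSpanSingleton_apply]
  let g : (A ⧸ p) →ₗ[A] A := Submodule.liftQ p f (le_of_eq hker)
  have hg : Function.Injective g := by
    rw [← LinearMap.ker_eq_bot]
    exact Submodule.ker_liftQ_eq_bot' p f hker
  -- base change to the completion
  let gh : EGA4.Cpl A ⊗[A] (A ⧸ p) →ₗ[EGA4.Cpl A] EGA4.Cpl A ⊗[A] A := g.baseChange (EGA4.Cpl A)
  have hgh : Function.Injective gh :=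
    Module.Flat.lTensor_preserves_injective_linearMap (M := EGA4.Cpl A) g hg
  let j : CplQ A p →ₗ[EGA4.Cpl A] EGA4.Cpl A :=
    ((TensorProduct.AlgebraTensorModule.rid A (EGA4.Cpl A) (EGA4.Cpl A)).toLinearMap.comp gh).comp
      (Algebra.TensorProduct.quotIdealMapEquivTensorQuot (EGA4.Cpl A) p).toLinearMap
  have hj : Function.Injective j :=
    ((TensorProduct.AlgebraTensorModule.rid A (EGA4.Cpl A) (EGA4.Cpl A)).injective.comp hgh).comp
      (Algebra.TensorProduct.quotIdealMapEquivTensorQuot (EGA4.Cpl A) p).injective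
  intro P hP
  obtain ⟨hPprime, c, hc⟩ := (isAssociatedPrime_iff (R := CplQ A p)).mp hP
  set P' : Ideal (EGA4.Cpl A) := P.comap (Ideal.Quotient.mk (p.map (algebraMap A (EGA4.Cpl A))))
    with hP'
  have hP'prime : P'.IsPrime := Ideal.comap_isPrime _ _
  have hP'ass : P' ∈ associatedPrimes (EGA4.Cpl A) (CplQ A p) := by
    refine (isAssociatedPrime_iff (R := EGA4.Cpl A)).mpr ⟨hP'prime, c, ?_⟩
    ext r
    rw [hP', Ideal.mem_comap, hc, Submodule.mem_colon_singleton, Submodule.mem_colon_singleton,
      Submodule.mem_bot, Submodule.mem_bot]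
    rfl
  have hP'assA : P' ∈ associatedPrimes (EGA4.Cpl A) (EGA4.Cpl A) :=
    associatedPrimes.subset_of_injective hj hP'ass
  have h1 : ringKrullDim (EGA4.Cpl A ⧸ P') = ringKrullDim (EGA4.Cpl A) := hA P' hP'assA
  -- `C/P ≃ Â/P'`
  have h2 : ringKrullDim (CplQ A p ⧸ P) = ringKrullDim (EGA4.Cpl A ⧸ P') := by
    let φ : EGA4.Cpl A →+* CplQ A p ⧸ P :=
      (Ideal.Quotient.mk P).comp (Ideal.Quotient.mk (p.map (algebraMap A (EGA4.Cpl A))))
    have hφ : Function.Surjective φ :=
      Ideal.Quotient.mk_surjective.comp Ideal.Quotient.mk_surjective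
    have hkerφ : RingHom.ker φ = P' := by
      ext r
      rw [RingHom.mem_ker, hP', Ideal.mem_comap]
      change Ideal.Quotient.mk P _ = 0 ↔ _
      rw [Ideal.Quotient.eq_zero_iff_mem]
    rw [← hkerφ]
    exact (ringKrullDim_eq_of_ringEquiv (RingHom.quotientKerEquivOfSurjective hφ)).symm
  apply le_antisymm (ringKrullDim_quotient_le P)
  rw [h2, h1]
  exact ringKrullDim_quotient_le _

/-- A minimal prime of a Noetherian ring is an associated prime. -/
theorem mem_associatedPrimes_of_mem_minimalPrimes {B : Type u} [CommRing B] [IsNoetherianRing B]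
    {q : Ideal B} (hq : q ∈ minimalPrimes B) : q ∈ associatedPrimes B B := by
  apply Module.associatedPrimes.minimalPrimes_annihilator_subset_associatedPrimes B B
  have : Module.annihilator B B = ⊥ := by
    rw [Submodule.eq_bot_iff]
    intro x hx
    have := Module.mem_annihilator.mp hx 1
    simpa using this
  rw [this]
  exact hq

/-- If `Â` is strictly equidimensional and `q` is a minimal prime of `A`, the completion of `A/q`
is strictly equidimensional. -/
theorem isStrictlyEquidim_cpl_quotient_of_mem_minimalPrimes (q : Ideal A) [hq : q.IsPrime]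
    (hqA : q ∈ minimalPrimes A) (hA : EGA4.IsStrictlyEquidim (EGA4.Cpl A)) :
    EGA4.IsStrictlyEquidim (EGA4.Cpl (A ⧸ q)) := by
  have h := isStrictlyEquidim_cplQ_of_mem_associatedPrimes A q
    (mem_associatedPrimes_of_mem_minimalPrimes hqA) hA
  have hNC : IsNoetherianRing (EGA4.Cpl (A ⧸ q)) := isNoetherianRing_cpl (A ⧸ q)
  exact isStrictlyEquidim_of_ringEquiv (cplQuotientEquiv A q).symm h

end main

section H

variable (R S : Type u) [CommRing R] [CommRing S] [IsLocalRing R] [IsLocalRing S]
  [IsNoetherianRing R] [IsNoetherianRing S] [Algebra R S] [IsLocalHom (algebraMap R S)]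
  [Module.Flat R S]

omit [IsLocalRing R] [IsLocalRing S] [IsNoetherianRing R] [IsNoetherianRing S]
  [IsLocalHom (algebraMap R S)] [Module.Flat R S] in
/-- With no strict inclusions in fibres, `q/pS` is a minimal prime of `S/pS`, `p = q ∩ R`. -/
theorem map_mk_mem_minimalPrimes_of_inc
    (hinc : ∀ P Q : Ideal S, P.IsPrime → Q.IsPrime → P < Q → P.under R < Q.under R)
    (q : Ideal S) [hqprime : q.IsPrime] :
    q.map (Ideal.Quotient.mk ((q.under R).map (algebraMap R S))) ∈
      minimalPrimes (S ⧸ (q.under R).map (algebraMap R S)) := by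
  have hle : (q.under R).map (algebraMap R S) ≤ q := Ideal.map_comap_le
  have hqbar : (q.map (Ideal.Quotient.mk ((q.under R).map (algebraMap R S)))).IsPrime :=
    Ideal.map_isPrime_of_surjective Ideal.Quotient.mk_surjective (by rw [Ideal.mk_ker]; exact hle)
  have hcm : (q.map (Ideal.Quotient.mk ((q.under R).map (algebraMap R S)))).comap
      (Ideal.Quotient.mk ((q.under R).map (algebraMap R S))) = q := by
    rw [Ideal.comap_map_of_surjective _ Ideal.Quotient.mk_surjective, ← RingHom.ker_eq_comap_bot,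
      Ideal.mk_ker, sup_eq_left.mpr hle]
  refine ⟨⟨hqbar, bot_le⟩, fun 𝔮' h𝔮' hle' => ?_⟩
  have h𝔮'prime : 𝔮'.IsPrime := h𝔮'.1
  have hQ'prime : (𝔮'.comap (Ideal.Quotient.mk ((q.under R).map (algebraMap R S)))).IsPrime :=
    Ideal.comap_isPrime _ _
  have hQ'le : 𝔮'.comap (Ideal.Quotient.mk ((q.under R).map (algebraMap R S))) ≤ q := by
    have := Ideal.comap_mono (f := Ideal.Quotient.mk ((q.under R).map (algebraMap R S))) hle'
    rwa [hcm] at this
  have heq : 𝔮'.comap (Ideal.Quotient.mk ((q.under R).map (algebraMap R S))) = q := by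
    by_contra hne
    have hlt := hinc _ _ hQ'prime hqprime (lt_of_le_of_ne hQ'le hne)
    have hpQ' : q.under R ≤
        (𝔮'.comap (Ideal.Quotient.mk ((q.under R).map (algebraMap R S)))).under R := by
      have h3 : (q.under R).map (algebraMap R S) ≤
          𝔮'.comap (Ideal.Quotient.mk ((q.under R).map (algebraMap R S))) := by
        intro x hx
        rw [Ideal.mem_comap, Ideal.Quotient.eq_zero_iff_mem.mpr hx]
        exact 𝔮'.zero_mem
      exact Ideal.map_le_iff_le_comap.mp h3
    exact absurd hlt (not_lt_of_ge hpQ')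
  have h2 : (𝔮'.comap (Ideal.Quotient.mk ((q.under R).map (algebraMap R S)))).map
      (Ideal.Quotient.mk ((q.under R).map (algebraMap R S))) ≤ 𝔮' :=
    (Ideal.map_comap_of_surjective _ Ideal.Quotient.mk_surjective 𝔮').le
  rw [heq] at h2
  exact h2

/-- Strict analogue of `isFormallyEquidim_quotient_of_inc`. -/
theorem isStrictlyEquidim_cpl_quotient_of_inc
    (hm : (maximalIdeal R).map (algebraMap R S) = maximalIdeal S)
    (hres : ∀ s : S, ∃ r : R, s - algebraMap R S r ∈ maximalIdeal S)
    (hinc : ∀ P Q : Ideal S, P.IsPrime → Q.IsPrime → P < Q → P.under R < Q.under R)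
    (q : Ideal S) [hqprime : q.IsPrime]
    (hq : EGA4.IsStrictlyEquidim (EGA4.Cpl (R ⧸ q.under R))) :
    EGA4.IsStrictlyEquidim (EGA4.Cpl (S ⧸ q)) := by
  have hp : q.under R ≠ ⊤ := Ideal.IsPrime.ne_top inferInstance
  have hlocR : IsLocalRing (R ⧸ q.under R) := isLocalRing_quotient_of_ne_top R (q.under R) hp
  have hlocS : IsLocalRing (S ⧸ (q.under R).map (algebraMap R S)) :=
    isLocalRing_quotient_map_of_ne_top R S (q.under R) hp
  obtain ⟨e⟩ := nonempty_cpl_quotient_map_ringEquiv R S hm hres (q.under R) hp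
  have hN1 : IsNoetherianRing (EGA4.Cpl (R ⧸ q.under R)) := isNoetherianRing_cpl _
  have hN2 : IsNoetherianRing (EGA4.Cpl (S ⧸ (q.under R).map (algebraMap R S))) :=
    isNoetherianRing_cpl _
  have hT : EGA4.IsStrictlyEquidim (EGA4.Cpl (S ⧸ (q.under R).map (algebraMap R S))) :=
    isStrictlyEquidim_of_ringEquiv e hq
  have hle : (q.under R).map (algebraMap R S) ≤ q := Ideal.map_comap_le
  have hmin := map_mk_mem_minimalPrimes_of_inc R S hinc q
  have hqbar : (q.map (Ideal.Quotient.mk ((q.under R).map (algebraMap R S)))).IsPrime :=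
    hmin.1.1
  have h1 := isStrictlyEquidim_cpl_quotient_of_mem_minimalPrimes
    (S ⧸ (q.under R).map (algebraMap R S))
    (q.map (Ideal.Quotient.mk ((q.under R).map (algebraMap R S)))) hmin hT
  have hN3 : IsNoetherianRing (EGA4.Cpl ((S ⧸ (q.under R).map (algebraMap R S)) ⧸
      q.map (Ideal.Quotient.mk ((q.under R).map (algebraMap R S))))) := isNoetherianRing_cpl _
  have hN4 : IsNoetherianRing (EGA4.Cpl (S ⧸ q)) := isNoetherianRing_cpl _
  exact isStrictlyEquidim_of_ringEquiv (cplCongr (DoubleQuot.quotQuotEquivQuotOfLE hle)) h1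

end H

end Groth.Agent.Lib.Helper29
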