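import Groth.Agent.Lib.Helper29.DepthRees
import Groth.Agent.Lib.Helper29.DepthFinite
import Groth.Agent.Lib.Helper29.SerreNormal
import Groth.Agent.Lib.Helper29.FlatAscent
import Groth.Agent.Lib.Helper29.StrictEquidimHens
import Groth.Agent.Lib.Helper29.GoingDownMin
import Groth.Agent.Lib.Helper29.CMLocusOpen
import Groth.Agent.Lib.Helper48.CompleteLocalNagata
import Groth.Agent.Lib.Helper55.KrullDimIntegral
import Groth.Agent.Lib.Helper61.GU12
import Groth.Agent.Lib.Helper61.RadBir1
import Groth.Agent.Lib.Helper73.CplMap
import Groth.Agent.Lib.Helper93.DepthFlat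
import Groth.Agent.Lib.Helper29.EquidimCatenary
import Groth.Agent.Lib.Helper44.AdicQuot

/-!
Helper lemmas (helper29): for a flat local homomorphism from a complete local domain `D` of
dimension `≥ 2`, every irreducible component of the target has dimension `≥ 2`.
-/

set_option autoImplicit false
universe u

namespace Groth.Agent.Lib.Helper29

open IsLocalRing TensorProduct

/-- A complete Noetherian local ring is Henselian. -/
theorem henselianLocalRing_of_isAdicComplete (D : Type u) [CommRing D] [IsLocalRing D]
    [IsAdicComplete (maximalIdeal D) D] : HenselianLocalRing D := by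
  have hH : HenselianRing D (maximalIdeal D) := inferInstance
  exact { is_henselian := fun f hf a₀ h₁ h₂ => hH.is_henselian f hf a₀ h₁ (h₂.map _) }

section Domain

variable (D : Type u) [CommRing D] [IsDomain D] [IsNoetherianRing D] [IsLocalRing D]
  [IsAdicComplete (maximalIdeal D) D]

/-- The normalization of a complete local domain of dimension `≥ 2` has depth `≥ 2` as a module
over the domain. -/
theorem two_le_depth_integralClosure (hD : (2 : WithBot ℕ∞) ≤ ringKrullDim D) :
    Module.Finite D (integralClosure D (FractionRing D)) ∧
      (2 : ℕ∞) ≤ LocCoh.depth D (integralClosure D (FractionRing D)) := by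
  have hN2 := Groth.Agent.Lib.Helper48.isN2_of_complete_local_domain D
  have hfin : Module.Finite D (integralClosure D (FractionRing D)) :=
    hN2 (FractionRing D) inferInstance
  have hNoeth' : IsNoetherianRing (integralClosure D (FractionRing D)) :=
    IsNoetherianRing.of_finite D _
  have hicl : IsIntegrallyClosed (integralClosure D (FractionRing D)) :=
    integralClosure.isIntegrallyClosedOfFiniteExtension (FractionRing D)
  have hHens : HenselianLocalRing D := henselianLocalRing_of_isAdicComplete D
  have hloc' : IsLocalRing (integralClosure D (FractionRing D)) :=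
    Groth.Agent.Lib.Helper61.GU.isLocalRing_of_isIntegral_of_henselian D _
  have hinj : Function.Injective (algebraMap D (integralClosure D (FractionRing D))) := by
    intro a b hab
    have := congrArg (fun z : integralClosure D (FractionRing D) => (z : FractionRing D)) hab
    exact IsFractionRing.injective D (FractionRing D) this
  have hcm := Groth.Agent.Lib.Helper61.RadBir.comap_maximalIdeal_eq
    (algebraMap D (integralClosure D (FractionRing D)))
    (algebraMap_isIntegral_iff.mpr inferInstance)
  have hlh : IsLocalHom (algebraMap D (integralClosure D (FractionRing D))) :=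
    ((IsLocalRing.local_hom_TFAE (algebraMap D (integralClosure D (FractionRing D)))).out 0 4).mpr
      hcm
  have hdim' : ringKrullDim (integralClosure D (FractionRing D)) = ringKrullDim D :=
    Groth.Agent.Lib.Helper55.ringKrullDim_eq_of_isIntegral_of_injective D _ hinj
  have hS2 := hasSk_two_of_isNormalRing (integralClosure D (FractionRing D))
    (isNormalRing_of_isIntegrallyClosed _)
  have h1 := min_le_depth_of_hasSk (integralClosure D (FractionRing D)) 2 hS2
  have h2 : (2 : ℕ∞) ≤ (maximalIdeal (integralClosure D (FractionRing D))).height := by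
    have h3 := IsLocalRing.maximalIdeal_height_eq_ringKrullDim
      (R := integralClosure D (FractionRing D))
    rw [hdim'] at h3
    rw [← h3] at hD
    have h4 : ((2 : ℕ∞) : WithBot ℕ∞) ≤
        ((maximalIdeal (integralClosure D (FractionRing D))).height : WithBot ℕ∞) := hD
    exact WithBot.coe_le_coe.mp h4
  refine ⟨hfin, ?_⟩
  rw [depth_eq_of_finite D (integralClosure D (FractionRing D))
    (integralClosure D (FractionRing D))]
  rw [min_eq_left (by exact_mod_cast h2)] at h1
  exact_mod_cast h1

variable (T : Type u) [CommRing T] [IsNoetherianRing T] [IsLocalRing T] [Algebra D T]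
  [IsLocalHom (algebraMap D T)] [Module.Flat D T]

/-- For a flat local homomorphism from a complete local domain of dimension `≥ 2`, every
irreducible component of the target has dimension `≥ 2`. -/
theorem two_le_ringKrullDim_quotient_of_mem_minimalPrimes_of_flat
    (hD : (2 : WithBot ℕ∞) ≤ ringKrullDim D) (Q : Ideal T) (hQ : Q ∈ minimalPrimes T) :
    (2 : WithBot ℕ∞) ≤ ringKrullDim (T ⧸ Q) := by
  obtain ⟨hfin, hdepth⟩ := two_le_depth_integralClosure D hD
  have hinj : Function.Injective (algebraMap D (integralClosure D (FractionRing D))) := by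
    intro a b hab
    have := congrArg (fun z : integralClosure D (FractionRing D) => (z : FractionRing D)) hab
    exact IsFractionRing.injective D (FractionRing D) this
  have h1 := Groth.Agent.Lib.Helper93.DepthFlat.depth_tensor_of_flat (R := D) (S := T)
    (integralClosure D (FractionRing D)) T
  have h2 : (2 : ℕ∞) ≤ LocCoh.depth T (T ⊗[D] integralClosure D (FractionRing D)) := by
    rw [h1]
    exact hdepth.trans le_self_add
  have hass : Q ∈ associatedPrimes T (T ⊗[D] integralClosure D (FractionRing D)) := by
    have h3 : Q ∈ associatedPrimes T T := mem_associatedPrimes_of_mem_minimalPrimes hQ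
    have h4 : Function.Injective ((Algebra.TensorProduct.includeLeft :
        T →ₐ[T] T ⊗[D] integralClosure D (FractionRing D)).toLinearMap) :=
      Algebra.TensorProduct.includeLeft_injective (S := T) hinj
    exact associatedPrimes.subset_of_injective h4 h3
  have h5 := depth_le_ringKrullDim_quotient_of_mem_associatedPrimes T
    (T ⊗[D] integralClosure D (FractionRing D)) Q hass
  refine le_trans ?_ h5
  have h6 : ((2 : ℕ∞) : WithBot ℕ∞) ≤
      ((LocCoh.depth T (T ⊗[D] integralClosure D (FractionRing D)) : ℕ∞) : WithBot ℕ∞) :=
    WithBot.coe_le_coe.mpr h2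
  exact h6

end Domain

section General

variable (R S : Type u) [CommRing R] [CommRing S] [IsLocalRing R] [IsLocalRing S]
  [IsNoetherianRing R] [IsNoetherianRing S] [Algebra R S] [IsLocalHom (algebraMap R S)]
  [Module.Flat R S] [IsAdicComplete (maximalIdeal R) R]

/-- A quotient of a complete Noetherian local ring by a proper ideal is complete. -/
theorem isAdicComplete_quotient_of_isAdicComplete (R : Type u) [CommRing R] [IsLocalRing R]
    [IsNoetherianRing R] [IsAdicComplete (maximalIdeal R) R] (p : Ideal R)
    [IsLocalRing (R ⧸ p)] : IsAdicComplete (maximalIdeal (R ⧸ p)) (R ⧸ p) := by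
  have hmax : (maximalIdeal R).map (algebraMap R (R ⧸ p)) = maximalIdeal (R ⧸ p) :=
    IsLocalRing.map_maximalIdeal_of_surjective (Ideal.Quotient.mk p) Ideal.Quotient.mk_surjective
  exact hmax ▸ Groth.Agent.Lib.Helper44.isAdicComplete_quotient_ring (maximalIdeal R) p

/-- For a flat local homomorphism `R → S` with `R` complete: if every irreducible component of
`Spec R` has dimension `≥ 2` then so does every irreducible component of `Spec S`. -/
theorem two_le_ringKrullDim_quotient_of_mem_minimalPrimes_of_flat_of_complete
    (hR : ∀ P ∈ minimalPrimes R, (2 : WithBot ℕ∞) ≤ ringKrullDim (R ⧸ P))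
    (Q : Ideal S) (hQ : Q ∈ minimalPrimes S) : (2 : WithBot ℕ∞) ≤ ringKrullDim (S ⧸ Q) := by
  obtain ⟨hPmin, hQmin⟩ := comap_mem_minimalPrimes_of_mem_minimalPrimes (A := R) hQ
  have hPprime : (Q.comap (algebraMap R S)).IsPrime := hPmin.1.1
  have hP : Q.comap (algebraMap R S) ≠ ⊤ := hPprime.ne_top
  have hlocD := isLocalRing_quotient_of_ne_top R (Q.comap (algebraMap R S)) hP
  have hlocT := isLocalRing_quotient_map_of_ne_top R S (Q.comap (algebraMap R S)) hP
  have hflat := flat_quotient_map R S (Q.comap (algebraMap R S))
  have hlh := isLocalHom_quotient_map R S (Q.comap (algebraMap R S))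
  have hcompl := isAdicComplete_quotient_of_isAdicComplete R (Q.comap (algebraMap R S))
  rw [Ideal.minimalPrimes_eq_comap] at hQmin
  obtain ⟨Q', hQ', hQQ'⟩ := hQmin
  have key := two_le_ringKrullDim_quotient_of_mem_minimalPrimes_of_flat
    (R ⧸ Q.comap (algebraMap R S)) (S ⧸ (Q.comap (algebraMap R S)).map (algebraMap R S))
    (hR _ hPmin) Q' hQ'
  rw [ringKrullDim_quotient_quotient, hQQ'] at key
  exact key

end General

end Groth.Agent.Lib.Helper29
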