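import Groth.Agent.Lib.Helper29.Ratliff
import Groth.Agent.Lib.Helper29.FlatComponentDim
import Groth.Agent.Lib.Helper29.FormallyEquidim
import Groth.Agent.Lib.Helper73.CplMap
import Groth.Agent.S1964
import Groth.Agent.Lib.Helper55.KrullDimIntegral
import Mathlib.Algebra.Polynomial.Lifts

/-!
Helper lemmas (helper29): irreducible components of dimension `≤ 1` of a Noetherian local ring, of
its (strict) henselization and of its completion (the condition `c_2`).
-/

set_option autoImplicit false
set_option linter.unusedSectionVars false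
set_option linter.overlappingInstances false
universe u

namespace Groth.Agent.Lib.Helper29

open IsLocalRing


open Polynomial in
/-- A local quotient of a henselian local ring is henselian (as in `S13598`, helper-team lemma). -/
theorem henselianLocalRing_quotient' {S : Type*} [CommRing S] [HenselianLocalRing S] (J : Ideal S)
    [IsLocalRing (S ⧸ J)] : HenselianLocalRing (S ⧸ J) := by
  refine { toIsLocalRing := ‹IsLocalRing (S ⧸ J)›, is_henselian := ?_ }
  intro fb hfb b₀ h₁ h₂
  obtain ⟨f, hfmap, -, hf⟩ := lifts_and_natDegree_eq_and_monic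
    ((mem_lifts _).mpr (map_surjective _ Ideal.Quotient.mk_surjective fb)) hfb
  obtain ⟨a₀, rfl⟩ := Ideal.Quotient.mk_surjective b₀
  subst hfmap
  have hloc : IsLocalHom (Ideal.Quotient.mk J) :=
    IsLocalHom.of_surjective _ Ideal.Quotient.mk_surjective
  have e1 : ∀ a, (f.map (Ideal.Quotient.mk J)).eval (Ideal.Quotient.mk J a) =
      Ideal.Quotient.mk J (f.eval a) := fun a => by
    rw [eval_map, eval₂_at_apply]
  have e2 : (f.map (Ideal.Quotient.mk J)).derivative.eval (Ideal.Quotient.mk J a₀) =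
      Ideal.Quotient.mk J (f.derivative.eval a₀) := by
    rw [derivative_map, eval_map, eval₂_at_apply]
  rw [e1] at h₁
  rw [e2] at h₂
  have h₁' : f.eval a₀ ∈ IsLocalRing.maximalIdeal S := by
    rw [← IsLocalRing.maximalIdeal_comap (Ideal.Quotient.mk J)]
    exact h₁
  have h₂' : IsUnit (f.derivative.eval a₀) := (isUnit_map_iff (Ideal.Quotient.mk J) _).mp h₂
  obtain ⟨a, ha, haa⟩ := HenselianLocalRing.is_henselian f hf a₀ h₁' h₂'
  refine ⟨Ideal.Quotient.mk J a, ?_, ?_⟩
  · rw [IsRoot, e1, ha, map_zero]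
  · rw [← map_sub]
    exact _root_.map_nonunit (Ideal.Quotient.mk J) _ haa



/-- `R` has an irreducible component of dimension `d`. -/
def HasCompDim (R : Type*) [CommRing R] (d : ℕ) : Prop :=
  ∃ P ∈ minimalPrimes R, ringKrullDim (R ⧸ P) = ((d : ℕ) : WithBot ℕ∞)

section Basic

variable (R : Type u) [CommRing R] [IsNoetherianRing R] [IsLocalRing R]

theorem exists_nat_ringKrullDim_quotient_eq_of_ne_top (P : Ideal R) (hP : P ≠ ⊤) :
    ∃ n : ℕ, ringKrullDim (R ⧸ P) = ((n : ℕ) : WithBot ℕ∞) := by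
  have := isLocalRing_quotient_of_ne_top R P hP
  exact exists_nat_ringKrullDim_eq (R ⧸ P)

theorem hasCompDim_zero_iff : HasCompDim R 0 ↔ ringKrullDim R = 0 := by
  constructor
  · rintro ⟨P, hP, hdim⟩
    have hPprime : P.IsPrime := hP.1.1
    have hPmax : P = maximalIdeal R := by
      by_contra hne
      have hlt : P < maximalIdeal R :=
        lt_of_le_of_ne (IsLocalRing.le_maximalIdeal hPprime.ne_top) hne
      have h1 := ringKrullDim_quotient_lt_of_lt R
        (p := ⟨P, hPprime⟩) (q := ⟨maximalIdeal _, inferInstance⟩) hlt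
      simp only at h1
      rw [hdim] at h1
      have h2 : (0 : WithBot ℕ∞) ≤ ringKrullDim (R ⧸ maximalIdeal R) :=
        ringKrullDim_nonneg_of_nontrivial
      exact absurd h1 (not_lt.mpr (by exact_mod_cast h2))
    have h3 : (maximalIdeal R).height = 0 := by
      rw [Ideal.height_eq_zero_iff, ← hPmax]; exact hP
    have h4 := IsLocalRing.maximalIdeal_height_eq_ringKrullDim (R := R)
    rw [h3] at h4
    exact_mod_cast h4.symm
  · intro h0
    obtain ⟨P, hP⟩ := Ideal.nonempty_minimalPrimes (I := (⊥ : Ideal R)) bot_ne_top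
    have hPprime : P.IsPrime := hP.1.1
    refine ⟨P, hP, le_antisymm ?_ ?_⟩
    · have := ringKrullDim_quotient_le P
      rw [h0] at this
      exact_mod_cast this
    · exact_mod_cast (ringKrullDim_nonneg_of_nontrivial : (0 : WithBot ℕ∞) ≤ ringKrullDim (R ⧸ P))

theorem two_le_iff_not_hasCompDim :
    (∀ P ∈ minimalPrimes R, (2 : WithBot ℕ∞) ≤ ringKrullDim (R ⧸ P)) ↔
      ¬ HasCompDim R 0 ∧ ¬ HasCompDim R 1 := by
  constructor
  · intro h
    refine ⟨?_, ?_⟩
    · rintro ⟨P, hP, hdim⟩
      have := h P hP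
      rw [hdim] at this
      have : (2 : ℕ) ≤ 0 := by exact_mod_cast this
      omega
    · rintro ⟨P, hP, hdim⟩
      have := h P hP
      rw [hdim] at this
      have : (2 : ℕ) ≤ 1 := by exact_mod_cast this
      omega
  · rintro ⟨h0, h1⟩ P hP
    obtain ⟨n, hn⟩ := exists_nat_ringKrullDim_quotient_eq_of_ne_top R P hP.1.1.ne_top
    rw [hn]
    have hn0 : n ≠ 0 := fun h => h0 ⟨P, hP, by rw [hn, h]⟩
    have hn1 : n ≠ 1 := fun h => h1 ⟨P, hP, by rw [hn, h]⟩
    have : 2 ≤ n := by omega
    exact_mod_cast this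

end Basic

section Flat

variable (A B : Type u) [CommRing A] [CommRing B] [IsLocalRing A] [IsLocalRing B]
  [IsNoetherianRing A] [IsNoetherianRing B] [Algebra A B] [IsLocalHom (algebraMap A B)]
  [Module.Flat A B] (h0 : ringKrullDim (EGA4.FibRing A B) = 0)

include h0

theorem ringKrullDim_eq_of_flat_of_fibRing_zero : ringKrullDim B = ringKrullDim A := by
  have h := ringKrullDim_eq_add_of_flat A B
  change _ = ringKrullDim A + ringKrullDim (EGA4.FibRing A B) at h
  rw [h, h0, add_zero]

theorem ringKrullDim_quotient_map_eq_of_fibRing_zero (a : Ideal A) (ha : a ≠ ⊤) :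
    ringKrullDim (B ⧸ a.map (algebraMap A B)) = ringKrullDim (A ⧸ a) := by
  rw [ringKrullDim_quotient_map_eq_add A B a ha, h0, add_zero]

/-- Going up along a flat local homomorphism with zero-dimensional closed fibre: a component of
dimension `d ≤ 1` of `A` gives one of `B`. -/
theorem HasCompDim.of_flat {d : ℕ} (hd : d ≤ 1) (h : HasCompDim A d) : HasCompDim B d := by
  have hdimB := ringKrullDim_eq_of_flat_of_fibRing_zero A B h0
  rcases Nat.le_one_iff_eq_zero_or_eq_one.mp hd with rfl | rfl
  · rw [hasCompDim_zero_iff] at h ⊢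
    rw [hdimB, h]
  · obtain ⟨p, hp, hdim⟩ := h
    have hpprime : p.IsPrime := hp.1.1
    have hne : p.map (algebraMap A B) ≠ ⊤ := map_ne_top_of_isLocalHom A B p hpprime.ne_top
    obtain ⟨P, hP⟩ := Ideal.nonempty_minimalPrimes hne
    obtain ⟨hPmin, -⟩ := mem_minimalPrimes_of_mem_minimalPrimes_map hp hP
    have hPprime : P.IsPrime := hP.1.1
    obtain ⟨n, hn⟩ := exists_nat_ringKrullDim_quotient_eq_of_ne_top B P hPprime.ne_top
    have h1 : ringKrullDim (B ⧸ P) ≤ ringKrullDim (B ⧸ p.map (algebraMap A B)) :=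
      ringKrullDim_le_of_surjective (Ideal.Quotient.factor hP.1.2)
        (Ideal.Quotient.factor_surjective hP.1.2)
    rw [ringKrullDim_quotient_map_eq_of_fibRing_zero A B h0 p hpprime.ne_top, hdim, hn] at h1
    have hn1 : n ≤ 1 := by exact_mod_cast h1
    have hn0 : n ≠ 0 := by
      intro hn0
      have h2 : HasCompDim B 0 := ⟨P, hPmin, by rw [hn, hn0]⟩
      rw [hasCompDim_zero_iff, hdimB] at h2
      have h3 := ringKrullDim_quotient_le p
      rw [hdim, h2] at h3
      have : (1 : ℕ) ≤ 0 := by exact_mod_cast h3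
      omega
    exact ⟨P, hPmin, by rw [hn]; congr 1; omega⟩

/-- Descent along a flat local homomorphism with zero-dimensional closed fibre from a complete
ring: a component of dimension `d ≤ 1` of `B` comes from one of `A`. -/
theorem HasCompDim.of_flat_of_complete [IsAdicComplete (maximalIdeal A) A] {d : ℕ} (hd : d ≤ 1)
    (h : HasCompDim B d) : HasCompDim A d := by
  have hdimB := ringKrullDim_eq_of_flat_of_fibRing_zero A B h0
  rcases Nat.le_one_iff_eq_zero_or_eq_one.mp hd with rfl | rfl
  · rw [hasCompDim_zero_iff] at h ⊢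
    rw [← hdimB, h]
  · obtain ⟨P, hP, hdim⟩ := h
    obtain ⟨hpmin, hPmin⟩ := comap_mem_minimalPrimes_of_mem_minimalPrimes (A := A) hP
    set p : Ideal A := P.comap (algebraMap A B) with hpdef
    have hpprime : p.IsPrime := hpmin.1.1
    have hp : p ≠ ⊤ := hpprime.ne_top
    have hlocD := isLocalRing_quotient_of_ne_top A p hp
    have hlocT := isLocalRing_quotient_map_of_ne_top A B p hp
    have hflat := flat_quotient_map A B p
    have hlh := isLocalHom_quotient_map A B p
    have hcompl := isAdicComplete_quotient_of_isAdicComplete A p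
    obtain ⟨n, hn⟩ := exists_nat_ringKrullDim_quotient_eq_of_ne_top A p hp
    have h1 : ringKrullDim (B ⧸ P) ≤ ringKrullDim (B ⧸ p.map (algebraMap A B)) :=
      ringKrullDim_le_of_surjective (Ideal.Quotient.factor hPmin.1.2)
        (Ideal.Quotient.factor_surjective hPmin.1.2)
    rw [ringKrullDim_quotient_map_eq_of_fibRing_zero A B h0 p hp, hdim, hn] at h1
    have hn1 : 1 ≤ n := by exact_mod_cast h1
    have hn2 : ¬ 2 ≤ n := by
      intro h2
      have hD : (2 : WithBot ℕ∞) ≤ ringKrullDim (A ⧸ p) := by rw [hn]; exact_mod_cast h2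
      have hPmin' := hPmin
      rw [Ideal.minimalPrimes_eq_comap] at hPmin'
      obtain ⟨Q', hQ', hQQ'⟩ := hPmin'
      have key := two_le_ringKrullDim_quotient_of_mem_minimalPrimes_of_flat
        (A ⧸ p) (B ⧸ p.map (algebraMap A B)) hD Q' hQ'
      rw [ringKrullDim_quotient_quotient, hQQ', hdim] at key
      have : (2 : ℕ) ≤ 1 := by exact_mod_cast key
      omega
    exact ⟨p, hpmin, by rw [hn]; congr 1; omega⟩

end Flat



section DepthOne

variable (D : Type u) [CommRing D] [IsDomain D] [IsNoetherianRing D] [IsLocalRing D]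

/-- A one-dimensional component of the completion of a Noetherian local domain `D` produces a
finite birational extension of `D` with a maximal ideal of height at most one. -/
theorem exists_finite_subalgebra_maximal_height_le_one_of_dim_one
    (Q : Ideal (EGA4.Cpl D)) (hQ : Q ∈ minimalPrimes (EGA4.Cpl D))
    (hdim : ringKrullDim (EGA4.Cpl D ⧸ Q) = 1) :
    ∃ B : Subalgebra D (FractionRing D), Module.Finite D B ∧
      ∃ n : Ideal B, n.IsMaximal ∧ n.height ≤ 1 := by
  have hLC : IsLocalRing (EGA4.Cpl D) := isLocalRing_cpl D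
  have hNC : IsNoetherianRing (EGA4.Cpl D) := isNoetherianRing_cpl D
  have hQprime : Q.IsPrime := hQ.1.1
  have hdimeq : ringKrullDim (EGA4.Cpl D) = ringKrullDim D :=
    (ringKrullDim_adicCompletion_eq_and_isRegularLocalRing_iff D (maximalIdeal D)
      (Ideal.IsPrime.ne_top inferInstance)).1
  have hfield : ¬ IsField D := by
    intro hf
    have h0 : ringKrullDim D = 0 := ringKrullDim_eq_zero_of_isField hf
    have h1 := ringKrullDim_quotient_le Q
    rw [hdim, hdimeq, h0] at h1
    have : (1 : ℕ) ≤ 0 := by exact_mod_cast h1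
    omega
  obtain ⟨a₀, ha₀, ha₀'⟩ : ∃ a₀ ∈ maximalIdeal D, a₀ ≠ 0 := by
    by_contra hcon
    push Not at hcon
    apply hfield
    rw [IsLocalRing.isField_iff_maximalIdeal_eq]
    exact (Submodule.eq_bot_iff _).mpr hcon
  have hq2 : ∀ P : Ideal (EGA4.Cpl D), P.IsPrime → Q < P → P.IsMaximal := by
    intro P hP hQP
    have h1 := ringKrullDim_quotient_lt_of_lt (EGA4.Cpl D)
      (p := ⟨Q, hQprime⟩) (q := ⟨P, hP⟩) hQP
    simp only at h1
    rw [hdim] at h1
    have hPmax : P = maximalIdeal (EGA4.Cpl D) := by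
      by_contra hne
      have hlt : P < maximalIdeal (EGA4.Cpl D) :=
        lt_of_le_of_ne (IsLocalRing.le_maximalIdeal hP.ne_top) hne
      have h2 := ringKrullDim_quotient_lt_of_lt (EGA4.Cpl D)
        (p := ⟨P, hP⟩) (q := ⟨maximalIdeal _, inferInstance⟩) hlt
      simp only at h2
      have h3 : (0 : WithBot ℕ∞) ≤ ringKrullDim (EGA4.Cpl D ⧸ maximalIdeal (EGA4.Cpl D)) :=
        ringKrullDim_nonneg_of_nontrivial
      obtain ⟨k, hk⟩ := exists_nat_ringKrullDim_eq (EGA4.Cpl D ⧸ P)
      rw [hk] at h1 h2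
      have h1' : k < 1 := by exact_mod_cast h1
      have h4 := lt_of_le_of_lt h3 h2
      have h2' : 0 < k := by exact_mod_cast h4
      omega
    rw [hPmax]; exact maximalIdeal.isMaximal _
  exact exists_finite_subalgebra_maximal_height_le_one D a₀ ha₀ ha₀' Q hQ hq2

/-- For a henselian Noetherian local domain, a one-dimensional component of the completion forces
dimension one. -/
theorem ringKrullDim_eq_one_of_henselian_of_cpl_comp [HenselianLocalRing D]
    (Q : Ideal (EGA4.Cpl D)) (hQ : Q ∈ minimalPrimes (EGA4.Cpl D))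
    (hdim : ringKrullDim (EGA4.Cpl D ⧸ Q) = 1) : ringKrullDim D = 1 := by
  have hdimeq : ringKrullDim (EGA4.Cpl D) = ringKrullDim D :=
    (ringKrullDim_adicCompletion_eq_and_isRegularLocalRing_iff D (maximalIdeal D)
      (Ideal.IsPrime.ne_top inferInstance)).1
  obtain ⟨B, hfin, n, hn, hht⟩ :=
    exists_finite_subalgebra_maximal_height_le_one_of_dim_one D Q hQ hdim
  have hint : Algebra.IsIntegral D B := Algebra.IsIntegral.of_finite D B
  obtain ⟨hH, -, -⟩ := Groth.Agent.S1964.result D B
  have hinj : Function.Injective (algebraMap D B) := by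
    intro x y hxy
    have h2 : algebraMap D (FractionRing D) x = algebraMap D (FractionRing D) y :=
      congrArg Subtype.val hxy
    exact IsFractionRing.injective D (FractionRing D) h2
  have h1 : ringKrullDim B = ringKrullDim D :=
    Groth.Agent.Lib.Helper55.ringKrullDim_eq_of_isIntegral_of_injective D B hinj
  have h2 : n = maximalIdeal B := IsLocalRing.eq_maximalIdeal hn
  have h3 := IsLocalRing.maximalIdeal_height_eq_ringKrullDim (R := B)
  rw [← h2, h1] at h3
  apply le_antisymm
  · rw [← h3]; exact_mod_cast hht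
  · have h4 := ringKrullDim_quotient_le Q
    rw [hdim, hdimeq] at h4
    exact h4

end DepthOne


section Cpl

variable (R : Type u) [CommRing R] [IsNoetherianRing R] [IsLocalRing R]

/-- A component of dimension `d ≤ 1` of `R` gives one of `R̂`. -/
theorem HasCompDim.cpl {d : ℕ} (hd : d ≤ 1) (h : HasCompDim R d) : HasCompDim (EGA4.Cpl R) d := by
  have hLC : IsLocalRing (EGA4.Cpl R) := isLocalRing_cpl R
  have hNC : IsNoetherianRing (EGA4.Cpl R) := isNoetherianRing_cpl R
  have hflat : Module.Flat R (EGA4.Cpl R) := (faithfullyFlat_cpl R).toFlat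
  have hlh : IsLocalHom (algebraMap R (EGA4.Cpl R)) :=
    isLocalHom_algebraMap_adicCompletion R (maximalIdeal R) (Ideal.IsPrime.ne_top inferInstance)
  exact HasCompDim.of_flat R (EGA4.Cpl R) (ringKrullDim_fibRing_cpl R) hd h

/-- For a henselian Noetherian local ring, a component of dimension `d ≤ 1` of `R̂` comes from one
of `R`. -/
theorem HasCompDim.of_cpl_of_henselian (hH : HenselianLocalRing R) {d : ℕ} (hd : d ≤ 1)
    (h : HasCompDim (EGA4.Cpl R) d) : HasCompDim R d := by
  have hLC : IsLocalRing (EGA4.Cpl R) := isLocalRing_cpl R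
  have hNC : IsNoetherianRing (EGA4.Cpl R) := isNoetherianRing_cpl R
  have hflat : Module.Flat R (EGA4.Cpl R) := (faithfullyFlat_cpl R).toFlat
  have hdimeq : ringKrullDim (EGA4.Cpl R) = ringKrullDim R :=
    (ringKrullDim_adicCompletion_eq_and_isRegularLocalRing_iff R (maximalIdeal R)
      (Ideal.IsPrime.ne_top inferInstance)).1
  rcases Nat.le_one_iff_eq_zero_or_eq_one.mp hd with rfl | rfl
  · rw [hasCompDim_zero_iff] at h ⊢
    rw [← hdimeq, h]
  · obtain ⟨Q, hQ, hdim⟩ := h
    obtain ⟨hqmin, hQq⟩ := comap_mem_minimalPrimes_of_mem_minimalPrimes (A := R) hQ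
    set q : Ideal R := Q.comap (algebraMap R (EGA4.Cpl R)) with hqdef
    have hqprime : q.IsPrime := hqmin.1.1
    obtain ⟨Q₁, hQ₁, hdimQ₁⟩ := exists_minimalPrimes_cpl_quotient R q Q hQq
    rw [hdim] at hdimQ₁
    have hHq : HenselianLocalRing (R ⧸ q) := henselianLocalRing_quotient' q
    have h1 := ringKrullDim_eq_one_of_henselian_of_cpl_comp (R ⧸ q) Q₁ hQ₁
      (by rw [hdimQ₁]; rfl)
    exact ⟨q, hqmin, by rw [h1]; rfl⟩

end Cpl

section FlatCpl

variable (A B : Type u) [CommRing A] [CommRing B] [IsLocalRing A] [IsLocalRing B]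
  [IsNoetherianRing A] [IsNoetherianRing B] [Algebra A B] [IsLocalHom (algebraMap A B)]
  [Module.Flat A B] (hmax : (maximalIdeal A).map (algebraMap A B) = maximalIdeal B)

include hmax

/-- For a flat local homomorphism `A → B` with `𝔪_A B = 𝔪_B`, the completions `Â` and `B̂` have
components of dimension `d ≤ 1` simultaneously. -/
theorem hasCompDim_cpl_iff_of_flat {d : ℕ} (hd : d ≤ 1) :
    HasCompDim (EGA4.Cpl A) d ↔ HasCompDim (EGA4.Cpl B) d := by
  let _ : Algebra (EGA4.Cpl A) (EGA4.Cpl B) := Groth.Agent.Lib.Helper73.CplMap.cplAlgebra A B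
  have hNA : IsNoetherianRing (EGA4.Cpl A) := isNoetherianRing_cpl A
  have hNB : IsNoetherianRing (EGA4.Cpl B) := isNoetherianRing_cpl B
  have hLA : IsLocalRing (EGA4.Cpl A) := isLocalRing_cpl A
  have hLB : IsLocalRing (EGA4.Cpl B) := isLocalRing_cpl B
  have hfl : Module.Flat (EGA4.Cpl A) (EGA4.Cpl B) := Groth.Agent.Lib.Helper73.CplMap.flat_cpl A B
  have hlh : IsLocalHom (algebraMap (EGA4.Cpl A) (EGA4.Cpl B)) :=
    Groth.Agent.Lib.Helper73.CplMap.isLocalHom_cplMap A B
  have hcompl : IsAdicComplete (maximalIdeal (EGA4.Cpl A)) (EGA4.Cpl A) := isAdicComplete_cpl A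
  have hmaxA := maximalIdeal_adicCompletion_eq_map A (maximalIdeal A)
    (Ideal.IsPrime.ne_top inferInstance)
  have hmaxB := maximalIdeal_adicCompletion_eq_map B (maximalIdeal B)
    (Ideal.IsPrime.ne_top inferInstance)
  have hmap : (maximalIdeal (EGA4.Cpl A)).map (algebraMap (EGA4.Cpl A) (EGA4.Cpl B)) =
      maximalIdeal (EGA4.Cpl B) := by
    rw [hmaxA, Ideal.map_map]
    change Ideal.map ((Groth.Agent.Lib.Helper73.CplMap.cplMap A B).comp
      (algebraMap A (EGA4.Cpl A))) (maximalIdeal A) = _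
    rw [Groth.Agent.Lib.Helper73.CplMap.cplMap_comp, ← Ideal.map_map, hmax, hmaxB]
  have h0 : ringKrullDim (EGA4.FibRing (EGA4.Cpl A) (EGA4.Cpl B)) = 0 := by
    change ringKrullDim (EGA4.Cpl B ⧸
      (maximalIdeal (EGA4.Cpl A)).map (algebraMap (EGA4.Cpl A) (EGA4.Cpl B))) = 0
    rw [hmap]
    exact ringKrullDim_eq_zero_of_isField
      ((Ideal.Quotient.maximal_ideal_iff_isField_quotient _).mp (maximalIdeal.isMaximal _))
  exact ⟨HasCompDim.of_flat (EGA4.Cpl A) (EGA4.Cpl B) h0 hd,
    HasCompDim.of_flat_of_complete (EGA4.Cpl A) (EGA4.Cpl B) h0 hd⟩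

/-- For a flat local homomorphism `A → B` with `𝔪_A B = 𝔪_B` and `B` henselian, `B` has a component
of dimension `d ≤ 1` iff `Â` does. -/
theorem hasCompDim_iff_cpl_of_flat_of_henselian (hB : HenselianLocalRing B) {d : ℕ} (hd : d ≤ 1) :
    HasCompDim B d ↔ HasCompDim (EGA4.Cpl A) d :=
  ⟨fun h => (hasCompDim_cpl_iff_of_flat A B hmax hd).mpr (h.cpl B hd),
    fun h => HasCompDim.of_cpl_of_henselian B hB hd ((hasCompDim_cpl_iff_of_flat A B hmax hd).mp h)⟩

end FlatCpl

theorem HasCompDim.of_ringEquiv {R S : Type u} [CommRing R] [CommRing S] (e : R ≃+* S) {d : ℕ}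
    (h : HasCompDim S d) : HasCompDim R d := by
  obtain ⟨P, hP, hdim⟩ := h
  exact ⟨P.comap (e : R →+* S), comap_mem_minimalPrimes_of_ringEquiv e hP, by
    rw [ringKrullDim_quotient_comap_ringEquiv, hdim]⟩

theorem hasCompDim_quotient_iff {R : Type u} [CommRing R] (I : Ideal R) (d : ℕ) :
    HasCompDim (R ⧸ I) d ↔
      ∃ P ∈ I.minimalPrimes, ringKrullDim (R ⧸ P) = ((d : ℕ) : WithBot ℕ∞) := by
  constructor
  · rintro ⟨P', hP', hdim⟩
    refine ⟨P'.comap (Ideal.Quotient.mk I), ?_, ?_⟩
    · rw [Ideal.minimalPrimes_eq_comap]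
      exact ⟨P', hP', rfl⟩
    · rw [← ringKrullDim_quotient_quotient, hdim]
  · rintro ⟨P, hP, hdim⟩
    rw [Ideal.minimalPrimes_eq_comap] at hP
    obtain ⟨P', hP', rfl⟩ := hP
    exact ⟨P', hP', by rw [ringKrullDim_quotient_quotient, hdim]⟩

section

variable (A B : Type u) [CommRing A] [CommRing B] [IsLocalRing A] [IsLocalRing B]
  [IsNoetherianRing A] [IsNoetherianRing B] [Algebra A B] [IsLocalHom (algebraMap A B)]
  [Module.Flat A B] (hmax : (maximalIdeal A).map (algebraMap A B) = maximalIdeal B)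

include hmax

/-- For a flat local homomorphism `A → B` with `𝔪_A B = 𝔪_B` and `B` henselian: some minimal prime
over `aB` has quotient of dimension `d ≤ 1` iff `(A/a)^` has a component of dimension `d`. -/
theorem exists_minimalPrimes_map_dim_iff_of_henselian (hB : HenselianLocalRing B) (a : Ideal A)
    [Nontrivial (A ⧸ a)] {d : ℕ} (hd : d ≤ 1) :
    (∃ P ∈ (a.map (algebraMap A B)).minimalPrimes,
        ringKrullDim (B ⧸ P) = ((d : ℕ) : WithBot ℕ∞)) ↔ HasCompDim (EGA4.Cpl (A ⧸ a)) d := by
  have ha : a ≠ ⊤ := Ideal.Quotient.nontrivial_iff.mp inferInstance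
  have hlocD := isLocalRing_quotient_of_ne_top A a ha
  have hlocT := isLocalRing_quotient_map_of_ne_top A B a ha
  have hflat := flat_quotient_map A B a
  have hlh := isLocalHom_quotient_map A B a
  have hH : HenselianLocalRing (B ⧸ a.map (algebraMap A B)) := henselianLocalRing_quotient' _
  have hmax' : (maximalIdeal (A ⧸ a)).map
      (algebraMap (A ⧸ a) (B ⧸ a.map (algebraMap A B))) =
      maximalIdeal (B ⧸ a.map (algebraMap A B)) := by
    rw [map_maximalIdeal_quotient_map, hmax]
    exact IsLocalRing.map_maximalIdeal_of_surjective _ Ideal.Quotient.mk_surjective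
  rw [← hasCompDim_quotient_iff]
  exact hasCompDim_iff_cpl_of_flat_of_henselian (A ⧸ a) (B ⧸ a.map (algebraMap A B)) hmax' hH hd

end


theorem hasCompDim_iff_of_isDomain (D : Type u) [CommRing D] [IsDomain D] (d : ℕ) :
    HasCompDim D d ↔ ringKrullDim D = ((d : ℕ) : WithBot ℕ∞) := by
  have h : ringKrullDim (D ⧸ (⊥ : Ideal D)) = ringKrullDim D :=
    ringKrullDim_eq_of_ringEquiv (RingEquiv.quotientBot D)
  constructor
  · rintro ⟨P, hP, hdim⟩
    rw [IsDomain.minimalPrimes_eq_singleton_bot] at hP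
    rw [Set.mem_singleton_iff.mp hP, h] at hdim
    exact hdim
  · intro hdim
    refine ⟨⊥, ?_, by rw [h, hdim]⟩
    rw [IsDomain.minimalPrimes_eq_singleton_bot]
    exact Set.mem_singleton _

theorem hasCompDim_cpl_iff_of_complete (R : Type u) [CommRing R] [IsLocalRing R]
    [IsAdicComplete (maximalIdeal R) R] (d : ℕ) : HasCompDim (EGA4.Cpl R) d ↔ HasCompDim R d :=
  ⟨HasCompDim.of_ringEquiv (AdicCompletion.ofAlgEquiv (maximalIdeal R)).toRingEquiv,
    HasCompDim.of_ringEquiv (AdicCompletion.ofAlgEquiv (maximalIdeal R)).symm.toRingEquiv⟩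

end Groth.Agent.Lib.Helper29
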