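import Mathlib
import Groth.Agent.Lib.Helper3.BranchCount
import Groth.Agent.Lib.Helper3.MinPrimesTensor
import Groth.Agent.Lib.Helper3.NormRedNormal
import Groth.Agent.Lib.Helper9.Hens.Dimension
import Groth.Agent.Lib.Helper29.CompDim

set_option autoImplicit false
universe u
open TensorProduct IsLocalRing

namespace Groth.Agent.Lib.Helper29

/-- A chain of primes extracted from `2 ≤ dim R/q`. -/
theorem exists_chain_of_two_le_ringKrullDim_quotient {R : Type*} [CommRing R] (q : Ideal R)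
    (h : (2 : WithBot ℕ∞) ≤ ringKrullDim (R ⧸ q)) :
    ∃ p0 p1 p2 : Ideal R, p0.IsPrime ∧ p1.IsPrime ∧ p2.IsPrime ∧ q ≤ p0 ∧ p0 < p1 ∧ p1 < p2 := by
  have h' : ((2 : ℕ) : WithBot ℕ∞) ≤ Order.krullDim (PrimeSpectrum (R ⧸ q)) := h
  obtain ⟨l, hl⟩ := Order.le_krullDim_iff.mp h'
  have hsurj : Function.Surjective (Ideal.Quotient.mk q) := Ideal.Quotient.mk_surjective
  have hlt : ∀ P P' : PrimeSpectrum (R ⧸ q), P < P' →
      P.asIdeal.comap (Ideal.Quotient.mk q) < P'.asIdeal.comap (Ideal.Quotient.mk q) := by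
    intro P P' hPP'
    refine lt_of_le_of_ne (Ideal.comap_mono hPP'.le) fun heq => ?_
    have := Ideal.comap_injective_of_surjective _ hsurj heq
    exact hPP'.ne (PrimeSpectrum.ext this)
  refine ⟨(l ⟨0, by omega⟩).asIdeal.comap (Ideal.Quotient.mk q),
    (l ⟨1, by omega⟩).asIdeal.comap (Ideal.Quotient.mk q),
    (l ⟨2, by omega⟩).asIdeal.comap (Ideal.Quotient.mk q),
    Ideal.comap_isPrime _ _, Ideal.comap_isPrime _ _, Ideal.comap_isPrime _ _, ?_, ?_, ?_⟩
  · intro x hx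
    rw [Ideal.mem_comap, Ideal.Quotient.eq_zero_iff_mem.mpr hx]
    exact Ideal.zero_mem _
  · exact hlt _ _ (l.strictMono (by simp [Fin.lt_def]))
  · exact hlt _ _ (l.strictMono (by simp [Fin.lt_def]))

/-- A chain of primes above `q` gives `2 ≤ dim R/q`. -/
theorem two_le_ringKrullDim_quotient_of_chain {R : Type*} [CommRing R] (q p0 p1 p2 : Ideal R)
    [p0.IsPrime] [p1.IsPrime] [p2.IsPrime] (hq : q ≤ p0) (h01 : p0 < p1) (h12 : p1 < p2) :
    (2 : WithBot ℕ∞) ≤ ringKrullDim (R ⧸ q) := by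
  have hsurj : Function.Surjective (Ideal.Quotient.mk q) := Ideal.Quotient.mk_surjective
  have hker : ∀ p : Ideal R, q ≤ p → RingHom.ker (Ideal.Quotient.mk q) ≤ p := by
    intro p hp
    rwa [Ideal.mk_ker]
  have hcm : ∀ p : Ideal R, q ≤ p → (p.map (Ideal.Quotient.mk q)).comap (Ideal.Quotient.mk q) = p := by
    intro p hp
    rw [Ideal.comap_map_of_surjective _ hsurj, ← RingHom.ker_eq_comap_bot, Ideal.mk_ker]
    exact sup_eq_left.mpr hp
  have hq1 : q ≤ p1 := hq.trans h01.le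
  have hq2 : q ≤ p2 := hq1.trans h12.le
  have hP0 : (p0.map (Ideal.Quotient.mk q)).IsPrime :=
    Ideal.map_isPrime_of_surjective hsurj (hker p0 hq)
  have hP1 : (p1.map (Ideal.Quotient.mk q)).IsPrime :=
    Ideal.map_isPrime_of_surjective hsurj (hker p1 hq1)
  have hP2 : (p2.map (Ideal.Quotient.mk q)).IsPrime :=
    Ideal.map_isPrime_of_surjective hsurj (hker p2 hq2)
  have hlt : ∀ p p' : Ideal R, q ≤ p → q ≤ p' → p < p' →
      p.map (Ideal.Quotient.mk q) < p'.map (Ideal.Quotient.mk q) := by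
    intro p p' hp hp' hpp'
    refine lt_of_le_of_ne (Ideal.map_mono hpp'.le) fun heq => ?_
    have := congrArg (Ideal.comap (Ideal.Quotient.mk q)) heq
    rw [hcm p hp, hcm p' hp'] at this
    exact hpp'.ne this
  have h1 := Ideal.height_add_one_le_of_lt_of_isPrime (hlt p0 p1 hq hq1 h01)
  have h2 := Ideal.height_add_one_le_of_lt_of_isPrime (hlt p1 p2 hq1 hq2 h12)
  have h3 : (2 : ℕ∞) ≤ (p2.map (Ideal.Quotient.mk q)).height := by
    calc (2 : ℕ∞) = 0 + 1 + 1 := by norm_num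
      _ ≤ (p0.map (Ideal.Quotient.mk q)).height + 1 + 1 := by gcongr; exact zero_le
      _ ≤ (p1.map (Ideal.Quotient.mk q)).height + 1 := by gcongr
      _ ≤ _ := h2
  have h4 := Ideal.height_le_ringKrullDim_of_ne_top hP2.ne_top
  refine le_trans ?_ h4
  have h5 : ((2 : ℕ∞) : WithBot ℕ∞) ≤ ((p2.map (Ideal.Quotient.mk q)).height : WithBot ℕ∞) :=
    WithBot.coe_le_coe.mpr h3
  exact h5

/-- Primes below a prime of height `≥ 2`. -/
theorem exists_chain_of_two_le_height {R : Type*} [CommRing R] (m : Ideal R) [hm : m.IsPrime]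
    (h : (2 : ℕ∞) ≤ m.height) :
    ∃ p0 p1 : Ideal R, p0.IsPrime ∧ p1.IsPrime ∧ p0 < p1 ∧ p1 < m := by
  have h' : ((2 : ℕ) : ℕ∞) ≤ Order.height (⟨m, hm⟩ : PrimeSpectrum R) := by
    rw [← PrimeSpectrum.height_eq_orderHeight]
    exact h
  obtain ⟨l, hlast, hlen⟩ := Order.exists_series_of_le_height (⟨m, hm⟩ : PrimeSpectrum R) (n := 2) h'
  have h2 : l ⟨2, by omega⟩ = ⟨m, hm⟩ := by
    rw [← hlast, RelSeries.last]
    congr 1
    exact Fin.ext (by simp [hlen])
  refine ⟨(l ⟨0, by omega⟩).asIdeal, (l ⟨1, by omega⟩).asIdeal, (l ⟨0, by omega⟩).isPrime,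
    (l ⟨1, by omega⟩).isPrime, ?_, ?_⟩
  · exact l.strictMono (by simp [Fin.lt_def])
  · have : l ⟨1, by omega⟩ < l ⟨2, by omega⟩ := l.strictMono (by simp [Fin.lt_def])
    rw [h2] at this
    exact this

theorem two_le_height_of_chain {R : Type*} [CommRing R] (p0 p1 m : Ideal R) [p0.IsPrime]
    [p1.IsPrime] [m.IsPrime] (h01 : p0 < p1) (h12 : p1 < m) : (2 : ℕ∞) ≤ m.height := by
  have h1 := Ideal.height_add_one_le_of_lt_of_isPrime h01
  have h2 := Ideal.height_add_one_le_of_lt_of_isPrime h12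
  calc (2 : ℕ∞) = 0 + 1 + 1 := by norm_num
    _ ≤ p0.height + 1 + 1 := by gcongr; exact zero_le
    _ ≤ p1.height + 1 := by gcongr
    _ ≤ _ := h2


section C2

open Groth.Agent.Lib.Helper3 Groth.Agent.Lib.Helper9

variable (A S : Type u) [CommRing A] [IsLocalRing A] [CommRing S] [IsLocalRing S] [Algebra A S]
  [IsLocalHom (algebraMap A S)] [Hensel.IsHenselization A S]
  (A' : Type u) [CommRing A'] [Algebra A A'] [Algebra.IsIntegral A A']

omit [IsLocalRing A] [IsLocalRing S] [IsLocalHom (algebraMap A S)] [Hensel.IsHenselization A S]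
  [Algebra.IsIntegral A A'] in
theorem inclR_comp_algebraMap :
    (Branch.inclR A S A').comp (algebraMap A A') =
      (algebraMap S (S ⊗[A] A')).comp (algebraMap A S) := by
  ext a
  change (1 : S) ⊗ₜ[A] (algebraMap A A' a) = (algebraMap A S a) ⊗ₜ[A] (1 : A')
  rw [Algebra.algebraMap_eq_smul_one, Algebra.algebraMap_eq_smul_one (A := S),
    TensorProduct.smul_tmul]

/-- Incomparability for `A' → S ⊗[A] A'`, `S` a henselization of `A`, `A'` integral over `A`. -/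
theorem comap_inclR_lt_comap_inclR {P Q : Ideal (S ⊗[A] A')} [P.IsPrime] [Q.IsPrime]
    (h : P < Q) : P.comap (Branch.inclR A S A') < Q.comap (Branch.inclR A S A') := by
  refine lt_of_le_of_ne (Ideal.comap_mono h.le) fun heq => ?_
  have h1 : P.comap (algebraMap S (S ⊗[A] A')) < Q.comap (algebraMap S (S ⊗[A] A')) :=
    Ideal.IsIntegral.comap_lt_comap h
  have hP' : (P.comap (algebraMap S (S ⊗[A] A'))).IsPrime := Ideal.comap_isPrime _ _
  have hQ' : (Q.comap (algebraMap S (S ⊗[A] A'))).IsPrime := Ideal.comap_isPrime _ _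
  have h2 := (isEtaleCovered_of_isHenselization A S).under_lt_under h1
  apply h2.ne
  change (P.comap (algebraMap S (S ⊗[A] A'))).comap (algebraMap A S) =
    (Q.comap (algebraMap S (S ⊗[A] A'))).comap (algebraMap A S)
  rw [Ideal.comap_comap, Ideal.comap_comap, ← inclR_comp_algebraMap, ← Ideal.comap_comap,
    ← Ideal.comap_comap, heq]

/-- If every irreducible component of `Spec S` has dimension `≥ 2`, every maximal ideal of `A'`
has height `≥ 2`. -/
theorem two_le_height_of_two_le_dim_quotient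
    (hN : ∀ (m' : Ideal A') [m'.IsMaximal],
      IsDomain (Localization.AtPrime m') ∧ IsIntegrallyClosed (Localization.AtPrime m'))
    (hmin1 : ∀ Q ∈ minimalPrimes (S ⊗[A] A'),
      Q.comap (algebraMap S (S ⊗[A] A')) ∈ minimalPrimes S)
    (h : ∀ q ∈ minimalPrimes S, (2 : WithBot ℕ∞) ≤ ringKrullDim (S ⧸ q))
    (m' : Ideal A') [hm' : m'.IsMaximal] : (2 : ℕ∞) ≤ m'.height := by
  have _ : HenselianLocalRing S := Hensel.IsHenselization.henselian A
  obtain ⟨M, hM, hMc, Q, ⟨hQ, hQM⟩, -⟩ := Branch.exists_isMaximal_comap_eq A S A' m' (hN m')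
  have hQp : Q.IsPrime := hQ.1.1
  obtain ⟨p0, p1, p2, hp0, hp1, hp2, hq0, h01, h12⟩ :=
    exists_chain_of_two_le_ringKrullDim_quotient _ (h _ (hmin1 Q hQ))
  obtain ⟨P0, hQP0, hP0, hP0c⟩ :=
    Ideal.exists_ideal_over_prime_of_isIntegral_of_isPrime p0 Q hq0
  obtain ⟨P1, hP01, hP1, hP1c⟩ :=
    Ideal.exists_ideal_over_prime_of_isIntegral_of_isPrime p1 P0 (hP0c.le.trans h01.le)
  obtain ⟨P2, hP12, hP2, hP2c⟩ :=
    Ideal.exists_ideal_over_prime_of_isIntegral_of_isPrime p2 P1 (hP1c.le.trans h12.le)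
  have hP01' : P0 < P1 := lt_of_le_of_ne hP01 (fun e => h01.ne (by rw [← hP0c, ← hP1c, e]))
  have hP12' : P1 < P2 := lt_of_le_of_ne hP12 (fun e => h12.ne (by rw [← hP1c, ← hP2c, e]))
  obtain ⟨M2, hM2, hP2M2⟩ := Ideal.exists_le_maximal P2 hP2.ne_top
  have hMM2 : M2 = M := by
    obtain ⟨M0, -, hu⟩ := Branch.existsUnique_isMaximal_ge S (S ⊗[A] A') Q
    rw [hu M2 ⟨hM2, hQP0.trans (hP01.trans (hP12.trans hP2M2))⟩, hu M ⟨hM, hQM⟩]
  have c01 := comap_inclR_lt_comap_inclR A S A' hP01'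
  have c12 := comap_inclR_lt_comap_inclR A S A' hP12'
  have c2 : P2.comap (Branch.inclR A S A') ≤ m' := by
    rw [← hMc, ← hMM2]
    exact Ideal.comap_mono hP2M2
  have hc0 : (P0.comap (Branch.inclR A S A')).IsPrime := Ideal.comap_isPrime _ _
  have hc1 : (P1.comap (Branch.inclR A S A')).IsPrime := Ideal.comap_isPrime _ _
  have hc2 : (P2.comap (Branch.inclR A S A')).IsPrime := Ideal.comap_isPrime _ _
  exact (two_le_height_of_chain _ _ _ c01 c12).trans (Ideal.height_mono c2)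

/-- If every maximal ideal of `A'` has height `≥ 2`, every irreducible component of `Spec S` has
dimension `≥ 2`. -/
theorem two_le_dim_quotient_of_two_le_height
    (hN : ∀ (m' : Ideal A') [m'.IsMaximal],
      IsDomain (Localization.AtPrime m') ∧ IsIntegrallyClosed (Localization.AtPrime m'))
    (hmin2 : ∀ q ∈ minimalPrimes S, ∃ Q ∈ minimalPrimes (S ⊗[A] A'),
      Q.comap (algebraMap S (S ⊗[A] A')) = q)
    (h : ∀ m' : Ideal A', m'.IsMaximal → (2 : ℕ∞) ≤ m'.height)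
    (q : Ideal S) (hq : q ∈ minimalPrimes S) : (2 : WithBot ℕ∞) ≤ ringKrullDim (S ⧸ q) := by
  have _ : HenselianLocalRing S := Hensel.IsHenselization.henselian A
  have _ : Module.Flat A S := Hens.flat_of_isHenselization (R := A) (S := S)
  obtain ⟨Q, hQ, hQq⟩ := hmin2 q hq
  have hQp : Q.IsPrime := hQ.1.1
  obtain ⟨M, ⟨hM, hQM⟩, -⟩ := Branch.existsUnique_isMaximal_ge S (S ⊗[A] A') Q
  have hm' := Branch.isMaximal_comap_inclR A S A' M
  have hm'p : (M.comap (Branch.inclR A S A')).IsPrime := hm'.isPrime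
  obtain ⟨𝔭0, 𝔭1, h𝔭0, h𝔭1, h01, h12⟩ := exists_chain_of_two_le_height _ (h _ hm')
  let _ : Algebra A' (S ⊗[A] A') := Algebra.TensorProduct.rightAlgebra
  have hflat : Module.Flat A' (S ⊗[A] A') :=
    Module.Flat.of_linearEquiv (Algebra.TensorProduct.commRight A A' S).symm.toLinearEquiv
  have hMp : M.IsPrime := hM.isPrime
  have hMover : M.LiesOver (M.comap (Branch.inclR A S A')) := ⟨rfl⟩
  obtain ⟨P1, hP1M, hP1, hP1o⟩ := Ideal.exists_ideal_lt_liesOver_of_lt (p := 𝔭1) M h12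
  obtain ⟨P0, hP01, hP0, hP0o⟩ := Ideal.exists_ideal_lt_liesOver_of_lt (p := 𝔭0) P1 h01
  obtain ⟨Q0, hQ0, hQ0P0⟩ := Ideal.exists_minimalPrimes_le (I := ⊥) (J := P0) bot_le
  have hQ0Q : Q0 = Q := by
    obtain ⟨Q1, -, hu⟩ := (Branch.minimalPrimes_maximal_unique A S A' hN).2 M hM
    rw [hu Q0 ⟨hQ0, hQ0P0.trans (hP01.le.trans hP1M.le)⟩, hu Q ⟨hQ, hQM⟩]
  have c01 : P0.comap (algebraMap S (S ⊗[A] A')) < P1.comap (algebraMap S (S ⊗[A] A')) :=
    Ideal.IsIntegral.comap_lt_comap hP01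
  have c12 : P1.comap (algebraMap S (S ⊗[A] A')) < M.comap (algebraMap S (S ⊗[A] A')) :=
    Ideal.IsIntegral.comap_lt_comap hP1M
  have hq0 : q ≤ P0.comap (algebraMap S (S ⊗[A] A')) := by
    rw [← hQq, ← hQ0Q]
    exact Ideal.comap_mono hQ0P0
  have hc0 : (P0.comap (algebraMap S (S ⊗[A] A'))).IsPrime := Ideal.comap_isPrime _ _
  have hc1 : (P1.comap (algebraMap S (S ⊗[A] A'))).IsPrime := Ideal.comap_isPrime _ _
  have hc2 : (M.comap (algebraMap S (S ⊗[A] A'))).IsPrime := Ideal.comap_isPrime _ _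
  exact two_le_ringKrullDim_quotient_of_chain q _ _ _ hq0 c01 c12

end C2

/-- Minimal primes of `S ⊗[A] normRed A` versus those of a flat `A`-algebra `S`. -/
theorem minimalPrimes_tensor_normRed (A S : Type u) [CommRing A] [CommRing S] [Algebra A S]
    [Module.Flat A S] :
    (∀ Q ∈ minimalPrimes (S ⊗[A] CAlg2.normRed A),
      Q.comap (algebraMap S (S ⊗[A] CAlg2.normRed A)) ∈ minimalPrimes S) ∧
    (∀ q ∈ minimalPrimes S, ∃ Q ∈ minimalPrimes (S ⊗[A] CAlg2.normRed A),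
      Q.comap (algebraMap S (S ⊗[A] CAlg2.normRed A)) = q) := by
  have hbij := Groth.Agent.Lib.Helper3.bijOn_minimalPrimes_normRed_tensor A S
  let e : CAlg2.normRed A ⊗[A] S ≃ₐ[A] S ⊗[A] CAlg2.normRed A :=
    Algebra.TensorProduct.comm A (CAlg2.normRed A) S
  let ι : S →+* CAlg2.normRed A ⊗[A] S :=
    (Algebra.TensorProduct.includeRight : S →ₐ[A] CAlg2.normRed A ⊗[A] S).toRingHom
  have key : (e.toRingEquiv : CAlg2.normRed A ⊗[A] S →+* S ⊗[A] CAlg2.normRed A).comp ι =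
      algebraMap S (S ⊗[A] CAlg2.normRed A) := by
    ext s
    rfl
  have key' : (e.toRingEquiv.symm : S ⊗[A] CAlg2.normRed A →+* CAlg2.normRed A ⊗[A] S).comp
      (algebraMap S (S ⊗[A] CAlg2.normRed A)) = ι := by
    ext s
    rfl
  refine ⟨fun Q hQ => ?_, fun q hq => ?_⟩
  · have h1 := Groth.Agent.Lib.Helper3.Branch.comap_mem_minimalPrimes_of_ringEquiv
      (C₁ := CAlg2.normRed A ⊗[A] S) (C₂ := S ⊗[A] CAlg2.normRed A) e.toRingEquiv Q hQ
    have h2 := hbij.mapsTo h1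
    rw [← key, ← Ideal.comap_comap]
    exact h2
  · obtain ⟨Q', hQ', hQ'q⟩ := hbij.surjOn hq
    refine ⟨Q'.comap (e.toRingEquiv.symm : S ⊗[A] CAlg2.normRed A →+* CAlg2.normRed A ⊗[A] S),
      Groth.Agent.Lib.Helper3.Branch.comap_mem_minimalPrimes_of_ringEquiv
        (C₁ := S ⊗[A] CAlg2.normRed A) (C₂ := CAlg2.normRed A ⊗[A] S)
        e.toRingEquiv.symm Q' hQ', ?_⟩
    rw [Ideal.comap_comap, key']
    exact hQ'q

end Groth.Agent.Lib.Helper29
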