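import Groth.Agent.Lib.Helper29.EquidimCatenary
import Groth.Agent.H46.CatenaryMax

/-!
Helper lemmas (helper29): ascent of the catenary property along flat "models".

If every finite subset of a Noetherian ring `T` lies in the image of a flat ring homomorphism
`T' → T` from a catenary Noetherian ring, then `T` is catenary.  Consequently, universal catenarity
ascends along "flat covers" (directed unions of flat universally catenary subalgebras, e.g.
henselizations, direct limits with flat transition maps).
-/

set_option autoImplicit false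
universe u

namespace Groth.Agent.Lib.Helper29

open IsLocalRing

section Local

variable (A B : Type u) [CommRing A] [CommRing B] [IsLocalRing A] [IsLocalRing B]
  [IsNoetherianRing A] [IsNoetherianRing B] [Algebra A B] [IsLocalHom (algebraMap A B)]
  [Module.Flat A B]

omit [IsLocalRing A] [IsLocalRing B] [IsNoetherianRing A] [IsNoetherianRing B]
  [IsLocalHom (algebraMap A B)] in
/-- For a flat ring map, a covering relation between two extended primes contracts to a covering
relation. -/
theorem comap_covBy_of_covBy_of_map_comap_eq {p q : PrimeSpectrum B}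
    (hp : (p.asIdeal.comap (algebraMap A B)).map (algebraMap A B) = p.asIdeal)
    (hq : (q.asIdeal.comap (algebraMap A B)).map (algebraMap A B) = q.asIdeal)
    (hcov : p ⋖ q) :
    PrimeSpectrum.comap (algebraMap A B) p ⋖ PrimeSpectrum.comap (algebraMap A B) q := by
  have hle : PrimeSpectrum.comap (algebraMap A B) p ≤ PrimeSpectrum.comap (algebraMap A B) q := by
    rw [← PrimeSpectrum.asIdeal_le_asIdeal]
    exact Ideal.comap_mono (PrimeSpectrum.asIdeal_le_asIdeal p q |>.mpr hcov.lt.le)
  have hne : PrimeSpectrum.comap (algebraMap A B) p ≠ PrimeSpectrum.comap (algebraMap A B) q := by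
    intro h
    have h1 : (PrimeSpectrum.comap (algebraMap A B) p).asIdeal =
        (PrimeSpectrum.comap (algebraMap A B) q).asIdeal := by rw [h]
    have h2 : p.asIdeal = q.asIdeal := by
      rw [← hp, ← hq]
      exact congrArg (Ideal.map (algebraMap A B)) h1
    exact hcov.lt.ne (PrimeSpectrum.ext h2)
  refine ⟨lt_of_le_of_ne hle hne, ?_⟩
  intro r' hpr hrq
  -- going down
  have : r'.asIdeal.IsPrime := r'.isPrime
  have : (q.asIdeal.comap (algebraMap A B)).IsPrime := Ideal.comap_isPrime _ _
  have : q.asIdeal.LiesOver (q.asIdeal.comap (algebraMap A B)) := ⟨rfl⟩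
  have hrq' : r'.asIdeal ≤ q.asIdeal.comap (algebraMap A B) :=
    (PrimeSpectrum.asIdeal_le_asIdeal _ _).mpr hrq.le
  obtain ⟨r, hrle, hrprime, hrover⟩ :=
    Ideal.exists_ideal_le_liesOver_of_le (p := r'.asIdeal)
      (q := q.asIdeal.comap (algebraMap A B)) q.asIdeal hrq'
  have hr' : r.comap (algebraMap A B) = r'.asIdeal := (hrover.over).symm
  have hpr' : p.asIdeal ≤ r := by
    rw [← hp]
    refine Ideal.map_le_iff_le_comap.mpr ?_
    rw [hr']
    exact (PrimeSpectrum.asIdeal_le_asIdeal _ _).mpr hpr.le
  let R : PrimeSpectrum B := ⟨r, hrprime⟩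
  have h1 : p < R := by
    refine lt_of_le_of_ne ((PrimeSpectrum.asIdeal_le_asIdeal p R).mp hpr') ?_
    intro h
    apply hpr.ne
    apply PrimeSpectrum.ext
    change p.asIdeal.comap (algebraMap A B) = r'.asIdeal
    rw [← hr', h]
  have h2 : R < q := by
    refine lt_of_le_of_ne ((PrimeSpectrum.asIdeal_le_asIdeal R q).mp hrle) ?_
    intro h
    apply hrq.ne
    apply PrimeSpectrum.ext
    change r'.asIdeal = q.asIdeal.comap (algebraMap A B)
    rw [← hr', ← h]
  exact hcov.2 h1 h2

/-- Key local lemma: for a flat local homomorphism `A → B` with `m_A B = m_B` and `A` catenary,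
the dimension drops by exactly one along a covering relation between extended primes. -/
theorem ringKrullDim_quotient_eq_add_one_of_covBy_of_flat
    (hcat : CAlg.IsCatenary A)
    (hm : (maximalIdeal A).map (algebraMap A B) = maximalIdeal B)
    {p q : PrimeSpectrum B}
    (hp : (p.asIdeal.comap (algebraMap A B)).map (algebraMap A B) = p.asIdeal)
    (hq : (q.asIdeal.comap (algebraMap A B)).map (algebraMap A B) = q.asIdeal)
    (hcov : p ⋖ q) :
    ringKrullDim (B ⧸ p.asIdeal) = ringKrullDim (B ⧸ q.asIdeal) + 1 := by
  have hcov' := comap_covBy_of_covBy_of_map_comap_eq A B hp hq hcov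
  have h1 := ((Groth.Agent.H46.isCatenary_iff_dimFun A).mp hcat _ _ hcov'.lt).2 hcov'
  have hfib : ringKrullDim (EGA4.FibRing A B) = 0 := by
    change ringKrullDim (B ⧸ (maximalIdeal A).map (algebraMap A B)) = 0
    rw [hm]
    exact ringKrullDim_eq_zero_of_field (ResidueField B)
  have e1 := ringKrullDim_quotient_map_eq_add A B (p.asIdeal.comap (algebraMap A B))
    (Ideal.IsPrime.ne_top (Ideal.comap_isPrime _ _))
  have e2 := ringKrullDim_quotient_map_eq_add A B (q.asIdeal.comap (algebraMap A B))
    (Ideal.IsPrime.ne_top (Ideal.comap_isPrime _ _))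
  rw [hp, hfib, add_zero] at e1
  rw [hq, hfib, add_zero] at e2
  rw [e1, e2]
  exact h1

end Local

section Models

/-- An ideal generated by elements in the range of `f` is extended from its contraction. -/
theorem map_comap_eq_of_span_eq_of_subset_range {R S : Type*} [CommRing R] [CommRing S]
    (f : R →+* S) (I : Ideal S) (s : Set S) (hs : Ideal.span s = I) (hr : s ⊆ Set.range f) :
    (I.comap f).map f = I := by
  refine le_antisymm Ideal.map_comap_le ?_
  rw [← hs, Ideal.span_le]
  intro x hx
  obtain ⟨y, rfl⟩ := hr hx
  refine Ideal.mem_map_of_mem f ?_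
  rw [Ideal.mem_comap]
  exact hs ▸ Ideal.subset_span hx

/-- If `p = J B` for some ideal `J`, then `p` is extended from its contraction. -/
theorem map_comap_eq_of_map_eq {R S : Type*} [CommRing R] [CommRing S]
    (f : R →+* S) (I : Ideal S) (J : Ideal R) (h : J.map f = I) : (I.comap f).map f = I := by
  refine le_antisymm Ideal.map_comap_le ?_
  have h1 : J ≤ I.comap f := Ideal.le_comap_of_map_le h.le
  calc I = J.map f := h.symm
    _ ≤ (I.comap f).map f := Ideal.map_mono h1

/-- In a Noetherian local ring, the dimension of the quotient is strictly decreasing in the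
prime. -/
theorem ringKrullDim_quotient_lt_of_lt (B : Type u) [CommRing B] [IsNoetherianRing B]
    [IsLocalRing B] {p q : PrimeSpectrum B} (hpq : p < q) :
    ringKrullDim (B ⧸ q.asIdeal) < ringKrullDim (B ⧸ p.asIdeal) := by
  have hfin : FiniteDimensionalOrder (PrimeSpectrum B) := (inferInstance : FiniteRingKrullDim B)
  rw [Groth.Agent.H46.ringKrullDim_quotient_eq_coheight,
    Groth.Agent.H46.ringKrullDim_quotient_eq_coheight]
  exact WithBot.coe_lt_coe.mpr (Order.coheight_strictAnti hpq (Order.coheight_lt_top q))

/-- **Ascent of the catenary property along flat models.** If every finite subset of the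
Noetherian ring `T` lies in the image of a flat ring homomorphism from a catenary Noetherian ring,
then `T` is catenary. -/
theorem isCatenary_of_flat_models (T : Type u) [CommRing T] [IsNoetherianRing T]
    (H : ∀ s : Finset T, ∃ (T' : Type u) (_ : CommRing T') (_ : IsNoetherianRing T')
      (φ : T' →+* T), φ.Flat ∧ CAlg.IsCatenary T' ∧ ∀ x ∈ s, x ∈ Set.range φ) :
    CAlg.IsCatenary T := by
  classical
  apply Groth.Agent.H46.isCatenary_of_forall_maximal
  intro M hM
  rw [Groth.Agent.H46.isCatenary_iff_dimFun]
  intro p q hpq
  refine ⟨ringKrullDim_quotient_lt_of_lt _ hpq, fun hcov => ?_⟩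
  -- the primes of `T` corresponding to `p`, `q`
  set P : Ideal T := p.asIdeal.comap (algebraMap T (Localization.AtPrime M)) with hP
  set Q : Ideal T := q.asIdeal.comap (algebraMap T (Localization.AtPrime M)) with hQ
  obtain ⟨sP, hsP⟩ := (IsNoetherian.noetherian P : P.FG)
  obtain ⟨sQ, hsQ⟩ := (IsNoetherian.noetherian Q : Q.FG)
  obtain ⟨sM, hsM⟩ := (IsNoetherian.noetherian M : M.FG)
  obtain ⟨T', _, _, φ, hflat, hcat, hrange⟩ := H (sP ∪ sQ ∪ sM)
  have hPext : (P.comap φ).map φ = P :=
    map_comap_eq_of_span_eq_of_subset_range φ P sP hsP (fun x hx => hrange x (by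
      simp only [Finset.mem_union]; exact Or.inl (Or.inl hx)))
  have hQext : (Q.comap φ).map φ = Q :=
    map_comap_eq_of_span_eq_of_subset_range φ Q sQ hsQ (fun x hx => hrange x (by
      simp only [Finset.mem_union]; exact Or.inl (Or.inr hx)))
  have hMext : (M.comap φ).map φ = M :=
    map_comap_eq_of_span_eq_of_subset_range φ M sM hsM (fun x hx => hrange x (by
      simp only [Finset.mem_union]; exact Or.inr hx))
  -- the local model
  have hM'prime : (M.comap φ).IsPrime := Ideal.comap_isPrime _ _
  let g : Localization.AtPrime (M.comap φ) →+* Localization.AtPrime M :=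
    Localization.localRingHom (M.comap φ) M φ rfl
  let _ : Algebra (Localization.AtPrime (M.comap φ)) (Localization.AtPrime M) := g.toAlgebra
  have hgflat : Module.Flat (Localization.AtPrime (M.comap φ)) (Localization.AtPrime M) :=
    hflat.localRingHom M (M.comap φ) rfl
  have hglocal : IsLocalHom (algebraMap (Localization.AtPrime (M.comap φ))
      (Localization.AtPrime M)) := Localization.isLocalHom_localRingHom _ _ _ _
  have hcatA : CAlg.IsCatenary (Localization.AtPrime (M.comap φ)) :=
    Groth.Agent.H46.isCatenary_of_isLocalization _ (M.comap φ).primeCompl hcat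
  have hcomp : g.comp (algebraMap T' (Localization.AtPrime (M.comap φ))) =
      (algebraMap T (Localization.AtPrime M)).comp φ := by
    ext x
    exact Localization.localRingHom_to_map (M.comap φ) M φ rfl x
  -- extension of ideals through the square
  have hext : ∀ (I : Ideal T), (I.comap φ).map φ = I →
      (((I.comap φ).map (algebraMap T' (Localization.AtPrime (M.comap φ)))).map g) =
        I.map (algebraMap T (Localization.AtPrime M)) := by
    intro I hI
    rw [Ideal.map_map, hcomp, ← Ideal.map_map, hI]
  have hm : (maximalIdeal (Localization.AtPrime (M.comap φ))).map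
      (algebraMap (Localization.AtPrime (M.comap φ)) (Localization.AtPrime M)) =
      maximalIdeal (Localization.AtPrime M) := by
    rw [← Localization.AtPrime.map_eq_maximalIdeal, ← Localization.AtPrime.map_eq_maximalIdeal]
    exact hext M hMext
  have hp : (p.asIdeal.comap (algebraMap (Localization.AtPrime (M.comap φ))
      (Localization.AtPrime M))).map (algebraMap (Localization.AtPrime (M.comap φ))
      (Localization.AtPrime M)) = p.asIdeal := by
    refine map_comap_eq_of_map_eq g p.asIdeal
      ((P.comap φ).map (algebraMap T' (Localization.AtPrime (M.comap φ)))) ?_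
    rw [hext P hPext, hP]
    exact IsLocalization.map_under M.primeCompl _ p.asIdeal
  have hq : (q.asIdeal.comap (algebraMap (Localization.AtPrime (M.comap φ))
      (Localization.AtPrime M))).map (algebraMap (Localization.AtPrime (M.comap φ))
      (Localization.AtPrime M)) = q.asIdeal := by
    refine map_comap_eq_of_map_eq g q.asIdeal
      ((Q.comap φ).map (algebraMap T' (Localization.AtPrime (M.comap φ)))) ?_
    rw [hext Q hQext, hQ]
    exact IsLocalization.map_under M.primeCompl _ q.asIdeal
  exact ringKrullDim_quotient_eq_add_one_of_covBy_of_flat (Localization.AtPrime (M.comap φ))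
    (Localization.AtPrime M) hcatA hm hp hq hcov

end Models

section UC

open TensorProduct

attribute [local instance] MvPolynomial.algebraMvPolynomial

/-- Polynomial rings over a flat algebra are flat over the polynomial ring of the base. -/
theorem flat_mvPolynomial_of_flat (E S : Type*) [CommRing E] [CommRing S] [Algebra E S]
    [Module.Flat E S] (σ : Type*) : Module.Flat (MvPolynomial σ E) (MvPolynomial σ S) :=
  Module.Flat.of_linearEquiv
    (Algebra.IsPushout.equiv E (MvPolynomial σ E) S (MvPolynomial σ S)).symm.toLinearEquiv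

/-- Flatness of the induced map on quotients `A/a → B/J` when `J = aB` and `A → B` is flat. -/
theorem flat_quotientMap_of_map_eq {A B : Type u} [CommRing A] [CommRing B] [Algebra A B]
    [Module.Flat A B] (a : Ideal A) (J : Ideal B) (hJ : a.map (algebraMap A B) = J)
    (hle : a ≤ J.comap (algebraMap A B)) :
    (Ideal.quotientMap J (algebraMap A B) hle).Flat := by
  subst hJ
  exact RingHom.flat_algebraMap_iff.mpr (flat_quotient_map A B a)

/-- **Ascent of universal catenarity along flat covers.** Let `S` be a Noetherian ring such that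
every finite subset of `S` lies in the image of a flat ring map `E → S` from a Noetherian ring `E`
all of whose finite type algebras `E[X₁,…,Xₙ]/I` are catenary. Then every finite type `S`-algebra is
catenary. -/
theorem isCatenary_of_finiteType_of_flat_covers (S : Type u) [CommRing S] [IsNoetherianRing S]
    (H : ∀ s : Finset S, ∃ (E : Type u) (_ : CommRing E) (_ : IsNoetherianRing E) (ψ : E →+* S),
      ψ.Flat ∧ (∀ (n : ℕ) (I : Ideal (MvPolynomial (Fin n) E)),
        CAlg.IsCatenary (MvPolynomial (Fin n) E ⧸ I)) ∧ ∀ x ∈ s, x ∈ Set.range ψ)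
    (T : Type u) [CommRing T] [Algebra S T] (hT : Algebra.FiniteType S T) :
    CAlg.IsCatenary T := by
  classical
  obtain ⟨n, f, hf⟩ := Algebra.FiniteType.iff_quotient_mvPolynomial''.mp hT
  set I : Ideal (MvPolynomial (Fin n) S) := RingHom.ker f.toRingHom with hI
  have key : CAlg.IsCatenary (MvPolynomial (Fin n) S ⧸ I) := by
    apply isCatenary_of_flat_models
    intro s
    choose lift hlift using
      (fun x : (MvPolynomial (Fin n) S ⧸ I) => Ideal.Quotient.mk_surjective x)
    obtain ⟨gens, hgens⟩ := (IsNoetherian.noetherian I : I.FG)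
    obtain ⟨E, _, _, ψ, hflat, hcatE, hrange⟩ :=
      H ((s.image lift ∪ gens).biUnion MvPolynomial.coeffs)
    let _ : Algebra E S := ψ.toAlgebra
    have hflat' : Module.Flat E S := hflat
    have hmem : ∀ P ∈ s.image lift ∪ gens, P ∈ Set.range (MvPolynomial.map (σ := Fin n) ψ) := by
      intro P hP
      rw [MvPolynomial.mem_range_map_iff_coeffs_subset]
      intro c hc
      exact hrange c (Finset.mem_biUnion.mpr ⟨P, hP, hc⟩)
    have hflatP : Module.Flat (MvPolynomial (Fin n) E) (MvPolynomial (Fin n) S) :=
      flat_mvPolynomial_of_flat E S (Fin n)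
    have hmapI : (I.comap (algebraMap (MvPolynomial (Fin n) E) (MvPolynomial (Fin n) S))).map
        (algebraMap (MvPolynomial (Fin n) E) (MvPolynomial (Fin n) S)) = I :=
      map_comap_eq_of_span_eq_of_subset_range _ I gens hgens (fun P hP =>
        hmem P (Finset.mem_union_right _ hP))
    refine ⟨MvPolynomial (Fin n) E ⧸
        I.comap (algebraMap (MvPolynomial (Fin n) E) (MvPolynomial (Fin n) S)),
      inferInstance, inferInstance,
      Ideal.quotientMap I (algebraMap (MvPolynomial (Fin n) E) (MvPolynomial (Fin n) S)) le_rfl,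
      flat_quotientMap_of_map_eq _ I hmapI le_rfl, hcatE n _, ?_⟩
    intro x hx
    obtain ⟨P', hP'⟩ := hmem (lift x) (Finset.mem_union_left _ (Finset.mem_image_of_mem lift hx))
    refine ⟨Ideal.Quotient.mk _ P', ?_⟩
    rw [Ideal.quotientMap_mk]
    change Ideal.Quotient.mk I (MvPolynomial.map ψ P') = x
    rw [hP', hlift]
  exact Groth.Agent.H46.isCatenary_of_surjective
    (RingHom.quotientKerEquivOfSurjective (f := f.toRingHom) hf).toRingHom
    (RingHom.quotientKerEquivOfSurjective (f := f.toRingHom) hf).surjective key

end UC

end Groth.Agent.Lib.Helper29
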