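import Mathlib

/-!
# A linear map of finite projective modules over a Noetherian ring which is bijective on the
fibres over all primes of height `≤ 1` is bijective.
-/

namespace Groth.Agent.Lib.Helper29.CodimOneBij

open TensorProduct

universe w

section Tower

variable {R : Type*} [CommRing R] {M N : Type*} [AddCommGroup M] [AddCommGroup N]
  [Module R M] [Module R N]

/-- base change in stages -/
theorem baseChange_baseChange_bijective_iff (A L : Type*) [CommRing A] [CommRing L]
    [Algebra R A] [Algebra A L] [Algebra R L] [IsScalarTower R A L] (φ : M →ₗ[R] N) :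
    Function.Bijective ((φ.baseChange A).baseChange L) ↔ Function.Bijective (φ.baseChange L) := by
  let eM := TensorProduct.AlgebraTensorModule.cancelBaseChange R A L L M
  let eN := TensorProduct.AlgebraTensorModule.cancelBaseChange R A L L N
  have hcomm : ∀ x, eN ((φ.baseChange A).baseChange L x) = φ.baseChange L (eM x) := by
    intro x
    induction x using TensorProduct.induction_on with
    | zero => simp
    | tmul l y =>
      induction y using TensorProduct.induction_on with
      | zero => simp
      | tmul a m =>
        simp [eM, eN, TensorProduct.AlgebraTensorModule.cancelBaseChange_tmul]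
      | add y z hy hz => simp only [tmul_add, map_add, hy, hz]
    | add x y hx hy => simp only [map_add, hx, hy]
  have h1 : (φ.baseChange L : L ⊗[R] M → L ⊗[R] N) ∘ eM =
      eN ∘ ((φ.baseChange A).baseChange L) := by
    funext x
    exact (hcomm x).symm
  constructor
  · intro h
    have : Function.Bijective ((φ.baseChange L : L ⊗[R] M → L ⊗[R] N) ∘ eM) := by
      rw [h1]
      exact eN.bijective.comp h
    exact (Function.Bijective.of_comp_iff _ eM.bijective).mp this
  · intro h
    have : Function.Bijective (eN ∘ ((φ.baseChange A).baseChange L)) := by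
      rw [← h1]
      exact h.comp eM.bijective
    exact (Function.Bijective.of_comp_iff' eN.bijective _).mp this

theorem baseChange_bijective (A : Type*) [CommRing A] [Algebra R A] (φ : M →ₗ[R] N)
    (h : Function.Bijective φ) : Function.Bijective (φ.baseChange A) := by
  have : φ.baseChange A = ((LinearEquiv.ofBijective φ h).baseChange R A M N : _ →ₗ[A] _) := by
    ext
    simp
  rw [this]
  exact LinearEquiv.bijective _

end Tower

section Free

variable (A : Type*) [CommRing A] [IsNoetherianRing A] [Nontrivial A]
  {F F' : Type*} [AddCommGroup F] [AddCommGroup F'] [Module A F] [Module A F']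
  [Module.Free A F] [Module.Finite A F] [Module.Free A F'] [Module.Finite A F']

theorem bijective_of_free (ψ : F →ₗ[A] F')
    (H : ∀ 𝔮 : Ideal A, 𝔮.IsPrime → 𝔮.height ≤ 1 →
      ∃ (K : Type w) (_ : Field K) (_ : Algebra A K),
        (∀ x ∈ 𝔮, algebraMap A K x = 0) ∧ Function.Bijective (ψ.baseChange K)) :
    Function.Bijective ψ := by
  -- equality of ranks
  have hrank : Module.finrank A F = Module.finrank A F' := by
    obtain ⟨𝔮₀, h𝔮₀⟩ := Ideal.nonempty_minimalPrimes (I := (⊥ : Ideal A)) bot_ne_top
    have hp : 𝔮₀.IsPrime := h𝔮₀.isPrime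
    have hh : 𝔮₀.height ≤ 1 := by
      have : 𝔮₀.height = 0 := Ideal.height_eq_zero_iff.mpr h𝔮₀
      rw [this]
      exact zero_le_one
    obtain ⟨K, _, _, -, hbij⟩ := H 𝔮₀ hp hh
    have := (LinearEquiv.ofBijective (ψ.baseChange K) hbij).finrank_eq
    rwa [Module.finrank_baseChange, Module.finrank_baseChange] at this
  let e : F' ≃ₗ[A] F := LinearEquiv.ofFinrankEq F' F hrank.symm
  set θ : F →ₗ[A] F := e.toLinearMap ∘ₗ ψ with hθ
  have hunit : IsUnit (LinearMap.det θ) := by
    by_contra hnu
    have hne : Ideal.span {LinearMap.det θ} ≠ ⊤ := by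
      rwa [Ne, Ideal.span_singleton_eq_top]
    obtain ⟨𝔮, h𝔮⟩ := Ideal.nonempty_minimalPrimes hne
    have hp : 𝔮.IsPrime := h𝔮.isPrime
    have hh : 𝔮.height ≤ 1 :=
      Ideal.height_le_one_of_isPrincipal_of_mem_minimalPrimes _ 𝔮 h𝔮
    have hmem : LinearMap.det θ ∈ 𝔮 := h𝔮.1.2 (Ideal.mem_span_singleton_self _)
    obtain ⟨K, _, _, hz, hbij⟩ := H 𝔮 hp hh
    have hθK : Function.Bijective (θ.baseChange K) := by
      rw [hθ, LinearMap.baseChange_comp]
      exact (baseChange_bijective K e.toLinearMap e.bijective).comp hbij
    have hu : IsUnit (θ.baseChange K) :=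
      (Module.End.isUnit_iff _).mpr hθK
    rw [LinearMap.isUnit_iff_isUnit_det, LinearMap.det_baseChange, hz _ hmem] at hu
    exact not_isUnit_zero hu
  have hθb : Function.Bijective θ :=
    (Module.End.isUnit_iff _).mp ((LinearMap.isUnit_iff_isUnit_det θ).mpr hunit)
  have : (θ : F → F) = e ∘ ψ := rfl
  rw [this] at hθb
  exact (Function.Bijective.of_comp_iff' e.bijective _).mp hθb

end Free

section Main

variable {R : Type*} [CommRing R] [IsNoetherianRing R] {M N : Type*} [AddCommGroup M]
  [AddCommGroup N] [Module R M] [Module R N] [Module.Finite R M] [Module.Flat R M]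
  [Module.Finite R N] [Module.Flat R N]

/-- transfer of the hypothesis to the localisation at a prime -/
theorem hyp_localization (φ : M →ₗ[R] N)
    (H : ∀ p : Ideal R, p.IsPrime → p.height ≤ 1 →
      ∃ (K : Type w) (_ : Field K) (_ : Algebra R K),
        RingHom.ker (algebraMap R K) = p ∧ Function.Bijective (φ.baseChange K))
    (q : Ideal R) [q.IsPrime] (𝔮 : Ideal (Localization.AtPrime q)) (h𝔮 : 𝔮.IsPrime)
    (hh : 𝔮.height ≤ 1) :
    ∃ (K : Type w) (_ : Field K) (_ : Algebra (Localization.AtPrime q) K),
        (∀ x ∈ 𝔮, algebraMap (Localization.AtPrime q) K x = 0) ∧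
        Function.Bijective ((φ.baseChange (Localization.AtPrime q)).baseChange K) := by
  set A := Localization.AtPrime q
  set p : Ideal R := 𝔮.comap (algebraMap R A) with hp
  have hpp : p.IsPrime := Ideal.IsPrime.comap _
  have hph : p.height ≤ 1 := by
    have : p.height = 𝔮.height := IsLocalization.height_comap q.primeCompl 𝔮
    rwa [this]
  obtain ⟨K, hK, hAlg, hker, hbij⟩ := H p hpp hph
  have hunits : ∀ y : q.primeCompl, IsUnit (algebraMap R K (y : R)) := by
    intro y
    apply IsUnit.mk0
    intro h0
    have hy : (y : R) ∈ p := by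
      rw [← hker]
      exact h0
    have hyq : algebraMap R A (y : R) ∈ 𝔮 := hy
    exact h𝔮.ne_top (Ideal.eq_top_of_isUnit_mem _ hyq (IsLocalization.map_units A y))
  let g : A →+* K := IsLocalization.lift hunits
  let _ : Algebra A K := g.toAlgebra
  have hg : ∀ r : R, g (algebraMap R A r) = algebraMap R K r := fun r =>
    IsLocalization.lift_eq hunits r
  have : IsScalarTower R A K := IsScalarTower.of_algebraMap_eq fun r => (hg r).symm
  refine ⟨K, hK, inferInstance, ?_, ?_⟩
  · intro x hx
    obtain ⟨⟨a, s⟩, hxs⟩ := IsLocalization.surj q.primeCompl x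
    have ha : a ∈ p := by
      show algebraMap R A a ∈ 𝔮
      rw [← hxs]
      exact 𝔮.mul_mem_right _ hx
    have ha0 : algebraMap R K a = 0 := by
      have : a ∈ RingHom.ker (algebraMap R K) := hker ▸ ha
      exact this
    have h1 : g x * g (algebraMap R A (s : R)) = g (algebraMap R A a) := by
      rw [← map_mul, hxs]
    rw [hg, hg, ha0] at h1
    have hs0 : algebraMap R K (s : R) ≠ 0 := (hunits s).ne_zero
    exact (mul_eq_zero.mp h1).resolve_right hs0
  · exact (baseChange_baseChange_bijective_iff A K φ).mpr hbij

theorem bijective_of_codim_one (φ : M →ₗ[R] N)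
    (H : ∀ p : Ideal R, p.IsPrime → p.height ≤ 1 →
      ∃ (K : Type w) (_ : Field K) (_ : Algebra R K),
        RingHom.ker (algebraMap R K) = p ∧ Function.Bijective (φ.baseChange K)) :
    Function.Bijective φ := by
  refine bijective_of_isLocalized_maximal
    (fun P _ => Localization.AtPrime P ⊗[R] M)
    (fun P _ => TensorProduct.mk R (Localization.AtPrime P) M 1)
    (fun P _ => Localization.AtPrime P ⊗[R] N)
    (fun P _ => TensorProduct.mk R (Localization.AtPrime P) N 1) φ ?_
  intro P hP
  have hmap : IsLocalizedModule.map P.primeCompl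
      (TensorProduct.mk R (Localization.AtPrime P) M 1)
      (TensorProduct.mk R (Localization.AtPrime P) N 1) φ =
      (φ.baseChange (Localization.AtPrime P)).restrictScalars R := by
    apply IsLocalizedModule.linearMap_ext P.primeCompl
      (TensorProduct.mk R (Localization.AtPrime P) M 1)
      (TensorProduct.mk R (Localization.AtPrime P) N 1)
    rw [IsLocalizedModule.map_comp]
    ext m
    simp
  rw [hmap]
  have : Module.Free (Localization.AtPrime P) (Localization.AtPrime P ⊗[R] M) :=
    Module.free_of_flat_of_isLocalRing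
  have : Module.Free (Localization.AtPrime P) (Localization.AtPrime P ⊗[R] N) :=
    Module.free_of_flat_of_isLocalRing
  exact bijective_of_free (Localization.AtPrime P) (φ.baseChange (Localization.AtPrime P))
    (fun 𝔮 h𝔮 hh => hyp_localization φ H P 𝔮 h𝔮 hh)

end Main

end Groth.Agent.Lib.Helper29.CodimOneBij
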