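import Mathlib
import Groth.Agent.Lib.Helper29.CodimOneBij

/-!
# A morphism of finite flat schemes over a Noetherian base which is an isomorphism on the fibres
over all points of codimension `≤ 1` is an isomorphism.
-/

set_option autoImplicit false
universe u
open CategoryTheory AlgebraicGeometry Limits TensorProduct

namespace Groth.Agent.Lib.Helper29.CodimOneIso

section Cat

variable {C : Type*} [Category C]

theorem isIso_of_isIso_pullbackMap {P Q S T X1 X2 : C} {f : P ⟶ S} {g : Q ⟶ S} {σ : T ⟶ S}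
    (Ψ : P ⟶ Q) [HasPullback f σ] [HasPullback g σ]
    {a1 : X1 ⟶ P} {b1 : X1 ⟶ T} {a2 : X2 ⟶ Q} {b2 : X2 ⟶ T}
    (hB : IsPullback a1 b1 f σ) (hC : IsPullback a2 b2 g σ) (m : X1 ⟶ X2)
    (hm1 : m ≫ a2 = a1 ≫ Ψ) (hm2 : m ≫ b2 = b1)
    (e1 : f ≫ 𝟙 S = Ψ ≫ g) (e2 : σ ≫ 𝟙 S = 𝟙 T ≫ σ)
    (h : IsIso (pullback.map f σ g σ Ψ (𝟙 T) (𝟙 S) e1 e2)) : IsIso m := by
  have key : m ≫ hC.isoPullback.hom =
      hB.isoPullback.hom ≫ pullback.map f σ g σ Ψ (𝟙 T) (𝟙 S) e1 e2 := by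
    apply pullback.hom_ext
    · rw [Category.assoc, IsPullback.isoPullback_hom_fst, hm1, Category.assoc,
        pullback.lift_fst, IsPullback.isoPullback_hom_fst_assoc]
    · rw [Category.assoc, IsPullback.isoPullback_hom_snd, hm2, Category.assoc,
        pullback.lift_snd, Category.comp_id, IsPullback.isoPullback_hom_snd]
  have : m = hB.isoPullback.hom ≫ pullback.map f σ g σ Ψ (𝟙 T) (𝟙 S) e1 e2 ≫
      hC.isoPullback.inv := by
    rw [← Category.assoc, ← key, Category.assoc, Iso.hom_inv_id, Category.comp_id]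
  rw [this]
  infer_instance

end Cat

section Ring

theorem bijective_baseChange_of_isIso {R C B K : Type u} [CommRing R] [CommRing C] [CommRing B]
    [CommRing K] [Algebra R C] [Algebra R B] [Algebra R K] (φ : C →ₐ[R] B)
    (h : IsIso (Spec.map (CommRingCat.ofHom
      (Algebra.TensorProduct.map (AlgHom.id R K) φ).toRingHom))) :
    Function.Bijective (φ.toLinearMap.baseChange K) := by
  rw [isIso_SpecMap_iff] at h
  have : (φ.toLinearMap.baseChange K : K ⊗[R] C → K ⊗[R] B) =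
      (Algebra.TensorProduct.map (AlgHom.id R K) φ) := by
    funext x
    induction x using TensorProduct.induction_on with
    | zero => simp
    | tmul k c => simp
    | add x y hx hy => simp only [map_add, hx, hy]
  rw [this]
  exact h

end Ring

section Scheme

variable {S P Q : Scheme.{u}}

/-- `Spec κ(s) ⟶ S` through an affine open. -/
theorem SpecMap_evaluation_fromSpec {U : S.Opens} (hU : IsAffineOpen U) (s : S) (hs : s ∈ U) :
    Spec.map (S.evaluation U s hs) ≫ hU.fromSpec = S.fromSpecResidueField s := by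
  rw [Scheme.fromSpecResidueField, ← hU.fromSpecStalk_eq_fromSpecStalk hs,
    IsAffineOpen.fromSpecStalk, ← Spec.map_comp_assoc, Scheme.germ_residue]

theorem ker_evaluation {U : S.Opens} (hU : IsAffineOpen U) (y : PrimeSpectrum Γ(S, U))
    (hs : hU.fromSpec y ∈ U) :
    RingHom.ker (S.evaluation U (hU.fromSpec y) hs).hom = y.asIdeal := by
  ext x
  rw [RingHom.mem_ker]
  change (S.evaluation U (hU.fromSpec y) hs) x = 0 ↔ _
  rw [Scheme.evaluation_eq_zero_iff_notMem_basicOpen]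
  have : hU.fromSpec y ∈ S.basicOpen x ↔ y ∈ hU.fromSpec ⁻¹ᵁ S.basicOpen x := Iff.rfl
  rw [this, hU.fromSpec_preimage_basicOpen]
  change ¬ (x ∉ y.asIdeal) ↔ x ∈ y.asIdeal
  exact not_not

theorem ringKrullDim_stalk_fromSpec {U : S.Opens} (hU : IsAffineOpen U)
    (y : PrimeSpectrum Γ(S, U)) (hs : hU.fromSpec y ∈ U) :
    ringKrullDim (S.presheaf.stalk (hU.fromSpec y)) = y.asIdeal.height := by
  have h := hU.isLocalization_stalk' y hs
  exact @IsLocalization.AtPrime.ringKrullDim_eq_height _ _ y.asIdeal _ _ _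
    (TopCat.Presheaf.algebra_section_stalk S.presheaf ⟨hU.fromSpec y, hs⟩) h

/-- the square over an affine open of the target and its (affine) preimage is cartesian -/
theorem isPullback_fromSpec (f : P ⟶ S) {U : S.Opens} (hU : IsAffineOpen U)
    (hW : IsAffineOpen (f ⁻¹ᵁ U)) :
    IsPullback (Spec.map (f.appLE U (f ⁻¹ᵁ U) le_rfl)) hW.fromSpec hU.fromSpec f := by
  apply IsOpenImmersion.isPullback
  · exact (IsAffineOpen.SpecMap_appLE_fromSpec f hU hW le_rfl).symm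
  · rw [hU.opensRange_fromSpec, hW.opensRange_fromSpec]

set_option maxHeartbeats 1000000 in
theorem bijective_appLE_of_fibres [IsNoetherian S] (g : Q ⟶ S) (Ψ : P ⟶ Q)
    [IsFinite (Ψ ≫ g)] [Flat (Ψ ≫ g)] [IsFinite g] [Flat g]
    (h : ∀ s : S, ringKrullDim (S.presheaf.stalk s) ≤ 1 →
      ∀ (e1 : (Ψ ≫ g) ≫ 𝟙 S = Ψ ≫ g)
        (e2 : S.fromSpecResidueField s ≫ 𝟙 S = 𝟙 _ ≫ S.fromSpecResidueField s),
      IsIso (pullback.map (Ψ ≫ g) (S.fromSpecResidueField s) g (S.fromSpecResidueField s)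
        Ψ (𝟙 _) (𝟙 S) e1 e2))
    (U : S.Opens) (hU : IsAffineOpen U) :
    Function.Bijective (Ψ.appLE (g ⁻¹ᵁ U) (Ψ ⁻¹ᵁ (g ⁻¹ᵁ U)) le_rfl).hom := by
  have hV : IsAffineOpen (g ⁻¹ᵁ U) := hU.preimage g
  have hW : IsAffineOpen (Ψ ⁻¹ᵁ (g ⁻¹ᵁ U)) := hU.preimage (Ψ ≫ g)
  set gU := g.appLE U (g ⁻¹ᵁ U) le_rfl with hgU
  set φ := Ψ.appLE (g ⁻¹ᵁ U) (Ψ ⁻¹ᵁ (g ⁻¹ᵁ U)) le_rfl with hφ
  have hcomp : (Ψ ≫ g).appLE U (Ψ ⁻¹ᵁ (g ⁻¹ᵁ U)) le_rfl = gU ≫ φ := by
    rw [hgU, hφ, Scheme.Hom.appLE_comp_appLE]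
  have hcomp' : (Ψ ≫ g).app U = gU ≫ φ := by
    rw [← hcomp, Scheme.Hom.app_eq_appLE]
    rfl
  letI algC : Algebra Γ(S, U) Γ(Q, g ⁻¹ᵁ U) := gU.hom.toAlgebra
  letI algB : Algebra Γ(S, U) Γ(P, Ψ ⁻¹ᵁ (g ⁻¹ᵁ U)) := (gU ≫ φ).hom.toAlgebra
  let φ' : Γ(Q, g ⁻¹ᵁ U) →ₐ[Γ(S, U)] Γ(P, Ψ ⁻¹ᵁ (g ⁻¹ᵁ U)) :=
    { φ.hom with commutes' := fun r => rfl }
  haveI : IsNoetherianRing Γ(S, U) := IsLocallyNoetherian.component_noetherian ⟨U, hU⟩
  haveI : Module.Finite Γ(S, U) Γ(Q, g ⁻¹ᵁ U) := by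
    have := IsFinite.finite_app g U hU
    rw [Scheme.Hom.app_eq_appLE] at this
    exact this
  haveI : Module.Flat Γ(S, U) Γ(Q, g ⁻¹ᵁ U) := g.flat_appLE hU hV le_rfl
  haveI : Module.Finite Γ(S, U) Γ(P, Ψ ⁻¹ᵁ (g ⁻¹ᵁ U)) := by
    have := IsFinite.finite_app (Ψ ≫ g) U hU
    rw [hcomp'] at this
    exact this
  haveI : Module.Flat Γ(S, U) Γ(P, Ψ ⁻¹ᵁ (g ⁻¹ᵁ U)) := by
    have := (Ψ ≫ g).flat_appLE hU hW le_rfl
    rw [hcomp] at this
    exact this
  suffices hb : Function.Bijective φ'.toLinearMap from hb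
  apply Groth.Agent.Lib.Helper29.CodimOneBij.bijective_of_codim_one.{_, _, _, u}
  intro p hp hht
  set y : PrimeSpectrum Γ(S, U) := ⟨p, hp⟩ with hy
  have hs : hU.fromSpec y ∈ U := by
    have : hU.fromSpec y ∈ Set.range hU.fromSpec := Set.mem_range_self y
    rw [hU.range_fromSpec] at this
    exact this
  have hdim : ringKrullDim (S.presheaf.stalk (hU.fromSpec y)) ≤ 1 := by
    rw [ringKrullDim_stalk_fromSpec hU y hs]
    exact_mod_cast hht
  have hiso := h (hU.fromSpec y) hdim (by simp) (by simp)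
  set ev := S.evaluation U (hU.fromSpec y) hs with hev
  letI algK : Algebra Γ(S, U) (S.residueField (hU.fromSpec y)) := ev.hom.toAlgebra
  refine ⟨S.residueField (hU.fromSpec y), inferInstance, algK, ker_evaluation hU y hs, ?_⟩
  apply bijective_baseChange_of_isIso
  -- the two fibre squares
  have hσ : Spec.map ev ≫ hU.fromSpec = S.fromSpecResidueField (hU.fromSpec y) :=
    SpecMap_evaluation_fromSpec hU _ hs
  have sqC := (isPullback_fromSpec g hU hV).flip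
  have sqB : IsPullback hW.fromSpec (Spec.map (gU ≫ φ)) (Ψ ≫ g) hU.fromSpec := by
    have := (isPullback_fromSpec (Ψ ≫ g) hU hW).flip
    rwa [show (Ψ ≫ g).appLE U ((Ψ ≫ g) ⁻¹ᵁ U) le_rfl = gU ≫ φ from hcomp] at this
  have tC := (isPullback_SpecMap_of_isPushout _ _ _ _
    (CommRingCat.isPushout_tensorProduct Γ(S, U) (S.residueField (hU.fromSpec y))
      Γ(Q, g ⁻¹ᵁ U))).flip
  have tB := (isPullback_SpecMap_of_isPushout _ _ _ _
    (CommRingCat.isPushout_tensorProduct Γ(S, U) (S.residueField (hU.fromSpec y))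
      Γ(P, Ψ ⁻¹ᵁ (g ⁻¹ᵁ U)))).flip
  have hC := tC.paste_horiz sqC
  have hB := tB.paste_horiz sqB
  have hσ' : Spec.map (CommRingCat.ofHom (algebraMap Γ(S, U) (S.residueField (hU.fromSpec y)))) ≫
      hU.fromSpec = S.fromSpecResidueField (hU.fromSpec y) := hσ
  rw [hσ'] at hC hB
  refine isIso_of_isIso_pullbackMap Ψ hB hC _ ?_ ?_ _ _ hiso
  · have h1 : CommRingCat.ofHom (Algebra.TensorProduct.includeRight
          (R := Γ(S, U)) (A := S.residueField (hU.fromSpec y)) (B := Γ(Q, g ⁻¹ᵁ U))).toRingHom ≫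
        CommRingCat.ofHom (Algebra.TensorProduct.map
          (AlgHom.id Γ(S, U) (S.residueField (hU.fromSpec y))) φ').toRingHom =
        φ ≫ CommRingCat.ofHom (Algebra.TensorProduct.includeRight
          (R := Γ(S, U)) (A := S.residueField (hU.fromSpec y))
          (B := Γ(P, Ψ ⁻¹ᵁ (g ⁻¹ᵁ U)))).toRingHom := by
      ext c
      simp [φ']
    rw [← Spec.map_comp_assoc, h1, Spec.map_comp_assoc, Category.assoc]
    congr 1
    exact IsAffineOpen.SpecMap_appLE_fromSpec Ψ hV hW le_rfl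
  · rw [← Spec.map_comp]
    congr 1
    ext k
    simp

theorem isIso_of_fibres_codimOne [IsNoetherian S] (f : P ⟶ S) (g : Q ⟶ S) (Ψ : P ⟶ Q)
    (hf : Ψ ≫ g = f) [IsFinite f] [Flat f] [IsFinite g] [Flat g]
    (h : ∀ s : S, ringKrullDim (S.presheaf.stalk s) ≤ 1 →
      ∀ (e1 : f ≫ 𝟙 S = Ψ ≫ g)
        (e2 : S.fromSpecResidueField s ≫ 𝟙 S = 𝟙 _ ≫ S.fromSpecResidueField s),
      IsIso (pullback.map f (S.fromSpecResidueField s) g (S.fromSpecResidueField s)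
        Ψ (𝟙 _) (𝟙 S) e1 e2)) :
    IsIso Ψ := by
  subst hf
  let 𝒰 : Q.OpenCover := Scheme.Cover.mkOfCovers S.affineOpens
    (fun U => Spec Γ(Q, g ⁻¹ᵁ U.1)) (fun U => (U.2.preimage g).fromSpec) (by
      intro x
      obtain ⟨U, hU, hxU, -⟩ := exists_isAffineOpen_mem_and_subset
        (show g x ∈ (⊤ : S.Opens) from trivial)
      have hx : x ∈ Set.range ((hU.preimage g).fromSpec) := by
        rw [IsAffineOpen.range_fromSpec]
        exact hxU
      obtain ⟨z, hz⟩ := hx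
      exact ⟨⟨U, hU⟩, z, hz⟩)
  change MorphismProperty.isomorphisms Scheme Ψ
  apply IsZariskiLocalAtTarget.of_openCover 𝒰
  intro U
  have sq := (isPullback_fromSpec Ψ (U.2.preimage g) (U.2.preimage (Ψ ≫ g))).flip
  have hb := bijective_appLE_of_fibres g Ψ h U.1 U.2
  have hiso : IsIso (Spec.map (Ψ.appLE (g ⁻¹ᵁ U.1) (Ψ ⁻¹ᵁ (g ⁻¹ᵁ U.1)) le_rfl)) :=
    isIso_SpecMap_iff.mpr hb
  have heq0 : sq.isoPullback.hom ≫ 𝒰.pullbackHom Ψ U =
      Spec.map (Ψ.appLE (g ⁻¹ᵁ U.1) (Ψ ⁻¹ᵁ (g ⁻¹ᵁ U.1)) le_rfl) := sq.isoPullback_hom_snd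
  have heq : 𝒰.pullbackHom Ψ U = sq.isoPullback.inv ≫
      Spec.map (Ψ.appLE (g ⁻¹ᵁ U.1) (Ψ ⁻¹ᵁ (g ⁻¹ᵁ U.1)) le_rfl) := by
    exact ((Iso.inv_comp_eq _).mpr heq0.symm).symm
  rw [heq]
  exact (MorphismProperty.isomorphisms.iff _).mpr
    (@IsIso.comp_isIso _ _ _ _ _ _ _ (Iso.isIso_inv sq.isoPullback) hiso)

theorem surjective_of_generic_points (g : Q ⟶ S) [IsFinite g]
    (h : ∀ s : S, ringKrullDim (S.presheaf.stalk s) ≤ 1 → s ∈ Set.range g.base) :
    Function.Surjective g.base := by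
  intro x
  obtain ⟨U, hU, hxU, -⟩ := exists_isAffineOpen_mem_and_subset
    (show x ∈ (⊤ : S.Opens) from trivial)
  set px := hU.primeIdealOf ⟨x, hxU⟩ with hpx
  obtain ⟨p₀, hp₀, hle⟩ := Ideal.exists_minimalPrimes_le (bot_le : ⊥ ≤ px.asIdeal)
  have hp₀p : p₀.IsPrime := hp₀.isPrime
  set y₀ : PrimeSpectrum Γ(S, U) := ⟨p₀, hp₀p⟩ with hy₀
  have hs : hU.fromSpec y₀ ∈ U := by
    have : hU.fromSpec y₀ ∈ Set.range hU.fromSpec := Set.mem_range_self y₀
    rw [hU.range_fromSpec] at this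
    exact this
  have hdim : ringKrullDim (S.presheaf.stalk (hU.fromSpec y₀)) ≤ 1 := by
    rw [ringKrullDim_stalk_fromSpec hU y₀ hs]
    have : y₀.asIdeal.height = 0 := Ideal.height_eq_zero_iff.mpr hp₀
    rw [this]
    exact zero_le_one
  have hmem := h _ hdim
  have hspec : hU.fromSpec y₀ ⤳ x := by
    have h1 : y₀ ⤳ px := (PrimeSpectrum.le_iff_specializes y₀ px).mp hle
    have h2 := h1.map hU.fromSpec.continuous
    rwa [hpx, hU.fromSpec_primeIdealOf] at h2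
  have hcl : IsClosed (Set.range g.base) := g.isClosedMap.isClosed_range
  exact hspec.mem_closed hcl hmem

end Scheme

end Groth.Agent.Lib.Helper29.CodimOneIso
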