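import Groth.Agent.Lib.Helper29.CplQuotEquidim

/-!
Helper lemmas (helper29): a ring isomorphism of local rings induces an isomorphism of completions.
-/

set_option autoImplicit false
universe u

namespace Groth.Agent.Lib.Helper29

open IsLocalRing

section

variable {S : Type u} [CommRing S] (I : Ideal S)

theorem complMap_id (h : I.map (RingHom.id S) ≤ I) :
    FSch.complMap I I (RingHom.id S) h = RingHom.id _ := by
  apply RingHom.ext
  intro x
  apply AdicCompletion.ext_evalₐ
  intro n
  rw [Groth.Agent.Lib.Helper18.evalₐ_complMap, RingHom.id_apply]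
  obtain ⟨r, hr⟩ := Ideal.Quotient.mk_surjective (AdicCompletion.evalₐ I n x)
  rw [← hr]
  rfl

end

section

variable {R S : Type u} [CommRing R] [CommRing S] [IsLocalRing R] [IsLocalRing S]

theorem map_maximalIdeal_ringEquiv_le (e : R ≃+* S) :
    (maximalIdeal R).map (e : R →+* S) ≤ maximalIdeal S :=
  (IsLocalRing.map_maximalIdeal_of_surjective (e : R →+* S) e.surjective).le

/-- A ring isomorphism of local rings induces an isomorphism of completions. -/
noncomputable def cplCongr (e : R ≃+* S) : EGA4.Cpl R ≃+* EGA4.Cpl S :=
  RingEquiv.ofRingHom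
    (FSch.complMap (maximalIdeal R) (maximalIdeal S) (e : R →+* S)
      (map_maximalIdeal_ringEquiv_le e))
    (FSch.complMap (maximalIdeal S) (maximalIdeal R) (e.symm : S →+* R)
      (map_maximalIdeal_ringEquiv_le e.symm))
    (by
      have h : (maximalIdeal S).map (((e : R →+* S)).comp (e.symm : S →+* R)) ≤ maximalIdeal S := by
        rw [← Ideal.map_map]
        exact (Ideal.map_mono (map_maximalIdeal_ringEquiv_le e.symm)).trans
          (map_maximalIdeal_ringEquiv_le e)
      rw [Groth.Agent.Lib.Helper18.complMap_comp _ _ _ _ _ _ _ h]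
      have h2 : ((e : R →+* S)).comp (e.symm : S →+* R) = RingHom.id S := by
        ext s; simp
      have : ∀ (g : S →+* S) (hg : g = RingHom.id S) (h' : (maximalIdeal S).map g ≤ maximalIdeal S),
          FSch.complMap (maximalIdeal S) (maximalIdeal S) g h' = RingHom.id _ := by
        intro g hg h'
        subst hg
        exact complMap_id _ h'
      exact this _ h2 h)
    (by
      have h : (maximalIdeal R).map (((e.symm : S →+* R)).comp (e : R →+* S)) ≤ maximalIdeal R := by
        rw [← Ideal.map_map]
        exact (Ideal.map_mono (map_maximalIdeal_ringEquiv_le e)).trans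
          (map_maximalIdeal_ringEquiv_le e.symm)
      rw [Groth.Agent.Lib.Helper18.complMap_comp _ _ _ _ _ _ _ h]
      have h2 : ((e.symm : S →+* R)).comp (e : R →+* S) = RingHom.id R := by
        ext s; simp
      have : ∀ (g : R →+* R) (hg : g = RingHom.id R) (h' : (maximalIdeal R).map g ≤ maximalIdeal R),
          FSch.complMap (maximalIdeal R) (maximalIdeal R) g h' = RingHom.id _ := by
        intro g hg h'
        subst hg
        exact complMap_id _ h'
      exact this _ h2 h)

end

section

variable (A : Type u) [CommRing A] [IsLocalRing A] [IsNoetherianRing A]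

/-- If `A` carries a finite CM module with full support then `(A/p)^` is equidimensional for all
primes `p`; version for an arbitrary local quotient domain `D` of `A`. -/
theorem isEquidim_cpl_of_surjective (M : Type u) [AddCommGroup M] [Module A M] [Module.Finite A M]
    (hCM : LocCoh.IsCohenMacaulayModule A M) (hsupp : Module.support A M = Set.univ)
    (D : Type u) [CommRing D] [IsDomain D] [IsLocalRing D] (f : A →+* D)
    (hf : Function.Surjective f) : EGA4.IsEquidim (EGA4.Cpl D) := by
  have hker : (RingHom.ker f).IsPrime := RingHom.ker_isPrime f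
  obtain ⟨N, _, _, _, hN, hpN⟩ := exists_isCohenMacaulayModule_mem_associatedPrimes A M hCM
    ⟨RingHom.ker f, hker⟩ (by rw [hsupp]; trivial)
  have h := isStrictlyEquidim_cplQ A (RingHom.ker f) N hN hpN
  have hNC : IsNoetherianRing (EGA4.Cpl (A ⧸ RingHom.ker f)) :=
    isNoetherianRing_cpl (A ⧸ RingHom.ker f)
  have h1 : EGA4.IsStrictlyEquidim (EGA4.Cpl (A ⧸ RingHom.ker f)) :=
    isStrictlyEquidim_of_ringEquiv (cplQuotientEquiv A (RingHom.ker f)).symm h
  have h2 := isEquidim_of_isStrictlyEquidim h1
  exact isEquidim_of_ringEquiv (cplCongr (RingHom.quotientKerEquivOfSurjective hf)) h2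

end

end Groth.Agent.Lib.Helper29
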