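import Groth.Agent.Lib.Helper29.CplFlat
import Groth.Agent.Lib.Helper47.CompletionIso
import Groth.Agent.Lib.Helper18.ComplMap
import Groth.Agent.Lib.Helper44.AdicQuot

/-!
Helper lemmas (helper29): the completion of a quotient `A ⧸ I` of a Noetherian local ring is
`Â ⧸ IÂ` (as rings).
-/

set_option autoImplicit false
universe u

namespace Groth.Agent.Lib.Helper29

open IsLocalRing TensorProduct

section

variable (A : Type u) [CommRing A] [IsLocalRing A] [IsNoetherianRing A] (I : Ideal A)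

/-- `IÂ` is a proper ideal of `Â`. -/
theorem map_cpl_ne_top (hI : I ≠ ⊤) : I.map (algebraMap A (EGA4.Cpl A)) ≠ ⊤ := by
  have hLC : IsLocalRing (EGA4.Cpl A) := isLocalRing_cpl A
  have hmax := maximalIdeal_adicCompletion_eq_map A (maximalIdeal A)
    (Ideal.IsPrime.ne_top inferInstance)
  intro h
  have h1 : I.map (algebraMap A (EGA4.Cpl A)) ≤ maximalIdeal (EGA4.Cpl A) := by
    rw [hmax]; exact Ideal.map_mono (le_maximalIdeal hI)
  rw [h] at h1
  exact (maximalIdeal.isMaximal (EGA4.Cpl A)).ne_top (top_le_iff.mp h1)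

end

section

variable (A : Type u) [CommRing A] [IsLocalRing A] [IsNoetherianRing A] (I : Ideal A)
  [hnt : Nontrivial (A ⧸ I)]

/-- abbreviation for `Â ⧸ IÂ`. -/
abbrev CplQ : Type u := EGA4.Cpl A ⧸ I.map (algebraMap A (EGA4.Cpl A))

instance nontrivial_cplQ : Nontrivial (CplQ A I) :=
  Ideal.Quotient.nontrivial_iff.mpr
    (map_cpl_ne_top A I (Ideal.Quotient.nontrivial_iff.mp hnt))

instance isLocalRing_cplQ : IsLocalRing (CplQ A I) :=
  haveI := isLocalRing_cpl A
  IsLocalRing.of_surjective' (Ideal.Quotient.mk _) Ideal.Quotient.mk_surjective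

instance isNoetherianRing_cplQ : IsNoetherianRing (CplQ A I) :=
  haveI := isNoetherianRing_cpl A
  inferInstance

instance flat_cplQ : Module.Flat (A ⧸ I) (CplQ A I) :=
  Module.Flat.of_linearEquiv
    (Algebra.TensorProduct.quotIdealMapEquivQuotTensor (EGA4.Cpl A) I).toLinearEquiv

theorem algebraMap_cplQ_mk (a : A) :
    algebraMap (A ⧸ I) (CplQ A I) (Ideal.Quotient.mk I a) =
      Ideal.Quotient.mk _ (algebraMap A (EGA4.Cpl A) a) := rfl

/-- `m_{A/I} (Â/IÂ) = m_{Â/IÂ}`. -/
theorem map_maximalIdeal_cplQ :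
    (maximalIdeal (A ⧸ I)).map (algebraMap (A ⧸ I) (CplQ A I)) = maximalIdeal (CplQ A I) := by
  have hLC : IsLocalRing (EGA4.Cpl A) := isLocalRing_cpl A
  have hmax := maximalIdeal_adicCompletion_eq_map A (maximalIdeal A)
    (Ideal.IsPrime.ne_top inferInstance)
  rw [← IsLocalRing.map_maximalIdeal_of_surjective (Ideal.Quotient.mk I)
    Ideal.Quotient.mk_surjective, Ideal.map_map]
  rw [← IsLocalRing.map_maximalIdeal_of_surjective
    (Ideal.Quotient.mk (I.map (algebraMap A (EGA4.Cpl A)))) Ideal.Quotient.mk_surjective, hmax,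
    Ideal.map_map]
  rfl

instance isLocalHom_cplQ : IsLocalHom (algebraMap (A ⧸ I) (CplQ A I)) := by
  apply ((IsLocalRing.local_hom_TFAE (algebraMap (A ⧸ I) (CplQ A I))).out 0 2).mpr
  rw [map_maximalIdeal_cplQ]

theorem residueField_map_cplQ_bijective :
    Function.Bijective (ResidueField.map (algebraMap (A ⧸ I) (CplQ A I))) := by
  have hLC : IsLocalRing (EGA4.Cpl A) := isLocalRing_cpl A
  have hmax := maximalIdeal_adicCompletion_eq_map A (maximalIdeal A)
    (Ideal.IsPrime.ne_top inferInstance)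
  refine ⟨RingHom.injective _, fun c => ?_⟩
  obtain ⟨c', rfl⟩ := IsLocalRing.residue_surjective c
  obtain ⟨x, rfl⟩ := Ideal.Quotient.mk_surjective c'
  -- approximate `x` by an element of `A` modulo the maximal ideal
  obtain ⟨a, ha⟩ := Ideal.Quotient.mk_surjective (AdicCompletion.evalOneₐ (maximalIdeal A) x)
  have hx : x - algebraMap A (EGA4.Cpl A) a ∈ maximalIdeal (EGA4.Cpl A) := by
    rw [hmax, ← AdicCompletion.ker_evalOneₐ_eq_map (maximalIdeal A)
      (Ideal.fg_of_isNoetherianRing _), RingHom.mem_ker]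
    change (AdicCompletion.evalOneₐ (maximalIdeal A)) (x - algebraMap A (EGA4.Cpl A) a) = 0
    rw [map_sub, AlgHom.commutes, ← ha, sub_eq_zero]
    rfl
  refine ⟨IsLocalRing.residue (A ⧸ I) (Ideal.Quotient.mk I a), ?_⟩
  rw [IsLocalRing.ResidueField.map_residue, algebraMap_cplQ_mk]
  symm
  rw [← sub_eq_zero, ← map_sub, ← map_sub, IsLocalRing.residue_eq_zero_iff]
  rw [← IsLocalRing.map_maximalIdeal_of_surjective
    (Ideal.Quotient.mk (I.map (algebraMap A (EGA4.Cpl A)))) Ideal.Quotient.mk_surjective]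
  exact Ideal.mem_map_of_mem _ hx

/-- `Â ⧸ IÂ` is complete for its maximal ideal. -/
instance isAdicComplete_cplQ : IsAdicComplete (maximalIdeal (CplQ A I)) (CplQ A I) := by
  have hLC : IsLocalRing (EGA4.Cpl A) := isLocalRing_cpl A
  have hNC : IsNoetherianRing (EGA4.Cpl A) := isNoetherianRing_cpl A
  have hmax := maximalIdeal_adicCompletion_eq_map A (maximalIdeal A)
    (Ideal.IsPrime.ne_top inferInstance)
  have hcompl : IsAdicComplete (maximalIdeal (EGA4.Cpl A)) (EGA4.Cpl A) := by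
    rw [hmax]
    exact AdicCompletion.isAdicComplete_self (maximalIdeal A) (Ideal.fg_of_isNoetherianRing _)
  have h := Groth.Agent.Lib.Helper44.isAdicComplete_quotient_ring (maximalIdeal (EGA4.Cpl A))
    (I.map (algebraMap A (EGA4.Cpl A)))
  have heq : (maximalIdeal (EGA4.Cpl A)).map (algebraMap (EGA4.Cpl A) (CplQ A I)) =
      maximalIdeal (CplQ A I) :=
    IsLocalRing.map_maximalIdeal_of_surjective
      (Ideal.Quotient.mk (I.map (algebraMap A (EGA4.Cpl A)))) Ideal.Quotient.mk_surjective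
  rw [heq] at h
  exact h

/-- the comparison map `(A/I)^ → (Â/IÂ)^`. -/
noncomputable def cplQuotMap : EGA4.Cpl (A ⧸ I) →+* EGA4.Cpl (CplQ A I) :=
  FSch.complMap (maximalIdeal (A ⧸ I)) (maximalIdeal (CplQ A I))
    (algebraMap (A ⧸ I) (CplQ A I)) (map_maximalIdeal_cplQ A I).le

theorem cplQuotMap_comp :
    (cplQuotMap A I).comp (algebraMap (A ⧸ I) (EGA4.Cpl (A ⧸ I))) =
      (algebraMap (CplQ A I) (EGA4.Cpl (CplQ A I))).comp (algebraMap (A ⧸ I) (CplQ A I)) := by
  apply RingHom.ext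
  intro x
  apply AdicCompletion.ext_evalₐ
  intro n
  rw [RingHom.comp_apply, RingHom.comp_apply, cplQuotMap,
    Groth.Agent.Lib.Helper18.evalₐ_complMap]
  change Ideal.quotientMap _ _ _ (AdicCompletion.evalₐ _ n (AdicCompletion.of _ _ x)) =
    AdicCompletion.evalₐ _ n (AdicCompletion.of _ _ _)
  rw [AdicCompletion.evalₐ_of, AdicCompletion.evalₐ_of, Ideal.quotientMap_mk]
  rfl

theorem cplQuotMap_bijective : Function.Bijective (cplQuotMap A I) :=
  Groth.Agent.Lib.Helper47.completion_map_bijective (A ⧸ I) (CplQ A I)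
    (map_maximalIdeal_cplQ A I) (residueField_map_cplQ_bijective A I) (cplQuotMap A I)
    (cplQuotMap_comp A I)

/-- `(A/I)^ ≃ Â/IÂ`. -/
noncomputable def cplQuotientEquiv : EGA4.Cpl (A ⧸ I) ≃+* CplQ A I :=
  (RingEquiv.ofBijective (cplQuotMap A I) (cplQuotMap_bijective A I)).trans
    (AdicCompletion.ofAlgEquiv (maximalIdeal (CplQ A I))).symm.toRingEquiv

theorem cplQuotientEquiv_algebraMap (x : A ⧸ I) :
    cplQuotientEquiv A I (algebraMap (A ⧸ I) (EGA4.Cpl (A ⧸ I)) x) =
      algebraMap (A ⧸ I) (CplQ A I) x := by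
  unfold cplQuotientEquiv
  rw [RingEquiv.trans_apply, RingEquiv.ofBijective_apply]
  have h := RingHom.congr_fun (cplQuotMap_comp A I) x
  rw [RingHom.comp_apply, RingHom.comp_apply] at h
  rw [h]
  change (AdicCompletion.ofAlgEquiv (maximalIdeal (CplQ A I))).symm
    (AdicCompletion.of _ _ (algebraMap (A ⧸ I) (CplQ A I) x)) = _
  exact AdicCompletion.ofAlgEquiv_symm_of _ _

end

end Groth.Agent.Lib.Helper29
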