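import Groth.Agent.Lib.Helper29.DepthFlat2
import Mathlib.RingTheory.Unramified.LocalRing
import Mathlib.RingTheory.Smooth.Flat
import Mathlib.RingTheory.Etale.Basic

/-!
Helper lemmas (helper29): depth / dimension / Cohen–Macaulayness along an étale local homomorphism
(localization of an étale algebra at a prime).
-/

set_option autoImplicit false
universe u

namespace Groth.Agent.Lib.Helper29

open IsLocalRing

/-- A local homomorphism which is a localization of an étale algebra is flat with `m_A B = m_B`. -/
theorem flat_and_maximalIdeal_eq_map_of_etale_localization (A B : Type u) [CommRing A] [CommRing B]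
    [IsLocalRing A] [IsLocalRing B] [Algebra A B] [IsLocalHom (algebraMap A B)]
    (E : Type u) [CommRing E] [Algebra A E] [Algebra.Etale A E] (P : Ideal E) [P.IsPrime]
    [Algebra E B] [IsScalarTower A E B] [IsLocalization.AtPrime B P] :
    Module.Flat A B ∧ maximalIdeal B = (maximalIdeal A).map (algebraMap A B) := by
  have h1 : Module.Flat A E := inferInstance
  have h2 : Module.Flat E B := IsLocalization.flat B P.primeCompl
  have h3 : Module.Flat A B := Module.Flat.trans A E B
  have h4 : Algebra.FormallyUnramified E B :=
    Algebra.FormallyUnramified.of_isLocalization P.primeCompl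
  have h5 : Algebra.FormallyUnramified A B := Algebra.FormallyUnramified.comp A E B
  have h6 : Algebra.EssFiniteType E B := Algebra.EssFiniteType.of_isLocalization B P.primeCompl
  have h7 : Algebra.EssFiniteType A B := Algebra.EssFiniteType.comp A E B
  exact ⟨h3, Algebra.FormallyUnramified.map_maximalIdeal.symm⟩

end Groth.Agent.Lib.Helper29
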