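import Groth.Agent.Lib.Helper29.DepthFinite
import Mathlib.RingTheory.Flat.FaithfullyFlat.Algebra
import Mathlib.RingTheory.Regular.Flat
import Mathlib.RingTheory.QuotSMulTop

/-!
Helper lemmas (helper29): depth and flat local base change with trivial closed fibre
(`m_A B = m_B`), e.g. completion.
-/

set_option autoImplicit false
universe u v

namespace Groth.Agent.Lib.Helper29

open IsLocalRing RingTheory.Sequence TensorProduct
open scoped Pointwise

/-- If `m_A ∈ Ass_A M` and `m_B = m_A B` with `B` faithfully flat over `A`, no element of `m_B` is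
regular on `B ⊗ M`. -/
theorem not_isSMulRegular_baseChange_of_mem_associatedPrimes (A B : Type u) [CommRing A]
    [CommRing B] [IsLocalRing A] [IsLocalRing B] [IsNoetherianRing A] [Algebra A B]
    [Module.FaithfullyFlat A B]
    (hmax : maximalIdeal B = (maximalIdeal A).map (algebraMap A B))
    (M : Type v) [AddCommGroup M] [Module A M]
    (h0 : maximalIdeal A ∈ associatedPrimes A M) (b : B)
    (hb : b ∈ maximalIdeal B) : ¬ IsSMulRegular (B ⊗[A] M) b := by
  intro hreg
  obtain ⟨-, m0, hm0⟩ := isAssociatedPrime_iff.mp h0
  have hm0' : ∀ a : A, a ∈ maximalIdeal A ↔ a • m0 = 0 := by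
    intro a
    rw [hm0, Submodule.mem_colon_singleton, Submodule.mem_bot]
  have hm0ne : m0 ≠ 0 := by
    rintro rfl
    have := (hm0' 1).mpr (smul_zero 1)
    exact (maximalIdeal.isMaximal A).ne_top ((Ideal.eq_top_iff_one _).mpr this)
  have hy : (1 : B) ⊗ₜ[A] m0 ≠ 0 := by
    intro h
    apply hm0ne
    apply Module.FaithfullyFlat.tensorProduct_mk_injective (A := A) (B := B) M
    simpa using h
  -- the annihilator of `1 ⊗ m0` contains `m_B`
  let J : Ideal B := LinearMap.ker (LinearMap.toSpanSingleton B (B ⊗[A] M) ((1 : B) ⊗ₜ[A] m0))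
  have hJ : maximalIdeal B ≤ J := by
    rw [hmax, Ideal.map_le_iff_le_comap]
    intro a ha
    change algebraMap A B a ∈ J
    rw [LinearMap.mem_ker, LinearMap.toSpanSingleton_apply, algebraMap_smul,
      ← TensorProduct.tmul_smul, (hm0' a).mp ha, TensorProduct.tmul_zero]
  have hb0 : b • ((1 : B) ⊗ₜ[A] m0) = 0 := by
    have := hJ hb
    rwa [LinearMap.mem_ker, LinearMap.toSpanSingleton_apply] at this
  exact hy (hreg (by simpa using hb0))

/-- Depth is invariant under flat local base change with `m_A B = m_B`: inductive form. -/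
theorem depth_baseChange_eq_aux (A B : Type u) [CommRing A] [CommRing B] [IsLocalRing A]
    [IsLocalRing B] [IsNoetherianRing A] [IsNoetherianRing B] [Algebra A B]
    [Module.Flat A B] [IsLocalHom (algebraMap A B)]
    (hmax : maximalIdeal B = (maximalIdeal A).map (algebraMap A B)) (n : ℕ) :
    ∀ (M : Type u) [AddCommGroup M] [Module A M] [Module.Finite A M] [Nontrivial M],
      LocCoh.depth A M = n → LocCoh.depth B (B ⊗[A] M) = n := by
  have hff : Module.FaithfullyFlat A B := Module.FaithfullyFlat.of_flat_of_isLocalHom
  induction n with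
  | zero =>
    intro M _ _ _ _ h
    have hnt : Nontrivial (B ⊗[A] M) :=
      (Module.FaithfullyFlat.tensorProduct_mk_injective (A := A) (B := B) M).nontrivial
    have h0 : maximalIdeal A ∈ associatedPrimes A M := (depth_eq_zero_iff A M).mp (by simpa using h)
    simpa using depth_eq_zero_of_forall_not_isSMulRegular B (B ⊗[A] M)
      (not_isSMulRegular_baseChange_of_mem_associatedPrimes A B hmax M h0)
  | succ n ih =>
    intro M _ _ _ _ h
    obtain ⟨rs, hlen, hmem, hreg⟩ := (le_depth_iff A M (n + 1)).mp h.ge
    match rs, hlen, hmem, hreg with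
    | [], hlen, _, _ => simp at hlen
    | x :: rs', hlen, hmem, hreg =>
      have hx : x ∈ maximalIdeal A := hmem x (by simp)
      have hxreg : IsSMulRegular M x :=
        ((isWeaklyRegular_cons_iff M x rs').mp hreg.toIsWeaklyRegular).1
      have hy : algebraMap A B x ∈ maximalIdeal B := map_nonunit (algebraMap A B) x hx
      have hyreg : IsSMulRegular (B ⊗[A] M) (algebraMap A B x) :=
        hxreg.of_flat_of_isBaseChange (TensorProduct.isBaseChange A M B)
      have h1 := depth_quotSMulTop_add_one A M hx hxreg
      have h2 := depth_quotSMulTop_add_one B (B ⊗[A] M) hy hyreg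
      rw [h] at h1
      have h1' : LocCoh.depth A (QuotSMulTop x M) = n := by
        have h3 : LocCoh.depth A (QuotSMulTop x M) + 1 = (n : ℕ∞) + 1 := by
          rw [h1]; push_cast; rfl
        rw [add_comm, add_comm (n : ℕ∞) 1] at h3
        exact ENat.add_right_injective_of_ne_top (by simp) h3
      have hnt : Nontrivial (QuotSMulTop x M) := by
        by_contra hcon
        rw [not_nontrivial_iff_subsingleton] at hcon
        rw [depth_eq_top_of_subsingleton] at h1'
        exact absurd h1' (by simp)
      have h3 := ih (QuotSMulTop x M) h1'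
      have e := QuotSMulTop.algebraMapTensorEquivTensorQuotSMulTop x M B
      rw [← h2, show LocCoh.depth B (QuotSMulTop ((algebraMap A B) x) (B ⊗[A] M)) =
        LocCoh.depth B (B ⊗[A] QuotSMulTop x M) from idealDepth_congr _ e, h3]
      push_cast
      rfl

/-- Depth is invariant under flat local base change with `m_A B = m_B`. -/
theorem depth_baseChange_eq (A B : Type u) [CommRing A] [CommRing B] [IsLocalRing A]
    [IsLocalRing B] [IsNoetherianRing A] [IsNoetherianRing B] [Algebra A B]
    [Module.Flat A B] [IsLocalHom (algebraMap A B)]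
    (hmax : maximalIdeal B = (maximalIdeal A).map (algebraMap A B))
    (M : Type u) [AddCommGroup M] [Module A M] [Module.Finite A M] :
    LocCoh.depth B (B ⊗[A] M) = LocCoh.depth A M := by
  rcases subsingleton_or_nontrivial M with hM | hM
  · rw [depth_eq_top_of_subsingleton, depth_eq_top_of_subsingleton]
  · obtain ⟨n, hn⟩ := ENat.ne_top_iff_exists.mp (depth_ne_top A M)
    rw [← hn, depth_baseChange_eq_aux A B hmax n M hn.symm]

end Groth.Agent.Lib.Helper29
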