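import Groth.Agent.Lib.Helper29.DepthCM2

/-!
Helper lemmas (helper29): for a Cohen–Macaulay module, `dim M = dim M/IM + depth_I M`.
-/

set_option autoImplicit false
universe u v

namespace Groth.Agent.Lib.Helper29

open IsLocalRing RingTheory.Sequence
open scoped Pointwise

/-- `(M/xM)/I(M/xM) ≃ M/IM` for `x ∈ I`. -/
noncomputable def quotSMulTopQuotientEquiv {A : Type*} [CommRing A] (M : Type*) [AddCommGroup M]
    [Module A M] (I : Ideal A) {x : A} (hx : x ∈ I) :
    (QuotSMulTop x M ⧸ (I • (⊤ : Submodule A (QuotSMulTop x M)))) ≃ₗ[A]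
      (M ⧸ (I • (⊤ : Submodule A M))) :=
  (Submodule.quotEquivOfEq _ _ (by
      rw [Submodule.map_smul'', Submodule.map_top, Submodule.range_mkQ])).trans
    (Submodule.quotientQuotientEquivQuotient (x • (⊤ : Submodule A M))
      (I • (⊤ : Submodule A M)) (by
        rw [← Submodule.ideal_span_singleton_smul]
        exact Submodule.smul_mono_left ((Ideal.span_singleton_le_iff_mem I).mpr hx)))

section Local

variable (A : Type u) [CommRing A] [IsLocalRing A] [IsNoetherianRing A]

theorem supportDim_eq_add_idealDepth_aux (n : ℕ) :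
    ∀ (M : Type u) [AddCommGroup M] [Module A M] [Module.Finite A M]
      (_ : LocCoh.IsCohenMacaulayModule A M) (I : Ideal A) (_ : I ≠ ⊤),
      LocCoh.idealDepth I M = n →
      Module.supportDim A M =
        Module.supportDim A (M ⧸ (I • (⊤ : Submodule A M))) + (n : WithBot ℕ∞) := by
  induction n with
  | zero =>
    intro M _ _ _ hM I hI h
    have hnt := nontrivial_of_isCohenMacaulayModule A hM
    have hnoreg : ∀ x ∈ I, ¬ IsSMulRegular M x := by
      intro x hx hreg
      have h1 := length_le_idealDepth I M [x] ((isWeaklyRegular_singleton_iff M x).mpr hreg)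
        (by simpa using hx)
      rw [h] at h1
      simp at h1
    obtain ⟨Ia, hIa⟩ := associatedPrimes.nonempty A M
    have hexist : ∃ p ∈ associatedPrimes A M, I ≤ p := by
      apply (Ideal.subset_union_prime_finite (associatedPrimes.finite A M) Ia Ia _).mp
      · rw [biUnion_associatedPrimes_eq_compl_regular A M]
        exact fun r hr => hnoreg r hr
      · exact fun I hin _ _ => IsAssociatedPrime.isPrime hin
    obtain ⟨p, hp, hle⟩ := hexist
    have hpM := mem_support_of_mem_associatedPrimes A hp
    have hpQ : (⟨p, IsAssociatedPrime.isPrime hp⟩ : PrimeSpectrum A) ∈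
        Module.support A (M ⧸ (I • (⊤ : Submodule A M))) := by
      rw [Module.support_quotient]
      exact ⟨hpM, by rw [PrimeSpectrum.mem_zeroLocus]; exact hle⟩
    have h1 := ringKrullDim_quotient_le_supportDim _ hpQ
    rw [ringKrullDim_quotient_eq_supportDim_of_isCohenMacaulayModule A M hM p hp] at h1
    have h2 : Module.supportDim A (M ⧸ (I • (⊤ : Submodule A M))) ≤ Module.supportDim A M :=
      Module.supportDim_le_of_surjective (Submodule.mkQ _) (Submodule.mkQ_surjective _)
    simpa using le_antisymm h1 h2
  | succ n ih =>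
    intro M _ _ _ hM I hI h
    have hnt := nontrivial_of_isCohenMacaulayModule A hM
    have hIm : I ≤ maximalIdeal A := le_maximalIdeal hI
    have hIM : I • (⊤ : Submodule A M) ≠ ⊤ := by
      intro htop
      exact maximalIdeal_smul_top_ne_top A M
        (top_le_iff.mp (htop.symm.le.trans (Submodule.smul_mono_left hIm)))
    rcases (le_idealDepth_iff I M (n + 1)).mp h.ge with htop | ⟨rs, hlen, hmem, hreg⟩
    · exact absurd htop hIM
    · match rs, hlen, hmem, hreg with
      | [], hlen, _, _ => simp at hlen
      | x :: rs', hlen, hmem, hreg =>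
        have hxI : x ∈ I := hmem x (by simp)
        have hx : x ∈ maximalIdeal A := hIm hxI
        have hxreg : IsSMulRegular M x := ((isWeaklyRegular_cons_iff M x rs').mp hreg).1
        have hM' := isCohenMacaulayModule_quotSMulTop A M hM hx hxreg
        have h1 := idealDepth_quotSMulTop_add_one I M hxI hxreg
        rw [h] at h1
        have h1' : LocCoh.idealDepth I (QuotSMulTop x M) = n := by
          have h3 : LocCoh.idealDepth I (QuotSMulTop x M) + 1 = (n : ℕ∞) + 1 := by
            rw [h1]; push_cast; rfl
          rw [add_comm, add_comm (n : ℕ∞) 1] at h3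
          exact ENat.add_right_injective_of_ne_top (by simp) h3
        have h2 := ih (QuotSMulTop x M) hM' I hI h1'
        rw [Module.supportDim_eq_of_equiv (quotSMulTopQuotientEquiv M I hxI)] at h2
        rw [← Module.supportDim_quotSMulTop_succ_eq_supportDim hxreg hx, h2, add_assoc]
        push_cast
        rfl

/-- For a CM module, `dim M = dim M/IM + depth_I M`. -/
theorem supportDim_eq_add_idealDepth_of_isCohenMacaulayModule (I : Ideal A) (hI : I ≠ ⊤)
    (M : Type u) [AddCommGroup M] [Module A M] [Module.Finite A M]
    (hM : LocCoh.IsCohenMacaulayModule A M) :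
    Module.supportDim A M =
      Module.supportDim A (M ⧸ (I • (⊤ : Submodule A M))) +
        ((LocCoh.idealDepth I M : ℕ∞) : WithBot ℕ∞) := by
  have hnt := nontrivial_of_isCohenMacaulayModule A hM
  have hle : LocCoh.idealDepth I M ≤ LocCoh.depth A M := idealDepth_mono (le_maximalIdeal hI) M
  have hne : LocCoh.idealDepth I M ≠ ⊤ := fun h => depth_ne_top A M (top_le_iff.mp (h ▸ hle))
  obtain ⟨n, hn⟩ := ENat.ne_top_iff_exists.mp hne
  rw [← hn]
  exact supportDim_eq_add_idealDepth_aux A n M hM I hI hn.symm

end Local

end Groth.Agent.Lib.Helper29
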