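import Groth.Agent.H46.Catenary
import Mathlib.RingTheory.Ideal.KrullsHeightTheorem
import Mathlib.RingTheory.FiniteType
import Mathlib.Algebra.MvPolynomial.Equiv

/-!
Helper lemmas (helper29): a Noetherian ring whose spectrum carries an integer-valued function
dropping by one along covers (a dimension function) is catenary; finite type algebras over a ring
`A` are catenary as soon as all the polynomial rings `A[X_1, …, X_n]` are.
-/

set_option autoImplicit false
universe u

open Order

namespace Groth.Agent.Lib.Helper29

/-- Order-theoretic: a `ℤ`-valued function dropping by one along covers, on a poset whose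
intervals have bounded chains, forces the catenary property. -/
theorem ordCatenary_of_dimFun {α : Type*} [PartialOrder α] (δ : α → ℤ)
    (hδ : ∀ p q : α, p ⋖ q → δ p = δ q + 1)
    (hb : ∀ p q : α, p ≤ q → ∃ n : ℕ, ∀ s : LTSeries α, s.head = p → s.last = q →
      s.length ≤ n) :
    Groth.Agent.H46.OrdCatenary α := by
  refine ⟨hb, ?_⟩
  have key : ∀ s : LTSeries α, (∀ i : Fin s.length, s (Fin.castSucc i) ⋖ s (Fin.succ i)) →
      δ s.head = δ s.last + s.length := by
    intro s hs
    have : ∀ i : Fin (s.length + 1), δ (s 0) = δ (s i) + ((i : ℕ) : ℤ) := by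
      intro i
      induction i using Fin.induction with
      | zero => simp
      | succ i ih =>
        rw [ih, hδ _ _ (hs i)]
        simp only [Fin.val_castSucc, Fin.val_succ]
        push_cast
        ring
    have h := this (Fin.last _)
    simpa [RelSeries.head, RelSeries.last] using h
  intro s t hh hl hs ht
  have h1 := key s hs
  have h2 := key t ht
  rw [hh, hl] at h1
  omega

/-- A Noetherian ring with a dimension function is catenary. -/
theorem isCatenary_of_dimFun (A : Type u) [CommRing A] [IsNoetherianRing A]
    (δ : PrimeSpectrum A → ℤ) (hδ : ∀ p q : PrimeSpectrum A, p ⋖ q → δ p = δ q + 1) :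
    CAlg.IsCatenary A := by
  rw [Groth.Agent.H46.isCatenary_iff_ordCatenary]
  refine ordCatenary_of_dimFun δ hδ ?_
  intro p q _
  have hfin : Order.height q < ⊤ := by
    have h1 : q.asIdeal.height < ⊤ := Ideal.height_lt_top_of_isPrime
    rwa [PrimeSpectrum.height_eq_orderHeight] at h1
  obtain ⟨n, hn⟩ := ENat.ne_top_iff_exists.mp hfin.ne
  refine ⟨n, fun s _ hl => ?_⟩
  have := Order.length_le_height_last (p := s)
  rw [hl, ← hn] at this
  exact_mod_cast this

/-- To check that a Noetherian ring is universally catenary it suffices to check that the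
polynomial rings over it are catenary. -/
theorem isUniversallyCatenary_of_mvPolynomial (A : Type u) [CommRing A] [IsNoetherianRing A]
    (h : ∀ n : ℕ, CAlg.IsCatenary (MvPolynomial (Fin n) A)) : CAlg.IsUniversallyCatenary A := by
  refine ⟨inferInstance, fun S _ _ hS => ?_⟩
  obtain ⟨n, f, hf⟩ := Algebra.FiniteType.iff_quotient_mvPolynomial''.mp hS
  exact Groth.Agent.H46.isCatenary_of_surjective f.toRingHom hf (h n)

/-- The ring isomorphism `A[X_0, …, X_n] ≃ A[X][X_1, …, X_n]`. -/
noncomputable def mvPolynomialFinSuccEquivRight (A : Type u) [CommRing A] (n : ℕ) :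
    MvPolynomial (Fin (n + 1)) A ≃+* MvPolynomial (Fin n) (Polynomial A) :=
  ((MvPolynomial.renameEquiv A (_root_.finSuccEquiv n)).trans
    (MvPolynomial.optionEquivRight A (Fin n))).toRingEquiv

/-- Induction principle: a class `P` of Noetherian rings, all catenary and stable under
`A ↦ A[X]`, consists of universally catenary rings. -/
theorem isUniversallyCatenary_of_stable_polynomial
    (P : ∀ (A : Type u) [CommRing A], Prop)
    (hcat : ∀ (A : Type u) [CommRing A], P A → CAlg.IsCatenary A)
    (hnoeth : ∀ (A : Type u) [CommRing A], P A → IsNoetherianRing A)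
    (hpoly : ∀ (A : Type u) [CommRing A], P A → P (Polynomial A))
    (A : Type u) [CommRing A] (hA : P A) : CAlg.IsUniversallyCatenary A := by
  have key : ∀ (n : ℕ) (A : Type u) [CommRing A], P A →
      CAlg.IsCatenary (MvPolynomial (Fin n) A) := by
    intro n
    induction n with
    | zero =>
      intro A _ hA
      exact Groth.Agent.H46.isCatenary_of_surjective
        (MvPolynomial.isEmptyRingEquiv A (Fin 0)).symm.toRingHom
        (MvPolynomial.isEmptyRingEquiv A (Fin 0)).symm.surjective (hcat A hA)
    | succ n ih =>
      intro A _ hA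
      exact Groth.Agent.H46.isCatenary_of_surjective
        (mvPolynomialFinSuccEquivRight A n).symm.toRingHom
        (mvPolynomialFinSuccEquivRight A n).symm.surjective (ih (Polynomial A) (hpoly A hA))
  have := hnoeth A hA
  exact isUniversallyCatenary_of_mvPolynomial A (fun n => key n A hA)

end Groth.Agent.Lib.Helper29
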