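import Mathlib
import Groth.Agent.Lib.Helper98.KrullAkizukiKey
import Groth.Agent.S6320

/-!
# Degree inequality over one-dimensional Noetherian local domains (helper29)
-/

universe u v

namespace Groth.Agent.Lib.Helper29.DimOneDeg

open Groth.Agent.Lib.Helper74 Groth.Agent.Lib.Helper98

/-- the localization of a quotient ring `B ⧸ I` at a prime, as a quotient of the localization. -/
theorem length_localizedModule_quotient_ideal {B : Type u} [CommRing B] (I : Ideal B)
    (n : Ideal B) [n.IsPrime] :
    Module.length (Localization.AtPrime n) (LocalizedModule n.primeCompl (B ⧸ I)) =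
      Module.length (Localization.AtPrime n)
        (Localization.AtPrime n ⧸ I.map (algebraMap B (Localization.AtPrime n))) := by
  let f := I.toLocalizedQuotient' (Localization.AtPrime n) n.primeCompl
    (Algebra.linearMap B (Localization.AtPrime n))
  let e0 := IsLocalizedModule.linearEquiv n.primeCompl
    (LocalizedModule.mkLinearMap n.primeCompl (B ⧸ I)) f
  let e1 := e0.extendScalarsOfIsLocalization n.primeCompl (Localization.AtPrime n)
  let e2 := Submodule.quotEquivOfEq _ _
    (Ideal.localized'_eq_map (Localization.AtPrime n) n.primeCompl I)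
  exact (e1 ≪≫ₗ e2).length_eq

section Lattice

variable {R : Type u} [CommRing R] [IsDomain R] [IsNoetherianRing R] [IsLocalRing R]
  [Ring.KrullDimLE 1 R] (K : Type u) [Field K] [Algebra R K] [IsFractionRing R K]
  {V : Type v} [AddCommGroup V] [Module R V] [Module K V] [IsScalarTower R K V]
  [FiniteDimensional K V]

omit [IsNoetherianRing R] in
/-- in a one-dimensional local domain, a power of any non-unit lies in any nonzero principal
ideal. -/
theorem exists_pow_mem_span_singleton (x a : R) (hx : x ∈ IsLocalRing.maximalIdeal R)
    (ha : a ≠ 0) : ∃ n : ℕ, x ^ n ∈ Ideal.span {a} := by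
  have hrad : x ∈ (Ideal.span {a}).radical := by
    rw [Ideal.radical_eq_sInf, Ideal.mem_sInf]
    rintro p ⟨hap, hp⟩
    have hpne : p ≠ ⊥ := by
      rintro rfl
      exact ha (by simpa using hap (Ideal.mem_span_singleton_self a))
    have hpmax : p.IsMaximal := hp.isMaximal_of_ne_bot hpne
    rw [IsLocalRing.eq_maximalIdeal hpmax]
    exact hx
  exact hrad

/-- **Converse Krull–Akizuki-type criterion**: a spanning submodule `M` of a finite-dimensional
`K`-vector space with `ℓ(M/xM) = dim V · ord x` is finitely generated. -/
theorem fg_of_length_quotient_eq (M : Submodule R V)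
    (hspan : Submodule.span K (M : Set V) = ⊤) (x : R) (hx : x ∈ IsLocalRing.maximalIdeal R)
    (hx0 : x ≠ 0)
    (hlen : Module.length R (M ⧸ (Ideal.span {x} • (⊤ : Submodule R M))) =
      Module.finrank K V • Ring.ord R x) : M.FG := by
  classical
  have hnzd : x ∈ nonZeroDivisors R := mem_nonZeroDivisors_of_ne_zero hx0
  have hordfin : Ring.ord R x ≠ ⊤ := Ring.ord_ne_top hnzd
  have hNfin : Module.finrank K V • Ring.ord R x ≠ ⊤ := by
    obtain ⟨n, hn⟩ := ENat.ne_top_iff_exists.1 hordfin
    rw [← hn, nsmul_eq_mul, ← Nat.cast_mul]
    exact ENat.natCast_ne_top _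
  -- `M/xM` is finitely generated
  have hfl : IsFiniteLength R (M ⧸ (Ideal.span {x} • (⊤ : Submodule R M))) := by
    rw [← Module.length_ne_top_iff, hlen]
    exact hNfin
  have hfin : Module.Finite R (M ⧸ (Ideal.span {x} • (⊤ : Submodule R M))) := by
    have := (isFiniteLength_iff_isNoetherian_isArtinian.mp hfl).1
    infer_instance
  obtain ⟨T, hT⟩ := (Module.finite_def.mp hfin)
  choose lift hlift using Submodule.Quotient.mk_surjective (Ideal.span {x} • (⊤ : Submodule R M))
  -- a finite `K`-spanning subset of `M`
  obtain ⟨S₂, hS₂M, hS₂⟩ : ∃ S₂ : Finset V, (S₂ : Set V) ⊆ M ∧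
      Submodule.span K (M : Set V) = Submodule.span K (S₂ : Set V) := by
    have hfg : (Submodule.span K (M : Set V)).FG := by
      rw [hspan]
      exact Module.finite_def.mp inferInstance
    exact (Submodule.fg_span_iff_fg_span_finset_subset _).mp hfg
  set M' : Submodule R V :=
    Submodule.span R (((fun q => (lift q : V)) '' (T : Set _)) ∪ (S₂ : Set V)) with hM'
  have hM'fg : M'.FG :=
    Submodule.fg_span (((Finset.finite_toSet T).image _).union (Finset.finite_toSet S₂))
  have hle : M' ≤ M := by
    rw [hM', Submodule.span_le]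
    rintro v (⟨q, -, rfl⟩ | hv)
    · exact (lift q).2
    · exact hS₂M hv
  have hM'span : Submodule.span K (M' : Set V) = ⊤ := by
    rw [eq_top_iff, ← hspan, hS₂]
    apply Submodule.span_mono
    intro v hv
    exact Submodule.subset_span (Or.inr hv)
  have hLat : IsLat K M' := ⟨hM'fg, hM'span⟩
  have hlen' := length_quotient_smul_top_of_isLat K hLat x hx0
  -- the comparison map
  let g : ↥M' →ₗ[R] ↥M := Submodule.inclusion hle
  let gbar := Submodule.mapQ (Ideal.span {x} • (⊤ : Submodule R M'))
    (Ideal.span {x} • (⊤ : Submodule R M)) g (Submodule.smul_top_le_comap_smul_top _ g)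
  have hsurj : Function.Surjective gbar := by
    rw [← LinearMap.range_eq_top, eq_top_iff, ← hT, Submodule.span_le]
    intro q hq
    refine ⟨Submodule.Quotient.mk ⟨(lift q : V), Submodule.subset_span
      (Or.inl ⟨q, hq, rfl⟩)⟩, ?_⟩
    rw [Submodule.mapQ_apply]
    exact hlift q
  have hinj : Function.Injective gbar := by
    have hadd := Module.length_eq_add_of_exact (LinearMap.ker gbar).subtype gbar
      (Submodule.subtype_injective _) hsurj (LinearMap.exact_subtype_ker_map gbar)
    rw [hlen', hlen] at hadd
    have h0 : Module.length R (LinearMap.ker gbar) = 0 := by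
      have h1 : (0 : ℕ∞) + Module.finrank K V • Ring.ord R x =
          Module.length R (LinearMap.ker gbar) + Module.finrank K V • Ring.ord R x := by
        rw [zero_add]; exact hadd
      exact (ENat.add_left_injective_of_ne_top hNfin h1).symm
    rw [Module.length_eq_zero_iff] at h0
    rw [← LinearMap.ker_eq_bot]
    exact Submodule.eq_bot_of_subsingleton
  -- the key step
  have hstep : ∀ m ∈ M, x • m ∈ M' → m ∈ M' := by
    intro m hm hxm
    have h1 : gbar (Submodule.Quotient.mk ⟨x • m, hxm⟩) = 0 := by
      rw [Submodule.mapQ_apply, Submodule.Quotient.mk_eq_zero,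
        Submodule.ideal_span_singleton_smul, Submodule.mem_smul_pointwise_iff_exists]
      exact ⟨⟨m, hm⟩, trivial, rfl⟩
    have h2 : (Submodule.Quotient.mk ⟨x • m, hxm⟩ :
        ↥M' ⧸ (Ideal.span {x} • (⊤ : Submodule R M'))) = 0 := hinj (by rw [h1, map_zero])
    rw [Submodule.Quotient.mk_eq_zero, Submodule.ideal_span_singleton_smul,
      Submodule.mem_smul_pointwise_iff_exists] at h2
    obtain ⟨m'', -, hm''⟩ := h2
    have h3 : x • (m'' : V) = x • m := congrArg Subtype.val hm''
    have hxK : algebraMap R K x ≠ 0 := by
      rwa [Ne, IsFractionRing.to_map_eq_zero_iff]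
    have h4 : (m'' : V) = m := by
      rw [← algebraMap_smul K x, ← algebraMap_smul K x m] at h3
      exact smul_right_injective V hxK h3
    rw [← h4]
    exact m''.2
  have hpow : ∀ (n : ℕ) (m : V), m ∈ M → x ^ n • m ∈ M' → m ∈ M' := by
    intro n
    induction n with
    | zero => intro m _ h; simpa using h
    | succ n ih =>
      intro m hm h
      apply ih m hm
      apply hstep _ (M.smul_mem _ hm)
      rw [← mul_smul, ← pow_succ']
      exact h
  have hMM' : M ≤ M' := by
    intro m hm
    obtain ⟨a, ha, ham⟩ := exists_ne_zero_smul_mem_of_span_eq_top K M' hM'span m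
    obtain ⟨n, hn⟩ := exists_pow_mem_span_singleton x a hx ha
    obtain ⟨c, hc⟩ := Ideal.mem_span_singleton'.mp hn
    apply hpow n m hm
    rw [← hc, mul_smul]
    exact M'.smul_mem c ham
  rw [le_antisymm hMM' hle]
  exact hM'fg

end Lattice

section Main

variable (A B K L : Type u)
  [CommRing A] [IsDomain A] [IsNoetherianRing A] [IsLocalRing A] [Ring.KrullDimLE 1 A]
  [CommRing B] [IsDomain B] [Algebra A B]
  [Field K] [Field L] [Algebra A K] [IsFractionRing A K] [Algebra B L] [IsFractionRing B L]
  [Algebra K L] [Algebra A L] [IsScalarTower A K L] [IsScalarTower A B L] [FiniteDimensional K L]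

/-- the image of `B` in `L`, as an `A`-submodule. -/
noncomputable def lat : Submodule A L :=
  LinearMap.range (IsScalarTower.toAlgHom A B L).toLinearMap

/-- `B` is isomorphic to its image in `L`. -/
noncomputable def latEquiv : B ≃ₗ[A] lat A B L :=
  LinearEquiv.ofInjective (IsScalarTower.toAlgHom A B L).toLinearMap
    (IsFractionRing.injective B L)

omit [IsDomain A] [IsNoetherianRing A] [IsLocalRing A] [Ring.KrullDimLE 1 A] [IsDomain B] in
theorem latEquiv_apply (b : B) : ((latEquiv A B L b : lat A B L) : L) = algebraMap B L b := rfl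

omit [IsDomain A] [IsNoetherianRing A] [IsLocalRing A] [Ring.KrullDimLE 1 A] [IsDomain B] in
/-- `B/xB` and `M/xM` have the same length. -/
theorem length_quotient_eq_lat (x : A) :
    Module.length A (B ⧸ Ideal.span ({algebraMap A B x} : Set B)) =
      Module.length A (lat A B L ⧸ (Ideal.span {x} • (⊤ : Submodule A (lat A B L)))) := by
  let I : Ideal B := Ideal.span ({algebraMap A B x} : Set B)
  let P : Submodule A B := I.restrictScalars A
  have hmap : P.map (latEquiv A B L).toLinearMap =
      Ideal.span {x} • (⊤ : Submodule A (lat A B L)) := by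
    rw [Submodule.ideal_span_singleton_smul]
    ext y
    simp only [Submodule.mem_map, Submodule.mem_smul_pointwise_iff_exists]
    constructor
    · rintro ⟨b, hb, rfl⟩
      obtain ⟨c, rfl⟩ := Ideal.mem_span_singleton'.mp hb
      refine ⟨latEquiv A B L c, trivial, ?_⟩
      rw [← map_smul, Algebra.smul_def, mul_comm]
      rfl
    · rintro ⟨m, -, rfl⟩
      refine ⟨x • (latEquiv A B L).symm m, ?_, by simp⟩
      change x • (latEquiv A B L).symm m ∈ I
      rw [Algebra.smul_def]
      exact I.mul_mem_right _ (Ideal.mem_span_singleton_self _)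
  let e1 : (B ⧸ P) ≃ₗ[A] (B ⧸ I) := Submodule.Quotient.restrictScalarsEquiv A I
  let e2 : (B ⧸ P) ≃ₗ[A] _ := Submodule.Quotient.equiv P _ (latEquiv A B L) hmap
  exact (e1.symm ≪≫ₗ e2).length_eq

omit [IsLocalRing A] [IsDomain B] in
theorem length_quotient_le (x : A) (hx0 : x ≠ 0) :
    Module.length A (B ⧸ Ideal.span ({algebraMap A B x} : Set B)) ≤
      Module.finrank K L • Ring.ord A x := by
  rw [length_quotient_eq_lat A B L]
  exact length_quotient_smul_top_le K (lat A B L) x hx0

omit [IsDomain A] [IsNoetherianRing A] [IsLocalRing A] [Ring.KrullDimLE 1 A] [Algebra A K]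
  [IsFractionRing A K] [IsScalarTower A K L] in
/-- the image of `B` spans `L` over `K`. -/
theorem span_lat_eq_top : Submodule.span K (lat A B L : Set L) = ⊤ := by
  set W : Submodule K L := Submodule.span K (lat A B L : Set L) with hW
  have hmemB : ∀ b : B, algebraMap B L b ∈ W := fun b =>
    Submodule.subset_span ⟨b, rfl⟩
  -- `W` is stable under multiplication by `B`
  have hmul : ∀ (b : B) (w : L), w ∈ W → algebraMap B L b * w ∈ W := by
    intro b w hw
    induction hw using Submodule.span_induction with
    | mem y hy =>
      obtain ⟨b', rfl⟩ := hy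
      have : algebraMap B L b * (IsScalarTower.toAlgHom A B L).toLinearMap b' =
          algebraMap B L (b * b') := by
        rw [map_mul]; rfl
      rw [this]
      exact hmemB _
    | zero => rw [mul_zero]; exact W.zero_mem
    | add y z _ _ hy hz => rw [mul_add]; exact W.add_mem hy hz
    | smul k y _ hy => rw [mul_smul_comm]; exact W.smul_mem k hy
  -- inverses of nonzero elements of `B` lie in `W`
  have hinv : ∀ b : B, b ≠ 0 → (algebraMap B L b)⁻¹ ∈ W := by
    intro b hb
    have hbL : algebraMap B L b ≠ 0 := by
      rwa [Ne, IsFractionRing.to_map_eq_zero_iff]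
    let μ : W →ₗ[K] W :=
      { toFun := fun w => ⟨algebraMap B L b * w.1, hmul b w.1 w.2⟩
        map_add' := fun w w' => by
          apply Subtype.ext
          simp [mul_add]
        map_smul' := fun k w => by
          apply Subtype.ext
          simp }
    have hμinj : Function.Injective μ := by
      intro w w' h
      have h1 : algebraMap B L b * w.1 = algebraMap B L b * w'.1 := congrArg Subtype.val h
      exact Subtype.ext (mul_left_cancel₀ hbL h1)
    have hμsurj : Function.Surjective μ := LinearMap.surjective_of_injective hμinj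
    obtain ⟨w, hw⟩ := hμsurj ⟨1, by simpa using hmemB 1⟩
    have h1 : algebraMap B L b * w.1 = 1 := congrArg Subtype.val hw
    have h2 : (algebraMap B L b)⁻¹ = w.1 := inv_eq_of_mul_eq_one_right h1
    rw [h2]
    exact w.2
  rw [eq_top_iff]
  intro l _
  obtain ⟨b₁, b₂, hb₂, rfl⟩ := IsFractionRing.div_surjective (A := B) l
  rw [div_eq_mul_inv]
  exact hmul b₁ _ (hinv b₂ (nonZeroDivisors.ne_zero hb₂))

omit [IsLocalRing A] in
theorem length_quotient_eq_of_finite [Module.Finite A B] (x : A) (hx0 : x ≠ 0) :
    Module.length A (B ⧸ Ideal.span ({algebraMap A B x} : Set B)) =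
      Module.finrank K L • Ring.ord A x := by
  rw [length_quotient_eq_lat A B L]
  have hfg : (lat A B L).FG := by
    unfold lat
    rw [LinearMap.range_eq_map]
    exact (Module.finite_def.mp inferInstance).map _
  exact length_quotient_smul_top_of_isLat K ⟨hfg, span_lat_eq_top A B K L⟩ x hx0

theorem finite_of_length_quotient_eq (x : A) (hx : x ∈ IsLocalRing.maximalIdeal A) (hx0 : x ≠ 0)
    (h : Module.length A (B ⧸ Ideal.span ({algebraMap A B x} : Set B)) =
      Module.finrank K L • Ring.ord A x) : Module.Finite A B := by
  rw [length_quotient_eq_lat A B L] at h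
  have hfg := fg_of_length_quotient_eq K (lat A B L) (span_lat_eq_top A B K L) x hx hx0 h
  have : Module.Finite A (lat A B L) := Module.Finite.iff_fg.mpr hfg
  exact Module.Finite.equiv (latEquiv A B L).symm

include K L in
omit [IsNoetherianRing A] in
/-- every nonzero prime of `B` contains the image of the maximal ideal of `A`. -/
theorem comap_eq_maximalIdeal_of_ne_bot (q : Ideal B) [q.IsPrime] (hq : q ≠ ⊥) :
    q.comap (algebraMap A B) = IsLocalRing.maximalIdeal A := by
  obtain ⟨b, hbq, hb0⟩ := Submodule.exists_mem_ne_zero_of_ne_bot hq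
  have halg : IsAlgebraic A b := by
    have h1 : IsAlgebraic K (algebraMap B L b) := Algebra.IsAlgebraic.isAlgebraic _
    have h2 : IsAlgebraic A (algebraMap B L b) := (IsFractionRing.isAlgebraic_iff A K L).mpr h1
    exact (isAlgebraic_algebraMap_iff (IsFractionRing.injective B L)).mp h2
  have hne : q.comap (algebraMap A B) ≠ ⊥ := Ideal.comap_ne_bot_of_algebraic_mem hb0 hbq halg
  have hprime : (q.comap (algebraMap A B)).IsPrime := inferInstance
  exact IsLocalRing.eq_maximalIdeal (hprime.isMaximal_of_ne_bot hne)

omit [IsDomain A] [IsNoetherianRing A] [IsLocalRing A] [Ring.KrullDimLE 1 A] [IsDomain B] in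
/-- the local term vanishes at primes not containing `x`. -/
theorem length_localization_quotient_eq_zero (x : A) (m : Ideal B) [m.IsPrime]
    (h : algebraMap A B x ∉ m) :
    Module.length (Localization.AtPrime m)
      (Localization.AtPrime m ⧸
        Ideal.span ({algebraMap A (Localization.AtPrime m) x} : Set _)) = 0 := by
  have hunit : IsUnit (algebraMap A (Localization.AtPrime m) x) := by
    rw [IsScalarTower.algebraMap_apply A B (Localization.AtPrime m)]
    exact IsLocalization.map_units (Localization.AtPrime m) (⟨algebraMap A B x, h⟩ : m.primeCompl)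
  have htop : Ideal.span ({algebraMap A (Localization.AtPrime m) x} : Set _) = ⊤ :=
    Ideal.span_singleton_eq_top.mpr hunit
  rw [Module.length_eq_zero_iff, htop]
  exact Submodule.Quotient.subsingleton_iff.mpr rfl

include K L in
/-- the sum of local degrees times orders is the length of `B/xB`. -/
theorem finsum_eq_length (x : A) (hx : x ∈ IsLocalRing.maximalIdeal A) (hx0 : x ≠ 0) :
    Finite (MaximalSpectrum B) ∧
      (∑ᶠ m : MaximalSpectrum B,
          Module.length A (B ⧸ m.asIdeal) *
            Module.length (Localization.AtPrime m.asIdeal)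
              (Localization.AtPrime m.asIdeal ⧸
                Ideal.span ({algebraMap A (Localization.AtPrime m.asIdeal) x} : Set _)) =
        Module.length A (B ⧸ Ideal.span ({algebraMap A B x} : Set B))) := by
  classical
  have hinjAB : Function.Injective (algebraMap A B) := by
    intro a a' h
    have h1 : algebraMap A L a = algebraMap A L a' := by
      rw [IsScalarTower.algebraMap_apply A B L, h, ← IsScalarTower.algebraMap_apply A B L]
    rw [IsScalarTower.algebraMap_apply A K L, IsScalarTower.algebraMap_apply A K L] at h1
    exact IsFractionRing.injective A K ((algebraMap K L).injective h1)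
  have hxB0 : algebraMap A B x ≠ 0 := by
    rw [Ne, ← map_zero (algebraMap A B)]
    exact fun h => hx0 (hinjAB h)
  by_cases hu : IsUnit (algebraMap A B x)
  · -- `B` is a field
    have hbot : ∀ m : MaximalSpectrum B, m.asIdeal = ⊥ := by
      intro m
      by_contra hne
      have h1 := comap_eq_maximalIdeal_of_ne_bot A B K L m.asIdeal hne
      have h2 : algebraMap A B x ∈ m.asIdeal := by
        have : x ∈ m.asIdeal.comap (algebraMap A B) := by rw [h1]; exact hx
        exact this
      exact m.isMaximal.ne_top (Ideal.eq_top_of_isUnit_mem _ h2 hu)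
    have hsub : Subsingleton (MaximalSpectrum B) :=
      ⟨fun m m' => MaximalSpectrum.ext ((hbot m).trans (hbot m').symm)⟩
    refine ⟨Finite.of_subsingleton, ?_⟩
    have hR : Module.length A (B ⧸ Ideal.span ({algebraMap A B x} : Set B)) = 0 := by
      rw [Module.length_eq_zero_iff, Ideal.span_singleton_eq_top.mpr hu]
      exact Submodule.Quotient.subsingleton_iff.mpr rfl
    rw [hR]
    apply finsum_eq_zero_of_forall_eq_zero
    intro m
    have hnm : algebraMap A B x ∉ m.asIdeal := fun h =>
      m.isMaximal.ne_top (Ideal.eq_top_of_isUnit_mem _ h hu)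
    rw [length_localization_quotient_eq_zero A B x m.asIdeal hnm, mul_zero]
  · -- all maximal ideals contain `x`
    have hover : ∀ m : MaximalSpectrum B,
        m.asIdeal.comap (algebraMap A B) = IsLocalRing.maximalIdeal A := by
      intro m
      apply comap_eq_maximalIdeal_of_ne_bot A B K L
      intro hbot
      have hfield : IsField B := by
        have := m.isMaximal
        rw [hbot] at this
        exact Ring.isField_iff_maximal_bot.mpr this
      obtain ⟨y, hy⟩ := hfield.mul_inv_cancel hxB0
      exact hu (IsUnit.of_mul_eq_one _ hy)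
    have hmem : ∀ m : MaximalSpectrum B, algebraMap A B x ∈ m.asIdeal := by
      intro m
      have : x ∈ m.asIdeal.comap (algebraMap A B) := by rw [hover m]; exact hx
      exact this
    set I : Ideal B := Ideal.span ({algebraMap A B x} : Set B) with hI
    have hIle : ∀ m : MaximalSpectrum B, I ≤ m.asIdeal := fun m => by
      rw [hI, Ideal.span_singleton_le_iff_mem]
      exact hmem m
    -- `B ⧸ I` has finite length
    have hnzd : x ∈ nonZeroDivisors A := mem_nonZeroDivisors_of_ne_zero hx0
    have hlenfin : Module.length A (B ⧸ I) ≠ ⊤ := by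
      have hle := length_quotient_le A B K L x hx0
      obtain ⟨n, hn⟩ := ENat.ne_top_iff_exists.1 (Ring.ord_ne_top hnzd)
      rw [← hn, nsmul_eq_mul, ← Nat.cast_mul] at hle
      exact ne_top_of_le_ne_top (ENat.natCast_ne_top _) hle
    have hflA : IsFiniteLength A (B ⧸ I) := Module.length_ne_top_iff.mp hlenfin
    obtain ⟨hNoethA, hArtA⟩ := isFiniteLength_iff_isNoetherian_isArtinian.mp hflA
    have hNoethB : IsNoetherian B (B ⧸ I) := isNoetherian_of_tower A hNoethA
    have hArtB : IsArtinian B (B ⧸ I) := isArtinian_of_tower A hArtA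
    have hflB : IsFiniteLength B (B ⧸ I) :=
      isFiniteLength_iff_isNoetherian_isArtinian.mpr ⟨hNoethB, hArtB⟩
    have hArtC : IsArtinianRing (B ⧸ I) := isArtinian_of_tower A hArtA
    -- finiteness of the maximal spectrum
    have hfinite : Finite (MaximalSpectrum B) := by
      let φ : MaximalSpectrum B → PrimeSpectrum (B ⧸ I) := fun m =>
        ⟨m.asIdeal.map (Ideal.Quotient.mk I),
          Ideal.map_isPrime_of_surjective Ideal.Quotient.mk_surjective
            (by rw [Ideal.mk_ker]; exact hIle m)⟩
      have hφ : Function.Injective φ := by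
        intro m m' h
        have h1 : m.asIdeal.map (Ideal.Quotient.mk I) = m'.asIdeal.map (Ideal.Quotient.mk I) :=
          congrArg PrimeSpectrum.asIdeal h
        have h2 := congrArg (Ideal.comap (Ideal.Quotient.mk I)) h1
        rw [Ideal.comap_map_of_surjective _ Ideal.Quotient.mk_surjective,
          Ideal.comap_map_of_surjective _ Ideal.Quotient.mk_surjective,
          ← RingHom.ker_eq_comap_bot, Ideal.mk_ker, sup_eq_left.mpr (hIle m),
          sup_eq_left.mpr (hIle m')] at h2
        exact MaximalSpectrum.ext h2
      exact Finite.of_injective φ hφ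
    refine ⟨hfinite, ?_⟩
    -- residue fields are finite over `A`
    have hfinres : ∀ m : MaximalSpectrum B, Module.Finite A (B ⧸ m.asIdeal) := by
      intro m
      have : Module.Finite A (B ⧸ I) := inferInstance
      exact Module.Finite.of_surjective
        ((Submodule.factor (hIle m)).restrictScalars A)
        (Submodule.factor_surjective (hIle m))
    have hfin : ∀ m : MaximalSpectrum B,
        Module.Finite (A ⧸ m.asIdeal.comap (algebraMap A B)) (B ⧸ m.asIdeal) := by
      intro m
      have := hfinres m
      exact Module.Finite.of_restrictScalars_finite A _ _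
    have key := Groth.Agent.S6320.result (A := A) (B := B) hover hfin (B ⧸ I) hflB
    rw [key]
    apply finsum_congr
    intro m
    have hmaxp : (m.asIdeal.comap (algebraMap A B)).IsMaximal := by
      rw [hover m]; infer_instance
    have := hfin m
    have := hfinres m
    congr 1
    · -- finrank = length
      let _ : Field (A ⧸ m.asIdeal.comap (algebraMap A B)) := Ideal.Quotient.field _
      rw [← Module.length_eq_finrank]
      exact (Module.length_eq_of_surjective (S := A)
        (R := A ⧸ m.asIdeal.comap (algebraMap A B)) Ideal.Quotient.mk_surjective)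
    · rw [length_localizedModule_quotient_ideal, hI, Ideal.map_span, Set.image_singleton,
        ← IsScalarTower.algebraMap_apply]

end Main

end Groth.Agent.Lib.Helper29.DimOneDeg
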