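import Groth.Agent.Lib.Helper29.EquidimCatenary

/-!
Helper lemmas (helper29): for a flat local homomorphism `A → B` with `B` equidimensional and
catenary and zero-dimensional closed fibre, `B/aB` is equidimensional iff `A/a` is (EGA IV 7.1.x).
-/

set_option autoImplicit false
universe u

namespace Groth.Agent.Lib.Helper29

open IsLocalRing

section Q

/-- Equidimensionality of a quotient in terms of the minimal primes of the ideal. -/
theorem isEquidim_quotient_iff {R : Type u} [CommRing R] (I : Ideal R) :
    EGA4.IsEquidim (R ⧸ I) ↔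
      ∀ p ∈ I.minimalPrimes, ringKrullDim (R ⧸ p) = ringKrullDim (R ⧸ I) := by
  constructor
  · intro h p hp
    rw [Ideal.minimalPrimes_eq_comap] at hp
    obtain ⟨𝔭, h𝔭, rfl⟩ := hp
    rw [← ringKrullDim_quotient_quotient]
    exact h 𝔭 h𝔭
  · intro h 𝔭 h𝔭
    rw [ringKrullDim_quotient_quotient]
    apply h
    rw [Ideal.minimalPrimes_eq_comap]
    exact ⟨𝔭, h𝔭, rfl⟩

end Q

section Fibre0

variable (A B : Type u) [CommRing A] [CommRing B] [IsLocalRing A] [IsLocalRing B]
  [IsNoetherianRing A] [IsNoetherianRing B] [Algebra A B] [IsLocalHom (algebraMap A B)]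
  [Module.Flat A B] (heq : EGA4.IsEquidim B) (hcat : CAlg.IsCatenary B)
  (h0 : ringKrullDim (EGA4.FibRing A B) = 0)

include heq hcat h0

/-- With zero-dimensional closed fibre, `dim B/P = dim A/p` for `P` minimal over `pB`. -/
theorem ringKrullDim_quotient_eq_of_mem_minimalPrimes_map (p : Ideal A) [p.IsPrime]
    {P : Ideal B} (hP : P ∈ (p.map (algebraMap A B)).minimalPrimes) :
    ringKrullDim (B ⧸ P) = ringKrullDim (A ⧸ p) := by
  have h1 := ringKrullDim_quotient_add_height_of_mem_minimalPrimes_map A B heq hcat p hP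
  have h2 := ringKrullDim_quotient_add_height_of_flat A B heq hcat p
  have h3 : ringKrullDim B = ringKrullDim A := by
    have := ringKrullDim_eq_add_of_flat A B
    change _ = ringKrullDim A + ringKrullDim (EGA4.FibRing A B) at this
    rw [this, h0, add_zero]
  obtain ⟨n, hn⟩ := ENat.ne_top_iff_exists.mp (Ideal.height_ne_top_of_isPrime (I := p))
  rw [h3, ← h2, ← hn] at h1
  exact withBot_enat_add_right_cancel n h1

/-- `B/aB` is equidimensional iff `A/a` is. -/
theorem isEquidim_quotient_map_iff (a : Ideal A) :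
    EGA4.IsEquidim (B ⧸ a.map (algebraMap A B)) ↔ EGA4.IsEquidim (A ⧸ a) := by
  rw [isEquidim_quotient_iff, isEquidim_quotient_iff]
  by_cases ha : a = ⊤
  · subst ha
    constructor
    · intro _ p hp
      rw [Ideal.minimalPrimes_top] at hp
      exact absurd hp (Set.notMem_empty _)
    · intro _ P hP
      rw [Ideal.map_top, Ideal.minimalPrimes_top] at hP
      exact absurd hP (Set.notMem_empty _)
  have hdim : ringKrullDim (B ⧸ a.map (algebraMap A B)) = ringKrullDim (A ⧸ a) := by
    rw [ringKrullDim_quotient_map_eq_add A B a ha, h0, add_zero]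
  constructor
  · intro h p hp
    have hpprime : p.IsPrime := hp.1.1
    have hne : p.map (algebraMap A B) ≤ maximalIdeal B :=
      le_maximalIdeal (map_ne_top_of_isLocalHom A B p hpprime.ne_top)
    obtain ⟨P, hP, -⟩ := Ideal.exists_minimalPrimes_le hne
    have hPa := mem_minimalPrimes_map_of_mem_minimalPrimes a hp hP
    rw [← ringKrullDim_quotient_eq_of_mem_minimalPrimes_map A B heq hcat h0 p hP, h P hPa, hdim]
  · intro h P hP
    obtain ⟨hp, hPp⟩ := comap_mem_minimalPrimes_of_mem_minimalPrimes_map a hP
    have hpprime : (P.comap (algebraMap A B)).IsPrime := hp.1.1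
    rw [ringKrullDim_quotient_eq_of_mem_minimalPrimes_map A B heq hcat h0 _ hPp, h _ hp, hdim]

end Fibre0

end Groth.Agent.Lib.Helper29
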