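import Groth.Agent.S9562
import Groth.Agent.Lib.Helper18.ComplMap
import Groth.Agent.Lib.Helper54.Reduced
import Mathlib.RingTheory.Etale.Locus
import Mathlib.RingTheory.Unramified.LocalRing

/-!
# Analytically reduced rings along étale local homomorphisms (helper29)
-/

set_option autoImplicit false
universe u

namespace Groth.Agent.Lib.Helper29

open IsLocalRing

/-- The local ring of a finitely presented algebra at a point where it is étale is flat. -/
theorem flat_localization_atPrime_of_isEtaleAt (A C : Type u) [CommRing A] [CommRing C]
    [Algebra A C] [Algebra.FinitePresentation A C] (q : Ideal C) [q.IsPrime]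
    [Algebra.IsEtaleAt A q] : Module.Flat A (Localization.AtPrime q) := by
  obtain ⟨f, hfq, hEt⟩ := Algebra.exists_etale_of_isEtaleAt (R := A) q
  have hle : Submonoid.powers f ≤ q.primeCompl := Submonoid.powers_le.mpr hfq
  let _ : Algebra (Localization.Away f) (Localization.AtPrime q) :=
    IsLocalization.localizationAlgebraOfSubmonoidLe _ _ (Submonoid.powers f) q.primeCompl hle
  have hT : IsScalarTower C (Localization.Away f) (Localization.AtPrime q) :=
    IsLocalization.localization_isScalarTower_of_submonoid_le _ _ _ _ hle
  have hT' : IsScalarTower A (Localization.Away f) (Localization.AtPrime q) :=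
    IsScalarTower.of_algebraMap_eq (fun a => by
      rw [IsScalarTower.algebraMap_apply A C (Localization.AtPrime q),
        IsScalarTower.algebraMap_apply A C (Localization.Away f),
        ← IsScalarTower.algebraMap_apply C (Localization.Away f) (Localization.AtPrime q)])
  have hloc : IsLocalization ((q.primeCompl).map (algebraMap C (Localization.Away f)))
      (Localization.AtPrime q) :=
    IsLocalization.isLocalization_of_submonoid_le _ _ (Submonoid.powers f) q.primeCompl hle
  have h1 : Module.Flat A (Localization.Away f) := inferInstance
  have h2 : Module.Flat (Localization.Away f) (Localization.AtPrime q) :=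
    IsLocalization.flat _ ((q.primeCompl).map (algebraMap C (Localization.Away f)))
  exact Module.Flat.trans A (Localization.Away f) (Localization.AtPrime q)

/-- **Analytic reducedness ascends along étale local homomorphisms.** -/
theorem isReduced_adicCompletion_localization_of_isEtaleAt (A C : Type u) [CommRing A]
    [IsLocalRing A] [IsNoetherianRing A] [CommRing C] [Algebra A C] [Algebra.FiniteType A C]
    (q : Ideal C) [q.IsPrime]
    (hq : Ideal.comap (algebraMap A C) q = maximalIdeal A) (hC : Algebra.IsEtaleAt A q)
    (hA : IsReduced (AdicCompletion (maximalIdeal A) A)) :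
    IsReduced (AdicCompletion (maximalIdeal (Localization.AtPrime q))
      (Localization.AtPrime q)) := by
  have hFP : Algebra.FinitePresentation A C :=
    Algebra.FinitePresentation.of_finiteType.mp inferInstance
  have hNC : IsNoetherianRing C := Algebra.FiniteType.isNoetherianRing A C
  have hNB : IsNoetherianRing (Localization.AtPrime q) :=
    IsLocalization.isNoetherianRing q.primeCompl _ hNC
  have hloc : IsLocalHom (algebraMap A (Localization.AtPrime q)) := by
    have h1 : (maximalIdeal (Localization.AtPrime q)).comap
        (algebraMap A (Localization.AtPrime q)) = maximalIdeal A := by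
      rw [IsScalarTower.algebraMap_eq A C (Localization.AtPrime q), ← Ideal.comap_comap]
      have h2 : (maximalIdeal (Localization.AtPrime q)).comap
          (algebraMap C (Localization.AtPrime q)) = q := Localization.AtPrime.under_maximalIdeal
      rw [h2, hq]
    exact ((IsLocalRing.local_hom_TFAE (algebraMap A (Localization.AtPrime q))).out 0 4).mpr h1
  have hflat : Module.Flat A (Localization.AtPrime q) :=
    flat_localization_atPrime_of_isEtaleAt A C q
  have hEFT : Algebra.EssFiniteType A (Localization.AtPrime q) :=
    Algebra.EssFiniteType.comp A C (Localization.AtPrime q)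
  have hunr : Algebra.FormallyUnramified A (Localization.AtPrime q) := inferInstance
  have hmax : (maximalIdeal A).map (algebraMap A (Localization.AtPrime q)) =
      maximalIdeal (Localization.AtPrime q) := Algebra.FormallyUnramified.map_maximalIdeal
  let ψ : AdicCompletion (maximalIdeal A) A →+*
      AdicCompletion (maximalIdeal (Localization.AtPrime q)) (Localization.AtPrime q) :=
    FSch.complMap (maximalIdeal A) (maximalIdeal (Localization.AtPrime q))
      (algebraMap A (Localization.AtPrime q)) hmax.le
  have hψ : ψ.comp (algebraMap A (AdicCompletion (maximalIdeal A) A)) =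
      (algebraMap (Localization.AtPrime q) (AdicCompletion (maximalIdeal (Localization.AtPrime q))
        (Localization.AtPrime q))).comp (algebraMap A (Localization.AtPrime q)) :=
    RingHom.ext fun x => Groth.Agent.Lib.Helper18.complMap_of (maximalIdeal A)
      (maximalIdeal (Localization.AtPrime q)) (algebraMap A (Localization.AtPrime q)) hmax.le x
  have hres : ψ.Etale := (Groth.Agent.S9562.result A (Localization.AtPrime q) ψ hψ).1.mp
    ⟨hflat, hmax, inferInstance, inferInstance⟩
  let _ : Algebra (AdicCompletion (maximalIdeal A) A)
      (AdicCompletion (maximalIdeal (Localization.AtPrime q)) (Localization.AtPrime q)) :=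
    ψ.toAlgebra
  have hEt : Algebra.Etale (AdicCompletion (maximalIdeal A) A)
      (AdicCompletion (maximalIdeal (Localization.AtPrime q)) (Localization.AtPrime q)) := hres
  exact Groth.Agent.Lib.Helper54.isReduced_of_etale (AdicCompletion (maximalIdeal A) A) _

end Groth.Agent.Lib.Helper29
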