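import Groth.Agent.Lib.Helper29.FlatRegular
import Groth.Agent.Lib.Helper29.DepthSelf
import Groth.Agent.Lib.Helper9.Hens.Dimension
import Mathlib.RingTheory.Unramified.LocalRing
import Mathlib.RingTheory.Unramified.Locus
import Mathlib.RingTheory.Flat.Localization

/-!
Helper lemmas (helper29): local rings of an algebra `S` covered by étale `R`-algebras
(`Groth.Agent.Lib.Helper9.IsEtaleCovered`), e.g. a (strict) henselization: for a prime `q` of `S`
over `p`, `R_p → S_q` is a flat local homomorphism with `p S_q = q S_q`; consequences for
`(S_k)` and `(R_k)`.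
-/

set_option autoImplicit false
universe u

namespace Groth.Agent.Lib.Helper29

open IsLocalRing Groth.Agent.Lib.Helper9

section

variable {R S : Type u} [CommRing R] [CommRing S] [Algebra R S]

/-- If `S` is covered by étale `R`-algebras and `q` is a prime of `S` over `p`, then
`p S_q = q S_q`. -/
theorem map_algebraMap_localization_eq_of_isEtaleCovered (hS : IsEtaleCovered R S)
    (p : Ideal R) [p.IsPrime] (q : Ideal S) [q.IsPrime] [q.LiesOver p] :
    p.map (algebraMap R (Localization.AtPrime q)) = maximalIdeal (Localization.AtPrime q) := by
  apply le_antisymm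
  · rw [Ideal.map_le_iff_le_comap]
    intro a ha
    rw [Ideal.mem_comap, IsScalarTower.algebraMap_apply R S (Localization.AtPrime q),
      IsLocalization.AtPrime.to_map_mem_maximal_iff (Localization.AtPrime q) q]
    have : a ∈ q.under R := by rw [← Ideal.over_def q p]; exact ha
    exact this
  · rw [← Localization.AtPrime.map_eq_maximalIdeal, Ideal.map_le_iff_le_comap]
    intro x hx
    rw [Ideal.mem_comap]
    obtain ⟨E, _, _, _, φ, e, rfl⟩ := hS x
    let Q : Ideal E := q.comap φ
    have hQ : Q.IsPrime := Ideal.comap_isPrime _ _
    have hQp : Q.LiesOver p := by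
      constructor
      change p = (q.comap (φ : E →+* S)).comap (algebraMap R E)
      rw [Ideal.comap_comap, AlgHom.comp_algebraMap]
      exact Ideal.over_def q p
    let _ := Localization.AtPrime.algebraOfLiesOver p Q
    have hunr : Algebra.IsUnramifiedAt R Q := inferInstance
    have h1 : p.map (algebraMap R (Localization.AtPrime Q)) = maximalIdeal _ :=
      ((Algebra.isUnramifiedAt_iff_map_eq R p Q).mp hunr).2
    have he : algebraMap E (Localization.AtPrime Q) e ∈
        p.map (algebraMap R (Localization.AtPrime Q)) := by
      rw [h1, IsLocalization.AtPrime.to_map_mem_maximal_iff (Localization.AtPrime Q) Q]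
      exact hx
    let ψ : Localization.AtPrime Q →+* Localization.AtPrime q :=
      Localization.localRingHom Q q (φ : E →+* S) rfl
    have hψ : ∀ y : E, ψ (algebraMap E (Localization.AtPrime Q) y) =
        algebraMap S (Localization.AtPrime q) (φ y) :=
      fun y => Localization.localRingHom_to_map _ _ _ _ y
    have h2 := Ideal.mem_map_of_mem ψ he
    rw [Ideal.map_map] at h2
    have h3 : ψ.comp (algebraMap R (Localization.AtPrime Q)) =
        algebraMap R (Localization.AtPrime q) := by
      ext r
      rw [RingHom.comp_apply, IsScalarTower.algebraMap_apply R E (Localization.AtPrime Q),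
        hψ, IsScalarTower.algebraMap_apply R S (Localization.AtPrime q)]
      congr 1
      exact φ.commutes r
    rw [h3, hψ] at h2
    exact h2

/-- If `S` is covered by étale `R`-algebras and `q` is a prime of `S` over `p`, then
`m_{R_p} S_q = m_{S_q}`. -/
theorem map_maximalIdeal_localization_eq_of_isEtaleCovered (hS : IsEtaleCovered R S)
    (p : Ideal R) [p.IsPrime] (q : Ideal S) [q.IsPrime] [q.LiesOver p]
    [Algebra (Localization.AtPrime p) (Localization.AtPrime q)]
    [Localization.AtPrime.IsLiesOverAlgebra p q] :
    maximalIdeal (Localization.AtPrime q) =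
      (maximalIdeal (Localization.AtPrime p)).map
        (algebraMap (Localization.AtPrime p) (Localization.AtPrime q)) := by
  rw [← map_algebraMap_localization_eq_of_isEtaleCovered hS p q, ← Localization.AtPrime.map_eq_maximalIdeal,
    Ideal.map_map, ← IsScalarTower.algebraMap_eq]

end

section

variable {R S : Type u} [CommRing R] [CommRing S] [Algebra R S] [IsNoetherianRing R]
  [IsNoetherianRing S] [Module.Flat R S]

/-- Data package: for `q` over `p` in an étale-covered flat extension of Noetherian rings,
`depth`, `height` and regularity agree for `R_p` and `S_q`. -/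
theorem localization_invariants_of_isEtaleCovered (hS : IsEtaleCovered R S)
    (p : Ideal R) [p.IsPrime] (q : Ideal S) [q.IsPrime] [q.LiesOver p] :
    LocCoh.depth (Localization.AtPrime q) (Localization.AtPrime q) =
        LocCoh.depth (Localization.AtPrime p) (Localization.AtPrime p) ∧
      q.height = p.height ∧
      (IsRegularLocalRing (Localization.AtPrime p) ↔
        IsRegularLocalRing (Localization.AtPrime q)) := by
  let _ := Localization.AtPrime.algebraOfLiesOver p q
  have hNp : IsNoetherianRing (Localization.AtPrime p) :=
    IsLocalization.isNoetherianRing p.primeCompl _ inferInstance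
  have hNq : IsNoetherianRing (Localization.AtPrime q) :=
    IsLocalization.isNoetherianRing q.primeCompl _ inferInstance
  have hflat : Module.Flat (Localization.AtPrime p) (Localization.AtPrime q) := inferInstance
  have hloc : IsLocalHom (algebraMap (Localization.AtPrime p) (Localization.AtPrime q)) := by
    rw [Localization.AtPrime.IsLiesOverAlgebra.algebraMap_eq]
    exact Localization.isLocalHom_localRingHom _ _ _ _
  have hmax := map_maximalIdeal_localization_eq_of_isEtaleCovered hS p q
  refine ⟨depth_self_eq_of_flat_of_map_maximalIdeal_eq _ _ hmax, ?_,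
    isRegularLocalRing_iff_of_flat_of_map_maximalIdeal_eq _ _ hmax⟩
  have h1 := ringKrullDim_eq_of_flat_of_map_maximalIdeal_eq (Localization.AtPrime p)
    (Localization.AtPrime q) hmax
  rw [IsLocalization.AtPrime.ringKrullDim_eq_height q,
    IsLocalization.AtPrime.ringKrullDim_eq_height p] at h1
  exact_mod_cast h1

end

section

variable {R S : Type u} [CommRing R] [CommRing S] [Algebra R S] [IsNoetherianRing R]
  [IsNoetherianRing S] [Module.FaithfullyFlat R S]

/-- `(S_k)` for an étale-covered faithfully flat extension of Noetherian rings. -/
theorem hasSk_iff_of_isEtaleCovered (hS : IsEtaleCovered R S) (k : ℕ) :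
    LocCoh.HasSk k S S ↔ LocCoh.HasSk k R R := by
  rw [hasSk_self_iff, hasSk_self_iff]
  constructor
  · intro h p hp
    obtain ⟨q, hq, hqp⟩ := Ideal.exists_isPrime_liesOver_of_faithfullyFlat (B := S) p
    have h1 := localization_invariants_of_isEtaleCovered hS p q
    rw [← h1.1, ← h1.2.1]
    exact h q
  · intro h q hq
    have hqp : q.LiesOver (q.under R) := ⟨rfl⟩
    have h1 := localization_invariants_of_isEtaleCovered hS (q.under R) q
    rw [h1.1, h1.2.1]
    exact h _

/-- `(R_k)` for an étale-covered faithfully flat extension of Noetherian rings. -/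
theorem hasRk_iff_of_isEtaleCovered (hS : IsEtaleCovered R S) (k : ℕ) :
    LocCoh.HasRk k S ↔ LocCoh.HasRk k R := by
  constructor
  · intro h p hp hht
    obtain ⟨q, hq, hqp⟩ := Ideal.exists_isPrime_liesOver_of_faithfullyFlat (B := S) p
    have h1 := localization_invariants_of_isEtaleCovered hS p q
    exact h1.2.2.mpr (h q (h1.2.1 ▸ hht))
  · intro h q hq hht
    have hqp : q.LiesOver (q.under R) := ⟨rfl⟩
    have h1 := localization_invariants_of_isEtaleCovered hS (q.under R) q
    exact h1.2.2.mp (h _ (h1.2.1 ▸ hht))

end

end Groth.Agent.Lib.Helper29
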