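import Groth.Agent.Lib.Helper29.QuasiUnmixedPoly

/-!
Helper lemmas (helper29): local algebras essentially of finite type over a formally
equidimensional local ring (Matsumura 31.6 (iii)).
-/

set_option autoImplicit false
universe u

namespace Groth.Agent.Lib.Helper29

open IsLocalRing

/-- Formal equidimensionality is invariant under ring isomorphisms. -/
theorem isFormallyEquidim_of_ringEquiv {R S : Type u} [CommRing R] [CommRing S] [IsLocalRing R]
    [IsLocalRing S] (e : R ≃+* S) (h : EGA4.IsFormallyEquidim R) : EGA4.IsFormallyEquidim S :=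
  isEquidim_of_ringEquiv (cplCongr e) h

/-- A local algebra essentially of finite type is a quotient of a localization of a polynomial
ring at a prime. -/
theorem exists_surjective_localization_mvPolynomial_of_essFiniteType (R D : Type u) [CommRing R]
    [CommRing D] [IsLocalRing D] [Algebra R D] [h : Algebra.EssFiniteType R D] :
    ∃ (n : ℕ) (Q : Ideal (MvPolynomial (Fin n) R)) (_ : Q.IsPrime)
      (φ : Localization.AtPrime Q →+* D), Function.Surjective φ := by
  obtain ⟨σ, hσ⟩ := (Algebra.essFiniteType_iff R D).mp h
  let f : Fin σ.card → D := fun i => (σ.equivFin.symm i : D)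
  have hrange : Set.range f = (σ : Set D) := by
    ext x
    constructor
    · rintro ⟨i, rfl⟩
      exact (σ.equivFin.symm i).2
    · intro hx
      exact ⟨σ.equivFin ⟨x, hx⟩, by simp [f]⟩
  let ψ : MvPolynomial (Fin σ.card) R →ₐ[R] D := MvPolynomial.aeval f
  have hadj : Algebra.adjoin R (σ : Set D) = ψ.range := by
    rw [← hrange]
    exact Algebra.adjoin_range_eq_range_aeval R f
  have hQ : ((maximalIdeal D).comap ψ.toRingHom).IsPrime := Ideal.comap_isPrime _ _
  have hunits : ∀ y : ((maximalIdeal D).comap ψ.toRingHom).primeCompl,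
      IsUnit (ψ.toRingHom y) := by
    intro y
    have hy : (y : MvPolynomial (Fin σ.card) R) ∉ (maximalIdeal D).comap ψ.toRingHom := y.2
    rw [Ideal.mem_comap] at hy
    exact IsLocalRing.notMem_maximalIdeal.mp hy
  refine ⟨σ.card, (maximalIdeal D).comap ψ.toRingHom, hQ,
    IsLocalization.lift (M := ((maximalIdeal D).comap ψ.toRingHom).primeCompl) hunits, ?_⟩
  intro s
  obtain ⟨t, ht, htu, hst⟩ := hσ s
  rw [hadj] at ht hst
  obtain ⟨g, hg⟩ := ht
  obtain ⟨k, hk⟩ := hst
  have hgQ : g ∈ ((maximalIdeal D).comap ψ.toRingHom).primeCompl := by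
    change g ∉ (maximalIdeal D).comap ψ.toRingHom
    rw [Ideal.mem_comap]
    intro hmem
    have : IsUnit (ψ.toRingHom g) := by
      change IsUnit (ψ g)
      have h2 : ψ g = t := hg
      rw [h2]; exact htu
    exact (IsLocalRing.notMem_maximalIdeal.mpr this) hmem
  refine ⟨IsLocalization.mk' (Localization.AtPrime ((maximalIdeal D).comap ψ.toRingHom)) k
    ⟨g, hgQ⟩, ?_⟩
  rw [IsLocalization.lift_mk'_spec]
  have h2 : ψ g = t := hg
  have h3 : ψ k = s * t := hk
  change ψ k = ψ g * s
  rw [h3, h2, mul_comm]

/-- A domain is equidimensional. -/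
theorem isEquidim_of_isDomain (R : Type u) [CommRing R] [IsDomain R] : EGA4.IsEquidim R := by
  intro p hp
  have hp' : p = ⊥ := by
    have : p ∈ minimalPrimes R := hp
    rw [IsDomain.minimalPrimes_eq_singleton_bot] at this
    exact this
  subst hp'
  exact ringKrullDim_eq_of_ringEquiv (RingEquiv.quotientBot R)

/-- Matsumura 31.6 (iii): an equidimensional local ring essentially of finite type over a formally
equidimensional Noetherian local ring is formally equidimensional. -/
theorem isFormallyEquidim_of_essFiniteType (A : Type u) [CommRing A] [IsNoetherianRing A]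
    [IsLocalRing A] (hA : EGA4.IsFormallyEquidim A) (D : Type u) [CommRing D] [IsLocalRing D]
    [Algebra A D] [Algebra.EssFiniteType A D] (hD : EGA4.IsEquidim D) :
    EGA4.IsFormallyEquidim D := by
  obtain ⟨n, Q, hQ, φ, hφ⟩ := exists_surjective_localization_mvPolynomial_of_essFiniteType A D
  have hC := isFormallyEquidim_localization_mvPolynomial A hA n Q
  have hN : IsNoetherianRing (Localization.AtPrime Q) :=
    IsLocalization.isNoetherianRing Q.primeCompl _ inferInstance
  have hnt : Nontrivial (Localization.AtPrime Q ⧸ RingHom.ker φ) :=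
    (RingHom.quotientKerEquivOfSurjective hφ).toEquiv.nontrivial
  have h2 := (isEquidim_and_isCatenary_of_isFormallyEquidim _ hC).2 (RingHom.ker φ)
  have h3 : EGA4.IsEquidim (Localization.AtPrime Q ⧸ RingHom.ker φ) :=
    isEquidim_of_ringEquiv (RingHom.quotientKerEquivOfSurjective hφ).symm hD
  exact isFormallyEquidim_of_ringEquiv (RingHom.quotientKerEquivOfSurjective hφ) (h2.mp h3)

end Groth.Agent.Lib.Helper29
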