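import Groth.Agent.Lib.Helper29.QuasiUnmixed

/-!
Helper lemmas (helper29): Matsumura 31.6 / EGA IV 7.1.8–7.1.11.

For a formally equidimensional Noetherian local ring `A`:
* `isFormallyEquidim_localization` : `A_q` is formally equidimensional;
* `isFormallyEquidim_localization_mvPolynomial` : every localization of `A[X₁,…,Xₙ]` at a prime is
  formally equidimensional.
-/

set_option autoImplicit false
universe u

namespace Groth.Agent.Lib.Helper29

open IsLocalRing TensorProduct

/-- A local CM ring (all localizations CM) is a CM local ring. -/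
theorem isCohenMacaulayLocalRing_of_isCohenMacaulayRing (R : Type u) [CommRing R] [IsLocalRing R]
    [h : LocCoh.IsCohenMacaulayRing R] : LocCoh.IsCohenMacaulayLocalRing R := by
  have h1 := h.isCohenMacaulayLocalRing_localization (maximalIdeal R)
  have hM : (maximalIdeal R).primeCompl ≤ IsUnit.submonoid R := by
    intro x hx
    exact IsLocalRing.notMem_maximalIdeal.mp hx
  exact isCohenMacaulayLocalRing_of_ringEquiv
    (IsLocalization.atUnits R (maximalIdeal R).primeCompl hM).toRingEquiv.symm h1

/-- A complete Noetherian local ring is a quotient of a local ring which is Cohen–Macaulay (both as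
a local ring and in the sense that all its localizations are CM). -/
theorem exists_cm_surjective_of_complete (A : Type u) [CommRing A] [IsNoetherianRing A]
    [IsLocalRing A] [IsAdicComplete (maximalIdeal A) A] :
    ∃ (R : Type u) (_ : CommRing R) (_ : LocCoh.IsCohenMacaulayRing R)
      (_ : LocCoh.IsCohenMacaulayLocalRing R) (f : R →+* A), Function.Surjective f := by
  obtain ⟨Λ, hΛ, n, f, hΛ', hf⟩ := Groth.Agent.S0580.result A
    ((isNoetherianRing_iff_ideal_fg A).mp inferInstance _)
  have hreg : IsRegularRing Λ ∧ IsLocalRing Λ := by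
    rcases hΛ' with hfield | hcohen
    · let _ := hfield.toField
      exact ⟨inferInstance, inferInstance⟩
    · obtain ⟨hdom, hdvr, -, -⟩ := hcohen
      exact ⟨inferInstance, inferInstance⟩
  obtain ⟨hreg, hloc⟩ := hreg
  have hR : IsRegularRing (MvPowerSeries (Fin n) Λ) :=
    Groth.Agent.Lib.Helper73.RegularRing.isRegularRing_mvPowerSeries Λ n
  have hCM := Groth.Agent.Lib.Helper82.CMPoly.isCohenMacaulayRing_of_isRegularRing
    (MvPowerSeries (Fin n) Λ)
  exact ⟨MvPowerSeries (Fin n) Λ, inferInstance, hCM,
    isCohenMacaulayLocalRing_of_isCohenMacaulayRing _, f, hf⟩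

section T

variable (A : Type u) [CommRing A] [IsNoetherianRing A] [IsLocalRing A]

/-- Localizations of a formally equidimensional local ring are formally equidimensional
(Matsumura 31.6 (i)). -/
theorem isFormallyEquidim_localization (hA : EGA4.IsFormallyEquidim A) (q : Ideal A) [q.IsPrime] :
    EGA4.IsFormallyEquidim (Localization.AtPrime q) := by
  have hN : IsNoetherianRing (EGA4.Cpl A) := isNoetherianRing_cpl A
  have hL : IsLocalRing (EGA4.Cpl A) := isLocalRing_cpl A
  have hff : Module.FaithfullyFlat A (EGA4.Cpl A) := faithfullyFlat_cpl A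
  have hcompl : IsAdicComplete (maximalIdeal (EGA4.Cpl A)) (EGA4.Cpl A) := isAdicComplete_cpl A
  obtain ⟨R, hR, hCM, hCML, f, hf⟩ := exists_cm_surjective_of_complete (EGA4.Cpl A)
  obtain ⟨Q', hQ'⟩ := PrimeSpectrum.comap_surjective_of_faithfullyFlat (A := A)
    (B := EGA4.Cpl A) ⟨q, inferInstance⟩
  have hlies : Q'.asIdeal.LiesOver q := ⟨(congrArg PrimeSpectrum.asIdeal hQ').symm⟩
  have hI : EGA4.IsEquidim (R ⧸ RingHom.ker f) :=
    isEquidim_of_ringEquiv (RingHom.quotientKerEquivOfSurjective hf).symm hA
  have h1 := isFormallyEquidim_localization_of_cm_presentation R (RingHom.ker f) hI R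
    (EGA4.Cpl A) f hf (by rw [Algebra.algebraMap_self, Ideal.map_id]) Q'.asIdeal
  let _ := Localization.AtPrime.algebraOfLiesOver q Q'.asIdeal
  have hNq : IsNoetherianRing (Localization.AtPrime q) :=
    IsLocalization.isNoetherianRing q.primeCompl _ inferInstance
  have hNQ : IsNoetherianRing (Localization.AtPrime Q'.asIdeal) :=
    IsLocalization.isNoetherianRing Q'.asIdeal.primeCompl _ inferInstance
  have hloc : IsLocalHom (algebraMap (Localization.AtPrime q)
      (Localization.AtPrime Q'.asIdeal)) := by
    rw [Localization.AtPrime.IsLiesOverAlgebra.algebraMap_eq]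
    exact Localization.isLocalHom_localRingHom _ _ _ _
  exact isFormallyEquidim_of_flat (Localization.AtPrime q) (Localization.AtPrime Q'.asIdeal) h1

attribute [local instance] MvPolynomial.algebraMvPolynomial

/-- Localizations of polynomial rings over a formally equidimensional local ring are formally
equidimensional (Matsumura 31.6 (iii)). -/
theorem isFormallyEquidim_localization_mvPolynomial (hA : EGA4.IsFormallyEquidim A) (n : ℕ)
    (Q : Ideal (MvPolynomial (Fin n) A)) [Q.IsPrime] :
    EGA4.IsFormallyEquidim (Localization.AtPrime Q) := by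
  have hN : IsNoetherianRing (EGA4.Cpl A) := isNoetherianRing_cpl A
  have hL : IsLocalRing (EGA4.Cpl A) := isLocalRing_cpl A
  have hff : Module.FaithfullyFlat A (EGA4.Cpl A) := faithfullyFlat_cpl A
  have hcompl : IsAdicComplete (maximalIdeal (EGA4.Cpl A)) (EGA4.Cpl A) := isAdicComplete_cpl A
  obtain ⟨R, hR, hCM, hCML, f, hf⟩ := exists_cm_surjective_of_complete (EGA4.Cpl A)
  have hff' : Module.FaithfullyFlat (MvPolynomial (Fin n) A) (MvPolynomial (Fin n) (EGA4.Cpl A)) :=
    Module.FaithfullyFlat.of_linearEquiv (R := MvPolynomial (Fin n) A)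
      (M := MvPolynomial (Fin n) A ⊗[A] EGA4.Cpl A)
      (Algebra.IsPushout.equiv A (MvPolynomial (Fin n) A) (EGA4.Cpl A)
        (MvPolynomial (Fin n) (EGA4.Cpl A))).symm.toLinearEquiv
  obtain ⟨Q', hQ'⟩ := PrimeSpectrum.comap_surjective_of_faithfullyFlat
    (A := MvPolynomial (Fin n) A) (B := MvPolynomial (Fin n) (EGA4.Cpl A)) ⟨Q, inferInstance⟩
  have hlies : Q'.asIdeal.LiesOver Q := ⟨(congrArg PrimeSpectrum.asIdeal hQ').symm⟩
  have hI : EGA4.IsEquidim (R ⧸ RingHom.ker f) :=
    isEquidim_of_ringEquiv (RingHom.quotientKerEquivOfSurjective hf).symm hA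
  have hCMS : LocCoh.IsCohenMacaulayRing (MvPolynomial (Fin n) R) :=
    Groth.Agent.Lib.Helper82.CMPoly.isCohenMacaulayRing_mvPolynomial n
  have h1 := isFormallyEquidim_localization_of_cm_presentation R (RingHom.ker f) hI
    (MvPolynomial (Fin n) R) (MvPolynomial (Fin n) (EGA4.Cpl A)) (MvPolynomial.map f)
    (MvPolynomial.map_surjective f hf)
    (by rw [MvPolynomial.ker_map, MvPolynomial.algebraMap_eq]) Q'.asIdeal
  let _ := Localization.AtPrime.algebraOfLiesOver Q Q'.asIdeal
  have hNq : IsNoetherianRing (Localization.AtPrime Q) :=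
    IsLocalization.isNoetherianRing Q.primeCompl _ inferInstance
  have hNQ : IsNoetherianRing (Localization.AtPrime Q'.asIdeal) :=
    IsLocalization.isNoetherianRing Q'.asIdeal.primeCompl _ inferInstance
  have hloc : IsLocalHom (algebraMap (Localization.AtPrime Q)
      (Localization.AtPrime Q'.asIdeal)) := by
    rw [Localization.AtPrime.IsLiesOverAlgebra.algebraMap_eq]
    exact Localization.isLocalHom_localRingHom _ _ _ _
  exact isFormallyEquidim_of_flat (Localization.AtPrime Q) (Localization.AtPrime Q'.asIdeal) h1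

end T

end Groth.Agent.Lib.Helper29
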