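import Mathlib

/-!
# `Ext^n(N, M) ≅ Hom(N, M/(x₁,…,xₙ)M)` for an `M`-regular sequence killing `N`
-/

set_option autoImplicit false

namespace Groth.Agent.Lib.Helper29

open CategoryTheory Abelian RingTheory.Sequence

universe u

variable {R : Type u} [CommRing R]

/-- If `a` kills `N`, then postcomposition with `a • 𝟙 M` is zero on `Ext N M n`. -/
theorem ext_comp_smul_id_eq_zero {N M : ModuleCat.{u} R} {a : R}
    (ha : a ∈ Module.annihilator R N) {n : ℕ} (x : Ext N M n) :
    x.comp (Ext.mk₀ (a • 𝟙 M)) (add_zero n) = 0 := by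
  have h := Ext.postcomp_smul_id_eq_zero_of_mem_annihilator (M := M) (N := N) ha n
  have := congrArg (fun f => f.hom x) h
  simpa using this

theorem ext_regular_aux (N : ModuleCat.{u} R) (rs : List R) :
    ∀ (M : ModuleCat.{u} R), (∀ r ∈ rs, r ∈ Module.annihilator R N) → IsWeaklyRegular M rs →
      (∀ i < rs.length, Subsingleton (Ext N M i)) ∧
      Nonempty ((N →ₗ[R] (M ⧸ (Ideal.ofList rs • (⊤ : Submodule R M)))) ≃+
        Ext N M rs.length) := by
  induction rs with
  | nil =>
    intro M _ _
    refine ⟨by simp, ⟨?_⟩⟩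
    have hbot : (Ideal.ofList ([] : List R) • (⊤ : Submodule R M)) = ⊥ := by
      simp
    let e : (M ⧸ (Ideal.ofList ([] : List R) • (⊤ : Submodule R M))) ≃ₗ[R] M :=
      Submodule.quotEquivOfEqBot _ hbot
    exact ((LinearEquiv.congrRight e).toAddEquiv.trans
      (ModuleCat.homAddEquiv (M := N) (N := M)).symm).trans Ext.addEquiv₀.symm
  | cons a rs ih =>
    intro M hann hreg
    rw [isWeaklyRegular_cons_iff] at hreg
    obtain ⟨ha, hrs⟩ := hreg
    have haN : a ∈ Module.annihilator R N := hann a List.mem_cons_self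
    obtain ⟨hvan, ⟨e⟩⟩ := ih (ModuleCat.of R (QuotSMulTop a M))
      (fun r hr => hann r (List.mem_cons_of_mem _ hr)) hrs
    have hS := ha.smulShortComplex_shortExact
    -- vanishing
    have hvan' : ∀ i < (a :: rs).length, Subsingleton (Ext N M i) := by
      intro i hi
      rcases i with _ | i
      · have : Subsingleton (N →ₗ[R] M) := by
          refine ⟨fun f g => ?_⟩
          ext n
          apply ha
          have h1 : a • n = 0 := Module.mem_annihilator.mp haN n
          simp only [← map_smul, h1, map_zero]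
        exact (Ext.addEquiv₀.trans ModuleCat.homAddEquiv).subsingleton
      · have hi' : i < rs.length := by simpa using hi
        have hsub : Subsingleton (Ext N (M.smulShortComplex a).X₃ i) := hvan i hi'
        refine ⟨fun x y => ?_⟩
        suffices h : ∀ z : Ext N M (i + 1), z = 0 by rw [h x, h y]
        intro z
        obtain ⟨x₃, hx₃⟩ := Ext.covariant_sequence_exact₁ N hS z
          (ext_comp_smul_id_eq_zero haN z) (n₀ := i) rfl
        rw [← hx₃, Subsingleton.elim x₃ 0, Ext.zero_comp]
        rfl
    refine ⟨hvan', ⟨?_⟩⟩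
    -- the isomorphism
    let e₁ : (N →ₗ[R] (M ⧸ (Ideal.ofList (a :: rs) • (⊤ : Submodule R M)))) ≃+
        (N →ₗ[R] (QuotSMulTop a M ⧸
          (Ideal.ofList rs • (⊤ : Submodule R (QuotSMulTop a M))))) :=
      (LinearEquiv.congrRight
        (Submodule.quotOfListConsSMulTopEquivQuotSMulTopInner M a rs)).toAddEquiv
    let δ : Ext N (ModuleCat.of R (QuotSMulTop a M)) rs.length →+ Ext N M (rs.length + 1) :=
      hS.extClass.postcomp N rfl
    have hδ : Function.Bijective δ := by
      constructor
      · rw [injective_iff_map_eq_zero]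
        intro x hx
        obtain ⟨x₂, hx₂⟩ := Ext.covariant_sequence_exact₃ N hS x rfl hx
        have hsub : Subsingleton (Ext N (M.smulShortComplex a).X₂ rs.length) :=
          hvan' rs.length (by simp)
        rw [← hx₂, Subsingleton.elim x₂ 0, Ext.zero_comp]
        rfl
      · intro z
        exact Ext.covariant_sequence_exact₁ N hS z
          (ext_comp_smul_id_eq_zero haN z) (n₀ := rs.length) rfl
    exact (e₁.trans e).trans (AddEquiv.ofBijective δ hδ)

/-- For an `M`-weakly regular sequence `rs` of elements killing `N`,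
`Hom(N, M/(rs)M) ≅ Ext^n(N, M)` with `n` the length of `rs`. -/
theorem nonempty_hom_quotient_addEquiv_ext (N M : ModuleCat.{u} R) (rs : List R)
    (hann : ∀ r ∈ rs, r ∈ Module.annihilator R N) (hreg : IsWeaklyRegular M rs) :
    Nonempty ((N →ₗ[R] (M ⧸ (Ideal.ofList rs • (⊤ : Submodule R M)))) ≃+
        Ext N M rs.length) :=
  (ext_regular_aux N rs M hann hreg).2

/-- For an `M`-weakly regular sequence `rs` of elements killing `N`,
`Ext^i(N, M) = 0` for `i < rs.length`. -/
theorem subsingleton_ext_of_isWeaklyRegular_of_annihilator (N M : ModuleCat.{u} R) (rs : List R)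
    (hann : ∀ r ∈ rs, r ∈ Module.annihilator R N) (hreg : IsWeaklyRegular M rs)
    (i : ℕ) (hi : i < rs.length) : Subsingleton (Ext N M i) :=
  (ext_regular_aux N rs M hann hreg).1 i hi

end Groth.Agent.Lib.Helper29
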