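import Groth.Agent.Lib.Helper29.DepthFlat2
import Mathlib.RingTheory.RegularLocalRing.Defs
import Mathlib.Algebra.Module.SpanRankOperations
import Mathlib.RingTheory.Flat.FaithfullyFlat.Algebra

/-!
Helper lemmas (helper29): embedding dimension and regularity along a flat local homomorphism
`A → B` with `m_A B = m_B`.
-/

set_option autoImplicit false
universe u v

namespace Groth.Agent.Lib.Helper29

open IsLocalRing

section

variable (A B : Type u) [CommRing A] [CommRing B] [IsLocalRing A] [IsLocalRing B]
  [IsNoetherianRing A] [IsNoetherianRing B] [Algebra A B] [Module.Flat A B]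
  [IsLocalHom (algebraMap A B)]

/-- For a flat local homomorphism with `m_A B = m_B`, a generating set of `m_B` can be chosen
inside `m_A`, so the embedding dimension does not go up along descent. -/
theorem spanFinrank_maximalIdeal_le_of_flat_of_map_maximalIdeal_eq
    (hmax : maximalIdeal B = (maximalIdeal A).map (algebraMap A B)) :
    (maximalIdeal A).spanFinrank ≤ (maximalIdeal B).spanFinrank := by
  classical
  have hff : Module.FaithfullyFlat A B := Module.FaithfullyFlat.of_flat_of_isLocalHom
  -- elements of `m_B` coming from `m_A`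
  let T : Set (maximalIdeal B) := {x | ∃ a ∈ maximalIdeal A, algebraMap A B a = x.1}
  have key : ∀ U : Set (maximalIdeal B), Submodule.span B U = ⊤ ↔
      Ideal.span (Subtype.val '' U) = maximalIdeal B := by
    intro U
    have h1 : (Submodule.span B U).map (maximalIdeal B).subtype =
        Ideal.span (Subtype.val '' U) := by
      rw [Submodule.map_span]; rfl
    constructor
    · intro h
      rw [← h1, h, Submodule.map_top, Submodule.range_subtype]
    · intro h
      apply Submodule.map_injective_of_injective (maximalIdeal B).injective_subtype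
      rw [h1, h, Submodule.map_top, Submodule.range_subtype]
  have hT : Submodule.span B T = ⊤ := by
    rw [key]
    apply le_antisymm
    · rw [Ideal.span_le]
      rintro _ ⟨x, -, rfl⟩
      exact x.2
    · refine hmax.le.trans ?_
      rw [Ideal.map_le_iff_le_comap]
      intro a ha
      rw [Ideal.mem_comap]
      have hmem : algebraMap A B a ∈ maximalIdeal B := by
        rw [hmax]; exact Ideal.mem_map_of_mem _ ha
      exact Ideal.subset_span ⟨⟨algebraMap A B a, hmem⟩, ⟨a, ha, rfl⟩, rfl⟩
  have hspan : Submodule.span (ResidueField B) ((maximalIdeal B).toCotangent '' T) = ⊤ :=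
    CotangentSpace.span_image_eq_top_iff.mpr hT
  obtain ⟨b, hbT, hbspan, hbli⟩ :=
    exists_linearIndependent (ResidueField B) ((maximalIdeal B).toCotangent '' T)
  rw [hspan] at hbspan
  have hbfin : b.Finite := hbli.setFinite
  have hbcard : b.ncard = (maximalIdeal B).spanFinrank := by
    rw [spanFinrank_maximalIdeal_eq_finrank_cotangentSpace]
    have := hbfin.fintype
    have h2 := finrank_span_set_eq_card (R := ResidueField B) (s := b) hbli
    rw [hbspan, finrank_top] at h2
    rw [h2, Set.ncard_eq_toFinset_card']
  -- choose preimages in `m_A`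
  have hpre : ∀ v ∈ b, ∃ a : A, a ∈ maximalIdeal A ∧ ∃ h : algebraMap A B a ∈ maximalIdeal B,
      (maximalIdeal B).toCotangent ⟨algebraMap A B a, h⟩ = v := by
    intro v hv
    obtain ⟨x, ⟨a, ha, hax⟩, rfl⟩ := hbT hv
    exact ⟨a, ha, hax ▸ x.2, by congr 1; exact Subtype.ext hax⟩
  choose! g hg1 hg2 using hpre
  let sA : Set A := g '' b
  have hsAfin : sA.Finite := hbfin.image g
  -- the images of `sA` generate `m_B`
  let U : Set (maximalIdeal B) := {x | ∃ a ∈ sA, algebraMap A B a = x.1}
  have hU : Submodule.span B U = ⊤ := by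
    rw [← CotangentSpace.span_image_eq_top_iff, eq_top_iff, ← hbspan]
    apply Submodule.span_mono
    intro v hv
    obtain ⟨h, hh⟩ := hg2 v hv
    exact ⟨⟨algebraMap A B (g v), h⟩, ⟨g v, ⟨v, hv, rfl⟩, rfl⟩, hh⟩
  have hU' : (Ideal.span sA).map (algebraMap A B) = maximalIdeal B := by
    rw [Ideal.map_span]
    rw [key] at hU
    rw [← hU]
    congr 1
    ext y
    constructor
    · rintro ⟨a, ha, rfl⟩
      have hmem : algebraMap A B a ∈ maximalIdeal B := by
        obtain ⟨v, hv, rfl⟩ := ha
        exact (hg2 v hv).1
      exact ⟨⟨algebraMap A B a, hmem⟩, ⟨a, ha, rfl⟩, rfl⟩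
    · rintro ⟨x, ⟨a, ha, hax⟩, rfl⟩
      exact ⟨a, ha, hax⟩
  have hsA : Ideal.span sA = maximalIdeal A := by
    have h3 : (Ideal.span sA).map (algebraMap A B) = (maximalIdeal A).map (algebraMap A B) :=
      hU'.trans hmax
    rw [← Ideal.comap_map_eq_self_of_faithfullyFlat (B := B) (Ideal.span sA), h3,
      Ideal.comap_map_eq_self_of_faithfullyFlat]
  calc (maximalIdeal A).spanFinrank = (Ideal.span sA).spanFinrank := by rw [hsA]
    _ ≤ sA.ncard := Submodule.spanFinrank_span_le_ncard_of_finite hsAfin
    _ ≤ b.ncard := Set.ncard_image_le hbfin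
    _ = _ := hbcard

/-- For a flat local homomorphism with `m_A B = m_B`, the embedding dimensions agree. -/
theorem spanFinrank_maximalIdeal_eq_of_flat_of_map_maximalIdeal_eq
    (hmax : maximalIdeal B = (maximalIdeal A).map (algebraMap A B)) :
    (maximalIdeal B).spanFinrank = (maximalIdeal A).spanFinrank := by
  apply le_antisymm
  · rw [hmax]
    exact Ideal.spanFinrank_map_le_of_fg _ (Ideal.fg_of_isNoetherianRing (maximalIdeal A))
  · exact spanFinrank_maximalIdeal_le_of_flat_of_map_maximalIdeal_eq A B hmax

/-- For a flat local homomorphism with `m_A B = m_B`, `A` is regular iff `B` is. -/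
theorem isRegularLocalRing_iff_of_flat_of_map_maximalIdeal_eq
    (hmax : maximalIdeal B = (maximalIdeal A).map (algebraMap A B)) :
    IsRegularLocalRing A ↔ IsRegularLocalRing B := by
  rw [isRegularLocalRing_iff, isRegularLocalRing_iff,
    spanFinrank_maximalIdeal_eq_of_flat_of_map_maximalIdeal_eq A B hmax,
    ringKrullDim_eq_of_flat_of_map_maximalIdeal_eq A B hmax]

end

end Groth.Agent.Lib.Helper29
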