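import Groth.Agent.Lib.Helper29.Hartshorne
import Mathlib.RingTheory.Spectrum.Prime.Topology
import Mathlib.RingTheory.Spectrum.Prime.Noetherian

/-!
# Hartshorne's connectedness theorem: connectedness in codimension `d - 1`

If `A` is a Noetherian ring with connected spectrum such that `depth A_p ≥ 2` for every prime
of height `≥ d`, then any two minimal primes are linked by a chain of minimal primes such that
consecutive members are contained in a common prime of height `< d`.
-/

universe u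

namespace Groth.Agent.Lib.Helper29

open IsLocalRing

section Codim

variable {A : Type u} [CommRing A]

/-- `q` is a minimal prime that shares with `p` a prime of height `< d`. -/
def codimLink (d : ℕ) (p q : Ideal A) : Prop :=
  q ∈ minimalPrimes A ∧ ∃ Q : Ideal A, Q.IsPrime ∧ p ≤ Q ∧ q ≤ Q ∧ Q.height + 1 ≤ (d : ℕ∞)

variable [IsNoetherianRing A]

theorem reflTransGen_codimLink [ConnectedSpace (PrimeSpectrum A)] (d : ℕ)
    (h : ∀ (p : Ideal A) [p.IsPrime], (d : ℕ∞) ≤ p.height →
      (2 : ℕ∞) ≤ LocCoh.depth (Localization.AtPrime p) (Localization.AtPrime p))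
    (p' p'' : Ideal A) (hp' : p' ∈ minimalPrimes A) (hp'' : p'' ∈ minimalPrimes A) :
    Relation.ReflTransGen (codimLink d) p' p'' := by
  classical
  by_contra hcon
  set P1 : Set (Ideal A) :=
    {p | p ∈ minimalPrimes A ∧ Relation.ReflTransGen (codimLink d) p' p} with hP1def
  set P2 : Set (Ideal A) :=
    {p | p ∈ minimalPrimes A ∧ ¬ Relation.ReflTransGen (codimLink d) p' p} with hP2def
  have hP1 : p' ∈ P1 := ⟨hp', Relation.ReflTransGen.refl⟩
  have hP2 : p'' ∈ P2 := ⟨hp'', hcon⟩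
  have hfin : (minimalPrimes A).Finite := minimalPrimes.finite_of_isNoetherianRing A
  have hfin1 : P1.Finite := hfin.subset (fun p hp => hp.1)
  have hfin2 : P2.Finite := hfin.subset (fun p hp => hp.1)
  have hsplit : ∀ p ∈ minimalPrimes A, p ∈ P1 ∨ p ∈ P2 := by
    intro p hp
    by_cases hr : Relation.ReflTransGen (codimLink d) p' p
    · exact Or.inl ⟨hp, hr⟩
    · exact Or.inr ⟨hp, hr⟩
  -- the set of primes containing members of both families
  set 𝒮 : Set (Ideal A) := {P | P.IsPrime ∧ (∃ p ∈ P1, p ≤ P) ∧ (∃ p ∈ P2, p ≤ P)} with h𝒮def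
  have h𝒮ne : 𝒮.Nonempty := by
    set Z1 : Set (PrimeSpectrum A) := ⋃ p ∈ P1, PrimeSpectrum.zeroLocus (p : Set A) with hZ1def
    set Z2 : Set (PrimeSpectrum A) := ⋃ p ∈ P2, PrimeSpectrum.zeroLocus (p : Set A) with hZ2def
    have hZ1 : IsClosed Z1 :=
      hfin1.isClosed_biUnion (fun p _ => PrimeSpectrum.isClosed_zeroLocus _)
    have hZ2 : IsClosed Z2 :=
      hfin2.isClosed_biUnion (fun p _ => PrimeSpectrum.isClosed_zeroLocus _)
    have hmem1 : ∀ x : PrimeSpectrum A, x ∈ Z1 ↔ ∃ p ∈ P1, p ≤ x.asIdeal := by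
      intro x
      simp only [hZ1def, Set.mem_iUnion, PrimeSpectrum.mem_zeroLocus, SetLike.coe_subset_coe,
        exists_prop]
    have hmem2 : ∀ x : PrimeSpectrum A, x ∈ Z2 ↔ ∃ p ∈ P2, p ≤ x.asIdeal := by
      intro x
      simp only [hZ2def, Set.mem_iUnion, PrimeSpectrum.mem_zeroLocus, SetLike.coe_subset_coe,
        exists_prop]
    have hcover : ∀ x : PrimeSpectrum A, x ∈ Z1 ∨ x ∈ Z2 := by
      intro x
      obtain ⟨p, hp, hpx⟩ := Ideal.exists_minimalPrimes_le (bot_le : (⊥ : Ideal A) ≤ x.asIdeal)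
      rcases hsplit p hp with h1 | h2
      · exact Or.inl ((hmem1 x).mpr ⟨p, h1, hpx⟩)
      · exact Or.inr ((hmem2 x).mpr ⟨p, h2, hpx⟩)
    by_contra hemp
    have hdisj : ∀ x : PrimeSpectrum A, x ∈ Z1 → x ∉ Z2 := by
      intro x hx1 hx2
      apply hemp
      obtain ⟨p1, hp1, hp1x⟩ := (hmem1 x).mp hx1
      obtain ⟨p2, hp2, hp2x⟩ := (hmem2 x).mp hx2
      exact ⟨x.asIdeal, x.isPrime, ⟨p1, hp1, hp1x⟩, ⟨p2, hp2, hp2x⟩⟩
    have hZ1c : Z1ᶜ = Z2 := by
      ext x
      constructor
      · intro hx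
        rcases hcover x with h1 | h2
        · exact absurd h1 hx
        · exact h2
      · intro hx hx1
        exact hdisj x hx1 hx
    have hclopen : IsClopen Z1 := ⟨hZ1, by rw [← isClosed_compl_iff, hZ1c]; exact hZ2⟩
    have hp'prime : p'.IsPrime := hp'.1.1
    have hp''prime : p''.IsPrime := hp''.1.1
    rcases isClopen_iff.mp hclopen with h0 | h1
    · have : (⟨p', hp'prime⟩ : PrimeSpectrum A) ∈ Z1 := (hmem1 _).mpr ⟨p', hP1, le_rfl⟩
      rw [h0] at this
      exact this
    · have h2 : (⟨p'', hp''prime⟩ : PrimeSpectrum A) ∈ Z2 := (hmem2 _).mpr ⟨p'', hP2, le_rfl⟩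
      have h3 : (⟨p'', hp''prime⟩ : PrimeSpectrum A) ∈ Z1 := by rw [h1]; exact Set.mem_univ _
      exact hdisj _ h3 h2
  -- choose a member of minimal height
  obtain ⟨P, hP𝒮, hPmin⟩ := WellFounded.has_min
    (InvImage.wf (Ideal.height (R := A)) wellFounded_lt) 𝒮 h𝒮ne
  obtain ⟨hPprime, ⟨p1, hp1, hp1P⟩, ⟨p2, hp2, hp2P⟩⟩ := hP𝒮
  by_cases hdP : (d : ℕ∞) ≤ P.height
  swap
  · -- small height: `p1` and `p2` are linked
    have hlt : P.height < (d : ℕ∞) := lt_of_not_ge hdP
    have hlink : codimLink d p1 p2 :=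
      ⟨hp2.1, P, hPprime, hp1P, hp2P, Order.add_one_le_of_lt hlt⟩
    exact hp2.2 (hp1.2.tail hlink)
  -- large height: use depth ≥ 2 in the localization
  set B := Localization.AtPrime P with hBdef
  have hdepth : (2 : ℕ∞) ≤ LocCoh.depth B B := h P hdP
  set Q1 : Set (Ideal B) :=
    {q | q ∈ associatedPrimes B B ∧ ∃ p ∈ P1, p ≤ q.comap (algebraMap A B)} with hQ1def
  set Q2 : Set (Ideal B) :=
    {q | q ∈ associatedPrimes B B ∧ ∃ p ∈ P2, p ≤ q.comap (algebraMap A B)} with hQ2def
  have hQ : associatedPrimes B B ⊆ Q1 ∪ Q2 := by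
    intro q hq
    have hqprime : q.IsPrime := IsAssociatedPrime.isPrime hq
    obtain ⟨p, hp, hpq⟩ := Ideal.exists_minimalPrimes_le
      (bot_le : (⊥ : Ideal A) ≤ q.comap (algebraMap A B))
    rcases hsplit p hp with h1 | h2
    · exact Or.inl ⟨hq, p, h1, hpq⟩
    · exact Or.inr ⟨hq, p, h2, hpq⟩
  have hsep : ∀ q1 ∈ Q1, ∀ q2 ∈ Q2, ∀ P' : Ideal B, P'.IsPrime → q1 ≤ P' → q2 ≤ P' →
      P' = maximalIdeal B := by
    rintro q1 ⟨_, a1, ha1, ha1q⟩ q2 ⟨_, a2, ha2, ha2q⟩ P' hP'prime hq1P' hq2P'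
    have hcomprime : (P'.comap (algebraMap A B)).IsPrime := Ideal.IsPrime.comap _
    have hmem : P'.comap (algebraMap A B) ∈ 𝒮 :=
      ⟨hcomprime, ⟨a1, ha1, ha1q.trans (Ideal.comap_mono hq1P')⟩,
        ⟨a2, ha2, ha2q.trans (Ideal.comap_mono hq2P')⟩⟩
    have hle : P'.comap (algebraMap A B) ≤ P := by
      have := Ideal.comap_mono (f := algebraMap A B) (IsLocalRing.le_maximalIdeal hP'prime.ne_top)
      rwa [show (maximalIdeal B).comap (algebraMap A B) = P from
        Localization.AtPrime.under_maximalIdeal] at this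
    have heq : P'.comap (algebraMap A B) = P := by
      by_contra hne
      have hlt : P'.comap (algebraMap A B) < P := lt_of_le_of_ne hle hne
      exact hPmin _ hmem (Ideal.height_strict_mono_of_isPrime hlt)
    exact Localization.AtPrime.eq_maximalIdeal_iff_under_eq.mp heq
  have hminass : ∀ p ∈ minimalPrimes A, p ≤ P →
      p.map (algebraMap A B) ∈ associatedPrimes B B ∧
        (p.map (algebraMap A B)).comap (algebraMap A B) = p := by
    intro p hp hpP
    have hpprime : p.IsPrime := hp.1.1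
    have hdisj : Disjoint (P.primeCompl : Set A) (p : Set A) := by
      rw [Set.disjoint_left]
      intro a ha hap
      exact ha (hpP hap)
    have hcomap : (p.map (algebraMap A B)).comap (algebraMap A B) = p :=
      IsLocalization.under_map_of_isPrime_disjoint P.primeCompl B hpprime hdisj
    refine ⟨?_, hcomap⟩
    have hmin : p.map (algebraMap A B) ∈ minimalPrimes B := by
      have h1 := IsLocalization.minimalPrimes_map P.primeCompl B (⊥ : Ideal A)
      rw [Ideal.map_bot] at h1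
      show p.map (algebraMap A B) ∈ (⊥ : Ideal B).minimalPrimes
      rw [h1]
      show (p.map (algebraMap A B)).comap (algebraMap A B) ∈ (⊥ : Ideal A).minimalPrimes
      rw [hcomap]
      exact hp
    have hann : Module.annihilator B B = ⊥ := Module.annihilator_eq_bot.mpr inferInstance
    apply Module.associatedPrimes.minimalPrimes_annihilator_subset_associatedPrimes B B
    rw [hann]
    exact hmin
  have hne1 : Q1.Nonempty := by
    obtain ⟨hass, hcomap⟩ := hminass p1 hp1.1 hp1P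
    exact ⟨p1.map (algebraMap A B), hass, p1, hp1, hcomap.ge⟩
  have hne2 : Q2.Nonempty := by
    obtain ⟨hass, hcomap⟩ := hminass p2 hp2.1 hp2P
    exact ⟨p2.map (algebraMap A B), hass, p2, hp2, hcomap.ge⟩
  rcases eq_empty_or_eq_empty_of_depth_ge_two hdepth Q1 Q2 hQ (fun q hq => hq.1)
    (fun q hq => hq.1) hsep with h1 | h2
  · exact hne1.ne_empty h1
  · exact hne2.ne_empty h2

end Codim

/-- Unfolding a `ReflTransGen` chain into a `Fin`-indexed family. -/
theorem exists_fin_chain_of_reflTransGen {α : Type*} {r : α → α → Prop} {a b : α}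
    (h : Relation.ReflTransGen r a b) :
    ∃ (n : ℕ) (c : Fin (n + 1) → α), c 0 = a ∧ c (Fin.last n) = b ∧
      ∀ i : Fin n, r (c i.castSucc) (c i.succ) := by
  induction h with
  | refl => exact ⟨0, fun _ => a, rfl, rfl, fun k => k.elim0⟩
  | tail hab hbc ih =>
    rename_i b c
    obtain ⟨m, w, h0, hl, hst⟩ := ih
    refine ⟨m + 1, Fin.snoc (α := fun _ => α) w c, ?_, ?_, ?_⟩
    · rw [← Fin.castSucc_zero, Fin.snoc_castSucc]; exact h0
    · exact Fin.snoc_last (α := fun _ => α) c w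
    · intro k
      refine Fin.lastCases ?_ (fun k' => ?_) k
      · rw [Fin.snoc_castSucc, Fin.succ_last, Fin.snoc_last, hl]; exact hbc
      · rw [Fin.snoc_castSucc, Fin.succ_castSucc, Fin.snoc_castSucc]; exact hst k'

end Groth.Agent.Lib.Helper29
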