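import Mathlib
import Groth.Agent.Lib.Helper29.CompDim

/-!
# One-dimensional henselian local domains are analytically unibranch

If `D` is a one-dimensional henselian Noetherian local domain and `D → R` is a flat local
homomorphism of Noetherian local rings with `𝔪_D R = 𝔪_R` and trivial residue field extension (e.g.
`R = D̂`), then `R` has exactly one minimal prime.
-/

set_option autoImplicit false
universe u
open IsLocalRing

namespace Groth.Agent.Lib.Helper29

section Approx

variable {D R : Type*} [CommRing D] [CommRing R] [IsLocalRing D] [IsLocalRing R] (φ : D →+* R)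

/-- If `𝔪_D R = 𝔪_R` and `D → R/𝔪_R` is surjective then `D → R/𝔪_R^k` is surjective. -/
theorem exists_sub_mem_maximalIdeal_pow
    (hmax : (maximalIdeal D).map φ = maximalIdeal R)
    (hres : ∀ x : R, ∃ b : D, x - φ b ∈ maximalIdeal R) (k : ℕ) (x : R) :
    ∃ b : D, x - φ b ∈ maximalIdeal R ^ k := by
  induction k generalizing x with
  | zero => exact ⟨0, by simp⟩
  | succ k ih =>
    obtain ⟨b, hb⟩ := ih x
    have hpow : maximalIdeal R ^ k = (maximalIdeal D ^ k).map φ := by
      rw [Ideal.map_pow, hmax]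
    have key : ∀ y ∈ (maximalIdeal D ^ k).map φ,
        ∃ b' ∈ maximalIdeal D ^ k, y - φ b' ∈ maximalIdeal R ^ (k + 1) := by
      intro y hy
      refine Submodule.span_induction
        (p := fun y _ => ∃ b' ∈ maximalIdeal D ^ k, y - φ b' ∈ maximalIdeal R ^ (k + 1))
        ?_ ?_ ?_ ?_ hy
      · rintro _ ⟨m, hm, rfl⟩
        exact ⟨m, hm, by simp⟩
      · exact ⟨0, Ideal.zero_mem _, by simp⟩
      · rintro y₁ y₂ - - ⟨b₁, hb₁, h₁⟩ ⟨b₂, hb₂, h₂⟩
        refine ⟨b₁ + b₂, Ideal.add_mem _ hb₁ hb₂, ?_⟩
        have : y₁ + y₂ - φ (b₁ + b₂) = (y₁ - φ b₁) + (y₂ - φ b₂) := by rw [map_add]; ring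
        rw [this]
        exact Ideal.add_mem _ h₁ h₂
      · rintro a y - ⟨b', hb', h'⟩
        obtain ⟨c, hc⟩ := hres a
        refine ⟨c * b', Ideal.mul_mem_left _ _ hb', ?_⟩
        have hφb' : φ b' ∈ maximalIdeal R ^ k := by
          rw [hpow]
          exact Ideal.mem_map_of_mem _ hb'
        have e : a • y - φ (c * b') =
            φ c * (y - φ b') + (a - φ c) * (y - φ b') + (a - φ c) * φ b' := by
          rw [map_mul, smul_eq_mul]; ring
        rw [e]
        refine Ideal.add_mem _ (Ideal.add_mem _ (Ideal.mul_mem_left _ _ h')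
          (Ideal.mul_mem_left _ _ h')) ?_
        rw [pow_succ']
        exact Ideal.mul_mem_mul hc hφb'
    rw [hpow] at hb
    obtain ⟨b', -, hb'⟩ := key _ hb
    refine ⟨b + b', ?_⟩
    have : x - φ (b + b') = x - φ b - φ b' := by rw [map_add]; ring
    rw [this]
    exact hb'

end Approx


/-- An idempotent of a local ring is `0` or `1`. -/
theorem eq_zero_or_eq_one_of_mul_self_eq {R : Type*} [CommRing R] [IsLocalRing R] (e : R)
    (he : e * e = e) : e = 0 ∨ e = 1 := by
  have h0 : e * (1 - e) = 0 := by rw [mul_sub, mul_one, he, sub_self]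
  rcases IsLocalRing.isUnit_or_isUnit_one_sub_self e with hu | hu
  · right
    have := hu.mul_right_eq_zero.mp h0
    exact (sub_eq_zero.mp this).symm
  · left
    exact hu.mul_left_eq_zero.mp h0

section Core

open Polynomial

variable (D R : Type u) [CommRing D] [IsDomain D] [HenselianLocalRing D]
  [CommRing R] [IsLocalRing R] [Algebra D R] [Module.Flat D R] [IsLocalHom (algebraMap D R)]

/-- Henselian rationality of idempotents of `R[1/t]`. -/
theorem eq_zero_or_eq_pow_of_mul_self_eq (t : D) (ht : t ∈ maximalIdeal D) (ht0 : t ≠ 0) (b : R)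
    (n : ℕ) (hb : b * b = algebraMap D R t ^ n * b) (c : D) (d : R)
    (hcd : b = algebraMap D R c + algebraMap D R t ^ (2 * n + 1) * d) :
    b = 0 ∨ b = algebraMap D R t ^ n := by
  have hff : Module.FaithfullyFlat D R := Module.FaithfullyFlat.of_flat_of_isLocalHom
  set τ := algebraMap D R t with hτ
  have hreg : IsSMulRegular R τ :=
    IsSMulRegular.of_flat (IsRegular.of_ne_zero ht0).left.isSMulRegular
  have hcancel : ∀ (m : ℕ) (x y : R), τ ^ m * x = τ ^ m * y → x = y :=
    fun m x y h => (hreg.pow m) h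
  -- `c² - tⁿ c ∈ t^(2n+1) D`
  have h1 : algebraMap D R (c * c - t ^ n * c) ∈
      (Ideal.span {t ^ (2 * n + 1)}).map (algebraMap D R) := by
    rw [Ideal.map_span, Set.image_singleton, Ideal.mem_span_singleton']
    refine ⟨-2 * b * d + τ ^ (2 * n + 1) * d * d + τ ^ n * d, ?_⟩
    have hc : algebraMap D R c = b - τ ^ (2 * n + 1) * d := by rw [hcd]; ring
    rw [map_sub, map_mul, map_mul, map_pow, map_pow, hc]
    linear_combination (-1 : R) * hb
  have h2 : c * c - t ^ n * c ∈ Ideal.span {t ^ (2 * n + 1)} := by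
    rw [← Ideal.comap_map_eq_self_of_faithfullyFlat (B := R) (Ideal.span {t ^ (2 * n + 1)})]
    exact h1
  obtain ⟨u, hu⟩ := Ideal.mem_span_singleton'.mp h2
  -- a henselian root of `X² - X - t u`
  let f : D[X] := X ^ (1 + 1) - (X + C (t * u))
  have hmonic : f.Monic := Polynomial.monic_X_pow_sub (by
    rw [Polynomial.degree_X_add_C]; norm_num)
  have hev0 : f.eval 0 = -(t * u) := by simp [f]
  have hder0 : f.derivative.eval 0 = -1 := by simp [f]
  obtain ⟨y, hy, -⟩ := HenselianLocalRing.is_henselian f hmonic 0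
    (by rw [hev0]; exact Ideal.neg_mem_iff _ |>.mpr (Ideal.mul_mem_right _ _ ht))
    (by rw [hder0]; exact isUnit_one.neg)
  have hy' : y * y - y = t * u := by
    have : f.eval y = 0 := hy
    simp only [f, eval_sub, eval_pow, eval_X, eval_add, eval_C] at this
    linear_combination this
  -- `c = tⁿ y` or `c = tⁿ (1 - y)`
  have hprod : (t ^ n * y - c) * (t ^ n * y + c - t ^ n) = 0 := by
    have e1 : t ^ (2 * n + 1) = t ^ n * t ^ n * t := by ring
    rw [e1] at hu
    linear_combination (t ^ n * t ^ n) * hy' + hu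
  have hx : ∃ x : D, c = t ^ n * x := by
    rcases mul_eq_zero.mp hprod with h | h
    · exact ⟨y, (sub_eq_zero.mp h).symm⟩
    · exact ⟨1 - y, by linear_combination h⟩
  obtain ⟨x, hx⟩ := hx
  set e₀ : R := algebraMap D R x + τ ^ (n + 1) * d with he₀
  have hbe : b = τ ^ n * e₀ := by
    rw [hcd, hx, map_mul, map_pow, he₀]; ring
  have hidem : e₀ * e₀ = e₀ := by
    apply hcancel (2 * n)
    have : τ ^ (2 * n) * (e₀ * e₀) = b * b := by rw [hbe]; ring
    rw [this, hb, hbe]; ring
  rcases eq_zero_or_eq_one_of_mul_self_eq e₀ hidem with h | h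
  · left; rw [hbe, h, mul_zero]
  · right; rw [hbe, h, mul_one]


/-- **A one-dimensional henselian Noetherian local domain is analytically unibranch** (in a general
form): if `D → R` is a flat local homomorphism of Noetherian local rings with `𝔪_D R = 𝔪_R` and
trivial residue field extension, then `R` has only one minimal prime. -/
theorem minimalPrimes_eq_of_henselian_dim_one [IsNoetherianRing D] [IsNoetherianRing R]
    (hD : ringKrullDim D = 1)
    (hmax : (maximalIdeal D).map (algebraMap D R) = maximalIdeal R)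
    (hres : ∀ x : R, ∃ b : D, x - algebraMap D R b ∈ maximalIdeal R)
    (q1 q2 : Ideal R) (h1 : q1 ∈ minimalPrimes R) (h2 : q2 ∈ minimalPrimes R) : q1 = q2 := by
  classical
  by_contra hne
  obtain ⟨hnf, hrad⟩ := ringKrullDim_eq_one_iff_of_isLocalRing_isDomain.mp hD
  obtain ⟨t, ht, ht0⟩ : ∃ t ∈ maximalIdeal D, t ≠ 0 := by
    by_contra hcon
    push Not at hcon
    apply hnf
    rw [IsLocalRing.isField_iff_maximalIdeal_eq]
    exact (Submodule.eq_bot_iff _).mpr hcon
  set τ := algebraMap D R t with hτ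
  have hτreg : IsSMulRegular R τ :=
    IsSMulRegular.of_flat (IsRegular.of_ne_zero ht0).left.isSMulRegular
  have hτnzd : τ ∈ nonZeroDivisors R := by
    rw [mem_nonZeroDivisors_iff_right]
    intro x hx
    apply hτreg
    change τ * x = τ * 0
    rw [mul_zero, mul_comm]
    exact hx
  obtain ⟨k, hk⟩ := Ideal.exists_pow_le_of_le_radical_of_fg (hrad t ht0)
    (IsNoetherian.noetherian _)
  have hkR : maximalIdeal R ^ k ≤ Ideal.span {τ} := by
    rw [← hmax, ← Ideal.map_pow]
    calc _ ≤ (Ideal.span {t}).map (algebraMap D R) := Ideal.map_mono hk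
      _ = Ideal.span {τ} := by rw [Ideal.map_span, Set.image_singleton]
  have hτm : τ ∈ maximalIdeal R := by rw [← hmax]; exact Ideal.mem_map_of_mem _ ht
  have hmin : maximalIdeal R ∈ (Ideal.span {τ}).minimalPrimes := by
    refine ⟨⟨inferInstance, (Ideal.span_singleton_le_iff_mem _).mpr hτm⟩, fun P ⟨hP, hτP⟩ _ => ?_⟩
    exact hP.le_of_pow_le (hkR.trans hτP)
  have hht : (maximalIdeal R).height ≤ 1 :=
    Ideal.height_le_one_of_isPrincipal_of_mem_minimalPrimes _ _ hmin
  have hinc : ∀ P P' : Ideal R, P.IsPrime → P'.IsPrime → τ ∉ P' → P ≤ P' → P = P' := by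
    intro P P' hP hP' hτP' hle
    by_contra hne'
    have hlt : P < P' := lt_of_le_of_ne hle hne'
    have hlt' : P' < maximalIdeal R :=
      lt_of_le_of_ne (IsLocalRing.le_maximalIdeal hP'.ne_top) (fun e => hτP' (e ▸ hτm))
    have h1 := Ideal.height_add_one_le_of_lt_of_isPrime hlt
    have h2 := Ideal.height_add_one_le_of_lt_of_isPrime hlt'
    have h3 : (2 : ℕ∞) ≤ 1 :=
      calc (2 : ℕ∞) = 0 + 1 + 1 := by norm_num
        _ ≤ P.height + 1 + 1 := by gcongr; exact zero_le
        _ ≤ P'.height + 1 := by gcongr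
        _ ≤ _ := h2
        _ ≤ 1 := hht
    norm_num at h3
  have hN' : IsNoetherianRing (Localization.Away τ) :=
    IsLocalization.isNoetherianRing (Submonoid.powers τ) _ inferInstance
  have hdim0 : Ring.KrullDimLE 0 (Localization.Away τ) := by
    refine Ring.KrullDimLE.mk₀ fun Q hQ => ?_
    obtain ⟨M, hM, hQM⟩ := Ideal.exists_le_maximal Q hQ.ne_top
    have hMp : M.IsPrime := hM.isPrime
    have hτM : τ ∉ M.under R := by
      intro hmem
      exact hMp.ne_top (Ideal.eq_top_of_isUnit_mem _ hmem
        (IsLocalization.Away.algebraMap_isUnit τ))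
    have := hinc (Q.under R) (M.under R) (Ideal.comap_isPrime _ _) (Ideal.comap_isPrime _ _)
      hτM (Ideal.comap_mono hQM)
    have hQM' : Q = M := by
      rw [← IsLocalization.map_under (Submonoid.powers τ) (Localization.Away τ) Q,
        ← IsLocalization.map_under (Submonoid.powers τ) (Localization.Away τ) M, this]
    rw [hQM']; exact hM
  have hArt : IsArtinianRing (Localization.Away τ) := isArtinianRing_iff_krullDimLE_zero.mpr hdim0
  have hτq : ∀ q ∈ minimalPrimes R, τ ∉ q := fun q hq hmem =>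
    Set.disjoint_left.mp (Ideal.disjoint_nonZeroDivisors_of_mem_minimalPrimes hq) hmem hτnzd
  have hq1p : q1.IsPrime := h1.1.1
  have hq2p : q2.IsPrime := h2.1.1
  have hd1 : Disjoint (Submonoid.powers τ : Set R) q1 :=
    (Ideal.disjoint_powers_iff_notMem_of_isPrime (I := q1) τ).mpr (hτq q1 h1)
  have hd2 : Disjoint (Submonoid.powers τ : Set R) q2 :=
    (Ideal.disjoint_powers_iff_notMem_of_isPrime (I := q2) τ).mpr (hτq q2 h2)
  have hQ1 : (q1.map (algebraMap R (Localization.Away τ))).IsPrime :=
    IsLocalization.isPrime_of_isPrime_disjoint (Submonoid.powers τ) _ q1 hq1p hd1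
  have hQ2 : (q2.map (algebraMap R (Localization.Away τ))).IsPrime :=
    IsLocalization.isPrime_of_isPrime_disjoint (Submonoid.powers τ) _ q2 hq2p hd2
  have hQ1u : (q1.map (algebraMap R (Localization.Away τ))).under R = q1 :=
    IsLocalization.under_map_of_isPrime_disjoint (Submonoid.powers τ) _ hq1p hd1
  have hQ2u : (q2.map (algebraMap R (Localization.Away τ))).under R = q2 :=
    IsLocalization.under_map_of_isPrime_disjoint (Submonoid.powers τ) _ hq2p hd2
  have hQne : q2.map (algebraMap R (Localization.Away τ)) ≠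
      q1.map (algebraMap R (Localization.Away τ)) := fun e => hne (by rw [← hQ1u, ← hQ2u, e])
  obtain ⟨r, hr1, hridem, hr2⟩ := IsArtinianRing.exists_not_mem_forall_mem_of_ne
    (q1.map (algebraMap R (Localization.Away τ)))
  have hr2' : r ∈ q2.map (algebraMap R (Localization.Away τ)) := hr2 _ hQ2 hQne
  obtain ⟨n, b, hnb⟩ := IsLocalization.Away.surj τ r
  have hinj : Function.Injective (algebraMap R (Localization.Away τ)) :=
    IsLocalization.injective _ (M := Submonoid.powers τ)
      (Submonoid.powers_le.mpr hτnzd)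
  have hrr : r * r = r := hridem
  have hb : b * b = τ ^ n * b := by
    apply hinj
    rw [map_mul, map_mul, map_pow, ← hnb]
    linear_combination (algebraMap R (Localization.Away τ) τ ^ n *
      algebraMap R (Localization.Away τ) τ ^ n) * hrr
  have hpow : maximalIdeal R ^ (k * (2 * n + 1)) ≤ Ideal.span {τ ^ (2 * n + 1)} := by
    rw [pow_mul, ← Ideal.span_singleton_pow]
    exact Ideal.pow_right_mono hkR _
  obtain ⟨c, hc⟩ := exists_sub_mem_maximalIdeal_pow (algebraMap D R) hmax hres
    (k * (2 * n + 1)) b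
  obtain ⟨d, hd⟩ := Ideal.mem_span_singleton'.mp (hpow hc)
  have hcd : b = algebraMap D R c + algebraMap D R t ^ (2 * n + 1) * d := by
    rw [← hτ]; linear_combination -hd
  have hu : IsUnit (algebraMap R (Localization.Away τ) τ ^ n) :=
    (IsLocalization.Away.algebraMap_isUnit τ).pow n
  rcases eq_zero_or_eq_pow_of_mul_self_eq D R t ht ht0 b n hb c d hcd with h | h
  · apply hr1
    have : r = 0 := by
      rw [h, map_zero] at hnb
      exact hu.mul_left_eq_zero.mp hnb
    rw [this]; exact Ideal.zero_mem _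
  · have : r = 1 := by
      rw [h, map_pow] at hnb
      have h3 : r * algebraMap R (Localization.Away τ) τ ^ n =
          1 * algebraMap R (Localization.Away τ) τ ^ n := by rw [hnb, one_mul]
      exact hu.mul_left_injective h3
    exact hQ2.ne_top ((Ideal.eq_top_iff_one _).mpr (this ▸ hr2'))

end Core


section General

variable (B E : Type u) [CommRing B] [CommRing E] [HenselianLocalRing B] [IsLocalRing E]
  [IsNoetherianRing B] [IsNoetherianRing E] [Algebra B E] [IsLocalHom (algebraMap B E)]
  [Module.Flat B E]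

/-- Descent of components of dimension `d ≤ 1` along a flat local homomorphism `B → E` with
`𝔪_B E = 𝔪_E`, `B` henselian. -/
theorem HasCompDim.of_flat_of_henselian
    (hmax : (maximalIdeal B).map (algebraMap B E) = maximalIdeal E) {d : ℕ} (hd : d ≤ 1)
    (h : HasCompDim E d) : HasCompDim B d :=
  HasCompDim.of_cpl_of_henselian B inferInstance hd
    ((hasCompDim_cpl_iff_of_flat B E hmax hd).mpr (h.cpl E hd))

/-- Over a prime `q` of a henselian Noetherian local ring `B` with `dim B/q = 1`, there is only one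
minimal prime of `qE`, for `B → E` flat local with `𝔪_B E = 𝔪_E` and trivial residue extension. -/
theorem minimalPrimes_map_eq_of_henselian_of_dim_one
    (hmax : (maximalIdeal B).map (algebraMap B E) = maximalIdeal E)
    (hres : ∀ x : E, ∃ b : B, x - algebraMap B E b ∈ maximalIdeal E)
    (q : Ideal B) [hq : q.IsPrime] (hdim : ringKrullDim (B ⧸ q) = 1)
    (Q1 Q2 : Ideal E) (h1 : Q1 ∈ (q.map (algebraMap B E)).minimalPrimes)
    (h2 : Q2 ∈ (q.map (algebraMap B E)).minimalPrimes) : Q1 = Q2 := by
  have hqt : q ≠ ⊤ := hq.ne_top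
  have hlocD := isLocalRing_quotient_of_ne_top B q hqt
  have hlocR := isLocalRing_quotient_map_of_ne_top B E q hqt
  have hflat := flat_quotient_map B E q
  have hlh := isLocalHom_quotient_map B E q
  have hH : HenselianLocalRing (B ⧸ q) := henselianLocalRing_quotient' q
  have hdom : IsDomain (B ⧸ q) := Ideal.Quotient.isDomain q
  have hmax' : (maximalIdeal (B ⧸ q)).map (algebraMap (B ⧸ q) (E ⧸ q.map (algebraMap B E))) =
      maximalIdeal (E ⧸ q.map (algebraMap B E)) := by
    rw [map_maximalIdeal_quotient_map, hmax]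
    exact IsLocalRing.map_maximalIdeal_of_surjective _ Ideal.Quotient.mk_surjective
  have hres' : ∀ x : E ⧸ q.map (algebraMap B E), ∃ b : B ⧸ q,
      x - algebraMap (B ⧸ q) (E ⧸ q.map (algebraMap B E)) b ∈
        maximalIdeal (E ⧸ q.map (algebraMap B E)) := by
    intro x
    obtain ⟨x, rfl⟩ := Ideal.Quotient.mk_surjective x
    obtain ⟨b, hb⟩ := hres x
    refine ⟨Ideal.Quotient.mk q b, ?_⟩
    have e : algebraMap (B ⧸ q) (E ⧸ q.map (algebraMap B E)) (Ideal.Quotient.mk q b) =
        Ideal.Quotient.mk _ (algebraMap B E b) := rfl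
    rw [e, ← map_sub, ← IsLocalRing.map_maximalIdeal_of_surjective
      (Ideal.Quotient.mk (q.map (algebraMap B E))) Ideal.Quotient.mk_surjective]
    exact Ideal.mem_map_of_mem _ hb
  rw [Ideal.minimalPrimes_eq_comap] at h1 h2
  obtain ⟨Q1', hQ1', rfl⟩ := h1
  obtain ⟨Q2', hQ2', rfl⟩ := h2
  rw [minimalPrimes_eq_of_henselian_dim_one (B ⧸ q) (E ⧸ q.map (algebraMap B E)) hdim hmax'
    hres' Q1' Q2' hQ1' hQ2']

/-- Variant: it suffices that one of the minimal primes over `qE` has one-dimensional quotient. -/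
theorem ringKrullDim_quotient_eq_one_of_henselian_of_comp
    (hmax : (maximalIdeal B).map (algebraMap B E) = maximalIdeal E)
    (q : Ideal B) [hq : q.IsPrime]
    (Q1 : Ideal E) (h1 : Q1 ∈ (q.map (algebraMap B E)).minimalPrimes)
    (hdim1 : ringKrullDim (E ⧸ Q1) = 1) : ringKrullDim (B ⧸ q) = 1 := by
  have hqt : q ≠ ⊤ := hq.ne_top
  have hlocD := isLocalRing_quotient_of_ne_top B q hqt
  have hlocR := isLocalRing_quotient_map_of_ne_top B E q hqt
  have hflat := flat_quotient_map B E q
  have hlh := isLocalHom_quotient_map B E q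
  have hH : HenselianLocalRing (B ⧸ q) := henselianLocalRing_quotient' q
  have hdom : IsDomain (B ⧸ q) := Ideal.Quotient.isDomain q
  have hmax' : (maximalIdeal (B ⧸ q)).map (algebraMap (B ⧸ q) (E ⧸ q.map (algebraMap B E))) =
      maximalIdeal (E ⧸ q.map (algebraMap B E)) := by
    rw [map_maximalIdeal_quotient_map, hmax]
    exact IsLocalRing.map_maximalIdeal_of_surjective _ Ideal.Quotient.mk_surjective
  have hc : HasCompDim (E ⧸ q.map (algebraMap B E)) 1 :=
    (hasCompDim_quotient_iff _ 1).mpr ⟨Q1, h1, by rw [hdim1]; rfl⟩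
  have hc' : HasCompDim (B ⧸ q) 1 :=
    HasCompDim.of_flat_of_henselian (B ⧸ q) (E ⧸ q.map (algebraMap B E)) hmax' le_rfl hc
  have := (hasCompDim_iff_of_isDomain (B ⧸ q) 1).mp hc'
  rw [this]; rfl

theorem minimalPrimes_map_eq_of_henselian_of_comp
    (hmax : (maximalIdeal B).map (algebraMap B E) = maximalIdeal E)
    (hres : ∀ x : E, ∃ b : B, x - algebraMap B E b ∈ maximalIdeal E)
    (q : Ideal B) [hq : q.IsPrime]
    (Q1 Q2 : Ideal E) (h1 : Q1 ∈ (q.map (algebraMap B E)).minimalPrimes)
    (hdim1 : ringKrullDim (E ⧸ Q1) = 1)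
    (h2 : Q2 ∈ (q.map (algebraMap B E)).minimalPrimes) : Q1 = Q2 :=
  minimalPrimes_map_eq_of_henselian_of_dim_one B E hmax hres q
    (ringKrullDim_quotient_eq_one_of_henselian_of_comp B E hmax q Q1 h1 hdim1) Q1 Q2 h1 h2

end General


/-- Every element of the completion of a Noetherian local ring `A` is congruent to an element of
`A` modulo the maximal ideal. -/
theorem exists_sub_algebraMap_mem_maximalIdeal_adicCompletion (A : Type u) [CommRing A]
    [IsLocalRing A] [IsNoetherianRing A] [IsLocalRing (AdicCompletion (maximalIdeal A) A)]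
    (x : AdicCompletion (maximalIdeal A) A) :
    ∃ a : A, x - algebraMap A (AdicCompletion (maximalIdeal A) A) a ∈
      maximalIdeal (AdicCompletion (maximalIdeal A) A) := by
  obtain ⟨a, ha⟩ := Ideal.Quotient.mk_surjective (AdicCompletion.evalOneₐ (maximalIdeal A) x)
  refine ⟨a, ?_⟩
  rw [maximalIdeal_adicCompletion_eq_map A (maximalIdeal A) (Ideal.IsPrime.ne_top inferInstance),
    ← AdicCompletion.ker_evalOneₐ_eq_map _ (Ideal.fg_of_isNoetherianRing _), RingHom.mem_ker]
  change AdicCompletion.evalOneₐ (maximalIdeal A) (x - AdicCompletion.of _ A a) = 0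
  rw [map_sub, AdicCompletion.evalOneₐ_of, ha, sub_self]


section DimOne

variable (B E : Type u) [CommRing B] [CommRing E] [HenselianLocalRing B] [IsLocalRing E]
  [IsNoetherianRing B] [IsNoetherianRing E] [Algebra B E] [IsLocalHom (algebraMap B E)]
  [Module.Flat B E]

omit [HenselianLocalRing B] [IsNoetherianRing E] [IsLocalRing E] [Algebra B E]
  [IsLocalHom (algebraMap B E)] [Module.Flat B E] in
/-- In a one-dimensional Noetherian local ring all irreducible components have dimension one. -/
theorem ringKrullDim_quotient_eq_one_of_mem_minimalPrimes [IsLocalRing B]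
    (hB : ringKrullDim B = 1) (q : Ideal B) (hq : q ∈ minimalPrimes B) :
    ringKrullDim (B ⧸ q) = 1 := by
  have hqp : q.IsPrime := hq.1.1
  obtain ⟨n, hn⟩ := exists_nat_ringKrullDim_quotient_eq_of_ne_top B q hqp.ne_top
  have h1 : ringKrullDim (B ⧸ q) ≤ 1 := hB ▸ ringKrullDim_quotient_le q
  rw [hn] at h1
  have hn1 : n ≤ 1 := by exact_mod_cast h1
  have hn0 : n ≠ 0 := by
    rintro rfl
    have : HasCompDim B 0 := ⟨q, hq, hn⟩
    rw [hasCompDim_zero_iff, hB] at this
    exact one_ne_zero this
  have : n = 1 := by omega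
  rw [hn, this]; rfl

/-- For a one-dimensional henselian Noetherian local ring `B` and `B → E` flat local with
`𝔪_B E = 𝔪_E` and trivial residue field extension, the radical of the extension of a minimal prime
of `B` is a prime of `E`. -/
theorem radical_map_isPrime_of_henselian_dim_one (hB : ringKrullDim B = 1)
    (hmax : (maximalIdeal B).map (algebraMap B E) = maximalIdeal E)
    (hres : ∀ x : E, ∃ b : B, x - algebraMap B E b ∈ maximalIdeal E)
    (q : Ideal B) (hq : q ∈ minimalPrimes B) : (q.map (algebraMap B E)).radical.IsPrime := by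
  have hqp : q.IsPrime := hq.1.1
  have hdim := ringKrullDim_quotient_eq_one_of_mem_minimalPrimes B hB q hq
  have hle : q.map (algebraMap B E) ≤ maximalIdeal E :=
    IsLocalRing.le_maximalIdeal (map_ne_top_of_isLocalHom B E q hqp.ne_top)
  obtain ⟨P₀, hP₀, -⟩ := Ideal.exists_minimalPrimes_le hle
  have hall : ∀ P ∈ (q.map (algebraMap B E)).minimalPrimes, P = P₀ := fun P hP =>
    minimalPrimes_map_eq_of_henselian_of_dim_one B E hmax hres q hdim P P₀ hP hP₀
  have hsing : (q.map (algebraMap B E)).minimalPrimes = {P₀} :=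
    Set.eq_singleton_iff_unique_mem.mpr ⟨hP₀, hall⟩
  rw [← Ideal.sInf_minimalPrimes, hsing, sInf_singleton]
  exact hP₀.1.1

end DimOne

end Groth.Agent.Lib.Helper29
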