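import Mathlib
import Groth.Agent.Lib.Helper29.EtaleFibreNormal
import Groth.Agent.Lib.Helper9.Hens.NoetherianHens
import Groth.Agent.Lib.Helper9.Hens.Unique
import Groth.Agent.Lib.Helper9.Hens.LocalFlat
import Groth.Agent.Lib.Helper47.CompletionIso
import Groth.Agent.Lib.Helper18.ComplMap
import Groth.Agent.Lib.Helper29.AdicLocal

/-!
# The henselization of a Noetherian local ring with geometrically normal formal fibres has
geometrically normal formal fibres

(Modelled on helper48's `isGRing_of_isHenselization`.)
-/

set_option autoImplicit false
set_option linter.style.haveILetI false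
set_option linter.unusedSectionVars false
universe u

open TensorProduct IsLocalRing

namespace Groth.Agent.Lib.Helper29

open Groth.Agent.Lib.Helper9

/-- Geometric normality transfers along algebra isomorphisms. -/
theorem isGeomNormal_of_algEquiv' {K F F' : Type u} [Field K] [CommRing F] [CommRing F']
    [Algebra K F] [Algebra K F'] (e : F ≃ₐ[K] F') (h : EGA4.IsGeomNormal K F) :
    EGA4.IsGeomNormal K F' := by
  intro K' _ _ hfin
  exact isNormalRing_of_ringEquiv'
    (Algebra.TensorProduct.congr (AlgEquiv.refl (R := K) (A₁ := K')) e).symm.toRingEquiv
    (h K' hfin)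

section

variable (R S : Type u) [CommRing R] [IsLocalRing R] [IsNoetherianRing R] [CommRing S]
  [IsLocalRing S] [Algebra R S] [IsLocalHom (algebraMap R S)]

/-- If the formal fibres of `R` are geometrically normal, `R → S` is a flat local map of Noetherian
local rings with `𝔪_R S = 𝔪_S` and trivial residue extension, and `S` is covered by étale
`R`-algebras, then the formal fibres of `S` are geometrically normal. -/
theorem hasGeomNormalFormalFibres_of_isEtaleCoveredFin [IsNoetherianRing S] [Module.Flat R S]
    (hS : IsEtaleCoveredFin R S)
    (hm : (maximalIdeal R).map (algebraMap R S) = maximalIdeal S)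
    (hk : Function.Bijective (ResidueField.map (algebraMap R S)))
    (hR : EGA4.HasGeomNormalFormalFibres R) : EGA4.HasGeomNormalFormalFibres S := by
  haveI : IsScalarTower R S (AdicCompletion (maximalIdeal S) S) :=
    IsScalarTower.of_algebraMap_eq fun _ => rfl
  let ψ : AdicCompletion (maximalIdeal R) R →+* AdicCompletion (maximalIdeal S) S :=
    FSch.complMap (maximalIdeal R) (maximalIdeal S) (algebraMap R S) hm.le
  have hψ : ψ.comp (algebraMap R (AdicCompletion (maximalIdeal R) R)) =
      (algebraMap S (AdicCompletion (maximalIdeal S) S)).comp (algebraMap R S) :=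
    RingHom.ext fun x => Groth.Agent.Lib.Helper18.complMap_of (maximalIdeal R) (maximalIdeal S)
      (algebraMap R S) hm.le x
  have hbij : Function.Bijective ψ :=
    Groth.Agent.Lib.Helper47.completion_map_bijective R S hm hk ψ hψ
  let e : AdicCompletion (maximalIdeal R) R ≃ₐ[R] AdicCompletion (maximalIdeal S) S :=
    AlgEquiv.ofBijective ⟨ψ, fun r => RingHom.congr_fun hψ r⟩ hbij
  intro q hq
  have h1 : EGA4.IsGeomNormal (q.under R).ResidueField
      ((q.under R).Fiber (AdicCompletion (maximalIdeal R) R)) := hR (q.under R)
  have h2 : EGA4.IsGeomNormal (q.under R).ResidueField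
      ((q.under R).Fiber (AdicCompletion (maximalIdeal S) S)) :=
    isGeomNormal_of_algEquiv' (Algebra.TensorProduct.congr
      (AlgEquiv.refl (R := (q.under R).ResidueField) (A₁ := (q.under R).ResidueField)) e) h1
  exact isGeomNormal_fiber_of_isEtaleCoveredFin hS q h2

/-- **The henselization of a Noetherian local ring with geometrically normal formal fibres has
geometrically normal formal fibres.** -/
theorem hasGeomNormalFormalFibres_of_isHenselization [Hensel.IsHenselization R S]
    (hR : EGA4.HasGeomNormalFormalFibres R) : EGA4.HasGeomNormalFormalFibres S := by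
  haveI : IsNoetherianRing S := (isNoetherianRing_iff_of_isHenselization R S).mp inferInstance
  haveI : Module.Flat R S := Hens.flat_of_isHenselization R S
  exact hasGeomNormalFormalFibres_of_isEtaleCoveredFin R S
    (isEtaleCoveredFin_of_isHenselization R S)
    (Hens.map_maximalIdeal_of_isHenselization R S)
    (Hens.residueField_map_bijective_of_isHenselization R S) hR

end

end Groth.Agent.Lib.Helper29
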