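import Groth.Agent.Lib.Helper29.JacFlat
import Mathlib.RingTheory.Regular.RegularSequence
import Mathlib.LinearAlgebra.TensorProduct.Quotient
import Mathlib.RingTheory.Flat.TorsionFree
import Mathlib.RingTheory.Ideal.Quotient.Noetherian

/-!
Helper lemmas (helper29): flatness modulo an ideal and regular sequences in the Jacobson radical
(towards Hironaka's criterion of normal flatness, EGA IV 6.10).

`FlatQ I N` : `N/IN` is flat over `A/I`, in the form `(A/I) ⊗ N` flat over `A/I`.
-/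

set_option autoImplicit false
universe u

open TensorProduct Pointwise

namespace Groth.Agent.Lib.Helper29

section Basic

variable {A : Type u} [CommRing A]

/-- `N/IN` is flat over `A/I`. -/
def FlatQ (I : Ideal A) (N : Type u) [AddCommGroup N] [Module A N] : Prop :=
  Module.Flat (A ⧸ I) ((A ⧸ I) ⊗[A] N)

theorem flatQ_iff_quotient (I : Ideal A) (N : Type u) [AddCommGroup N] [Module A N] :
    FlatQ I N ↔ Module.Flat (A ⧸ I) (N ⧸ (I • (⊤ : Submodule A N))) := by
  unfold FlatQ
  exact Module.Flat.equiv_iff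
    ((TensorProduct.quotTensorEquivQuotSMul N I).extendScalarsOfSurjective
      Ideal.Quotient.mk_surjective)

theorem flatQ_congr (I : Ideal A) {N N' : Type u} [AddCommGroup N] [Module A N]
    [AddCommGroup N'] [Module A N'] (e : N ≃ₗ[A] N') : FlatQ I N ↔ FlatQ I N' := by
  unfold FlatQ
  exact Module.Flat.equiv_iff (e.baseChange A (A ⧸ I) N N')

/-- `FlatQ I` only depends on `N/IN`. -/
theorem flatQ_of_surjective (I : Ideal A) {N N' : Type u} [AddCommGroup N] [Module A N]
    [AddCommGroup N'] [Module A N'] (π : N →ₗ[A] N') (hπ : Function.Surjective π)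
    (hker : LinearMap.ker π ≤ I • (⊤ : Submodule A N)) : FlatQ I N ↔ FlatQ I N' := by
  unfold FlatQ
  have hsurj : Function.Surjective (π.baseChange (A ⧸ I)) := by
    rw [LinearMap.baseChange_eq_ltensor]
    exact LinearMap.lTensor_surjective _ hπ
  have hinj : Function.Injective (π.baseChange (A ⧸ I)) := by
    rw [injective_iff_map_eq_zero]
    intro z hz
    have hex := lTensor_exact (A ⧸ I) (LinearMap.exact_subtype_ker_map π) hπ
    have hz' : (π.lTensor (A ⧸ I)) z = 0 := by
      rw [← LinearMap.baseChange_eq_ltensor]; exact hz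
    have hzero : ∀ w : (A ⧸ I) ⊗[A] LinearMap.ker π,
        ((LinearMap.ker π).subtype.lTensor (A ⧸ I)) w = 0 := by
      intro w
      induction w using TensorProduct.induction_on with
      | zero => simp
      | tmul a y =>
        rw [LinearMap.lTensor_tmul]
        have hy : (y : N) ∈ I • (⊤ : Submodule A N) := hker y.2
        simp only [Submodule.subtype_apply]
        refine Submodule.smul_induction_on hy ?_ ?_
        · intro i hi n _
          obtain ⟨a, rfl⟩ := Ideal.Quotient.mk_surjective a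
          rw [← TensorProduct.smul_tmul, Algebra.smul_def, Ideal.Quotient.algebraMap_eq,
            ← map_mul, Ideal.Quotient.eq_zero_iff_mem.mpr (Ideal.mul_mem_right a I hi),
            TensorProduct.zero_tmul]
        · intro x y hx hy
          rw [TensorProduct.tmul_add, hx, hy, add_zero]
      | add w₁ w₂ h₁ h₂ => rw [map_add, h₁, h₂, add_zero]
    obtain ⟨w, rfl⟩ := (hex z).mp hz'
    exact hzero w
  exact Module.Flat.equiv_iff (LinearEquiv.ofBijective (π.baseChange (A ⧸ I)) ⟨hinj, hsurj⟩)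

end Basic

section LemmaX

variable {A : Type u} [CommRing A]

/-- The image of an element of the Jacobson radical in a quotient lies in the Jacobson radical. -/
theorem mk_mem_jacobson_bot (R : Ideal A) {x : A} (hx : x ∈ (⊥ : Ideal A).jacobson) :
    Ideal.Quotient.mk R x ∈ (⊥ : Ideal (A ⧸ R)).jacobson := by
  rw [Ideal.mem_jacobson_bot] at hx ⊢
  intro y
  obtain ⟨y, rfl⟩ := Ideal.Quotient.mk_surjective y
  have := (hx y).map (Ideal.Quotient.mk R)
  simpa using this

/-- A module killed by `R` is its own reduction modulo `R`. -/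
noncomputable def quotTensorEquivOfSMulEqBot (R : Ideal A) (G : Type u) [AddCommGroup G]
    [Module A G] (hG : R • (⊤ : Submodule A G) = ⊥) : ((A ⧸ R) ⊗[A] G) ≃ₗ[A] G :=
  TensorProduct.quotTensorEquivQuotSMul G R ≪≫ₗ Submodule.quotEquivOfEqBot _ hG

theorem isSMulRegular_tensor_iff (R : Ideal A) (G : Type u) [AddCommGroup G]
    [Module A G] (hG : R • (⊤ : Submodule A G) = ⊥) (x : A) :
    IsSMulRegular ((A ⧸ R) ⊗[A] G) (Ideal.Quotient.mk R x) ↔ IsSMulRegular G x := by
  rw [← (quotTensorEquivOfSMulEqBot R G hG).isSMulRegular_congr x]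
  exact isSMulRegular_algebraMap_iff (A ⧸ R) (R := A)

theorem isSMulRegular_quotient_iff (R : Ideal A) (x : A) :
    IsSMulRegular (A ⧸ R) (Ideal.Quotient.mk R x) ↔ IsSMulRegular (A ⧸ R) x :=
  isSMulRegular_algebraMap_iff (A ⧸ R) (R := A)

/-- `FlatQ` passes to larger ideals. -/
theorem flatQ_of_le {R R' : Ideal A} (hle : R ≤ R') (G : Type u) [AddCommGroup G]
    [Module A G] (h : FlatQ R G) : FlatQ R' G := by
  unfold FlatQ at h ⊢
  letI : Algebra (A ⧸ R) (A ⧸ R') := (Ideal.Quotient.factor hle).toAlgebra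
  haveI : IsScalarTower A (A ⧸ R) (A ⧸ R') := IsScalarTower.of_algebraMap_eq' rfl
  have h2 : Module.Flat (A ⧸ R') ((A ⧸ R') ⊗[A ⧸ R] ((A ⧸ R) ⊗[A] G)) := inferInstance
  exact Module.Flat.of_linearEquiv
    (TensorProduct.AlgebraTensorModule.cancelBaseChange A (A ⧸ R) (A ⧸ R') (A ⧸ R') G).symm

/-- Regular elements of `A/R` are regular on `G` when `G` is flat over `A/R`. -/
theorem isSMulRegular_of_flatQ (R : Ideal A) (G : Type u) [AddCommGroup G]
    [Module A G] (hG : R • (⊤ : Submodule A G) = ⊥) {x : A} (hxR : IsSMulRegular (A ⧸ R) x)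
    (h : FlatQ R G) : IsSMulRegular G x := by
  unfold FlatQ at h
  rw [← isSMulRegular_tensor_iff R G hG x]
  rw [← isSMulRegular_quotient_iff] at hxR
  have hleft : IsLeftRegular (Ideal.Quotient.mk R x) := isLeftRegular_iff.mpr hxR
  have hreg : IsRegular (Ideal.Quotient.mk R x) :=
    (Commute.isRegular_iff (fun b => Commute.all _ b)).mpr hleft
  exact Module.Flat.isSMulRegular_of_isRegular hreg

end LemmaX

section LemmaX2

variable {A : Type u} [CommRing A] [IsNoetherianRing A]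

/-- Key step (local criterion of flatness): if `x` is in the Jacobson radical, regular on `A/R`
and on `G`, and `G/xG` is flat over `A/(R + x)`, then `G` is flat over `A/R`. -/
theorem flatQ_of_flatQ_sup_span (R : Ideal A) (G : Type u) [AddCommGroup G] [Module A G]
    [Module.Finite A G] (hG : R • (⊤ : Submodule A G) = ⊥) {x : A}
    (hxJ : x ∈ (⊥ : Ideal A).jacobson) (hxG : IsSMulRegular G x)
    (h : FlatQ (R ⊔ Ideal.span {x}) G) : FlatQ R G := by
  unfold FlatQ at h ⊢
  set I : Ideal (A ⧸ R) := (Ideal.span {x}).map (Ideal.Quotient.mkₐ A R) with hIdef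
  have hIeq : I = Ideal.span {Ideal.Quotient.mk R x} := by
    rw [hIdef, Ideal.map_span, Set.image_singleton]
    rfl
  have hI : I.map (algebraMap (A ⧸ R) (A ⧸ R)) ≤ Ideal.jacobson ⊥ := by
    rw [Algebra.algebraMap_self, Ideal.map_id, hIeq, Ideal.span_singleton_le_iff_mem]
    exact mk_mem_jacobson_bot R hxJ
  have hregG : IsSMulRegular ((A ⧸ R) ⊗[A] G) (Ideal.Quotient.mk R x) :=
    (isSMulRegular_tensor_iff R G hG x).mpr hxG
  have hxI : Ideal.Quotient.mk R x ∈ I := hIeq ▸ Ideal.mem_span_singleton_self _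
  have h1 : Function.Injective (LinearMap.rTensor ((A ⧸ R) ⊗[A] G) (Submodule.subtype I)) := by
    have hform : ∀ z : I ⊗[A ⧸ R] ((A ⧸ R) ⊗[A] G), ∃ m : (A ⧸ R) ⊗[A] G,
        z = (⟨_, hxI⟩ : I) ⊗ₜ[A ⧸ R] m := by
      intro z
      induction z using TensorProduct.induction_on with
      | zero => exact ⟨0, (TensorProduct.tmul_zero _ _).symm⟩
      | tmul i m =>
        obtain ⟨i, hi⟩ := i
        have hi' := hi
        rw [hIeq, Ideal.mem_span_singleton'] at hi'
        obtain ⟨b, rfl⟩ := hi'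
        refine ⟨b • m, ?_⟩
        rw [TensorProduct.tmul_smul, TensorProduct.smul_tmul']
        rfl
      | add z₁ z₂ h₁ h₂ =>
        obtain ⟨m₁, rfl⟩ := h₁
        obtain ⟨m₂, rfl⟩ := h₂
        exact ⟨m₁ + m₂, (TensorProduct.tmul_add _ _ _).symm⟩
    rw [injective_iff_map_eq_zero]
    intro z hz
    obtain ⟨m, rfl⟩ := hform z
    rw [LinearMap.rTensor_tmul, Submodule.subtype_apply] at hz
    have h2 := congrArg (TensorProduct.lid (A ⧸ R) ((A ⧸ R) ⊗[A] G)) hz
    rw [TensorProduct.lid_tmul, map_zero] at h2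
    have hm : m = 0 := hregG (by
      show Ideal.Quotient.mk R x • m = Ideal.Quotient.mk R x • 0
      rw [smul_zero]
      exact h2)
    rw [hm, TensorProduct.tmul_zero]
  have hflat : Module.Flat ((A ⧸ R) ⧸ I) (((A ⧸ R) ⧸ I) ⊗[A ⧸ R] ((A ⧸ R) ⊗[A] G)) := by
    let φ : ((A ⧸ R) ⧸ I) ≃ₐ[A] (A ⧸ (R ⊔ Ideal.span {x})) :=
      DoubleQuot.quotQuotEquivQuotSupₐ A R (Ideal.span {x})
    letI : Algebra (A ⧸ (R ⊔ Ideal.span {x})) ((A ⧸ R) ⧸ I) :=
      (φ.symm : (A ⧸ (R ⊔ Ideal.span {x})) →+* ((A ⧸ R) ⧸ I)).toAlgebra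
    haveI : IsScalarTower A (A ⧸ (R ⊔ Ideal.span {x})) ((A ⧸ R) ⧸ I) :=
      IsScalarTower.of_algebraMap_eq (fun a => (φ.symm.commutes a).symm)
    have h2 : Module.Flat ((A ⧸ R) ⧸ I)
        (((A ⧸ R) ⧸ I) ⊗[A ⧸ (R ⊔ Ideal.span {x})] ((A ⧸ (R ⊔ Ideal.span {x})) ⊗[A] G)) :=
      inferInstance
    let e1 := TensorProduct.AlgebraTensorModule.cancelBaseChange A (A ⧸ (R ⊔ Ideal.span {x}))
      ((A ⧸ R) ⧸ I) ((A ⧸ R) ⧸ I) G
    let e2 := TensorProduct.AlgebraTensorModule.cancelBaseChange A (A ⧸ R)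
      ((A ⧸ R) ⧸ I) ((A ⧸ R) ⧸ I) G
    exact Module.Flat.of_linearEquiv (e2.trans e1.symm)
  exact flat_of_le_jacobson (R := A ⧸ R) (S := A ⧸ R) (M := (A ⧸ R) ⊗[A] G) I hI h1

end LemmaX2

section Induction

variable {A : Type u} [CommRing A]

theorem smul_top_eq_bot_iff_forall (I : Ideal A) (M : Type u) [AddCommGroup M] [Module A M] :
    I • (⊤ : Submodule A M) = ⊥ ↔ ∀ i ∈ I, ∀ m : M, i • m = 0 := by
  constructor
  · intro h i hi m
    have : i • m ∈ I • (⊤ : Submodule A M) := Submodule.smul_mem_smul hi Submodule.mem_top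
    rw [h] at this
    exact (Submodule.mem_bot A).mp this
  · intro h
    rw [eq_bot_iff]
    intro y hy
    refine Submodule.smul_induction_on hy ?_ ?_
    · intro i hi m _
      rw [h i hi m]
      exact Submodule.zero_mem _
    · intro a b ha hb
      exact Submodule.add_mem _ ha hb

/-- `(A/R)/x(A/R) ≃ A/(R + x)` as `A`-modules. -/
noncomputable def quotSMulTopQuotientEquiv (R : Ideal A) (x : A) :
    QuotSMulTop x (A ⧸ R) ≃ₗ[A] A ⧸ (R ⊔ Ideal.span {x}) := by
  let g : (A ⧸ R) →ₗ[A] A ⧸ (R ⊔ Ideal.span {x}) :=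
    Submodule.mapQ R (R ⊔ Ideal.span {x}) LinearMap.id (by
      intro a ha
      exact Ideal.mem_sup_left ha)
  have hg : ∀ a : A, g (Ideal.Quotient.mk R a) = Ideal.Quotient.mk _ a := fun a => rfl
  have hker : x • (⊤ : Submodule A (A ⧸ R)) ≤ LinearMap.ker g := by
    intro y hy
    rw [Submodule.mem_smul_pointwise_iff_exists] at hy
    obtain ⟨b, -, rfl⟩ := hy
    obtain ⟨b, rfl⟩ := Ideal.Quotient.mk_surjective b
    rw [LinearMap.mem_ker, map_smul, hg]
    have hsm : x • (Ideal.Quotient.mk (R ⊔ Ideal.span {x})) b =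
        Ideal.Quotient.mk (R ⊔ Ideal.span {x}) (x * b) := rfl
    rw [hsm, Ideal.Quotient.eq_zero_iff_mem]
    exact Ideal.mem_sup_right (Ideal.mul_mem_right b _ (Ideal.mem_span_singleton_self x))
  refine LinearEquiv.ofBijective (Submodule.liftQ _ g hker) ⟨?_, ?_⟩
  · rw [← LinearMap.ker_eq_bot]
    apply Submodule.ker_liftQ_eq_bot
    intro y hy
    obtain ⟨a, rfl⟩ := Ideal.Quotient.mk_surjective y
    rw [LinearMap.mem_ker, hg, Ideal.Quotient.eq_zero_iff_mem, Submodule.mem_sup] at hy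
    obtain ⟨r, hr, c, hc, rfl⟩ := hy
    rw [Ideal.mem_span_singleton'] at hc
    obtain ⟨c, rfl⟩ := hc
    rw [Submodule.mem_smul_pointwise_iff_exists]
    refine ⟨Ideal.Quotient.mk R c, Submodule.mem_top, ?_⟩
    rw [map_add, Ideal.Quotient.eq_zero_iff_mem.mpr hr, zero_add, mul_comm]
    rfl
  · intro y
    obtain ⟨a, rfl⟩ := Ideal.Quotient.mk_surjective y
    exact ⟨Submodule.Quotient.mk (Ideal.Quotient.mk R a), rfl⟩

theorem smul_top_quotSMulTop_eq_bot (R : Ideal A) (G : Type u) [AddCommGroup G] [Module A G]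
    (hG : R • (⊤ : Submodule A G) = ⊥) (x : A) :
    (R ⊔ Ideal.span {x}) • (⊤ : Submodule A (QuotSMulTop x G)) = ⊥ := by
  rw [smul_top_eq_bot_iff_forall] at hG ⊢
  intro i hi m
  obtain ⟨g, rfl⟩ := Submodule.Quotient.mk_surjective _ m
  rw [Submodule.mem_sup] at hi
  obtain ⟨r, hr, c, hc, rfl⟩ := hi
  rw [Ideal.mem_span_singleton'] at hc
  obtain ⟨c, rfl⟩ := hc
  rw [← Submodule.Quotient.mk_smul, add_smul, hG r hr g, zero_add,
    Submodule.Quotient.mk_eq_zero, Submodule.mem_smul_pointwise_iff_exists]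
  exact ⟨c • g, Submodule.mem_top, by rw [smul_smul, mul_comm]⟩

end Induction

section Induction2

variable {A : Type u} [CommRing A] [IsNoetherianRing A]

/-- **Flatness and regular sequences in the Jacobson radical**: for a finite module `G` killed
by `R` and a sequence `rs` in the Jacobson radical, regular on `A/R`: `G` is flat over `A/R` iff
`G/(rs)G` is flat over `A/(R + (rs))` and `rs` is a regular sequence on `G`. -/
theorem flatQ_iff_of_isWeaklyRegular : ∀ (rs : List A) (R : Ideal A) (G : Type u)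
    [AddCommGroup G] [Module A G] [Module.Finite A G],
    R • (⊤ : Submodule A G) = ⊥ → (∀ r ∈ rs, r ∈ (⊥ : Ideal A).jacobson) →
    RingTheory.Sequence.IsWeaklyRegular (A ⧸ R) rs →
    (FlatQ R G ↔ FlatQ (R ⊔ Ideal.ofList rs) G ∧ RingTheory.Sequence.IsWeaklyRegular G rs)
  | [], R, G, _, _, _, _, _, _ => by
    rw [Ideal.ofList_nil, sup_bot_eq]
    exact ⟨fun h => ⟨h, RingTheory.Sequence.IsWeaklyRegular.nil A G⟩, fun h => h.1⟩
  | x :: rest, R, G, _, _, _, hG, hJ, hreg => by
    rw [RingTheory.Sequence.isWeaklyRegular_cons_iff] at hreg ⊢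
    obtain ⟨hx, hrest⟩ := hreg
    have hrest' : RingTheory.Sequence.IsWeaklyRegular (A ⧸ (R ⊔ Ideal.span {x})) rest :=
      ((quotSMulTopQuotientEquiv R x).isWeaklyRegular_congr rest).mp hrest
    have hG' := smul_top_quotSMulTop_eq_bot R G hG x
    have hxJ : x ∈ (⊥ : Ideal A).jacobson := hJ x List.mem_cons_self
    have ih := flatQ_iff_of_isWeaklyRegular rest (R ⊔ Ideal.span {x}) (QuotSMulTop x G) hG'
      (fun r hr => hJ r (List.mem_cons_of_mem _ hr)) hrest'
    have hQ : R ⊔ Ideal.ofList (x :: rest) = R ⊔ Ideal.span {x} ⊔ Ideal.ofList rest := by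
      rw [Ideal.ofList_cons, sup_assoc]
    rw [hQ]
    -- kernel of `G → G/xG` is contained in `I G` whenever `x ∈ I`
    have hker : ∀ I : Ideal A, x ∈ I →
        LinearMap.ker (Submodule.mkQ (x • (⊤ : Submodule A G))) ≤ I • (⊤ : Submodule A G) := by
      intro I hxI
      rw [Submodule.ker_mkQ]
      intro y hy
      rw [Submodule.mem_smul_pointwise_iff_exists] at hy
      obtain ⟨g, -, rfl⟩ := hy
      exact Submodule.smul_mem_smul hxI Submodule.mem_top
    have hxR' : x ∈ R ⊔ Ideal.span {x} := Ideal.mem_sup_right (Ideal.mem_span_singleton_self x)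
    have e1 : FlatQ (R ⊔ Ideal.span {x}) G ↔ FlatQ (R ⊔ Ideal.span {x}) (QuotSMulTop x G) :=
      flatQ_of_surjective _ (Submodule.mkQ (x • (⊤ : Submodule A G)))
        (Submodule.mkQ_surjective _) (hker _ hxR')
    have e2 : FlatQ (R ⊔ Ideal.span {x} ⊔ Ideal.ofList rest) G ↔
        FlatQ (R ⊔ Ideal.span {x} ⊔ Ideal.ofList rest) (QuotSMulTop x G) :=
      flatQ_of_surjective _ (Submodule.mkQ (x • (⊤ : Submodule A G)))
        (Submodule.mkQ_surjective _) (hker _ (Ideal.mem_sup_left hxR'))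
    constructor
    · intro h
      have hxG : IsSMulRegular G x := isSMulRegular_of_flatQ R G hG hx h
      have h1 : FlatQ (R ⊔ Ideal.span {x}) G := flatQ_of_le le_sup_left G h
      obtain ⟨h2, h3⟩ := ih.mp (e1.mp h1)
      exact ⟨e2.mpr h2, hxG, h3⟩
    · rintro ⟨h2, hxG, h3⟩
      have h1 : FlatQ (R ⊔ Ideal.span {x}) G := e1.mpr (ih.mpr ⟨e2.mp h2, h3⟩)
      exact flatQ_of_flatQ_sup_span R G hG hxJ hxG h1

end Induction2

section Final

variable {A : Type u} [CommRing A]

theorem smul_top_quotient_smul_top_eq_bot (I : Ideal A) (N : Type u) [AddCommGroup N]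
    [Module A N] : I • (⊤ : Submodule A (N ⧸ (I • (⊤ : Submodule A N)))) = ⊥ := by
  rw [smul_top_eq_bot_iff_forall]
  intro i hi m
  obtain ⟨n, rfl⟩ := Submodule.Quotient.mk_surjective _ m
  rw [← Submodule.Quotient.mk_smul, Submodule.Quotient.mk_eq_zero]
  exact Submodule.smul_mem_smul hi Submodule.mem_top

/-- Hironaka's criterion, one graded piece: for a finite module `N` over a Noetherian ring,
`rs` in the Jacobson radical and regular on `A/R`, `Q = R + (rs)`: `N/RN` is flat over `A/R` iff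
`(N/RN)/Q(N/RN)` is flat over `A/Q` and `rs` is regular on `N/RN`. -/
theorem flat_quotient_iff_of_isWeaklyRegular [IsNoetherianRing A] (R : Ideal A) (rs : List A)
    (hJ : ∀ r ∈ rs, r ∈ (⊥ : Ideal A).jacobson)
    (hreg : RingTheory.Sequence.IsWeaklyRegular (A ⧸ R) rs)
    (N : Type u) [AddCommGroup N] [Module A N] [Module.Finite A N] :
    Module.Flat (A ⧸ R) (N ⧸ (R • (⊤ : Submodule A N))) ↔
      Module.Flat (A ⧸ (R ⊔ Ideal.ofList rs))
        ((N ⧸ (R • (⊤ : Submodule A N))) ⧸ ((R ⊔ Ideal.ofList rs) •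
          (⊤ : Submodule A (N ⧸ (R • (⊤ : Submodule A N)))))) ∧
      RingTheory.Sequence.IsWeaklyRegular (N ⧸ (R • (⊤ : Submodule A N))) rs := by
  rw [← flatQ_iff_quotient, ← flatQ_iff_quotient,
    flatQ_of_surjective R (Submodule.mkQ (R • (⊤ : Submodule A N))) (Submodule.mkQ_surjective _)
      (by rw [Submodule.ker_mkQ])]
  exact flatQ_iff_of_isWeaklyRegular rs R _ (smul_top_quotient_smul_top_eq_bot R N) hJ hreg

end Final

end Groth.Agent.Lib.Helper29
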