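import Mathlib
import Groth.Agent.H8.DimFormula

/-!
# Pointed dimension formula with local catenary hypotheses (helper29)

A variant of helper8's dimension-formula machinery where catenarity is only assumed for
localizations of finitely generated subalgebras of `B[X]` at primes lying over a given prime.
-/

universe u
open Cardinal Polynomial

namespace Groth.Agent.Lib.Helper29.PtDim

open Groth.Agent.H8.DimFormula

/-- catenary hypothesis: localizations of f.g. subalgebras of `B[X]` at primes over `p`. -/
def Hcat (A B : Type u) [CommRing A] [CommRing B] [Algebra A B] (p : Ideal A) : Prop :=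
  ∀ A' : Subalgebra A B[X], A'.FG → ∀ (P' : Ideal A') [P'.IsPrime], P'.LiesOver p →
    CAlg.IsCatenary (Localization.AtPrime P')

/-- pointed dimension equality under the catenary hypothesis. -/
def PtEQ (A B : Type u) [CommRing A] [CommRing B] [Algebra A B] : Prop :=
  ∀ (p : Ideal A) [p.IsPrime] (q : Ideal B) [q.IsPrime] [q.LiesOver p], Hcat A B p →
    (q.height : Cardinal.{u}) + Algebra.trdeg (A ⧸ p) (B ⧸ q) =
      (p.height : Cardinal.{u}) + Algebra.trdeg A B

/-- transport of catenarity of a localization at a prime along a ring isomorphism. -/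
theorem isCatenary_localization_of_ringEquiv {A B : Type u} [CommRing A] [CommRing B]
    (e : A ≃+* B) (P : Ideal A) [P.IsPrime] (P' : Ideal B) [P'.IsPrime]
    (h : P = P'.comap (e : A →+* B))
    (hc : CAlg.IsCatenary (Localization.AtPrime P')) :
    CAlg.IsCatenary (Localization.AtPrime P) := by
  have H : P.primeCompl.map e.toMonoidHom = P'.primeCompl := by
    ext y
    constructor
    · rintro ⟨x, hx, rfl⟩
      intro hy
      apply hx
      rw [h]
      exact hy
    · intro hy
      refine ⟨e.symm y, ?_, by simp⟩
      intro hx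
      apply hy
      rw [h] at hx
      simpa using hx
  let f : Localization.AtPrime P ≃+* Localization.AtPrime P' :=
    IsLocalization.ringEquivOfRingEquiv (Localization.AtPrime P) (Localization.AtPrime P') e H
  exact Groth.Agent.H46.isCatenary_of_surjective f.symm.toRingHom f.symm.surjective hc

/-- catenarity of the localization at a smaller prime. -/
theorem isCatenary_localization_of_le {T : Type u} [CommRing T] (P M : Ideal T) [P.IsPrime]
    [M.IsPrime] (hle : P ≤ M) (hc : CAlg.IsCatenary (Localization.AtPrime M)) :
    CAlg.IsCatenary (Localization.AtPrime P) := by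
  have hMP : M.primeCompl ≤ P.primeCompl := fun x hx hxP => hx (hle hxP)
  let _ : Algebra (Localization.AtPrime M) (Localization.AtPrime P) :=
    IsLocalization.localizationAlgebraOfSubmonoidLe _ _ M.primeCompl P.primeCompl hMP
  have : IsScalarTower T (Localization.AtPrime M) (Localization.AtPrime P) :=
    IsLocalization.localization_isScalarTower_of_submonoid_le _ _ M.primeCompl P.primeCompl hMP
  have : IsLocalization (P.primeCompl.map (algebraMap T (Localization.AtPrime M)))
      (Localization.AtPrime P) :=
    IsLocalization.isLocalization_of_submonoid_le _ _ M.primeCompl P.primeCompl hMP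
  exact Groth.Agent.H46.isCatenary_of_isLocalization _
    (P.primeCompl.map (algebraMap T (Localization.AtPrime M))) hc

/-- In a Noetherian domain, `ht q' = ht(q'/Q) + ht Q` if the localization at `q'` is catenary. -/
theorem height_eq_height_map_mk_add_height' (T : Type u) [CommRing T] [IsDomain T]
    [IsNoetherianRing T] (Q q' : Ideal T) [hQ : Q.IsPrime]
    [hq' : q'.IsPrime] (hQq : Q ≤ q') (hcatA : CAlg.IsCatenary (Localization.AtPrime q')) :
    q'.height = (q'.map (Ideal.Quotient.mk Q)).height + Q.height := by
  have hle : q'.primeCompl ≤ nonZeroDivisors T := by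
    intro x hx
    apply mem_nonZeroDivisors_of_ne_zero
    rintro rfl
    exact hx q'.zero_mem
  have hd : IsDomain (Localization.AtPrime q') := IsLocalization.isDomain_localization hle
  have hN : IsNoetherianRing (Localization.AtPrime q') :=
    IsLocalization.isNoetherianRing q'.primeCompl _ inferInstance
  have hEq : EGA4.IsEquidim (Localization.AtPrime q') := by
    intro p hp
    rw [IsDomain.minimalPrimes_eq_singleton_bot, Set.mem_singleton_iff] at hp
    subst hp
    exact ringKrullDim_eq_of_ringEquiv (RingEquiv.quotientBot _)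
  have hdisj : Disjoint (q'.primeCompl : Set T) (Q : Set T) := by
    rw [Set.disjoint_left]
    intro x hx hxQ
    exact hx (hQq hxQ)
  have hP : (Q.map (algebraMap T (Localization.AtPrime q'))).IsPrime :=
    IsLocalization.isPrime_of_isPrime_disjoint q'.primeCompl _ Q hQ hdisj
  have hht : (Q.map (algebraMap T (Localization.AtPrime q'))).height = Q.height :=
    IsLocalization.height_map_of_disjoint q'.primeCompl Q hdisj
  have h1 := Groth.Agent.Lib.Helper22.ringKrullDim_eq_coheight_add_height
    (Localization.AtPrime q') hEq hcatA ⟨_, hP⟩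
  have h2 := Groth.Agent.H46.ringKrullDim_quotient_eq_coheight
    (⟨_, hP⟩ : PrimeSpectrum (Localization.AtPrime q'))
  have h3 := Groth.Agent.Lib.Helper29.ringKrullDim_localization_quotient_map_eq_height T hQq
  have h4 := IsLocalization.AtPrime.ringKrullDim_eq_height q' (Localization.AtPrime q')
  have h5 : Order.height (⟨_, hP⟩ : PrimeSpectrum (Localization.AtPrime q')) = Q.height := by
    rw [← hht]
    exact (PrimeSpectrum.height_eq_orderHeight ⟨_, hP⟩).symm
  simp only at h2
  rw [h3] at h2
  have h6 : Order.coheight (⟨_, hP⟩ : PrimeSpectrum (Localization.AtPrime q')) =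
      (q'.map (Ideal.Quotient.mk Q)).height := by exact_mod_cast h2.symm
  rw [h4, h5, h6] at h1
  exact_mod_cast h1

section OneGen

variable (R S : Type u) [CommRing R] [IsDomain R] [IsNoetherianRing R] [CommRing S] [IsDomain S]
  [Algebra R S] [FaithfulSMul R S] (φ : R[X] →ₐ[R] S) (hφ : Function.Surjective φ)

include hφ in
/-- explicit version of helper8's `oneGen_key`. -/
theorem oneGen_key' (p : Ideal R) [p.IsPrime] (q : Ideal S) [q.IsPrime] [q.LiesOver p] :
    ∃ (_ : (RingHom.ker φ).IsPrime) (_ : (q.comap φ).IsPrime) (_ : RingHom.ker φ ≤ q.comap φ)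
      (_ : ((q.comap φ).map (Ideal.Quotient.mk (RingHom.ker φ))).IsPrime),
      q.height = ((q.comap φ).map (Ideal.Quotient.mk (RingHom.ker φ))).height ∧
      (1 : Cardinal.{u}) = ((RingHom.ker φ).height : Cardinal.{u}) + Algebra.trdeg R S ∧
      (p.height : Cardinal.{u}) + 1 =
        ((q.comap φ).height : Cardinal.{u}) + Algebra.trdeg (R ⧸ p) (S ⧸ q) := by
  have hQprime : (RingHom.ker φ).IsPrime := RingHom.ker_isPrime _
  have hq'prime : (q.comap φ).IsPrime := inferInstance
  have hQq : RingHom.ker φ ≤ q.comap φ := by
    intro f hf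
    rw [Ideal.mem_comap]
    have : φ f = 0 := hf
    rw [this]
    exact q.zero_mem
  have hmapprime : ((q.comap φ).map (Ideal.Quotient.mk (RingHom.ker φ))).IsPrime :=
    Ideal.map_isPrime_of_surjective Ideal.Quotient.mk_surjective (by rwa [Ideal.mk_ker])
  refine ⟨hQprime, hq'prime, hQq, hmapprime, ?_, ?_, ?_⟩
  · -- heights
    let e : (R[X] ⧸ RingHom.ker φ) ≃+* S :=
      (Ideal.quotientKerAlgEquivOfSurjective hφ).toRingEquiv
    have h1 : q.comap e = (q.comap φ).map (Ideal.Quotient.mk (RingHom.ker φ)) := by
      ext x
      obtain ⟨f, rfl⟩ := Ideal.Quotient.mk_surjective x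
      rw [Ideal.mem_comap, Ideal.mem_quotient_iff_mem hQq, Ideal.mem_comap]
      rfl
    rw [← h1, RingEquiv.height_comap]
  · -- `Q` lies over `⊥`
    have hover : (RingHom.ker φ).LiesOver (⊥ : Ideal R) := by
      constructor
      ext x
      rw [Ideal.mem_bot, Ideal.under_def, Ideal.mem_comap, RingHom.mem_ker,
        Polynomial.algebraMap_apply, Algebra.algebraMap_self_apply]
      constructor
      · rintro rfl; simp
      · intro h
        have h2 : φ (C x) = algebraMap R S x := φ.commutes x
        rw [h2] at h
        exact (FaithfulSMul.algebraMap_injective R S) (by rw [h, map_zero])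
    have h1 := Groth.Agent.S4730.result R (⊥ : Ideal R) (RingHom.ker φ)
    rw [Ideal.height_bot] at h1
    have h2 : Algebra.trdeg R (R[X] ⧸ RingHom.ker φ) = Algebra.trdeg R S :=
      (Ideal.quotientKerAlgEquivOfSurjective hφ).trdeg_eq
    have hf1 : FaithfulSMul R (R ⧸ (⊥ : Ideal R)) := by
      rw [faithfulSMul_iff_algebraMap_injective, Ideal.Quotient.algebraMap_eq]
      exact (RingHom.injective_iff_ker_eq_bot _).mpr Ideal.mk_ker
    have h3 := trdeg_add_eq R (R ⧸ (⊥ : Ideal R)) (A := R[X] ⧸ RingHom.ker φ)
    rw [trdeg_eq_zero, zero_add] at h3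
    rw [← h2, ← h3]
    simpa using h1
  · have h1 := Groth.Agent.S4730.result R p (q.comap φ)
    rw [h1]
    congr 1
    exact trdeg_quotient_comap_eq R R[X] S φ hφ p q

omit [IsDomain R] [IsNoetherianRing R] [IsDomain S] in
/-- catenarity of localizations of `R[X]` at primes over `p`, from `Hcat R S p`. -/
theorem isCatenary_localization_polynomial_of_hcat (p : Ideal R) (hH : Hcat R S p)
    (P : Ideal R[X]) [P.IsPrime] [P.LiesOver p] :
    CAlg.IsCatenary (Localization.AtPrime P) := by
  let ι : R[X] →ₐ[R] S[X] := Polynomial.mapAlgHom (Algebra.ofId R S)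
  have hι : Function.Injective ι := by
    rw [Polynomial.coe_mapAlgHom]
    exact Polynomial.map_injective _ (FaithfulSMul.algebraMap_injective R S)
  let A' : Subalgebra R S[X] := ι.range
  have hfg : A'.FG := by
    have h1 : (⊤ : Subalgebra R R[X]).FG := Algebra.FiniteType.out
    have h2 := h1.map ι
    rwa [Algebra.map_top] at h2
  let e : R[X] ≃ₐ[R] A' := AlgEquiv.ofInjective ι hι
  let P' : Ideal A' := P.comap (e.symm : A' →+* R[X])
  have hP' : P'.IsPrime := Ideal.comap_isPrime _ _
  have hlies : P'.LiesOver p := by
    constructor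
    rw [(inferInstance : P.LiesOver p).over]
    ext x
    simp only [Ideal.under_def, Ideal.mem_comap, P']
    have : (e.symm : A' →+* R[X]) (algebraMap R A' x) = algebraMap R R[X] x := by
      change e.symm (algebraMap R A' x) = _
      rw [AlgEquiv.commutes]
    rw [this]
  have hc := hH A' hfg P' hlies
  refine isCatenary_localization_of_ringEquiv e.toRingEquiv P P' ?_ hc
  ext x
  simp only [Ideal.mem_comap, P']
  change x ∈ P ↔ e.symm (e x) ∈ P
  rw [AlgEquiv.symm_apply_apply]

include hφ in
theorem ptEQ_of_surjective_polynomial : PtEQ R S := by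
  intro p _ q _ _ hH
  obtain ⟨hQ, hq', hQq, hmap, h1, h2, h3⟩ := oneGen_key' R S φ hφ p q
  have hlies : (q.comap φ).LiesOver p := by
    constructor
    rw [(inferInstance : q.LiesOver p).over]
    ext x
    simp only [Ideal.under_def, Ideal.mem_comap]
    have : (φ : R[X] →+* S) (algebraMap R R[X] x) = algebraMap R S x := φ.commutes x
    rw [← this]
    rfl
  have hcatA := isCatenary_localization_polynomial_of_hcat R S p hH (q.comap φ)
  have hH' := height_eq_height_map_mk_add_height' R[X] (RingHom.ker φ) (q.comap φ) hQq hcatA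
  rw [← h1] at hH'
  rw [← Cardinal.add_one_inj]
  calc (q.height : Cardinal.{u}) + Algebra.trdeg (R ⧸ p) (S ⧸ q) + 1
      = (q.height : Cardinal.{u}) + Algebra.trdeg (R ⧸ p) (S ⧸ q) +
          (((RingHom.ker φ).height : Cardinal.{u}) + Algebra.trdeg R S) := by rw [← h2]
    _ = ((q.height : Cardinal.{u}) + ((RingHom.ker φ).height : Cardinal.{u})) +
          Algebra.trdeg (R ⧸ p) (S ⧸ q) + Algebra.trdeg R S := by ring
    _ = (((q.height + (RingHom.ker φ).height : ℕ∞)) : Cardinal.{u}) +
          Algebra.trdeg (R ⧸ p) (S ⧸ q) + Algebra.trdeg R S := by rw [Cardinal.ofENat_add]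
    _ = ((q.comap φ).height : Cardinal.{u}) + Algebra.trdeg (R ⧸ p) (S ⧸ q) +
          Algebra.trdeg R S := by rw [hH']
    _ = (p.height : Cardinal.{u}) + 1 + Algebra.trdeg R S := by rw [h3]
    _ = _ := by ring

end OneGen

section Trans

/-- `Hcat` descends to an intermediate ring. -/
theorem Hcat.of_tower_bot (R A B : Type u) [CommRing R] [CommRing A] [CommRing B]
    [Algebra R A] [Algebra A B] [Algebra R B] [IsScalarTower R A B] [FaithfulSMul A B]
    (p : Ideal R) (hH : Hcat R B p) : Hcat R A p := by
  intro A' hfg P' _ hlies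
  let ι : A[X] →ₐ[R] B[X] := Polynomial.mapAlgHom (IsScalarTower.toAlgHom R A B)
  have hι : Function.Injective ι := by
    rw [Polynomial.coe_mapAlgHom]
    exact Polynomial.map_injective _ (FaithfulSMul.algebraMap_injective A B)
  let A'' : Subalgebra R B[X] := A'.map ι
  have hfg'' : A''.FG := hfg.map ι
  let e : A' ≃ₐ[R] A'' := A'.equivMapOfInjective ι hι
  let P'' : Ideal A'' := P'.comap (e.symm : A'' →+* A')
  have hP'' : P''.IsPrime := Ideal.comap_isPrime _ _
  have hlies'' : P''.LiesOver p := by
    constructor
    rw [hlies.over]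
    ext x
    simp only [Ideal.under_def, Ideal.mem_comap, P'']
    have : (e.symm : A'' →+* A') (algebraMap R A'' x) = algebraMap R A' x := by
      change e.symm (algebraMap R A'' x) = _
      rw [AlgEquiv.commutes]
    rw [this]
  have hc := hH A'' hfg'' P'' hlies''
  refine isCatenary_localization_of_ringEquiv e.toRingEquiv P' P'' ?_ hc
  ext x
  simp only [Ideal.mem_comap, P'']
  change x ∈ P' ↔ e.symm (e x) ∈ P'
  rw [AlgEquiv.symm_apply_apply]

/-- `Hcat` ascends to an intermediate ring of finite type. -/
theorem Hcat.of_tower_top (R A B : Type u) [CommRing R] [CommRing A] [CommRing B]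
    [Algebra R A] [Algebra A B] [Algebra R B] [IsScalarTower R A B] [Algebra.FiniteType R A]
    (p : Ideal R) (p' : Ideal A) [p'.LiesOver p] (hH : Hcat R B p) : Hcat A B p' := by
  intro A' hfg P' _ hlies
  have hft : Algebra.FiniteType A A' := (Subalgebra.fg_iff_finiteType A').mp hfg
  have hft' : Algebra.FiniteType R A' := Algebra.FiniteType.trans (S := A) inferInstance hft
  have hfg' : (A'.restrictScalars R).FG := (Subalgebra.fg_iff_finiteType _).mpr hft'
  let A'r : Subalgebra R B[X] := A'.restrictScalars R
  let P'r : Ideal A'r := P'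
  have hP'r : P'r.IsPrime := ‹P'.IsPrime›
  have hlies' : P'r.LiesOver p := by
    constructor
    rw [(inferInstance : p'.LiesOver p).over, hlies.over]
    ext x
    simp only [Ideal.under_def, Ideal.mem_comap]
    have hx : (algebraMap A ↥A') ((algebraMap R A) x) = ((algebraMap R ↥A'r) x : A') := by
      apply Subtype.ext
      change algebraMap A B[X] (algebraMap R A x) = algebraMap R B[X] x
      rw [← IsScalarTower.algebraMap_apply]
    rw [hx]
    rfl
  exact hH A'r hfg' P'r hlies'

theorem PtEQ.trans (R A B : Type u) [CommRing R] [CommRing A] [CommRing B] [IsDomain B]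
    [Algebra R A] [Algebra A B] [Algebra R B] [IsScalarTower R A B] [Nontrivial R]
    [FaithfulSMul R A] [FaithfulSMul A B] [Algebra.FiniteType R A]
    (h1 : PtEQ R A) (h2 : PtEQ A B) : PtEQ R B := by
  intro p _ q _ _ hH
  have hp' : (q.under A).LiesOver p := inferInstance
  have h3 := h1 p (q.under A) (Hcat.of_tower_bot R A B p hH)
  have h4 := h2 (q.under A) q (Hcat.of_tower_top R A B p (q.under A) hH)
  rw [← trdeg_quotient_tower R A B p (q.under A) q, ← trdeg_add_eq R A (A := B)]
  calc (q.height : Cardinal.{u}) + (Algebra.trdeg (R ⧸ p) (A ⧸ q.under A) +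
        Algebra.trdeg (A ⧸ q.under A) (B ⧸ q))
      = ((q.height : Cardinal.{u}) + Algebra.trdeg (A ⧸ q.under A) (B ⧸ q)) +
          Algebra.trdeg (R ⧸ p) (A ⧸ q.under A) := by ring
    _ = (((q.under A).height : Cardinal.{u}) + Algebra.trdeg A B) +
          Algebra.trdeg (R ⧸ p) (A ⧸ q.under A) := by rw [h4]
    _ = (((q.under A).height : Cardinal.{u}) + Algebra.trdeg (R ⧸ p) (A ⧸ q.under A)) +
          Algebra.trdeg A B := by ring
    _ = ((p.height : Cardinal.{u}) + Algebra.trdeg R A) + Algebra.trdeg A B := by rw [h3]
    _ = _ := by ring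

end Trans

section Induction

variable (R : Type u) [CommRing R] [IsDomain R] [IsNoetherianRing R]

/-- helper8's induction on generators, with the intermediate ring of finite type in the
transitivity step. -/
theorem induction_generators'
    (P : ∀ (A B : Type u) [CommRing A] [CommRing B] [Algebra A B], Prop)
    (hone : ∀ (A : Type u) [CommRing A] [IsDomain A] [IsNoetherianRing A] [Algebra R A]
      [Algebra.FiniteType R A] (B : Type u) [CommRing B] [IsDomain B] [Algebra A B]
      [FaithfulSMul A B] (φ : A[X] →ₐ[A] B), Function.Surjective φ → P A B)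
    (htrans : ∀ (A B : Type u) [CommRing A] [CommRing B] [IsDomain B] [Algebra R A] [Algebra A B]
      [Algebra R B] [IsScalarTower R A B] [FaithfulSMul R A] [FaithfulSMul A B]
      [Algebra.FiniteType R A],
      P R A → P A B → P R B) :
    ∀ (n : ℕ) (S : Type u) [CommRing S] [IsDomain S] [Algebra R S] [FaithfulSMul R S],
      (∃ s : Finset S, s.card ≤ n ∧ Algebra.adjoin R (s : Set S) = ⊤) → P R S := by
  intro n
  induction n with
  | zero =>
    intro S _ _ _ _ ⟨s, hs, hadj⟩
    have hs0 : s = ∅ := Finset.card_eq_zero.mp (Nat.le_zero.mp hs)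
    subst hs0
    have hsurj : Function.Surjective (algebraMap R S) := by
      rw [Finset.coe_empty, Algebra.adjoin_empty] at hadj
      exact Algebra.surjective_algebraMap_iff.mpr hadj.symm
    refine hone R S (aeval (0 : S)) ?_
    intro y
    obtain ⟨r, rfl⟩ := hsurj y
    exact ⟨C r, by simp⟩
  | succ n ih =>
    intro S _ _ _ _ ⟨s, hs, hadj⟩
    classical
    -- choose an element
    obtain ⟨x, s', hs', hss'⟩ : ∃ (x : S) (s' : Finset S), s'.card ≤ n ∧
        (s : Set S) ⊆ insert x (s' : Set S) := by
      rcases s.eq_empty_or_nonempty with rfl | ⟨x, hx⟩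
      · exact ⟨0, ∅, by simp, by simp⟩
      · refine ⟨x, s.erase x, ?_, ?_⟩
        · rw [Finset.card_erase_of_mem hx]; omega
        · intro y hy
          by_cases hyx : y = x
          · exact Or.inl hyx
          · exact Or.inr (Finset.mem_erase.mpr ⟨hyx, hy⟩)
    let R' : Subalgebra R S := Algebra.adjoin R (s' : Set S)
    have hft : Algebra.FiniteType R R' :=
      (Subalgebra.fg_iff_finiteType R').mp ⟨s', rfl⟩
    have hN : IsNoetherianRing R' := Algebra.FiniteType.isNoetherianRing R R'
    have hf1 : FaithfulSMul R R' := by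
      rw [faithfulSMul_iff_algebraMap_injective]
      intro a b hab
      apply FaithfulSMul.algebraMap_injective R S
      have := congrArg (Subtype.val) hab
      simpa using this
    -- generators of R'
    let t : Finset R' := s'.attach.image (fun y => ⟨y.1, Algebra.subset_adjoin y.2⟩)
    have htcard : t.card ≤ n := by
      calc t.card ≤ s'.attach.card := Finset.card_image_le
        _ = s'.card := Finset.card_attach
        _ ≤ n := hs'
    have htset : (t : Set R') = ((↑) : R' → S) ⁻¹' (s' : Set S) := by
      ext z
      simp only [t, Finset.coe_image, Set.mem_image, Finset.mem_coe, Finset.mem_attach, true_and,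
        Set.mem_preimage, Subtype.exists]
      constructor
      · rintro ⟨y, hy, rfl⟩
        exact hy
      · intro hz
        exact ⟨z.1, hz, rfl⟩
    have htadj : Algebra.adjoin R (t : Set R') = ⊤ := by
      rw [htset]
      exact Algebra.adjoin_adjoin_coe_preimage
    have h1 : P R R' := ih R' ⟨t, htcard, htadj⟩
    -- one generator
    have hφ : Function.Surjective (aeval (R := R') x : R'[X] →ₐ[R'] S) := by
      intro y
      have hy : y ∈ Algebra.adjoin R (s : Set S) := by rw [hadj]; trivial
      have hle : Algebra.adjoin R (s : Set S) ≤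
          (aeval (R := R') x : R'[X] →ₐ[R'] S).range.restrictScalars R := by
        apply Algebra.adjoin_le
        intro z hz
        rcases hss' hz with rfl | hz'
        · exact ⟨X, by simp⟩
        · exact ⟨C ⟨z, Algebra.subset_adjoin hz'⟩, by simp⟩
      exact hle hy
    have h2 : P R' S := hone R' S _ hφ
    exact htrans R' S h1 h2

/-- the pointed dimension formula for finite type domain extensions. -/
theorem ptEQ_of_finiteType (S : Type u) [CommRing S] [IsDomain S] [Algebra R S]
    [FaithfulSMul R S] [Algebra.FiniteType R S] : PtEQ R S := by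
  obtain ⟨s, hs⟩ := (Algebra.FiniteType.out : (⊤ : Subalgebra R S).FG)
  refine induction_generators' R (fun A B _ _ _ => PtEQ A B) ?_ ?_ s.card S ⟨s, le_rfl, hs⟩
  · intro A _ _ _ _ hA B _ _ _ _ φ hφ
    exact ptEQ_of_surjective_polynomial A B φ hφ
  · intro A B _ _ _ _ _ _ _ _ _ _ h1 h2
    exact PtEQ.trans R A B h1 h2

omit [IsDomain R] [IsNoetherianRing R] in
/-- `Hcat` from catenarity at the maximal ideals over a maximal ideal. -/
theorem hcat_of_forall_isMaximal (S : Type u) [CommRing S] [Algebra R S] (m : Ideal R)
    [m.IsMaximal]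
    (hcat : ∀ A' : Subalgebra R S[X], A'.FG →
      ∀ (m' : Ideal A') [m'.IsMaximal], m'.LiesOver m →
        CAlg.IsCatenary (Localization.AtPrime m')) : Hcat R S m := by
  intro A' hfg P' hP' hlies
  obtain ⟨m', hm', hle⟩ := Ideal.exists_le_maximal P' hP'.ne_top
  have hl : m'.LiesOver m := by
    constructor
    have h1 : m ≤ m'.under R := by
      rw [hlies.over]
      exact Ideal.comap_mono hle
    have h2 : m'.under R ≠ ⊤ := (inferInstance : (m'.under R).IsPrime).ne_top
    exact (‹m.IsMaximal›.eq_of_le h2 h1)
  exact isCatenary_localization_of_le P' m' hle (hcat A' hfg m' hl)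

end Induction

end Groth.Agent.Lib.Helper29.PtDim
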