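import Mathlib
import Groth.Agent.Lib.Helper48.MoriNagataGlobal
import Groth.Agent.Lib.Helper29.HeightMaps

/-!
# Integrality of "punctured sections" over a Noetherian local domain (helper29)

`isIntegral_of_forall_prime_ne_maximal`: let `D` be a Noetherian local domain with fraction field
`L`, and `y ∈ L` such that `y ∈ D_q` (up to integrality) for every prime `q ≠ m`. If every maximal
ideal of the integral closure of `D` has height at least two, then `y` is integral over `D`.
-/

set_option autoImplicit false
universe u

namespace Groth.Agent.Lib.Helper29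

theorem isIntegral_of_forall_prime_ne_maximal {D : Type u} [CommRing D] [IsDomain D]
    [IsNoetherianRing D] [IsLocalRing D] (L : Type u) [Field L] [Algebra D L]
    [IsFractionRing D L] (y : L)
    (h1 : ∀ q : Ideal D, q.IsPrime → q ≠ IsLocalRing.maximalIdeal D →
      ∃ u : D, u ∉ q ∧ IsIntegral D (algebraMap D L u * y))
    (h2 : ∀ n : Ideal (integralClosure D L), n.IsMaximal → 2 ≤ n.height) : IsIntegral D y := by
  by_contra hy
  obtain ⟨C, hC, hfin, q, hq, hq1, hqs⟩ :=
    Groth.Agent.Lib.Helper48.exists_height_one_prime_of_not_isIntegral L y hy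
  by_cases hq0 : q.comap (algebraMap D C) = IsLocalRing.maximalIdeal D
  · let ι : C →+* integralClosure D L := (Subalgebra.inclusion hC).toRingHom
    have hcomp : ι.comp (algebraMap D C) = algebraMap D (integralClosure D L) :=
      (Subalgebra.inclusion hC).comp_algebraMap
    have hι : ι.IsIntegral := by
      apply RingHom.IsIntegral.tower_top (algebraMap D C) ι
      rw [hcomp]
      exact algebraMap_isIntegral_iff.mpr inferInstance
    have hinj : Function.Injective ι := Subalgebra.inclusion_injective hC
    have : Algebra.IsIntegral D C := Algebra.IsIntegral.of_finite D C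
    have hqmax : q.IsMaximal :=
      Ideal.isMaximal_of_isIntegral_of_isMaximal_comap (R := D) q (by rw [hq0]; infer_instance)
    obtain ⟨n, hnprime, hn⟩ : ∃ n : Ideal (integralClosure D L), n.IsPrime ∧ n.comap ι = q := by
      let _ : Algebra C (integralClosure D L) := ι.toAlgebra
      have : Algebra.IsIntegral C (integralClosure D L) := ⟨hι⟩
      obtain ⟨Q, -, hQ, hQ'⟩ := Ideal.exists_ideal_over_prime_of_isIntegral q
        (⊥ : Ideal (integralClosure D L)) (by
          intro z hz
          have hz' : ι z = 0 := hz
          have : z = 0 := hinj (by rw [hz', map_zero])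
          rw [this]
          exact zero_mem _)
      exact ⟨Q, hQ, hQ'⟩
    have hnmax : n.IsMaximal :=
      Ideal.isMaximal_of_isIntegral_of_isMaximal_comap' ι hι n (by rw [hn]; exact hqmax)
    have h3 := h2 n hnmax
    have h4 := height_le_height_comap_of_isIntegral ι hι n
    rw [hn, hq1] at h4
    have h5 : (2 : ℕ∞) ≤ 1 := h3.trans h4
    exact absurd h5 (by decide)
  · obtain ⟨u, hu, hint⟩ := h1 _ inferInstance hq0
    exact hqs u hu hint

end Groth.Agent.Lib.Helper29
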