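import Groth.Agent.Lib.Helper29.QuasiUnmixedEFT
import Groth.Agent.Lib.Helper47.CompletionIso

/-!
Helper lemmas (helper29): formal equidimensionality of quotients for flat local maps with trivial
closed fibre and no strict inclusions in fibres (e.g. henselizations).
-/

set_option autoImplicit false
universe u

namespace Groth.Agent.Lib.Helper29

open IsLocalRing

section H

variable (R S : Type u) [CommRing R] [CommRing S] [IsLocalRing R] [IsLocalRing S]
  [IsNoetherianRing R] [IsNoetherianRing S] [Algebra R S] [IsLocalHom (algebraMap R S)]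
  [Module.Flat R S]

/-- The completion of `S/pS` is the completion of `R/p` when `𝔪_R S = 𝔪_S` and the residue field
extension is trivial. -/
theorem nonempty_cpl_quotient_map_ringEquiv
    (hm : (maximalIdeal R).map (algebraMap R S) = maximalIdeal S)
    (hres : ∀ s : S, ∃ r : R, s - algebraMap R S r ∈ maximalIdeal S)
    (p : Ideal R) (hp : p ≠ ⊤) :
    haveI : IsLocalRing (R ⧸ p) := isLocalRing_quotient_of_ne_top R p hp
    haveI : IsLocalRing (S ⧸ p.map (algebraMap R S)) := isLocalRing_quotient_map_of_ne_top R S p hp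
    Nonempty (EGA4.Cpl (R ⧸ p) ≃+* EGA4.Cpl (S ⧸ p.map (algebraMap R S))) := by
  have hlocR : IsLocalRing (R ⧸ p) := isLocalRing_quotient_of_ne_top R p hp
  have hlocS : IsLocalRing (S ⧸ p.map (algebraMap R S)) :=
    isLocalRing_quotient_map_of_ne_top R S p hp
  have hflat : Module.Flat (R ⧸ p) (S ⧸ p.map (algebraMap R S)) := flat_quotient_map R S p
  have hloc : IsLocalHom (algebraMap (R ⧸ p) (S ⧸ p.map (algebraMap R S))) :=
    isLocalHom_quotient_map R S p
  have hm' : (maximalIdeal (R ⧸ p)).map (algebraMap (R ⧸ p) (S ⧸ p.map (algebraMap R S))) =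
      maximalIdeal (S ⧸ p.map (algebraMap R S)) := by
    rw [map_maximalIdeal_quotient_map R S p, hm]
    exact IsLocalRing.map_maximalIdeal_of_surjective _ Ideal.Quotient.mk_surjective
  have hk : Function.Bijective (ResidueField.map
      (algebraMap (R ⧸ p) (S ⧸ p.map (algebraMap R S)))) := by
    refine ⟨RingHom.injective _, ?_⟩
    intro y
    obtain ⟨t, rfl⟩ := IsLocalRing.residue_surjective y
    obtain ⟨s, rfl⟩ := Ideal.Quotient.mk_surjective t
    obtain ⟨r, hr⟩ := hres s
    refine ⟨IsLocalRing.residue _ (Ideal.Quotient.mk p r), ?_⟩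
    rw [IsLocalRing.ResidueField.map_residue]
    symm
    rw [← sub_eq_zero, ← map_sub, IsLocalRing.residue_eq_zero_iff]
    have h1 : Ideal.Quotient.mk (p.map (algebraMap R S)) s -
        algebraMap (R ⧸ p) (S ⧸ p.map (algebraMap R S)) (Ideal.Quotient.mk p r) =
        Ideal.Quotient.mk (p.map (algebraMap R S)) (s - algebraMap R S r) := by
      rw [map_sub]; rfl
    rw [h1, ← IsLocalRing.map_maximalIdeal_of_surjective
      (Ideal.Quotient.mk (p.map (algebraMap R S))) Ideal.Quotient.mk_surjective]
    exact Ideal.mem_map_of_mem _ hr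
  have hNR : IsNoetherianRing (R ⧸ p) := inferInstance
  have hNS : IsNoetherianRing (S ⧸ p.map (algebraMap R S)) := inferInstance
  have hbij := Groth.Agent.Lib.Helper47.completion_map_bijective
    (A := R ⧸ p) (B := S ⧸ p.map (algebraMap R S)) hm' hk
    (Groth.Agent.Lib.Helper73.CplMap.cplMap (R ⧸ p) (S ⧸ p.map (algebraMap R S)))
    (Groth.Agent.Lib.Helper73.CplMap.cplMap_comp (R ⧸ p) (S ⧸ p.map (algebraMap R S)))
  exact ⟨RingEquiv.ofBijective _ hbij⟩

/-- For a flat local map `R → S` with `𝔪_R S = 𝔪_S`, trivial residue field extension and no strict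
inclusions among primes in a fibre (e.g. a henselization): if `R/(q ∩ R)` is formally
equidimensional then so is `S/q`. -/
theorem isFormallyEquidim_quotient_of_inc
    (hm : (maximalIdeal R).map (algebraMap R S) = maximalIdeal S)
    (hres : ∀ s : S, ∃ r : R, s - algebraMap R S r ∈ maximalIdeal S)
    (hinc : ∀ P Q : Ideal S, P.IsPrime → Q.IsPrime → P < Q → P.under R < Q.under R)
    (q : Ideal S) [hqprime : q.IsPrime] (hq : EGA4.IsFormallyEquidim (R ⧸ q.under R)) :
    EGA4.IsFormallyEquidim (S ⧸ q) := by
  have hp : q.under R ≠ ⊤ := Ideal.IsPrime.ne_top inferInstance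
  have hlocR : IsLocalRing (R ⧸ q.under R) := isLocalRing_quotient_of_ne_top R (q.under R) hp
  have hlocS : IsLocalRing (S ⧸ (q.under R).map (algebraMap R S)) :=
    isLocalRing_quotient_map_of_ne_top R S (q.under R) hp
  obtain ⟨e⟩ := nonempty_cpl_quotient_map_ringEquiv R S hm hres (q.under R) hp
  have hT : EGA4.IsFormallyEquidim (S ⧸ (q.under R).map (algebraMap R S)) :=
    isEquidim_of_ringEquiv e hq
  have hle : (q.under R).map (algebraMap R S) ≤ q := Ideal.map_comap_le
  have hqbar : (q.map (Ideal.Quotient.mk ((q.under R).map (algebraMap R S)))).IsPrime :=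
    Ideal.map_isPrime_of_surjective Ideal.Quotient.mk_surjective (by rw [Ideal.mk_ker]; exact hle)
  have hcm : (q.map (Ideal.Quotient.mk ((q.under R).map (algebraMap R S)))).comap
      (Ideal.Quotient.mk ((q.under R).map (algebraMap R S))) = q := by
    rw [Ideal.comap_map_of_surjective _ Ideal.Quotient.mk_surjective, ← RingHom.ker_eq_comap_bot,
      Ideal.mk_ker, sup_eq_left.mpr hle]
  have hmin : q.map (Ideal.Quotient.mk ((q.under R).map (algebraMap R S))) ∈
      minimalPrimes (S ⧸ (q.under R).map (algebraMap R S)) := by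
    refine ⟨⟨hqbar, bot_le⟩, fun 𝔮' h𝔮' hle' => ?_⟩
    have h𝔮'prime : 𝔮'.IsPrime := h𝔮'.1
    have hQ'prime : (𝔮'.comap (Ideal.Quotient.mk ((q.under R).map (algebraMap R S)))).IsPrime :=
      Ideal.comap_isPrime _ _
    have hQ'le : 𝔮'.comap (Ideal.Quotient.mk ((q.under R).map (algebraMap R S))) ≤ q := by
      have := Ideal.comap_mono (f := Ideal.Quotient.mk ((q.under R).map (algebraMap R S))) hle'
      rwa [hcm] at this
    have heq : 𝔮'.comap (Ideal.Quotient.mk ((q.under R).map (algebraMap R S))) = q := by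
      by_contra hne
      have hlt := hinc _ _ hQ'prime hqprime (lt_of_le_of_ne hQ'le hne)
      have hpQ' : q.under R ≤
          (𝔮'.comap (Ideal.Quotient.mk ((q.under R).map (algebraMap R S)))).under R := by
        have h3 : (q.under R).map (algebraMap R S) ≤
            𝔮'.comap (Ideal.Quotient.mk ((q.under R).map (algebraMap R S))) := by
          intro x hx
          rw [Ideal.mem_comap, Ideal.Quotient.eq_zero_iff_mem.mpr hx]
          exact 𝔮'.zero_mem
        exact Ideal.map_le_iff_le_comap.mp h3
      exact absurd hlt (not_lt_of_ge hpQ')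
    have h2 : (𝔮'.comap (Ideal.Quotient.mk ((q.under R).map (algebraMap R S)))).map
        (Ideal.Quotient.mk ((q.under R).map (algebraMap R S))) ≤ 𝔮' :=
      (Ideal.map_comap_of_surjective _ Ideal.Quotient.mk_surjective 𝔮').le
    rw [heq] at h2
    exact h2
  have h1 := ((Groth.Agent.S2629.result (S ⧸ (q.under R).map (algebraMap R S))).mp hT).2
    (q.map (Ideal.Quotient.mk ((q.under R).map (algebraMap R S)))) hmin
  exact isFormallyEquidim_of_ringEquiv (DoubleQuot.quotQuotEquivQuotOfLE hle) h1

end H

end Groth.Agent.Lib.Helper29
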