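import Mathlib.RingTheory.Regular.RegularSequence

/-!
Helper lemmas (helper29): `(M/IM)/J(M/IM) ≃ M/(I+J)M` and the version for lists of elements.
-/

set_option autoImplicit false
universe u v

namespace Groth.Agent.Lib.Helper29

variable {A : Type u} [CommRing A]

/-- `(M/IM)/J(M/IM) ≃ M/(I ⊔ J)M`. -/
noncomputable def quotSupSMulTopEquiv (I J : Ideal A) (M : Type v) [AddCommGroup M] [Module A M] :
    ((M ⧸ (I • (⊤ : Submodule A M))) ⧸
      (J • (⊤ : Submodule A (M ⧸ (I • (⊤ : Submodule A M)))))) ≃ₗ[A]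
      M ⧸ ((I ⊔ J) • (⊤ : Submodule A M)) :=
  Submodule.quotEquivOfEq _ _
      (by rw [Submodule.map_smul'', Submodule.map_top, Submodule.range_mkQ]) ≪≫ₗ
    Submodule.quotientQuotientEquivQuotientSup (I • (⊤ : Submodule A M))
      (J • (⊤ : Submodule A M)) ≪≫ₗ
    Submodule.quotEquivOfEq _ _ (Submodule.sup_smul I J (⊤ : Submodule A M)).symm

/-- `(M/(xs)M)/(ys)(M/(xs)M) ≃ M/(xs ++ ys)M`. -/
noncomputable def quotOfListAppendEquiv (xs ys : List A) (M : Type v) [AddCommGroup M]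
    [Module A M] :
    ((M ⧸ (Ideal.ofList xs • (⊤ : Submodule A M))) ⧸
      (Ideal.ofList ys • (⊤ : Submodule A (M ⧸ (Ideal.ofList xs • (⊤ : Submodule A M)))))) ≃ₗ[A]
      M ⧸ (Ideal.ofList (xs ++ ys) • (⊤ : Submodule A M)) :=
  quotSupSMulTopEquiv (Ideal.ofList xs) (Ideal.ofList ys) M ≪≫ₗ
    Submodule.quotEquivOfEq _ _ (by rw [Ideal.ofList_append])

theorem ofList_eq_span_range_get (l : List A) :
    Ideal.ofList l = Ideal.span (Set.range l.get) := by
  rw [Set.range_list_get, Ideal.ofList]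

theorem ofList_ofFn {n : ℕ} (x : Fin n → A) :
    Ideal.ofList (List.ofFn x) = Ideal.span (Set.range x) := by
  unfold Ideal.ofList
  congr 1
  ext a
  simp [List.mem_ofFn]

end Groth.Agent.Lib.Helper29
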