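import Groth.Agent.Lib.Helper29.RatliffDimOne
import Groth.Agent.S4689
import Groth.Agent.Lib.Helper29.CatenaryAscent
import Groth.Agent.Lib.Helper29.EquidimCatenary
import Groth.Agent.Lib.Helper29.CplQuotEquidim
import Groth.Agent.Lib.Helper29.QuasiUnmixedEFT

/-!
Helper lemmas (helper29): Ratliff's theorem -- a universally catenary Noetherian local domain has
an equidimensional completion (EGA IV 7.1.x / Matsumura 31.7).
-/

set_option autoImplicit false
set_option linter.overlappingInstances false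
universe u

namespace Groth.Agent.Lib.Helper29

open IsLocalRing


theorem ringKrullDim_le_one_of_cpl_minimalPrime (A : Type u) [CommRing A] [IsDomain A]
    [IsNoetherianRing A] [IsLocalRing A] (hA : CAlg.IsUniversallyCatenary A) (hfield : ¬ IsField A)
    (q : Ideal (EGA4.Cpl A)) (hq : q ∈ minimalPrimes (EGA4.Cpl A))
    (hq2 : ∀ P : Ideal (EGA4.Cpl A), P.IsPrime → q < P → P.IsMaximal) : ringKrullDim A ≤ 1 := by
  obtain ⟨a₀, ha₀, ha₀'⟩ : ∃ a₀ ∈ maximalIdeal A, a₀ ≠ 0 := by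
    by_contra hcon
    push Not at hcon
    apply hfield
    rw [IsLocalRing.isField_iff_maximalIdeal_eq]
    exact (Submodule.eq_bot_iff _).mpr hcon
  obtain ⟨B, hfin, n, hn, hht⟩ :=
    exists_finite_subalgebra_maximal_height_le_one A a₀ ha₀ ha₀' q hq hq2
  have hinj : Function.Injective (algebraMap A B) := by
    intro x y hxy
    have h2 : algebraMap A (FractionRing A) x = algebraMap A (FractionRing A) y :=
      congrArg Subtype.val hxy
    exact IsFractionRing.injective A (FractionRing A) h2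
  have : FaithfulSMul A B := (faithfulSMul_iff_algebraMap_injective A B).mpr hinj
  have h := Groth.Agent.S4689.result A B hA n
  rw [IsLocalization.AtPrime.ringKrullDim_eq_height n] at h
  rw [← h]
  exact_mod_cast hht



/-- In a Noetherian local ring, for a prime `Q` and `x ∈ 𝔪 \ Q` there is a prime `𝔓 ⊇ Q + (x)`
with `dim R/𝔓 + 1 = dim R/Q`. -/
theorem exists_prime_ringKrullDim_quotient_add_one (R : Type u) [CommRing R] [IsNoetherianRing R]
    [IsLocalRing R] (Q : Ideal R) [Q.IsPrime] (x : R) (hx : x ∈ maximalIdeal R) (hxQ : x ∉ Q) :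
    ∃ 𝔓 : Ideal R, 𝔓.IsPrime ∧ Q ≤ 𝔓 ∧ x ∈ 𝔓 ∧
      ringKrullDim (R ⧸ 𝔓) + 1 = ringKrullDim (R ⧸ Q) := by
  let D := R ⧸ Q
  let xb : D := Ideal.Quotient.mk Q x
  have hxb0 : xb ≠ 0 := fun h => hxQ (Ideal.Quotient.eq_zero_iff_mem.mp h)
  have hxbm : xb ∈ maximalIdeal D := by
    rw [← IsLocalRing.map_maximalIdeal_of_surjective (Ideal.Quotient.mk Q)
      Ideal.Quotient.mk_surjective]
    exact Ideal.mem_map_of_mem _ hx
  have h1 := ringKrullDim_quotient_span_singleton_succ_eq_ringKrullDim_of_mem_nonZeroDivisors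
    (mem_nonZeroDivisors_of_ne_zero hxb0) hxbm
  have hne : Ideal.span {xb} ≠ ⊤ := by
    intro h
    have h2 : Ideal.span {xb} ≤ maximalIdeal D := (Ideal.span_singleton_le_iff_mem _).mpr hxbm
    rw [h] at h2
    exact (maximalIdeal.isMaximal D).ne_top (top_le_iff.mp h2)
  have hnt : Nontrivial (D ⧸ Ideal.span {xb}) := Ideal.Quotient.nontrivial_iff.mpr hne
  have hloc : IsLocalRing (D ⧸ Ideal.span {xb}) :=
    IsLocalRing.of_surjective' (Ideal.Quotient.mk _) Ideal.Quotient.mk_surjective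
  obtain ⟨𝔭, h𝔭, hdim⟩ := exists_minimalPrimes_ringKrullDim_quotient_eq (D ⧸ Ideal.span {xb})
  have h𝔭prime : 𝔭.IsPrime := h𝔭.1.1
  rw [ringKrullDim_quotient_quotient, ringKrullDim_quotient_quotient] at hdim
  refine ⟨(𝔭.comap (Ideal.Quotient.mk (Ideal.span {xb}))).comap (Ideal.Quotient.mk Q),
    Ideal.comap_isPrime _ _, ?_, ?_, ?_⟩
  · intro y hy
    rw [Ideal.mem_comap, Ideal.mem_comap, Ideal.Quotient.eq_zero_iff_mem.mpr hy, map_zero]
    exact 𝔭.zero_mem
  · rw [Ideal.mem_comap, Ideal.mem_comap]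
    have : Ideal.Quotient.mk (Ideal.span {xb}) xb = 0 :=
      Ideal.Quotient.eq_zero_iff_mem.mpr (Ideal.mem_span_singleton_self xb)
    change Ideal.Quotient.mk (Ideal.span {xb}) xb ∈ 𝔭
    rw [this]; exact 𝔭.zero_mem
  · rw [hdim]; exact h1


/-- The core step of Ratliff's theorem: if `Q` is a minimal prime of `Â` with `dim Â/Q = n + 2`,
there are `0 ≠ x ∈ 𝔪` and a prime `𝔓` of `Â` minimal over `xÂ` with `dim Â/𝔓 = n + 1`. -/
theorem exists_prime_minimal_over_singleton_cpl (A : Type u) [CommRing A] [IsDomain A]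
    [IsNoetherianRing A] [IsLocalRing A] (hfield : ¬ IsField A)
    (Q : Ideal (EGA4.Cpl A)) (hQ : Q ∈ minimalPrimes (EGA4.Cpl A)) (n : ℕ)
    (hn : ringKrullDim (EGA4.Cpl A ⧸ Q) = ((n + 2 : ℕ) : WithBot ℕ∞)) :
    ∃ (x : A) (𝔓 : Ideal (EGA4.Cpl A)), x ∈ maximalIdeal A ∧ x ≠ 0 ∧
      𝔓 ∈ (Ideal.span {algebraMap A (EGA4.Cpl A) x}).minimalPrimes ∧
      ringKrullDim (EGA4.Cpl A ⧸ 𝔓) = ((n + 1 : ℕ) : WithBot ℕ∞) := by
  classical
  have hLC : IsLocalRing (EGA4.Cpl A) := isLocalRing_cpl A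
  have hNC : IsNoetherianRing (EGA4.Cpl A) := isNoetherianRing_cpl A
  have hff : Module.FaithfullyFlat A (EGA4.Cpl A) := faithfullyFlat_cpl A
  have hQprime : Q.IsPrime := hQ.1.1
  have hmax := maximalIdeal_adicCompletion_eq_map A (maximalIdeal A)
    (Ideal.IsPrime.ne_top inferInstance)
  have hfinMin : (minimalPrimes (EGA4.Cpl A)).Finite :=
    minimalPrimes.finite_of_isNoetherianRing _
  -- the bad set
  let S : Set (Ideal (EGA4.Cpl A)) := {P | P ≠ maximalIdeal (EGA4.Cpl A) ∧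
    ∃ Q' ∈ minimalPrimes (EGA4.Cpl A), Q' ≠ Q ∧ P ∈ (Q ⊔ Q').minimalPrimes}
  have hSfin : S.Finite := by
    refine Set.Finite.subset (hfinMin.biUnion
      (fun Q' _ => Ideal.finite_minimalPrimes_of_isNoetherianRing _ (Q ⊔ Q'))) ?_
    rintro P ⟨_, Q', hQ', _, hP⟩
    exact Set.mem_biUnion hQ' hP
  have hSprime : ∀ P ∈ S, P.IsPrime := by
    rintro P ⟨_, Q', _, _, h⟩
    exact h.1.1
  -- prime avoidance in `A`
  let T : Finset (Ideal A) :=
    insert ⊥ (hSfin.toFinset.image (Ideal.comap (algebraMap A (EGA4.Cpl A))))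
  have hT : ¬ ((maximalIdeal A : Set A) ⊆ ⋃ p ∈ (T : Set (Ideal A)), (p : Set A)) := by
    intro hsub
    rw [Ideal.subset_union_prime (f := fun p : Ideal A => p) ⊥ ⊥] at hsub
    · obtain ⟨p, hpT, hle⟩ := hsub
      rcases Finset.mem_insert.mp hpT with h | h
      · subst h
        apply hfield
        rw [IsLocalRing.isField_iff_maximalIdeal_eq]
        exact le_bot_iff.mp hle
      · obtain ⟨P, hP, rfl⟩ := Finset.mem_image.mp h
        have hPS : P ∈ S := hSfin.mem_toFinset.mp hP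
        have hPprime : P.IsPrime := hSprime P hPS
        apply hPS.1
        have h1 : maximalIdeal (EGA4.Cpl A) ≤ P := by
          rw [hmax]
          exact Ideal.map_le_iff_le_comap.mpr hle
        exact (IsLocalRing.eq_maximalIdeal
          ((maximalIdeal.isMaximal _).eq_of_le hPprime.ne_top h1 ▸ maximalIdeal.isMaximal _))
    · intro p hpT _ _
      rcases Finset.mem_insert.mp hpT with h | h
      · subst h; exact Ideal.isPrime_bot
      · obtain ⟨P, hP, rfl⟩ := Finset.mem_image.mp h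
        have hPprime : P.IsPrime := hSprime P (hSfin.mem_toFinset.mp hP)
        exact Ideal.comap_isPrime _ _
  obtain ⟨x, hxm, hxT⟩ := Set.not_subset.mp hT
  have hx0 : x ≠ 0 := by
    intro h
    apply hxT
    refine Set.mem_biUnion (Finset.mem_coe.mpr (Finset.mem_insert_self _ _)) ?_
    rw [h]; exact (⊥ : Ideal A).zero_mem
  have hxS : ∀ P ∈ S, algebraMap A (EGA4.Cpl A) x ∉ P := by
    intro P hP hxP
    apply hxT
    refine Set.mem_biUnion (x := P.comap (algebraMap A (EGA4.Cpl A))) ?_ hxP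
    exact Finset.mem_coe.mpr (Finset.mem_insert_of_mem
      (Finset.mem_image_of_mem _ (hSfin.mem_toFinset.mpr hP)))
  set xh : EGA4.Cpl A := algebraMap A (EGA4.Cpl A) x with hxh
  have hxhm : xh ∈ maximalIdeal (EGA4.Cpl A) := by
    rw [hmax]; exact Ideal.mem_map_of_mem _ hxm
  -- `x̂` is a nonzerodivisor, hence in no minimal prime
  have hxhreg : xh ∈ nonZeroDivisors (EGA4.Cpl A) := by
    have h := Module.Flat.isSMulRegular_of_nonZeroDivisors (M := EGA4.Cpl A)
      (mem_nonZeroDivisors_of_ne_zero hx0)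
    rw [mem_nonZeroDivisors_iff_right]
    intro z hz
    apply h.right_eq_zero_of_smul
    rw [Algebra.smul_def, mul_comm]; exact hz
  have hxhmin : ∀ Q' ∈ minimalPrimes (EGA4.Cpl A), xh ∉ Q' := by
    intro Q' hQ' hx
    exact Set.disjoint_left.mp (Ideal.disjoint_nonZeroDivisors_of_mem_minimalPrimes hQ') hx hxhreg
  -- the prime `𝔓`
  obtain ⟨𝔓, h𝔓prime, hQ𝔓, hx𝔓, hdim⟩ :=
    exists_prime_ringKrullDim_quotient_add_one (EGA4.Cpl A) Q xh hxhm (hxhmin Q hQ)
  have hdim𝔓 : ringKrullDim (EGA4.Cpl A ⧸ 𝔓) = ((n + 1 : ℕ) : WithBot ℕ∞) := by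
    rw [hn] at hdim
    have h2 : ((n + 2 : ℕ) : WithBot ℕ∞) = ((n + 1 : ℕ) : WithBot ℕ∞) + ((1 : ℕ) : WithBot ℕ∞) := by
      push_cast; ring
    rw [h2] at hdim
    exact withBot_enat_add_right_cancel 1 (by exact_mod_cast hdim)
  -- key dimension squeeze
  have hsqueeze : ∀ P : Ideal (EGA4.Cpl A), P.IsPrime → Q < P → P ≤ 𝔓 → P = 𝔓 := by
    intro P hP hQP hP𝔓
    by_contra hne
    have hlt : P < 𝔓 := lt_of_le_of_ne hP𝔓 hne
    have h1 := ringKrullDim_quotient_lt_of_lt (EGA4.Cpl A)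
      (p := ⟨Q, hQprime⟩) (q := ⟨P, hP⟩) hQP
    have h2 := ringKrullDim_quotient_lt_of_lt (EGA4.Cpl A)
      (p := ⟨P, hP⟩) (q := ⟨𝔓, h𝔓prime⟩) hlt
    simp only at h1 h2
    rw [hn] at h1
    rw [hdim𝔓] at h2
    obtain ⟨k, hk⟩ := exists_nat_ringKrullDim_eq (EGA4.Cpl A ⧸ P)
    rw [hk] at h1 h2
    have h1' : k < n + 2 := by exact_mod_cast h1
    have h2' : n + 1 < k := by exact_mod_cast h2
    omega
  -- `𝔓` contains no other minimal prime
  have hA : ∀ Q' ∈ minimalPrimes (EGA4.Cpl A), Q' ≤ 𝔓 → Q' = Q := by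
    intro Q' hQ' hQ'𝔓
    by_contra hne
    obtain ⟨P, hP, hP𝔓⟩ := Ideal.exists_minimalPrimes_le (sup_le hQ𝔓 hQ'𝔓)
    have hPprime : P.IsPrime := hP.1.1
    have hQP : Q < P := by
      refine lt_of_le_of_ne (le_sup_left.trans hP.1.2) ?_
      intro h
      apply hne
      have : Q' ≤ Q := by rw [h]; exact le_sup_right.trans hP.1.2
      exact le_antisymm this (hQ.2 ⟨hQ'.1.1, bot_le⟩ this)
    have hP𝔓eq : P = 𝔓 := hsqueeze P hPprime hQP hP𝔓
    have h𝔓S : 𝔓 ∈ S := by
      refine ⟨?_, Q', hQ', hne, hP𝔓eq ▸ hP⟩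
      intro h
      have h3 : ringKrullDim (EGA4.Cpl A ⧸ 𝔓) = 0 := by
        rw [h]
        exact ringKrullDim_eq_zero_of_isField
          ((Ideal.Quotient.maximal_ideal_iff_isField_quotient _).mp (maximalIdeal.isMaximal _))
      rw [hdim𝔓] at h3
      have : (n + 1 : ℕ) = 0 := by exact_mod_cast h3
      omega
    exact hxS 𝔓 h𝔓S hx𝔓
  refine ⟨x, 𝔓, hxm, hx0, ⟨⟨h𝔓prime, (Ideal.span_singleton_le_iff_mem _).mpr hx𝔓⟩, ?_⟩, hdim𝔓⟩
  rintro P' ⟨hP'prime, hxP'⟩ hP'𝔓
  obtain ⟨Q', hQ', hQ'P'⟩ := Ideal.exists_minimalPrimes_le (bot_le : ⊥ ≤ P')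
  have hQ'Q : Q' = Q := hA Q' hQ' (hQ'P'.trans hP'𝔓)
  subst hQ'Q
  have hxP'' : xh ∈ P' := (Ideal.span_singleton_le_iff_mem _).mp hxP'
  have hQP' : Q' < P' := by
    refine lt_of_le_of_ne hQ'P' ?_
    intro h
    exact hxhmin Q' hQ' (h ▸ hxP'')
  exact (hsqueeze P' hP'prime hQP' hP'𝔓).ge



/-- The contraction `p` of a prime `𝔓` of `Â` minimal over `xÂ` (`x ≠ 0`, `A` a catenary local
domain): `𝔓` is minimal over `pÂ` and `dim A/p + 1 = dim A`. -/
theorem comap_of_mem_minimalPrimes_span_singleton_cpl (A : Type u) [CommRing A] [IsDomain A]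
    [IsNoetherianRing A] [IsLocalRing A] (hcat : CAlg.IsCatenary A) (x : A) (hx0 : x ≠ 0)
    (𝔓 : Ideal (EGA4.Cpl A))
    (h𝔓 : 𝔓 ∈ (Ideal.span {algebraMap A (EGA4.Cpl A) x}).minimalPrimes) :
    𝔓 ∈ ((𝔓.comap (algebraMap A (EGA4.Cpl A))).map (algebraMap A (EGA4.Cpl A))).minimalPrimes ∧
      ringKrullDim (A ⧸ 𝔓.comap (algebraMap A (EGA4.Cpl A))) + 1 = ringKrullDim A := by
  have hLC : IsLocalRing (EGA4.Cpl A) := isLocalRing_cpl A
  have hNC : IsNoetherianRing (EGA4.Cpl A) := isNoetherianRing_cpl A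
  have hff : Module.FaithfullyFlat A (EGA4.Cpl A) := faithfullyFlat_cpl A
  have h𝔓prime : 𝔓.IsPrime := h𝔓.1.1
  set p : Ideal A := 𝔓.comap (algebraMap A (EGA4.Cpl A)) with hp
  have hpprime : p.IsPrime := Ideal.comap_isPrime _ _
  have hx𝔓 : algebraMap A (EGA4.Cpl A) x ∈ 𝔓 := (Ideal.span_singleton_le_iff_mem _).mp h𝔓.1.2
  have hxp : x ∈ p := hx𝔓
  have h1 : 𝔓 ∈ (p.map (algebraMap A (EGA4.Cpl A))).minimalPrimes := by
    refine ⟨⟨h𝔓prime, Ideal.map_comap_le⟩, ?_⟩
    rintro P' ⟨hP'prime, hP'⟩ hP'𝔓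
    refine h𝔓.2 ⟨hP'prime, ?_⟩ hP'𝔓
    rw [Ideal.span_singleton_le_iff_mem]
    exact hP' (Ideal.mem_map_of_mem _ hxp)
  refine ⟨h1, ?_⟩
  have hht : p.height = 𝔓.height := (height_eq_of_mem_minimalPrimes_map p h1).symm
  have hle : 𝔓.height ≤ 1 := Ideal.height_le_one_of_isPrincipal_of_mem_minimalPrimes _ 𝔓 h𝔓
  have hge : p.height ≠ 0 := by
    intro h0
    rw [Ideal.height_eq_zero_iff_eq_bot] at h0
    apply hx0
    have : x ∈ (⊥ : Ideal A) := h0 ▸ hxp
    exact this
  have hone : p.height = 1 := by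
    rw [← hht] at hle
    exact le_antisymm hle (Order.one_le_iff_pos.mpr (pos_iff_ne_zero.mpr hge))
  have h2 := ringKrullDim_quotient_add_height_of_isEquidim_of_isCatenary A
    (isEquidim_of_isDomain A) hcat ⟨p, hpprime⟩
  simp only at h2
  rw [hone] at h2
  exact_mod_cast h2

theorem comap_mem_minimalPrimes_of_ringEquiv {R S : Type*} [CommRing R] [CommRing S]
    (e : R ≃+* S) {P : Ideal S} (hP : P ∈ minimalPrimes S) :
    P.comap (e : R →+* S) ∈ minimalPrimes R := by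
  have hPprime : P.IsPrime := hP.1.1
  refine ⟨⟨Ideal.comap_isPrime _ _, bot_le⟩, fun Q hQ hQP => ?_⟩
  have hQprime : Q.IsPrime := hQ.1
  have hQ' : (Q.comap (e.symm : S →+* R)).IsPrime := Ideal.comap_isPrime _ _
  have h1 : Q.comap (e.symm : S →+* R) ≤ P := by
    intro y hy
    have := hQP hy
    rw [Ideal.mem_comap] at this
    simpa using this
  have h2 := hP.2 ⟨hQ', bot_le⟩ h1
  intro y hy
  have := h2 hy
  rw [Ideal.mem_comap] at this
  simpa using this

/-- A prime of `Â` minimal over `pÂ` gives a minimal prime of `(A/p)^` with the same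
quotient dimension. -/
theorem exists_minimalPrimes_cpl_quotient (A : Type u) [CommRing A] [IsNoetherianRing A]
    [IsLocalRing A] (p : Ideal A) [p.IsPrime] (𝔓 : Ideal (EGA4.Cpl A))
    (h𝔓 : 𝔓 ∈ (p.map (algebraMap A (EGA4.Cpl A))).minimalPrimes) :
    ∃ Q₁ ∈ minimalPrimes (EGA4.Cpl (A ⧸ p)),
      ringKrullDim (EGA4.Cpl (A ⧸ p) ⧸ Q₁) = ringKrullDim (EGA4.Cpl A ⧸ 𝔓) := by
  rw [Ideal.minimalPrimes_eq_comap] at h𝔓
  obtain ⟨𝔓', h𝔓', rfl⟩ := h𝔓
  refine ⟨𝔓'.comap (cplQuotientEquiv A p : EGA4.Cpl (A ⧸ p) →+* CplQ A p),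
    comap_mem_minimalPrimes_of_ringEquiv _ h𝔓', ?_⟩
  rw [ringKrullDim_quotient_comap_ringEquiv, ringKrullDim_quotient_quotient]

theorem isUniversallyCatenary_quotient {A : Type u} [CommRing A]
    (hA : CAlg.IsUniversallyCatenary A) (I : Ideal A) : CAlg.IsUniversallyCatenary (A ⧸ I) := by
  have := hA.1
  refine ⟨inferInstance, fun S _ _ hS => ?_⟩
  let _ : Algebra A S := ((algebraMap (A ⧸ I) S).comp (Ideal.Quotient.mk I)).toAlgebra
  have : IsScalarTower A (A ⧸ I) S := IsScalarTower.of_algebraMap_eq (fun x => rfl)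
  have h1 : Algebra.FiniteType A (A ⧸ I) :=
    Algebra.FiniteType.of_surjective (Ideal.Quotient.mkₐ A I) Ideal.Quotient.mk_surjective
  exact hA.2 S (Algebra.FiniteType.trans h1 hS)


/-- Induction on the dimension of the component. -/
theorem ringKrullDim_cpl_eq_of_minimalPrime_aux (n : ℕ) :
    ∀ (A : Type u) [CommRing A] [IsDomain A] [IsNoetherianRing A] [IsLocalRing A],
      CAlg.IsUniversallyCatenary A → ∀ Q ∈ minimalPrimes (EGA4.Cpl A),
      ringKrullDim (EGA4.Cpl A ⧸ Q) = ((n : ℕ) : WithBot ℕ∞) →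
      ringKrullDim (EGA4.Cpl A) = ((n : ℕ) : WithBot ℕ∞) := by
  induction n using Nat.strong_induction_on with
  | _ n ih =>
    intro A _ _ _ _ hA Q hQ hn
    have hLC : IsLocalRing (EGA4.Cpl A) := isLocalRing_cpl A
    have hNC : IsNoetherianRing (EGA4.Cpl A) := isNoetherianRing_cpl A
    have hQprime : Q.IsPrime := hQ.1.1
    have hdimeq : ringKrullDim (EGA4.Cpl A) = ringKrullDim A :=
      (ringKrullDim_adicCompletion_eq_and_isRegularLocalRing_iff A (maximalIdeal A)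
        (Ideal.IsPrime.ne_top inferInstance)).1
    obtain ⟨d, hd⟩ := exists_nat_ringKrullDim_eq (EGA4.Cpl A)
    have hnd : n ≤ d := by
      have h := ringKrullDim_quotient_le Q
      rw [hn, hd] at h
      exact_mod_cast h
    have hfield : 1 ≤ n → ¬ IsField A := by
      intro h1 hf
      have h0 : ringKrullDim A = 0 := ringKrullDim_eq_zero_of_isField hf
      rw [← hdimeq, hd] at h0
      have : d = 0 := by exact_mod_cast h0
      omega
    rw [hd]
    congr 1
    match n, ih, hn, hnd, hfield with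
    | 0, _, hn, _, _ =>
      -- `Q` is the maximal ideal
      have hQmax : Q = maximalIdeal (EGA4.Cpl A) := by
        by_contra hne
        have hlt : Q < maximalIdeal (EGA4.Cpl A) :=
          lt_of_le_of_ne (IsLocalRing.le_maximalIdeal hQprime.ne_top) hne
        have h1 := ringKrullDim_quotient_lt_of_lt (EGA4.Cpl A)
          (p := ⟨Q, hQprime⟩) (q := ⟨maximalIdeal _, inferInstance⟩) hlt
        simp only at h1
        rw [hn] at h1
        have h2 : (0 : WithBot ℕ∞) ≤ ringKrullDim (EGA4.Cpl A ⧸ maximalIdeal (EGA4.Cpl A)) :=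
          ringKrullDim_nonneg_of_nontrivial
        exact absurd h1 (not_lt.mpr (by exact_mod_cast h2))
      have h3 : (maximalIdeal (EGA4.Cpl A)).height = 0 := by
        rw [Ideal.height_eq_zero_iff, ← hQmax]; exact hQ
      have h4 := IsLocalRing.maximalIdeal_height_eq_ringKrullDim (R := EGA4.Cpl A)
      rw [h3, hd] at h4
      exact_mod_cast h4.symm
    | 1, _, hn, hnd, hfield =>
      have hq2 : ∀ P : Ideal (EGA4.Cpl A), P.IsPrime → Q < P → P.IsMaximal := by
        intro P hP hQP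
        have h1 := ringKrullDim_quotient_lt_of_lt (EGA4.Cpl A)
          (p := ⟨Q, hQprime⟩) (q := ⟨P, hP⟩) hQP
        simp only at h1
        rw [hn] at h1
        have hPmax : P = maximalIdeal (EGA4.Cpl A) := by
          by_contra hne
          have hlt : P < maximalIdeal (EGA4.Cpl A) :=
            lt_of_le_of_ne (IsLocalRing.le_maximalIdeal hP.ne_top) hne
          have h2 := ringKrullDim_quotient_lt_of_lt (EGA4.Cpl A)
            (p := ⟨P, hP⟩) (q := ⟨maximalIdeal _, inferInstance⟩) hlt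
          simp only at h2
          have h3 : (0 : WithBot ℕ∞) ≤ ringKrullDim (EGA4.Cpl A ⧸ maximalIdeal (EGA4.Cpl A)) :=
            ringKrullDim_nonneg_of_nontrivial
          obtain ⟨k, hk⟩ := exists_nat_ringKrullDim_eq (EGA4.Cpl A ⧸ P)
          rw [hk] at h1 h2
          have h1' : k < 1 := by exact_mod_cast h1
          have h4 := lt_of_le_of_lt h3 h2
          have h2' : 0 < k := by exact_mod_cast h4
          omega
        rw [hPmax]; exact maximalIdeal.isMaximal _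
      have h5 := ringKrullDim_le_one_of_cpl_minimalPrime A hA (hfield le_rfl) Q hQ hq2
      rw [← hdimeq, hd] at h5
      have : d ≤ 1 := by exact_mod_cast h5
      omega
    | (m + 2), ih, hn, _, hfield =>
      obtain ⟨x, 𝔓, hxm, hx0, h𝔓, hdim𝔓⟩ :=
        exists_prime_minimal_over_singleton_cpl A (hfield (by omega)) Q hQ m hn
      have hcat : CAlg.IsCatenary A := hA.2 A inferInstance
      obtain ⟨h1, h2⟩ := comap_of_mem_minimalPrimes_span_singleton_cpl A hcat x hx0 𝔓 h𝔓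
      set p : Ideal A := 𝔓.comap (algebraMap A (EGA4.Cpl A)) with hp
      have h𝔓prime : 𝔓.IsPrime := h𝔓.1.1
      have hpprime : p.IsPrime := Ideal.comap_isPrime _ _
      obtain ⟨Q₁, hQ₁, hdimQ₁⟩ := exists_minimalPrimes_cpl_quotient A p 𝔓 h1
      rw [hdim𝔓] at hdimQ₁
      have h3 := ih (m + 1) (by omega) (A ⧸ p) (isUniversallyCatenary_quotient hA p) Q₁ hQ₁ hdimQ₁
      have h4 : ringKrullDim (EGA4.Cpl (A ⧸ p)) = ringKrullDim (A ⧸ p) :=
        (ringKrullDim_adicCompletion_eq_and_isRegularLocalRing_iff (A ⧸ p) (maximalIdeal (A ⧸ p))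
          (Ideal.IsPrime.ne_top inferInstance)).1
      rw [h4] at h3
      rw [h3, ← hdimeq, hd] at h2
      have : m + 1 + 1 = d := by exact_mod_cast h2
      omega

/-- **Ratliff's theorem**: the completion of a universally catenary Noetherian local domain is
equidimensional. -/
theorem isEquidim_cpl_of_isUniversallyCatenary_of_isDomain (A : Type u) [CommRing A] [IsDomain A]
    [IsNoetherianRing A] [IsLocalRing A] (hA : CAlg.IsUniversallyCatenary A) :
    EGA4.IsEquidim (EGA4.Cpl A) := by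
  have hLC : IsLocalRing (EGA4.Cpl A) := isLocalRing_cpl A
  have hNC : IsNoetherianRing (EGA4.Cpl A) := isNoetherianRing_cpl A
  intro Q hQ
  have hQprime : Q.IsPrime := hQ.1.1
  have hloc : IsLocalRing (EGA4.Cpl A ⧸ Q) :=
    IsLocalRing.of_surjective' (Ideal.Quotient.mk _) Ideal.Quotient.mk_surjective
  obtain ⟨n, hn⟩ := exists_nat_ringKrullDim_eq (EGA4.Cpl A ⧸ Q)
  rw [hn, ringKrullDim_cpl_eq_of_minimalPrime_aux n A hA Q hQ hn]

/-- A universally catenary Noetherian local ring is formally catenary. -/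
theorem isFormallyCatenary_of_isUniversallyCatenary (A : Type u) [CommRing A] [IsLocalRing A]
    [IsNoetherianRing A] (hA : CAlg.IsUniversallyCatenary A) : EGA4.IsFormallyCatenary A := by
  intro p hp
  exact isEquidim_cpl_of_isUniversallyCatenary_of_isDomain (A ⧸ p)
    (isUniversallyCatenary_quotient hA p)

end Groth.Agent.Lib.Helper29
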