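import Groth.Agent.Lib.Helper29.CplQuot
import Mathlib.RingTheory.Flat.EquationalCriterion
import Groth.Agent.Lib.Helper18.AdicQuot

/-!
Helper lemmas (helper29) for Ratliff's theorem: flat base change of colon ideals (elementwise),
density of `A` in its completion, and the comparison of `𝔪`-torsion modulo a principal ideal.
-/

set_option autoImplicit false
universe u

namespace Groth.Agent.Lib.Helper29

open IsLocalRing

section Colon

variable {A B : Type*} [CommRing A] [CommRing B] [Algebra A B] [Module.Flat A B]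

theorem mem_map_colon_of_flat (a : A) {r : ℕ} (g : Fin r → A) (z : B) (w : Fin r → B)
    (h : ∀ k, algebraMap A B (g k) * z = algebraMap A B a * w k)
    (𝔠 : Ideal A) (h𝔠 : ∀ c : A, (∀ k, ∃ d, g k * c = a * d) → c ∈ 𝔠) :
    z ∈ 𝔠.map (algebraMap A B) := by
  classical
  let x : (A × (Fin r → A)) →ₗ[A] B :=
    (LinearMap.toSpanSingleton A B z).coprod
      (-(Fintype.linearCombination A w))
  let f : (Fin r → A) →ₗ[A] (A × (Fin r → A)) :=
    LinearMap.prod (Fintype.linearCombination A g) (a • LinearMap.id)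
  have hx : ∀ c v, x (c, v) = c • z - ∑ i, v i • w i := by
    intro c v
    simp only [x, LinearMap.coprod_apply, LinearMap.toSpanSingleton_apply, LinearMap.neg_apply,
      Fintype.linearCombination_apply]
    ring
  have hf : ∀ v, f v = (∑ i, v i • g i, a • v) := by
    intro v
    simp only [f, LinearMap.prod_apply]
    rfl
  have hxf : x ∘ₗ f = 0 := by
    apply LinearMap.ext
    intro v
    rw [LinearMap.comp_apply, hf, hx, LinearMap.zero_apply, Finset.sum_smul, ← Finset.sum_sub_distrib]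
    refine Finset.sum_eq_zero (fun i _ => ?_)
    rw [Pi.smul_apply, smul_eq_mul, smul_eq_mul, Algebra.smul_def, Algebra.smul_def, map_mul, map_mul,
      mul_assoc, h i]
    ring
  obtain ⟨κ, α, y, hxy, hαf⟩ := Module.Flat.exists_factorization_of_comp_eq_zero_of_free hxf
  have hz : z = y (α (1, 0)) := by
    have h1 := LinearMap.congr_fun hxy (1, 0)
    rw [hx, LinearMap.comp_apply] at h1
    rw [← h1]
    simp
  have hc : ∀ j : Fin κ, α (1, 0) j ∈ 𝔠 := by
    intro j
    apply h𝔠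
    intro k
    have h1 := LinearMap.congr_fun hαf (Pi.single k 1)
    rw [LinearMap.comp_apply, hf] at h1
    have h3 : ((∑ i, (Pi.single k (1 : A) : Fin r → A) i • g i, a • (Pi.single k (1 : A) : Fin r → A)) :
        A × (Fin r → A)) =
        g k • ((1 : A), (0 : Fin r → A)) + a • ((0 : A), (Pi.single k (1 : A) : Fin r → A)) := by
      ext <;> simp [Pi.single_apply]
    rw [h3, map_add, map_smul, map_smul] at h1
    have h4 := DFunLike.congr_fun h1 j
    simp only [Finsupp.coe_add, Finsupp.coe_smul, Pi.add_apply, Pi.smul_apply, smul_eq_mul,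
      LinearMap.zero_apply, Finsupp.coe_zero, Pi.zero_apply] at h4
    exact ⟨-(α ((0 : A), (Pi.single k (1 : A) : Fin r → A)) j), by linear_combination h4⟩
  rw [hz]
  have h5 : α (1, 0) = ∑ j, (α (1, 0) j) • Finsupp.single j (1 : A) := by
    ext j
    simp [Finsupp.single_apply]
  rw [h5, map_sum]
  refine Ideal.sum_mem _ (fun j _ => ?_)
  rw [map_smul, Algebra.smul_def]
  exact Ideal.mul_mem_right _ _ (Ideal.mem_map_of_mem _ (hc j))

end Colon

section Density

variable (A : Type u) [CommRing A] [IsLocalRing A] [IsNoetherianRing A]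

/-- `A` is dense in its completion: every element of `Â` is congruent to an element of `A` modulo
`𝔪^N Â`. -/
theorem exists_sub_algebraMap_mem_map_pow_cpl (x : EGA4.Cpl A) (N : ℕ) :
    ∃ b : A, x - algebraMap A (EGA4.Cpl A) b ∈
      ((maximalIdeal A) ^ N).map (algebraMap A (EGA4.Cpl A)) := by
  obtain ⟨b, hb⟩ := Ideal.Quotient.mk_surjective (AdicCompletion.evalₐ (maximalIdeal A) N x)
  refine ⟨b, ?_⟩
  rw [Ideal.map_pow, ← Groth.Agent.Lib.Helper18.ker_evalₐ_eq_map_pow (maximalIdeal A)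
    (Ideal.fg_of_isNoetherianRing _) N, RingHom.mem_ker]
  change (AdicCompletion.evalₐ (maximalIdeal A) N) (x - algebraMap A (EGA4.Cpl A) b) = 0
  rw [map_sub, AlgHom.commutes, ← hb, sub_eq_zero]
  rfl

/-- Comparison of `𝔪`-torsion modulo a principal ideal: if `z ∈ Â` satisfies `𝔪^N z ⊆ a Â` then
`z ∈ A + a Â`. -/
theorem exists_eq_algebraMap_add_mul_of_pow_mul_mem (a : A) (N : ℕ) (z : EGA4.Cpl A)
    (hz : ∀ g ∈ (maximalIdeal A) ^ N, ∃ w : EGA4.Cpl A,
      algebraMap A (EGA4.Cpl A) g * z = algebraMap A (EGA4.Cpl A) a * w) :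
    ∃ (b : A) (t : EGA4.Cpl A), z = algebraMap A (EGA4.Cpl A) b + algebraMap A (EGA4.Cpl A) a * t := by
  classical
  have hflat : Module.Flat A (EGA4.Cpl A) := inferInstance
  -- generators of `𝔪^N`
  obtain ⟨r, g, hg⟩ := Submodule.fg_iff_exists_fin_generating_family.mp
    (IsNoetherian.noetherian ((maximalIdeal A) ^ N) : ((maximalIdeal A) ^ N).FG)
  have hgmem : ∀ k, g k ∈ (maximalIdeal A) ^ N := fun k => by
    rw [← hg]; exact Submodule.subset_span ⟨k, rfl⟩
  choose w hw using fun k => hz (g k) (hgmem k)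
  -- the colon ideal
  let 𝔠 : Ideal A := (Ideal.span {a}).colon ((maximalIdeal A) ^ N : Ideal A)
  have h𝔠 : ∀ c : A, (∀ k, ∃ d, g k * c = a * d) → c ∈ 𝔠 := by
    intro c hc
    rw [Submodule.mem_colon]
    intro p hp
    rw [← hg] at hp
    refine Submodule.span_induction ?_ ?_ ?_ ?_ hp
    · rintro _ ⟨k, rfl⟩
      obtain ⟨d, hd⟩ := hc k
      rw [smul_eq_mul, mul_comm, hd]
      exact Ideal.mul_mem_right _ _ (Ideal.mem_span_singleton_self a)
    · simp
    · intro p₁ p₂ _ _ h1 h2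
      rw [smul_add]
      exact Ideal.add_mem _ h1 h2
    · intro e p₁ _ h1
      rw [smul_comm]
      exact Ideal.mul_mem_left _ e h1
  have hzmem := mem_map_colon_of_flat a g z w hw 𝔠 h𝔠
  -- `𝔠 · 𝔪^N Â ⊆ a Â`
  have hcu : ∀ c ∈ 𝔠, ∀ u ∈ ((maximalIdeal A) ^ N).map (algebraMap A (EGA4.Cpl A)),
      ∃ t : EGA4.Cpl A, algebraMap A (EGA4.Cpl A) c * u = algebraMap A (EGA4.Cpl A) a * t := by
    intro c hc u hu
    refine Submodule.span_induction ?_ ?_ ?_ ?_ hu
    · rintro _ ⟨p, hp, rfl⟩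
      have h1 : c • p ∈ Ideal.span {a} := Submodule.mem_colon.mp hc p hp
      obtain ⟨d, hd⟩ := Ideal.mem_span_singleton'.mp h1
      refine ⟨algebraMap A (EGA4.Cpl A) d, ?_⟩
      rw [← map_mul, ← map_mul]
      congr 1
      rw [smul_eq_mul] at hd
      rw [← hd]; ring
    · exact ⟨0, by simp⟩
    · rintro u₁ u₂ _ _ ⟨t₁, h1⟩ ⟨t₂, h2⟩
      exact ⟨t₁ + t₂, by rw [mul_add, h1, h2, mul_add]⟩
    · rintro e u₁ _ ⟨t₁, h1⟩
      exact ⟨e * t₁, by rw [smul_eq_mul, mul_left_comm, h1]; ring⟩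
  -- every element of `𝔠 Â` lies in `A + a Â`, even after multiplication
  have key : ∀ y ∈ 𝔠.map (algebraMap A (EGA4.Cpl A)), ∀ e : EGA4.Cpl A,
      ∃ (b : A) (t : EGA4.Cpl A),
        e * y = algebraMap A (EGA4.Cpl A) b + algebraMap A (EGA4.Cpl A) a * t := by
    intro y hy
    refine Submodule.span_induction ?_ ?_ ?_ ?_ hy
    · rintro _ ⟨c, hc, rfl⟩ e
      obtain ⟨b, hb⟩ := exists_sub_algebraMap_mem_map_pow_cpl A e N
      obtain ⟨t, ht⟩ := hcu c hc _ hb
      refine ⟨b * c, t, ?_⟩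
      have : e = algebraMap A (EGA4.Cpl A) b + (e - algebraMap A (EGA4.Cpl A) b) := by ring
      rw [← ht, map_mul]
      ring
    · intro e
      exact ⟨0, 0, by simp⟩
    · intro y₁ y₂ _ _ h1 h2 e
      obtain ⟨b₁, t₁, h1⟩ := h1 e
      obtain ⟨b₂, t₂, h2⟩ := h2 e
      exact ⟨b₁ + b₂, t₁ + t₂, by rw [mul_add, h1, h2, map_add]; ring⟩
    · intro e' y₁ _ h1 e
      obtain ⟨b₁, t₁, h1⟩ := h1 (e * e')
      exact ⟨b₁, t₁, by rw [smul_eq_mul, ← mul_assoc, h1]⟩
  obtain ⟨b, t, h⟩ := key z hzmem 1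
  exact ⟨b, t, by rw [← h, one_mul]⟩

end Density

end Groth.Agent.Lib.Helper29
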