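import Groth.Agent.Lib.Helper29.RatliffAux

/-!
Helper lemmas (helper29) for Ratliff's theorem: the "depth one minimal prime" lemma. If the
completion `Â` of a Noetherian local domain `A` (not a field) has a minimal prime `q` with
`dim Â/q = 1`, then some finite birational extension `A ⊆ B ⊆ Frac A` has a maximal ideal of
height at most one.
-/

set_option autoImplicit false
universe u

namespace Groth.Agent.Lib.Helper29

open IsLocalRing TensorProduct

/-- For a minimal prime `q` of a Noetherian ring there are `n` and `s ∉ q` with `s q^n = 0`. -/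
theorem exists_notMem_mul_idealPow_eq_zero_of_mem_minimalPrimes (R : Type u) [CommRing R]
    [IsNoetherianRing R] (q : Ideal R) (hq : q ∈ minimalPrimes R) :
    ∃ (n : ℕ) (s : R), s ∉ q ∧ ∀ x ∈ q ^ n, s * x = 0 := by
  classical
  have hqprime : q.IsPrime := hq.1.1
  have hfin : (minimalPrimes R).Finite := minimalPrimes.finite_of_isNoetherianRing R
  let T : Finset (Ideal R) := hfin.toFinset.erase q
  have hT : ¬ (T.inf id ≤ q) := by
    intro h
    obtain ⟨p, hpT, hpq⟩ := (Ideal.IsPrime.inf_le' hqprime).mp h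
    have hpmin : p ∈ minimalPrimes R := hfin.mem_toFinset.mp (Finset.mem_of_mem_erase hpT)
    have hne : p ≠ q := Finset.ne_of_mem_erase hpT
    have hqp : q ≤ p := hq.2 ⟨hpmin.1.1, bot_le⟩ hpq
    exact hne (le_antisymm hpq hqp)
  obtain ⟨s', hs'T, hs'q⟩ := SetLike.not_le_iff_exists.mp hT
  -- `s' q ⊆ nilradical`
  have hnil : Ideal.span {s'} * q ≤ nilradical R := by
    rw [Ideal.mul_le]
    intro y hy x hx
    obtain ⟨c, rfl⟩ := Ideal.mem_span_singleton'.mp hy
    rw [nilradical_eq_sInf, Ideal.mem_sInf]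
    intro P hP
    have hPprime : P.IsPrime := hP
    obtain ⟨p, hpmin, hpP⟩ := Ideal.exists_minimalPrimes_le (I := ⊥) (J := P) bot_le
    apply hpP
    by_cases hpq : p = q
    · rw [hpq]
      exact Ideal.mul_mem_left _ _ hx
    · have hpT : p ∈ T := Finset.mem_erase.mpr ⟨hpq, hfin.mem_toFinset.mpr hpmin⟩
      have : s' ∈ p := (Finset.inf_le hpT : T.inf id ≤ id p) hs'T
      exact Ideal.mul_mem_right _ _ (Ideal.mul_mem_left _ _ this)
  obtain ⟨n, hn⟩ := IsNoetherianRing.isNilpotent_nilradical R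
  refine ⟨n, s' ^ n, fun h => hs'q (hqprime.mem_of_pow_mem n h), fun x hx => ?_⟩
  have h1 : (Ideal.span {s'} * q) ^ n ≤ ⊥ := by
    rw [← Ideal.zero_eq_bot, ← hn]
    exact Ideal.pow_right_mono hnil n
  rw [mul_pow, Ideal.span_singleton_pow] at h1
  have h2 : s' ^ n * x ∈ Ideal.span {s' ^ n} * q ^ n :=
    Ideal.mul_mem_mul (Ideal.mem_span_singleton_self _) hx
  exact (Ideal.mem_bot).mp (h1 h2)

/-- The inclusion of the right factor into `M ⊗ N` is flat when `M` is flat over the base. -/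
theorem flat_includeRight (R M N : Type*) [CommRing R] [CommRing M] [CommRing N] [Algebra R M]
    [Algebra R N] [Module.Flat R M] :
    ((Algebra.TensorProduct.includeRight : N →ₐ[R] M ⊗[R] N).toRingHom).Flat := by
  have h1 : (algebraMap N (N ⊗[R] M)).Flat :=
    (RingHom.flat_algebraMap_iff (R := N) (S := N ⊗[R] M)).mpr inferInstance
  have h2 : ((Algebra.TensorProduct.comm R N M) : N ⊗[R] M →+* M ⊗[R] N).Flat :=
    RingHom.Flat.of_bijective (Algebra.TensorProduct.comm R N M).bijective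
  have h3 : ((Algebra.TensorProduct.includeRight : N →ₐ[R] M ⊗[R] N).toRingHom) =
      ((Algebra.TensorProduct.comm R N M) : N ⊗[R] M →+* M ⊗[R] N).comp
        (algebraMap N (N ⊗[R] M)) := by
    ext u
    rfl
  rw [h3]
  exact h1.comp h2

section DimOne

variable (A : Type u) [CommRing A] [IsDomain A] [IsNoetherianRing A] [IsLocalRing A]

/-- The algebraic data extracted from a one-dimensional component of the completion. -/
theorem exists_data_of_cpl_minimalPrime
    (a₀ : A) (ha₀ : a₀ ∈ maximalIdeal A) (ha₀' : a₀ ≠ 0)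
    (q : Ideal (EGA4.Cpl A)) (hq : q ∈ minimalPrimes (EGA4.Cpl A))
    (hq2 : ∀ P : Ideal (EGA4.Cpl A), P.IsPrime → q < P → P.IsMaximal) :
    ∃ (I : Ideal (EGA4.Cpl A)) (a b : A) (j t : EGA4.Cpl A), a ≠ 0 ∧ a ∈ maximalIdeal A ∧
      (∀ P : Ideal (EGA4.Cpl A), P.IsPrime → I ≤ P → P = q ∨ P.IsMaximal) ∧
      (∀ i' ∈ I, i' * j = 0) ∧ j ≠ 0 ∧ j * j = algebraMap A (EGA4.Cpl A) a * j ∧
      j = algebraMap A (EGA4.Cpl A) b + algebraMap A (EGA4.Cpl A) a * t := by
  classical
  have hLC : IsLocalRing (EGA4.Cpl A) := isLocalRing_cpl A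
  have hNC : IsNoetherianRing (EGA4.Cpl A) := isNoetherianRing_cpl A
  have hff : Module.FaithfullyFlat A (EGA4.Cpl A) := faithfullyFlat_cpl A
  have hqprime : q.IsPrime := hq.1.1
  have hmax := maximalIdeal_adicCompletion_eq_map A (maximalIdeal A)
    (Ideal.IsPrime.ne_top inferInstance)
  obtain ⟨n₀, s, hsq, hs⟩ := exists_notMem_mul_idealPow_eq_zero_of_mem_minimalPrimes (EGA4.Cpl A) q hq
  -- the ideals `J = Ann(q^n₀)` and `I = Ann(J)`
  let J : Ideal (EGA4.Cpl A) := Submodule.annihilator (q ^ n₀ : Ideal (EGA4.Cpl A))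
  let I : Ideal (EGA4.Cpl A) := Submodule.annihilator J
  have hIJ : ∀ i' ∈ I, ∀ j' ∈ J, i' * j' = 0 := fun i' hi' j' hj' =>
    (Submodule.mem_annihilator.mp hi') j' hj'
  have hsJ : s ∈ J := Submodule.mem_annihilator.mpr (fun x hx => hs x hx)
  have hqI : q ^ n₀ ≤ I := by
    intro x hx
    refine Submodule.mem_annihilator.mpr (fun y hy => ?_)
    rw [smul_eq_mul, mul_comm]
    exact (Submodule.mem_annihilator.mp hy) x hx
  have hIq : I ≤ q := by
    intro x hx
    have h1 : x * s = 0 := hIJ x hx s hsJ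
    have h2 : x * s ∈ q := by rw [h1]; exact q.zero_mem
    exact (hqprime.mem_or_mem h2).resolve_right hsq
  have hIprimes : ∀ P : Ideal (EGA4.Cpl A), P.IsPrime → I ≤ P → P = q ∨ P.IsMaximal := by
    intro P hP hIP
    have hqP : q ≤ P := hP.le_of_pow_le (hqI.trans hIP)
    rcases eq_or_lt_of_le hqP with h | h
    · exact Or.inl h.symm
    · exact Or.inr (hq2 P hP h)
  -- `m̂^N ≤ I + J`
  have hrad : maximalIdeal (EGA4.Cpl A) ≤ (I ⊔ J).radical := by
    rw [Ideal.radical_eq_sInf]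
    refine le_sInf ?_
    rintro P ⟨hIJP, hP⟩
    rcases hIprimes P hP (le_sup_left.trans hIJP) with h | h
    · exfalso
      apply hsq
      rw [← h]
      exact hIJP (Ideal.mem_sup_right hsJ)
    · rw [IsLocalRing.eq_maximalIdeal h]
  obtain ⟨N, hN⟩ := Ideal.exists_pow_le_of_le_radical_of_fg hrad
    (IsNoetherian.noetherian (maximalIdeal (EGA4.Cpl A)))
  -- the element `a`
  let a : A := a₀ ^ (N + 1)
  have ha0 : a ≠ 0 := pow_ne_zero _ ha₀'
  have ham : a ∈ maximalIdeal A := Ideal.pow_mem_of_mem _ ha₀ _ (Nat.succ_pos N)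
  have haN : a ∈ (maximalIdeal A) ^ N := by
    have : a = a₀ ^ N * a₀ := pow_succ a₀ N
    rw [this]
    exact Ideal.mul_mem_right _ _ (Ideal.pow_mem_pow ha₀ N)
  have hmapN : ∀ g ∈ (maximalIdeal A) ^ N, algebraMap A (EGA4.Cpl A) g ∈ I ⊔ J := by
    intro g hg
    apply hN
    rw [hmax, ← Ideal.map_pow]
    exact Ideal.mem_map_of_mem _ hg
  obtain ⟨i, hi, j, hj, hij⟩ := Submodule.mem_sup.mp (hmapN a haN)
  -- `a` is a nonzerodivisor on the completion
  have hareg' : ∀ y : EGA4.Cpl A, algebraMap A (EGA4.Cpl A) a * y = 0 → y = 0 := by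
    have h1 : IsSMulRegular (EGA4.Cpl A) (algebraMap A (EGA4.Cpl A) a) :=
      IsSMulRegular.of_flat (IsRegular.of_ne_zero ha0).left.isSMulRegular
    intro y hy
    apply h1
    change algebraMap A (EGA4.Cpl A) a * y = algebraMap A (EGA4.Cpl A) a * 0
    rw [hy, mul_zero]
  have hareg : algebraMap A (EGA4.Cpl A) a ∈ nonZeroDivisors (EGA4.Cpl A) := by
    rw [mem_nonZeroDivisors_iff_right]
    intro y hy
    exact hareg' y (by rw [mul_comm]; exact hy)
  have hij0 : i * j = 0 := hIJ i hi j hj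
  have hj0 : j ≠ 0 := by
    intro h
    rw [h, add_zero] at hij
    have : algebraMap A (EGA4.Cpl A) a ∈ q := hIq (hij ▸ hi)
    exact notMem_nonZeroDivisors_of_mem_mem_minimalPrimes this hq hareg
  have hjj : j * j = algebraMap A (EGA4.Cpl A) a * j := by
    rw [← hij]
    rw [add_mul, hij0, zero_add]
  -- `𝔪^N j ⊆ a Â`
  have hNj : ∀ g ∈ (maximalIdeal A) ^ N, ∃ w : EGA4.Cpl A,
      algebraMap A (EGA4.Cpl A) g * j = algebraMap A (EGA4.Cpl A) a * w := by
    intro g hg
    obtain ⟨i₁, hi₁, j₁, hj₁, h1⟩ := Submodule.mem_sup.mp (hmapN g hg)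
    refine ⟨j₁, ?_⟩
    have e1 : i₁ * j = 0 := hIJ i₁ hi₁ j hj
    have e2 : i * j₁ = 0 := hIJ i hi j₁ hj₁
    rw [← h1, ← hij]
    linear_combination e1 - e2
  obtain ⟨b, t, hbt⟩ := exists_eq_algebraMap_add_mul_of_pow_mul_mem A a N j hNj
  exact ⟨I, a, b, j, t, ha0, ham, hIprimes, fun i' hi' => hIJ i' hi' j hj, hj0, hjj, hbt⟩

omit [IsDomain A] in
/-- The quadratic relation: `b² ∈ (a², ab)`. -/
theorem exists_sq_eq_of_data (a b : A) (j t : EGA4.Cpl A)
    (hjj : j * j = algebraMap A (EGA4.Cpl A) a * j)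
    (hbt : j = algebraMap A (EGA4.Cpl A) b + algebraMap A (EGA4.Cpl A) a * t) :
    ∃ c₁ c₂ : A, b ^ 2 = c₁ * a ^ 2 + c₂ * (a * b) := by
  have hff : Module.FaithfullyFlat A (EGA4.Cpl A) := faithfullyFlat_cpl A
  have h1 : algebraMap A (EGA4.Cpl A) (b ^ 2) ∈
      (Ideal.span ({a ^ 2, a * b} : Set A)).map (algebraMap A (EGA4.Cpl A)) := by
    have e : algebraMap A (EGA4.Cpl A) (b ^ 2) =
        algebraMap A (EGA4.Cpl A) (a ^ 2) * (t - t ^ 2) +
          algebraMap A (EGA4.Cpl A) (a * b) * (1 - 2 * t) := by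
      rw [hbt] at hjj
      simp only [map_pow, map_mul]
      linear_combination hjj
    rw [e]
    refine Ideal.add_mem _ (Ideal.mul_mem_right _ _ (Ideal.mem_map_of_mem _
      (Ideal.subset_span (by simp)))) (Ideal.mul_mem_right _ _ (Ideal.mem_map_of_mem _
      (Ideal.subset_span (by simp))))
  have h2 : b ^ 2 ∈ Ideal.span ({a ^ 2, a * b} : Set A) := by
    rw [← Ideal.comap_map_eq_self_of_faithfullyFlat (B := EGA4.Cpl A)
      (Ideal.span ({a ^ 2, a * b} : Set A))]
    exact h1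
  obtain ⟨c₁, c₂, h⟩ := Ideal.mem_span_pair.mp h2
  exact ⟨c₁, c₂, h.symm⟩

/-- From the algebraic data to a finite birational extension with a maximal ideal of height
`≤ 1`. -/
theorem exists_maximal_height_le_one_of_data(I q : Ideal (EGA4.Cpl A)) (a b c₁ c₂ : A) (j t : EGA4.Cpl A)
    (ha0 : a ≠ 0)
    (hIprimes : ∀ P : Ideal (EGA4.Cpl A), P.IsPrime → I ≤ P → P = q ∨ P.IsMaximal)
    (hIj : ∀ i' ∈ I, i' * j = 0) (hj0 : j ≠ 0)
    (hjj : j * j = algebraMap A (EGA4.Cpl A) a * j)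
    (hbt : j = algebraMap A (EGA4.Cpl A) b + algebraMap A (EGA4.Cpl A) a * t)
    (hsq : b ^ 2 = c₁ * a ^ 2 + c₂ * (a * b)) :
    ∃ (B : Subalgebra A (FractionRing A)), Module.Finite A B ∧
      ∃ n : Ideal B, n.IsMaximal ∧ n.height ≤ 1 := by
  classical
  have hLC : IsLocalRing (EGA4.Cpl A) := isLocalRing_cpl A
  have hNC : IsNoetherianRing (EGA4.Cpl A) := isNoetherianRing_cpl A
  have hff : Module.FaithfullyFlat A (EGA4.Cpl A) := faithfullyFlat_cpl A
  have hfl : Module.Flat A (EGA4.Cpl A) := hff.toFlat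
  -- the element `x = b/a` of the fraction field
  have haK : algebraMap A (FractionRing A) a ≠ 0 := by
    intro h
    exact ha0 (IsFractionRing.injective A (FractionRing A) (by rw [h, map_zero]))
  let x : FractionRing A := algebraMap A (FractionRing A) b / algebraMap A (FractionRing A) a
  have hx : x ^ 2 = algebraMap A (FractionRing A) c₁ + algebraMap A (FractionRing A) c₂ * x := by
    have h1 := congrArg (algebraMap A (FractionRing A)) hsq
    simp only [map_add, map_mul, map_pow] at h1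
    simp only [x]
    field_simp
    linear_combination h1
  have hxint : IsIntegral A x := by
    refine ⟨Polynomial.X ^ (1 + 1) - (Polynomial.C c₂ * Polynomial.X + Polynomial.C c₁),
      Polynomial.monic_X_pow_sub (lt_of_le_of_lt Polynomial.degree_linear_le (by norm_num)), ?_⟩
    simp only [Polynomial.eval₂_sub, Polynomial.eval₂_pow, Polynomial.eval₂_X, Polynomial.eval₂_add,
      Polynomial.eval₂_mul, Polynomial.eval₂_C]
    rw [show (1 + 1 : ℕ) = 2 from rfl, hx]
    ring
  let B : Subalgebra A (FractionRing A) := Algebra.adjoin A {x}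
  have hBfin : Module.Finite A B := Algebra.finite_adjoin_simple_of_isIntegral hxint
  refine ⟨B, hBfin, ?_⟩
  let xB : B := ⟨x, Algebra.subset_adjoin (Set.mem_singleton x)⟩
  have hxB : a • xB = algebraMap A B b := by
    apply Subtype.ext
    change a • x = algebraMap A (FractionRing A) b
    rw [Algebra.smul_def]
    simp only [x]
    field_simp
  have hinjAB : Function.Injective (algebraMap A B) := by
    intro u v huv
    apply IsFractionRing.injective A (FractionRing A)
    exact congrArg (Subtype.val) huv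
  have hBint : Algebra.IsIntegral A B := Algebra.IsIntegral.of_finite A B
  -- the base change `T = Â ⊗ B`
  let e' : EGA4.Cpl A ⊗[A] B := t ⊗ₜ[A] (1 : B) + (1 : EGA4.Cpl A) ⊗ₜ[A] xB
  -- (P1)
  have hP1 : a • e' = j ⊗ₜ[A] (1 : B) := by
    simp only [e']
    rw [smul_add, TensorProduct.smul_tmul', ← TensorProduct.tmul_smul, hxB,
      Algebra.algebraMap_eq_smul_one, TensorProduct.tmul_smul, TensorProduct.smul_tmul',
      ← TensorProduct.add_tmul]
    congr 1
    rw [hbt, Algebra.smul_def, Algebra.smul_def, mul_one]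
    ring
  -- regularity of `a` on `T`
  have hreg : ∀ c : EGA4.Cpl A ⊗[A] B, a • c = 0 → c = 0 := by
    have hinj : Function.Injective (LinearMap.lsmul A B a) := by
      intro u v huv
      have h1 : a • u = a • v := huv
      rw [Algebra.smul_def, Algebra.smul_def] at h1
      have h2 : algebraMap A B a ≠ 0 := fun h => ha0 (hinjAB (by rw [h, map_zero]))
      exact mul_left_cancel₀ h2 h1
    have h3 := Module.Flat.lTensor_preserves_injective_linearMap (M := EGA4.Cpl A)
      (LinearMap.lsmul A B a) hinj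
    intro c hc
    apply h3
    rw [map_zero]
    have h4 : ∀ c : EGA4.Cpl A ⊗[A] B, (LinearMap.lsmul A B a).lTensor (EGA4.Cpl A) c = a • c := by
      intro c
      induction c using TensorProduct.induction_on with
      | zero => simp
      | tmul u v => rw [LinearMap.lTensor_tmul, LinearMap.lsmul_apply, TensorProduct.tmul_smul]
      | add c₁ c₂ h₁ h₂ => rw [map_add, h₁, h₂, smul_add]
    rw [h4, hc]
  have hιinj : Function.Injective (fun z : EGA4.Cpl A => z ⊗ₜ[A] (1 : B)) :=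
    Algebra.TensorProduct.includeLeft_injective (S := A) (A := EGA4.Cpl A) (B := B) hinjAB
  -- (P3)
  have hP3 : e' ≠ 0 := by
    intro h
    rw [h, smul_zero] at hP1
    exact hj0 (hιinj (by simp only; rw [← hP1, TensorProduct.zero_tmul]))
  -- (P2)
  have hP2 : e' * e' = e' := by
    have h1 : a • (a • (e' * e' - e')) = 0 := by
      have e1 : a • (a • (e' * e' - e')) = (a • e') * (a • e') - a • (a • e') := by
        rw [smul_sub, smul_sub, smul_mul_smul_comm, mul_smul]
      rw [e1, hP1, Algebra.TensorProduct.tmul_mul_tmul, mul_one, hjj, ← Algebra.smul_def,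
        TensorProduct.smul_tmul', sub_self]
    exact sub_eq_zero.mp (hreg _ (hreg _ h1))
  -- (P4)
  have hP4 : ∀ i' ∈ I, (i' ⊗ₜ[A] (1 : B)) * e' = 0 := by
    intro i' hi'
    apply hreg
    rw [← mul_smul_comm, hP1, Algebra.TensorProduct.tmul_mul_tmul, mul_one, hIj i' hi',
      TensorProduct.zero_tmul]
  -- a maximal ideal containing `1 - e'`
  have hnu : ¬ IsUnit (1 - e') := by
    intro hu
    obtain ⟨u, hu⟩ := hu.exists_right_inv
    apply hP3
    have : e' = e' * ((1 - e') * u) := by rw [hu, mul_one]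
    rw [this, ← mul_assoc, mul_sub, mul_one, hP2, sub_self, zero_mul]
  obtain ⟨N', hN'max, hN'⟩ := Ideal.exists_le_maximal (Ideal.span {1 - e'})
    (by rwa [Ne, Ideal.span_singleton_eq_top])
  have h1e : 1 - e' ∈ N' := hN' (Ideal.mem_span_singleton_self _)
  have heN' : e' ∉ N' := by
    intro h
    apply hN'max.ne_top
    rw [Ideal.eq_top_iff_one]
    have : (1 : EGA4.Cpl A ⊗[A] B) = (1 - e') + e' := by ring
    rw [this]
    exact Ideal.add_mem _ h1e h
  have hN'prime : N'.IsPrime := hN'max.isPrime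
  -- integrality of `T` over `Â`
  have hTint : Algebra.IsIntegral (EGA4.Cpl A) (EGA4.Cpl A ⊗[A] B) := inferInstance
  have hTN : IsNoetherianRing (EGA4.Cpl A ⊗[A] B) :=
    Algebra.FiniteType.isNoetherianRing (EGA4.Cpl A) (EGA4.Cpl A ⊗[A] B)
  have hι : ∀ z : EGA4.Cpl A, algebraMap (EGA4.Cpl A) (EGA4.Cpl A ⊗[A] B) z = z ⊗ₜ[A] (1 : B) :=
    fun z => rfl
  -- contraction of `N'` to `Â` is the maximal ideal
  have hN'c : N'.comap (algebraMap (EGA4.Cpl A) (EGA4.Cpl A ⊗[A] B)) = maximalIdeal (EGA4.Cpl A) :=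
    IsLocalRing.eq_maximalIdeal (Ideal.isMaximal_comap_of_isIntegral_of_isMaximal N')
  -- no chain of length two below `N'`
  have hchain : ∀ P₀ P₁ : Ideal (EGA4.Cpl A ⊗[A] B), P₀.IsPrime → P₁.IsPrime → P₀ < P₁ → P₁ < N' →
      False := by
    intro P₀ P₁ hP₀ hP₁ h01 h1N
    have he₁ : e' ∉ P₁ := fun h => heN' (h1N.le h)
    have he₀ : e' ∉ P₀ := fun h => he₁ (h01.le h)
    have hI₁ : I ≤ P₁.comap (algebraMap (EGA4.Cpl A) (EGA4.Cpl A ⊗[A] B)) := by
      intro i' hi'
      rw [Ideal.mem_comap, hι]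
      have : (i' ⊗ₜ[A] (1 : B)) * e' ∈ P₁ := by rw [hP4 i' hi']; exact P₁.zero_mem
      exact (hP₁.mem_or_mem this).resolve_right he₁
    have hI₀ : I ≤ P₀.comap (algebraMap (EGA4.Cpl A) (EGA4.Cpl A ⊗[A] B)) := by
      intro i' hi'
      rw [Ideal.mem_comap, hι]
      have : (i' ⊗ₜ[A] (1 : B)) * e' ∈ P₀ := by rw [hP4 i' hi']; exact P₀.zero_mem
      exact (hP₀.mem_or_mem this).resolve_right he₀
    obtain ⟨y₁, hy₁, hy₁'⟩ := SetLike.exists_of_lt h01
    obtain ⟨y₂, hy₂, hy₂'⟩ := SetLike.exists_of_lt h1N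
    have hlt01 : P₀.comap (algebraMap (EGA4.Cpl A) (EGA4.Cpl A ⊗[A] B)) <
        P₁.comap (algebraMap (EGA4.Cpl A) (EGA4.Cpl A ⊗[A] B)) :=
      Ideal.comap_lt_comap_of_integral_mem_sdiff h01.le ⟨hy₁, hy₁'⟩
        (Algebra.IsIntegral.isIntegral y₁)
    have hlt1N : P₁.comap (algebraMap (EGA4.Cpl A) (EGA4.Cpl A ⊗[A] B)) <
        N'.comap (algebraMap (EGA4.Cpl A) (EGA4.Cpl A ⊗[A] B)) :=
      Ideal.comap_lt_comap_of_integral_mem_sdiff h1N.le ⟨hy₂, hy₂'⟩
        (Algebra.IsIntegral.isIntegral y₂)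
    rw [hN'c] at hlt1N
    have hne₁ : ¬ (P₁.comap (algebraMap (EGA4.Cpl A) (EGA4.Cpl A ⊗[A] B))).IsMaximal := by
      intro h
      rw [IsLocalRing.eq_maximalIdeal h] at hlt1N
      exact lt_irrefl _ hlt1N
    have hne₀ : ¬ (P₀.comap (algebraMap (EGA4.Cpl A) (EGA4.Cpl A ⊗[A] B))).IsMaximal := by
      intro h
      rw [IsLocalRing.eq_maximalIdeal h] at hlt01
      exact lt_irrefl _ (hlt01.trans hlt1N)
    have e₁ := (hIprimes _ (Ideal.comap_isPrime _ P₁) hI₁).resolve_right hne₁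
    have e₀ := (hIprimes _ (Ideal.comap_isPrime _ P₀) hI₀).resolve_right hne₀
    rw [e₀, e₁] at hlt01
    exact lt_irrefl _ hlt01
  -- hence `ht N' ≤ 1`
  have hN'ht : N'.height ≤ 1 := by
    rw [show (1 : ℕ∞) = ((1 : ℕ) : ℕ∞) from rfl, Ideal.height_le_iff]
    intro P₁ hP₁ h1N
    have h0 : P₁.height ≤ ((0 : ℕ) : ℕ∞) := by
      rw [Ideal.height_le_iff]
      intro P₀ hP₀ h01
      exact (hchain P₀ P₁ hP₀ hP₁ h01 h1N).elim
    exact lt_of_le_of_lt h0 (by norm_num)
  -- the map `B → T` is flat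
  let β : B →+* EGA4.Cpl A ⊗[A] B :=
    (Algebra.TensorProduct.includeRight : B →ₐ[A] EGA4.Cpl A ⊗[A] B).toRingHom
  have hβ : β.Flat := flat_includeRight A (EGA4.Cpl A) B
  have hβa : ∀ u : A, β (algebraMap A B u) =
      algebraMap (EGA4.Cpl A) (EGA4.Cpl A ⊗[A] B) (algebraMap A (EGA4.Cpl A) u) := by
    intro u
    change (1 : EGA4.Cpl A) ⊗ₜ[A] (algebraMap A B u) = (algebraMap A (EGA4.Cpl A) u) ⊗ₜ[A] (1 : B)
    rw [Algebra.algebraMap_eq_smul_one, Algebra.algebraMap_eq_smul_one, TensorProduct.smul_tmul]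
  have hnprime : (N'.comap β).IsPrime := Ideal.comap_isPrime β N'
  refine ⟨N'.comap β, ?_, ?_⟩
  · -- maximality
    apply Ideal.isMaximal_of_isIntegral_of_isMaximal_comap (R := A)
    have h1 : (N'.comap β).comap (algebraMap A B) = maximalIdeal A := by
      rw [Ideal.comap_comap]
      have h2 : β.comp (algebraMap A B) =
          (algebraMap (EGA4.Cpl A) (EGA4.Cpl A ⊗[A] B)).comp (algebraMap A (EGA4.Cpl A)) :=
        RingHom.ext hβa
      rw [h2, ← Ideal.comap_comap, hN'c]
      have hlh : IsLocalHom (algebraMap A (EGA4.Cpl A)) :=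
        isLocalHom_algebraMap_adicCompletion A (maximalIdeal A) (Ideal.IsPrime.ne_top inferInstance)
      exact ((IsLocalRing.local_hom_TFAE (algebraMap A (EGA4.Cpl A))).out 0 4).mp hlh
    rw [h1]
    infer_instance
  · -- height
    let _ : Algebra B (EGA4.Cpl A ⊗[A] B) := β.toAlgebra
    have : Module.Flat B (EGA4.Cpl A ⊗[A] B) := hβ
    have : N'.LiesOver (N'.comap β) := ⟨rfl⟩
    have : IsNoetherianRing B := Algebra.FiniteType.isNoetherianRing A B
    have h := Ideal.height_eq_height_add_of_liesOver_of_hasGoingDown (N'.comap β) N'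
    calc (N'.comap β).height ≤ N'.height := by rw [h]; exact le_self_add
      _ ≤ 1 := hN'ht

/-- **The depth-one lemma.** Let `A` be a Noetherian local domain which is not a field, and `q` a
minimal prime of the completion `Â` such that every prime strictly containing `q` is maximal
(`dim Â/q ≤ 1`). Then some finite `A`-subalgebra `B` of the fraction field of `A` has a maximal
ideal of height at most one. -/
theorem exists_finite_subalgebra_maximal_height_le_one
    (a₀ : A) (ha₀ : a₀ ∈ maximalIdeal A) (ha₀' : a₀ ≠ 0)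
    (q : Ideal (EGA4.Cpl A)) (hq : q ∈ minimalPrimes (EGA4.Cpl A))
    (hq2 : ∀ P : Ideal (EGA4.Cpl A), P.IsPrime → q < P → P.IsMaximal) :
    ∃ (B : Subalgebra A (FractionRing A)), Module.Finite A B ∧
      ∃ n : Ideal B, n.IsMaximal ∧ n.height ≤ 1 := by
  obtain ⟨I, a, b, j, t, ha0, -, hIprimes, hIj, hj0, hjj, hbt⟩ :=
    exists_data_of_cpl_minimalPrime A a₀ ha₀ ha₀' q hq hq2
  obtain ⟨c₁, c₂, hsq⟩ := exists_sq_eq_of_data A a b j t hjj hbt
  exact exists_maximal_height_le_one_of_data A I q a b c₁ c₂ j t ha0 hIprimes hIj hj0 hjj hbt hsq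

end DimOne

end Groth.Agent.Lib.Helper29
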