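import Mathlib
import Groth.Agent.Lib.Helper29.PuncturedIntegral

/-!
# The total ring of fractions of a reduced Noetherian ring and its minimal primes (helper29)

For a reduced Noetherian ring `A` with total ring of fractions `K = FractionRing A` and a minimal
prime `p`, we construct the projection `piK p : K → Frac (A ⧸ p)`, show that these are jointly
injective, that elements can be lifted "one component at a time", and deduce:

* `isIntegral_of_piK`: `y ∈ K` is integral over `A` as soon as every `piK p y` is.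
* `two_le_height_of_isMaximal`: transfer of the hypothesis "every maximal ideal of the integral
  closure `A'` over the maximal ideal has height `≥ 2`" to the integral closure of `A ⧸ p`.
* `isIntegral_of_punctured`: the algebraic core of EGA IV 5.11-type statements: if `y ∈ K`
  can be written with denominator a power of `g` for every nonzerodivisor `g ∈ m`, then `y` is
  integral over `A`.
-/

set_option autoImplicit false
universe u

namespace Groth.Agent.Lib.Helper29.RedFrac

variable {A : Type u} [CommRing A]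

/-- minimal primes as a subtype -/
abbrev MinP (A : Type u) [CommRing A] : Type u := ↥(minimalPrimes A)

instance (p : MinP A) : p.1.IsPrime := p.2.1.1

lemma notMem_of_mem_nonZeroDivisors (p : MinP A) {s : A} (hs : s ∈ nonZeroDivisors A) :
    s ∉ p.1 := fun h =>
  Set.disjoint_left.mp (Ideal.disjoint_nonZeroDivisors_of_mem_minimalPrimes p.2) h hs

/-- In a reduced ring, an element outside all minimal primes is a nonzerodivisor. -/
lemma mem_nonZeroDivisors_of_forall_notMem [IsReduced A] {x : A}
    (hx : ∀ p : MinP A, x ∉ p.1) : x ∈ nonZeroDivisors A := by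
  rw [mem_nonZeroDivisors_iff_right]
  intro z hz
  have h1 : z ∈ sInf (minimalPrimes A) := by
    rw [Ideal.mem_sInf]
    intro q hq
    have hqp : q.IsPrime := hq.1.1
    have h0 : z * x ∈ q := by rw [hz]; exact zero_mem _
    exact (hqp.mem_or_mem h0).resolve_right (hx ⟨q, hq⟩)
  have h2 : sInf (minimalPrimes A) = (⊥ : Ideal A) := by
    rw [minimalPrimes, Ideal.sInf_minimalPrimes]
    exact nilradical_eq_zero A
  rw [h2] at h1
  exact h1

/-- The projection of the total ring of fractions of `A` onto the fraction field of `A ⧸ p`. -/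
noncomputable def piK (p : MinP A) : FractionRing A →+* FractionRing (A ⧸ p.1) :=
  IsLocalization.lift (M := nonZeroDivisors A)
    (g := (algebraMap (A ⧸ p.1) (FractionRing (A ⧸ p.1))).comp (Ideal.Quotient.mk p.1))
    (fun s => by
      have hs : (s : A) ∉ p.1 := notMem_of_mem_nonZeroDivisors p s.2
      have h1 : Ideal.Quotient.mk p.1 (s : A) ≠ 0 := by
        rwa [Ne, Ideal.Quotient.eq_zero_iff_mem]
      have h2 : algebraMap (A ⧸ p.1) (FractionRing (A ⧸ p.1)) (Ideal.Quotient.mk p.1 (s : A)) ≠ 0 :=
        (map_ne_zero_iff _ (IsFractionRing.injective _ _)).mpr h1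
      exact IsUnit.mk0 _ h2)

lemma piK_algebraMap (p : MinP A) (a : A) :
    piK p (algebraMap A (FractionRing A) a) =
      algebraMap (A ⧸ p.1) (FractionRing (A ⧸ p.1)) (Ideal.Quotient.mk p.1 a) :=
  IsLocalization.lift_eq _ a

lemma piK_comp_algebraMap (p : MinP A) :
    (piK p).comp (algebraMap A (FractionRing A)) =
      (algebraMap (A ⧸ p.1) (FractionRing (A ⧸ p.1))).comp (Ideal.Quotient.mk p.1) :=
  RingHom.ext fun a => piK_algebraMap p a

lemma piK_algebraMap' (p : MinP A) (a : A) :
    piK p (algebraMap A (FractionRing A) a) = algebraMap A (FractionRing (A ⧸ p.1)) a := by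
  rw [piK_algebraMap, IsScalarTower.algebraMap_apply A (A ⧸ p.1) (FractionRing (A ⧸ p.1))]
  rfl

lemma piK_eq_zero_of_mul_eq (p : MinP A) (z : FractionRing A) (s a : A)
    (hs : s ∈ nonZeroDivisors A) (ha : a ∈ p.1)
    (h : z * algebraMap A (FractionRing A) s = algebraMap A (FractionRing A) a) :
    piK p z = 0 := by
  have h1 := congrArg (piK p) h
  rw [map_mul, piK_algebraMap, piK_algebraMap, Ideal.Quotient.eq_zero_iff_mem.mpr ha, map_zero] at h1
  have hs' : (s : A) ∉ p.1 := notMem_of_mem_nonZeroDivisors p hs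
  have h2 : algebraMap (A ⧸ p.1) (FractionRing (A ⧸ p.1)) (Ideal.Quotient.mk p.1 s) ≠ 0 := by
    apply (map_ne_zero_iff _ (IsFractionRing.injective _ _)).mpr
    rwa [Ne, Ideal.Quotient.eq_zero_iff_mem]
  exact (mul_eq_zero.mp h1).resolve_right h2

lemma mem_of_piK_eq_zero (p : MinP A) (z : FractionRing A) (s a : A)
    (h : z * algebraMap A (FractionRing A) s = algebraMap A (FractionRing A) a)
    (hz : piK p z = 0) : a ∈ p.1 := by
  have h1 := congrArg (piK p) h
  rw [map_mul, hz, zero_mul, piK_algebraMap] at h1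
  have h2 : Ideal.Quotient.mk p.1 a = 0 :=
    (map_eq_zero_iff _ (IsFractionRing.injective (A ⧸ p.1) (FractionRing (A ⧸ p.1)))).mp h1.symm
  exact Ideal.Quotient.eq_zero_iff_mem.mp h2

/-- joint injectivity of the projections -/
lemma eq_zero_of_forall_piK_eq_zero [IsReduced A] (z : FractionRing A)
    (h : ∀ p : MinP A, piK p z = 0) : z = 0 := by
  obtain ⟨⟨a, s⟩, hz⟩ := IsLocalization.surj (nonZeroDivisors A) z
  simp only at hz
  have h1 : a ∈ sInf (minimalPrimes A) := by
    rw [Ideal.mem_sInf]
    intro q hq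
    exact mem_of_piK_eq_zero ⟨q, hq⟩ z s a hz (h ⟨q, hq⟩)
  have h2 : sInf (minimalPrimes A) = (⊥ : Ideal A) := by
    rw [minimalPrimes, Ideal.sInf_minimalPrimes]
    exact nilradical_eq_zero A
  rw [h2] at h1
  have h3 : a = 0 := h1
  rw [h3, map_zero] at hz
  exact (IsLocalization.map_units (FractionRing A) s).mul_left_eq_zero.mp hz

section noeth

variable [IsNoetherianRing A]

lemma exists_mem_others_notMem (p : MinP A) :
    ∃ c : A, c ∉ p.1 ∧ ∀ j : MinP A, j ≠ p → c ∈ j.1 := by
  classical
  let F : Finset (Ideal A) := (minimalPrimes.finite_of_isNoetherianRing A).toFinset.erase p.1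
  have hF : ∀ j : Ideal A, j ∈ F ↔ j ≠ p.1 ∧ j ∈ minimalPrimes A := by
    intro j
    simp [F]
  have h1 : ¬ (F.inf id ≤ p.1) := by
    intro hle
    obtain ⟨j, hjF, hjp⟩ := (Ideal.IsPrime.inf_le' (inferInstance : p.1.IsPrime)).mp hle
    obtain ⟨hne, hjmin⟩ := (hF j).mp hjF
    have : p.1 ≤ j := p.2.2 hjmin.1 hjp
    exact hne (le_antisymm hjp this)
  obtain ⟨c, hc, hcp⟩ := SetLike.not_le_iff_exists.mp h1
  refine ⟨c, hcp, fun j hj => ?_⟩
  have hjF : j.1 ∈ F := (hF j.1).mpr ⟨fun h => hj (Subtype.ext h), j.2⟩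
  have : F.inf id ≤ id j.1 := Finset.inf_le hjF
  exact this hc

lemma exists_mem_notMem_others (p : MinP A) :
    ∃ d : A, d ∈ p.1 ∧ ∀ j : MinP A, j ≠ p → d ∉ j.1 := by
  classical
  let F : Finset (Ideal A) := (minimalPrimes.finite_of_isNoetherianRing A).toFinset.erase p.1
  have hF : ∀ j : Ideal A, j ∈ F ↔ j ≠ p.1 ∧ j ∈ minimalPrimes A := by
    intro j
    simp [F]
  have h1 : ¬ ((p.1 : Set A) ⊆ ⋃ i ∈ (↑F : Set (Ideal A)), ((id i : Ideal A) : Set A)) := by
    intro hsub
    obtain ⟨j, hjF, hpj⟩ := (Ideal.subset_union_prime (s := F) (f := id) p.1 p.1 (by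
      intro i hi _ _
      exact ((hF i).mp hi).2.1.1)).mp hsub
    obtain ⟨hne, hjmin⟩ := (hF j).mp hjF
    have : j ≤ p.1 := hjmin.2 p.2.1 hpj
    exact hne (le_antisymm this hpj)
  obtain ⟨d, hdp, hd⟩ := Set.not_subset.mp h1
  refine ⟨d, hdp, fun j hj hdj => hd ?_⟩
  have hjF : j.1 ∈ F := (hF j.1).mpr ⟨fun h => hj (Subtype.ext h), j.2⟩
  exact Set.mem_biUnion (Finset.mem_coe.mpr hjF) hdj

/-- one-component lifting -/
lemma exists_lift [IsReduced A] (p : MinP A) (w : FractionRing (A ⧸ p.1)) :
    ∃ y : FractionRing A, piK p y = w ∧ ∀ j : MinP A, j ≠ p → piK j y = 0 := by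
  obtain ⟨c, hcp, hc⟩ := exists_mem_others_notMem p
  obtain ⟨d, hdp, hd⟩ := exists_mem_notMem_others p
  obtain ⟨⟨abar, sbar⟩, hw⟩ := IsLocalization.surj (nonZeroDivisors (A ⧸ p.1)) w
  simp only at hw
  obtain ⟨a, rfl⟩ := Ideal.Quotient.mk_surjective abar
  obtain ⟨s, hs⟩ := Ideal.Quotient.mk_surjective (sbar : A ⧸ p.1)
  have hsbar0 : (sbar : A ⧸ p.1) ≠ 0 := nonZeroDivisors.ne_zero sbar.2
  have hsp : s ∉ p.1 := by
    intro h
    apply hsbar0
    rw [← hs]
    exact Ideal.Quotient.eq_zero_iff_mem.mpr h
  -- the denominator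
  have hs' : s * c + d ∈ nonZeroDivisors A := by
    apply mem_nonZeroDivisors_of_forall_notMem
    intro j hj
    by_cases hjp : j = p
    · subst hjp
      have h1 : s * c ∈ j.1 := (Ideal.add_mem_iff_left _ hdp).mp hj
      rcases (inferInstance : j.1.IsPrime).mem_or_mem h1 with h | h
      · exact hsp h
      · exact hcp h
    · have h1 : s * c ∈ j.1 := Ideal.mul_mem_left _ _ (hc j hjp)
      exact hd j hjp ((Ideal.add_mem_iff_right _ h1).mp hj)
  let y : FractionRing A := IsLocalization.mk' (FractionRing A) (a * c) ⟨s * c + d, hs'⟩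
  have hy : y * algebraMap A (FractionRing A) (s * c + d) = algebraMap A (FractionRing A) (a * c) :=
    IsLocalization.mk'_spec (FractionRing A) (a * c) ⟨s * c + d, hs'⟩
  refine ⟨y, ?_, fun j hj => ?_⟩
  · have h1 := congrArg (piK p) hy
    rw [map_mul, piK_algebraMap, piK_algebraMap] at h1
    have h2 : Ideal.Quotient.mk p.1 (s * c + d) = (sbar : A ⧸ p.1) * Ideal.Quotient.mk p.1 c := by
      rw [map_add, map_mul, hs, Ideal.Quotient.eq_zero_iff_mem.mpr hdp, add_zero]
    rw [h2, map_mul (Ideal.Quotient.mk p.1) a c, map_mul, map_mul] at h1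
    have hc0 : algebraMap (A ⧸ p.1) (FractionRing (A ⧸ p.1)) (Ideal.Quotient.mk p.1 c) ≠ 0 := by
      apply (map_ne_zero_iff _ (IsFractionRing.injective _ _)).mpr
      rwa [Ne, Ideal.Quotient.eq_zero_iff_mem]
    have hs0 : algebraMap (A ⧸ p.1) (FractionRing (A ⧸ p.1)) (sbar : A ⧸ p.1) ≠ 0 :=
      (map_ne_zero_iff _ (IsFractionRing.injective _ _)).mpr hsbar0
    have h3 : piK p y * algebraMap (A ⧸ p.1) (FractionRing (A ⧸ p.1)) (sbar : A ⧸ p.1) =
        algebraMap (A ⧸ p.1) (FractionRing (A ⧸ p.1)) (Ideal.Quotient.mk p.1 a) := by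
      apply mul_right_cancel₀ hc0
      rw [mul_assoc]
      exact h1
    apply mul_right_cancel₀ hs0
    rw [h3, hw]
  · exact piK_eq_zero_of_mul_eq j y (s * c + d) (a * c) hs' (Ideal.mul_mem_left _ _ (hc j hj)) hy

end noeth

section integral

variable [IsNoetherianRing A] [IsReduced A]

/-- `y` is integral over `A` as soon as all of its components are. -/
theorem isIntegral_of_piK (y : FractionRing A)
    (h : ∀ p : MinP A, IsIntegral A (piK p y)) : IsIntegral A y := by
  classical
  have hfin : Finite (MinP A) := (minimalPrimes.finite_of_isNoetherianRing A).to_subtype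
  let _ : Fintype (MinP A) := Fintype.ofFinite _
  choose P hPmonic hP using h
  refine ⟨∏ p : MinP A, P p, Polynomial.monic_prod_of_monic _ _ (fun p _ => hPmonic p), ?_⟩
  apply eq_zero_of_forall_piK_eq_zero
  intro p
  rw [Polynomial.hom_eval₂, piK_comp_algebraMap, Polynomial.eval₂_finsetProd]
  apply Finset.prod_eq_zero (Finset.mem_univ p)
  have h1 := hP p
  rw [IsScalarTower.algebraMap_eq A (A ⧸ p.1) (FractionRing (A ⧸ p.1))] at h1
  exact h1

lemma isIntegral_quotient_of_isIntegral (p : MinP A) {y : FractionRing A} (hy : IsIntegral A y) :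
    IsIntegral (A ⧸ p.1) (piK p y) :=
  IsIntegral.map_of_comp_eq (Ideal.Quotient.mk p.1) (piK p) (piK_comp_algebraMap p).symm hy

lemma isIntegral_of_isIntegral_quotient (p : MinP A) {w : FractionRing (A ⧸ p.1)}
    (hw : IsIntegral (A ⧸ p.1) w) : IsIntegral A w := by
  have : Algebra.IsIntegral A (A ⧸ p.1) :=
    Algebra.isIntegral_of_surjective Ideal.Quotient.mk_surjective
  exact isIntegral_trans (R := A) (A := A ⧸ p.1) w hw

/-- The map between integral closures induced by `piK p`. -/
noncomputable def lam (p : MinP A) :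
    integralClosure A (FractionRing A) →+* integralClosure (A ⧸ p.1) (FractionRing (A ⧸ p.1)) :=
  ((piK p).comp (integralClosure A (FractionRing A)).val.toRingHom).codRestrict
    (integralClosure (A ⧸ p.1) (FractionRing (A ⧸ p.1)))
    (fun y => isIntegral_quotient_of_isIntegral p y.2)

lemma lam_coe (p : MinP A) (y : integralClosure A (FractionRing A)) :
    ((lam p y : integralClosure (A ⧸ p.1) (FractionRing (A ⧸ p.1))) : FractionRing (A ⧸ p.1)) =
      piK p (y : FractionRing A) := rfl

lemma isIntegral_of_lift (p : MinP A) (y : FractionRing A)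
    (hy : IsIntegral (A ⧸ p.1) (piK p y)) (hy0 : ∀ j : MinP A, j ≠ p → piK j y = 0) :
    IsIntegral A y := by
  apply isIntegral_of_piK
  intro j
  by_cases hj : j = p
  · subst hj
    exact isIntegral_of_isIntegral_quotient j hy
  · rw [hy0 j hj]
    exact isIntegral_zero

lemma lam_surjective (p : MinP A) : Function.Surjective (lam p) := by
  intro w
  obtain ⟨y, hy, hy0⟩ := exists_lift p (w : FractionRing (A ⧸ p.1))
  have hyint : IsIntegral A y := isIntegral_of_lift p y (by rw [hy]; exact w.2) hy0
  exact ⟨⟨y, hyint⟩, Subtype.ext hy⟩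

/-- the idempotent cutting out the component `p` -/
lemma exists_idem (p : MinP A) :
    ∃ e : integralClosure A (FractionRing A), lam p e = 1 ∧
      ∀ y : integralClosure A (FractionRing A), lam p y = 0 → e * y = 0 := by
  obtain ⟨e0, he1, he0⟩ := exists_lift p (1 : FractionRing (A ⧸ p.1))
  have heint : IsIntegral A e0 := isIntegral_of_lift p e0 (by rw [he1]; exact isIntegral_one) he0
  refine ⟨⟨e0, heint⟩, Subtype.ext he1, fun y hy => ?_⟩
  apply Subtype.ext
  change e0 * (y : FractionRing A) = 0
  apply eq_zero_of_forall_piK_eq_zero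
  intro j
  by_cases hj : j = p
  · subst hj
    have : piK j (y : FractionRing A) = 0 := by
      rw [← lam_coe, hy]; rfl
    rw [map_mul, this, mul_zero]
  · rw [map_mul, he0 j hj, zero_mul]

/-- transfer of the height condition -/
theorem two_le_height_of_isMaximal [IsLocalRing A]
    (hdim : ∀ (m' : Ideal ↥(integralClosure A (FractionRing A))) [m'.IsMaximal],
      m'.comap (algebraMap A ↥(integralClosure A (FractionRing A))) = IsLocalRing.maximalIdeal A →
        2 ≤ ringKrullDim (Localization.AtPrime m'))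
    (p : MinP A) (n : Ideal (integralClosure (A ⧸ p.1) (FractionRing (A ⧸ p.1))))
    (hn : n.IsMaximal) : 2 ≤ n.height := by
  have hmax : (n.comap (lam p)).IsMaximal := Ideal.comap_isMaximal_of_surjective _ (lam_surjective p)
  have hover : (n.comap (lam p)).comap (algebraMap A ↥(integralClosure A (FractionRing A))) =
      IsLocalRing.maximalIdeal A := by
    have : ((n.comap (lam p)).comap
        (algebraMap A ↥(integralClosure A (FractionRing A)))).IsMaximal :=
      Ideal.isMaximal_comap_of_isIntegral_of_isMaximal (R := A) _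
    exact IsLocalRing.eq_maximalIdeal this
  have h1 := hdim (n.comap (lam p)) hover
  rw [IsLocalization.AtPrime.ringKrullDim_eq_height (n.comap (lam p))
    (Localization.AtPrime (n.comap (lam p)))] at h1
  have h2 : (2 : ℕ∞) ≤ (n.comap (lam p)).height := by
    have h1' : ((2 : ℕ∞) : WithBot ℕ∞) ≤ ((n.comap (lam p)).height : WithBot ℕ∞) := h1
    exact WithBot.coe_le_coe.mp h1'
  refine h2.trans ?_
  apply height_comap_le_of_surjective_of_ker_le (lam p) (lam_surjective p) n
  intro Q hQ hQle
  obtain ⟨e, he1, he⟩ := exists_idem p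
  have heQ : e ∉ Q := by
    intro h
    have h3 : lam p e ∈ n := hQle h
    rw [he1] at h3
    exact hn.ne_top ((Ideal.eq_top_iff_one _).mpr h3)
  intro y hy
  have h3 : e * y ∈ Q := by
    rw [he y hy]
    exact zero_mem _
  exact (hQ.mem_or_mem h3).resolve_left heQ

end integral

section main

variable [IsNoetherianRing A] [IsReduced A] [IsLocalRing A]

lemma algebraMap_integralClosure_injective :
    Function.Injective (algebraMap A ↥(integralClosure A (FractionRing A))) := by
  have h : Function.Injective (algebraMap A (FractionRing A)) :=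
    IsFractionRing.injective A (FractionRing A)
  rw [IsScalarTower.algebraMap_eq A ↥(integralClosure A (FractionRing A)) (FractionRing A),
    RingHom.coe_comp] at h
  exact Function.Injective.of_comp h

theorem maximalIdeal_notMem_minimalPrimes
    (hdim : ∀ (m' : Ideal ↥(integralClosure A (FractionRing A))) [m'.IsMaximal],
      m'.comap (algebraMap A ↥(integralClosure A (FractionRing A))) = IsLocalRing.maximalIdeal A →
        2 ≤ ringKrullDim (Localization.AtPrime m')) :
    IsLocalRing.maximalIdeal A ∉ minimalPrimes A := by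
  intro hmin
  obtain ⟨m', hm'max, hm'⟩ := Ideal.exists_ideal_over_maximal_of_isIntegral
    (S := ↥(integralClosure A (FractionRing A))) (IsLocalRing.maximalIdeal A) (by
      rw [(RingHom.injective_iff_ker_eq_bot _).mp algebraMap_integralClosure_injective]
      exact bot_le)
  have h1 := hdim m' hm'
  rw [IsLocalization.AtPrime.ringKrullDim_eq_height m' (Localization.AtPrime m')] at h1
  have h2 : (2 : ℕ∞) ≤ m'.height := by
    have h1' : ((2 : ℕ∞) : WithBot ℕ∞) ≤ (m'.height : WithBot ℕ∞) := h1
    exact WithBot.coe_le_coe.mp h1'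
  have h3 := height_le_height_comap_of_isIntegral
    (algebraMap A ↥(integralClosure A (FractionRing A)))
    (algebraMap_isIntegral_iff.mpr inferInstance) m'
  rw [hm', Ideal.height_eq_zero_iff.mpr hmin] at h3
  have h4 : (2 : ℕ∞) ≤ 0 := h2.trans h3
  exact absurd h4 (by decide)

/-- prime avoidance: a nonzerodivisor in the maximal ideal outside a given non-maximal prime -/
lemma exists_mem_maximalIdeal_notMem (hm : IsLocalRing.maximalIdeal A ∉ minimalPrimes A)
    (q : Ideal A) [hq : q.IsPrime] (hqm : q ≠ IsLocalRing.maximalIdeal A) :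
    ∃ g ∈ IsLocalRing.maximalIdeal A, g ∉ q ∧ g ∈ nonZeroDivisors A := by
  classical
  let F : Finset (Ideal A) := insert q (minimalPrimes.finite_of_isNoetherianRing A).toFinset
  have hF : ∀ j : Ideal A, j ∈ F ↔ j = q ∨ j ∈ minimalPrimes A := by
    intro j
    simp [F]
  have h1 : ¬ ((IsLocalRing.maximalIdeal A : Set A) ⊆
      ⋃ i ∈ (↑F : Set (Ideal A)), ((id i : Ideal A) : Set A)) := by
    intro hsub
    obtain ⟨j, hjF, hmj⟩ := (Ideal.subset_union_prime (s := F) (f := id) q q (by
      intro i hi _ _
      rcases (hF i).mp hi with rfl | h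
      · exact hq
      · exact h.1.1)).mp hsub
    rcases (hF j).mp hjF with rfl | h
    · exact hqm ((IsLocalRing.maximalIdeal.isMaximal A).eq_of_le hq.ne_top hmj).symm
    · have hjp : j.IsPrime := h.1.1
      have : IsLocalRing.maximalIdeal A = j :=
        (IsLocalRing.maximalIdeal.isMaximal A).eq_of_le hjp.ne_top hmj
      exact hm (this ▸ h)
  obtain ⟨g, hgm, hg⟩ := Set.not_subset.mp h1
  refine ⟨g, hgm, fun hgq => hg ?_, ?_⟩
  · exact Set.mem_biUnion (Finset.mem_coe.mpr ((hF q).mpr (Or.inl rfl))) hgq
  · apply mem_nonZeroDivisors_of_forall_notMem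
    intro j hgj
    exact hg (Set.mem_biUnion (Finset.mem_coe.mpr ((hF j.1).mpr (Or.inr j.2))) hgj)

/-- The algebraic core: an element of the total ring of fractions of a reduced Noetherian local
ring `A` which has "denominator a power of `g`" for every nonzerodivisor `g` of the maximal ideal is
integral over `A`, provided every maximal ideal of the integral closure of `A` has height at least
two. -/
theorem isIntegral_of_punctured
    (hdim : ∀ (m' : Ideal ↥(integralClosure A (FractionRing A))) [m'.IsMaximal],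
      m'.comap (algebraMap A ↥(integralClosure A (FractionRing A))) = IsLocalRing.maximalIdeal A →
        2 ≤ ringKrullDim (Localization.AtPrime m'))
    (y : FractionRing A)
    (hy : ∀ g : A, g ∈ IsLocalRing.maximalIdeal A → g ∈ nonZeroDivisors A →
      ∃ (n : ℕ) (a : A),
        y * algebraMap A (FractionRing A) g ^ n = algebraMap A (FractionRing A) a) :
    IsIntegral A y := by
  have hm := maximalIdeal_notMem_minimalPrimes hdim
  apply isIntegral_of_piK
  intro p
  apply isIntegral_of_isIntegral_quotient p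
  have : IsLocalRing (A ⧸ p.1) :=
    IsLocalRing.of_surjective' (Ideal.Quotient.mk p.1) Ideal.Quotient.mk_surjective
  apply isIntegral_of_forall_prime_ne_maximal (FractionRing (A ⧸ p.1)) (piK p y)
  · intro qbar hqbar hne
    have hq : (qbar.comap (Ideal.Quotient.mk p.1)).IsPrime := Ideal.comap_isPrime _ _
    have hqm : qbar.comap (Ideal.Quotient.mk p.1) ≠ IsLocalRing.maximalIdeal A := by
      intro heq
      apply hne
      refine le_antisymm (IsLocalRing.le_maximalIdeal hqbar.ne_top) ?_
      intro xbar hx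
      obtain ⟨x, rfl⟩ := Ideal.Quotient.mk_surjective xbar
      have hxm : x ∈ IsLocalRing.maximalIdeal A := by
        by_contra hx'
        have hu : IsUnit x := IsLocalRing.notMem_maximalIdeal.mp hx'
        exact (IsLocalRing.mem_maximalIdeal _).mp hx (hu.map (Ideal.Quotient.mk p.1))
      rw [← heq] at hxm
      exact hxm
    obtain ⟨g, hgm, hgq, hgnzd⟩ := exists_mem_maximalIdeal_notMem hm _ hqm
    obtain ⟨n, a, hna⟩ := hy g hgm hgnzd
    refine ⟨Ideal.Quotient.mk p.1 (g ^ n), ?_, ?_⟩
    · intro h
      exact hgq (hq.mem_of_pow_mem n h)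
    · have h1 := congrArg (piK p) hna
      rw [map_mul, map_pow, piK_algebraMap, piK_algebraMap] at h1
      rw [map_pow, map_pow, mul_comm, h1]
      exact isIntegral_algebraMap
  · exact two_le_height_of_isMaximal hdim p

end main

end Groth.Agent.Lib.Helper29.RedFrac
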