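import Mathlib

/-!
# Regular sequences and short exact sequences

If `0 → M' → M → M'' → 0` is exact, `rs` is weakly regular on `M` and `rs` minus its last element
is weakly regular on `M''`, then `rs` is weakly regular on `M'`.
-/

set_option autoImplicit false

namespace Groth.Agent.Lib.Helper29

open RingTheory.Sequence Function

universe u v₁ v₂ v₃

variable {R : Type u} [CommRing R]

/-- Injectivity of `M'/aM' → M/aM` when `a` is regular on `M'' = M/M'`. -/
theorem quotSMulTop_map_injective {M' : Type v₁} {M : Type v₂} {M'' : Type v₃}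
    [AddCommGroup M'] [Module R M'] [AddCommGroup M] [Module R M] [AddCommGroup M'']
    [Module R M''] {f : M' →ₗ[R] M} {g : M →ₗ[R] M''} (hf : Injective f) (hfg : Exact f g)
    {a : R} (ha : IsSMulRegular M'' a) : Injective (QuotSMulTop.map a f) := by
  have h0 : Exact (0 : M' →ₗ[R] M') f := (LinearMap.exact_zero_iff_injective M' f).mpr hf
  have h1 := QuotSMulTop.map_first_exact_on_four_term_exact_of_isSMulRegular_last h0 hfg ha
  have h2 : QuotSMulTop.map a (0 : M' →ₗ[R] M') = 0 := by
    apply LinearMap.ext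
    intro x
    obtain ⟨x, rfl⟩ := Submodule.mkQ_surjective _ x
    simp [QuotSMulTop.map]
  rw [h2] at h1
  exact (LinearMap.exact_zero_iff_injective (QuotSMulTop a M') _).mp h1

theorem isWeaklyRegular_of_shortExact (rs : List R) :
    ∀ (M' : Type v₁) (M : Type v₂) (M'' : Type v₃)
      [AddCommGroup M'] [Module R M'] [AddCommGroup M] [Module R M] [AddCommGroup M'']
      [Module R M''] (f : M' →ₗ[R] M) (g : M →ₗ[R] M''), Injective f → Surjective g →
      Exact f g → IsWeaklyRegular M rs → IsWeaklyRegular M'' (rs.take (rs.length - 1)) →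
      IsWeaklyRegular M' rs := by
  induction rs with
  | nil =>
    intro M' M M'' _ _ _ _ _ _ f g _ _ _ _ _
    exact IsWeaklyRegular.nil R M'
  | cons a rs ih =>
    intro M' M M'' _ _ _ _ _ _ f g hf hg hfg hM hM''
    rw [isWeaklyRegular_cons_iff] at hM ⊢
    obtain ⟨haM, hrsM⟩ := hM
    have haM' : IsSMulRegular M' a := haM.of_injective f hf
    refine ⟨haM', ?_⟩
    rcases rs with _ | ⟨b, rs'⟩
    · exact IsWeaklyRegular.nil R _
    · have htake : (a :: b :: rs').take ((a :: b :: rs').length - 1) =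
          a :: (b :: rs').take ((b :: rs').length - 1) := by
        simp
      rw [htake, isWeaklyRegular_cons_iff] at hM''
      obtain ⟨haM'', hrsM''⟩ := hM''
      exact ih (QuotSMulTop a M') (QuotSMulTop a M) (QuotSMulTop a M'')
        (QuotSMulTop.map a f) (QuotSMulTop.map a g)
        (quotSMulTop_map_injective hf hfg haM'') (QuotSMulTop.map_surjective a hg)
        (QuotSMulTop.map_exact a hfg hg) hrsM hrsM''

end Groth.Agent.Lib.Helper29

namespace Groth.Agent.Lib.Helper29

open RingTheory.Sequence Function TensorProduct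

universe u v₁ v₂

variable {R : Type u} [CommRing R]

/-- `(M × N)/a(M × N) ≃ M/aM × N/aN`. -/
noncomputable def quotSMulTopProdEquiv (a : R) (M : Type v₁) (N : Type v₂) [AddCommGroup M]
    [Module R M] [AddCommGroup N] [Module R N] :
    QuotSMulTop a (M × N) ≃ₗ[R] QuotSMulTop a M × QuotSMulTop a N :=
  (QuotSMulTop.equivQuotTensor a (M × N)) ≪≫ₗ
    (TensorProduct.prodRight R R (R ⧸ Ideal.span {a}) M N) ≪≫ₗ
      LinearEquiv.prodCongr (QuotSMulTop.equivQuotTensor a M).symm
        (QuotSMulTop.equivQuotTensor a N).symm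

theorem isWeaklyRegular_prod (rs : List R) :
    ∀ (M : Type v₁) (N : Type v₂) [AddCommGroup M] [Module R M] [AddCommGroup N] [Module R N],
      IsWeaklyRegular M rs → IsWeaklyRegular N rs → IsWeaklyRegular (M × N) rs := by
  induction rs with
  | nil =>
    intro M N _ _ _ _ _ _
    exact IsWeaklyRegular.nil R _
  | cons a rs ih =>
    intro M N _ _ _ _ hM hN
    rw [isWeaklyRegular_cons_iff] at hM hN ⊢
    refine ⟨?_, ?_⟩
    · rintro ⟨x, y⟩ ⟨x', y'⟩ h
      exact Prod.ext (hM.1 (congrArg Prod.fst h)) (hN.1 (congrArg Prod.snd h))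
    · exact ((quotSMulTopProdEquiv a M N).isWeaklyRegular_congr rs).mpr (ih _ _ hM.2 hN.2)

end Groth.Agent.Lib.Helper29

namespace Groth.Agent.Lib.Helper29

open Function

universe u

variable {R : Type u} [CommRing R] (I J : Ideal R)

/-- The diagonal map `R/(I ∩ J) → R/I × R/J`. -/
def quotInfToProd : (R ⧸ (I ⊓ J)) →ₗ[R] (R ⧸ I) × (R ⧸ J) :=
  LinearMap.prod (Submodule.mapQ (I ⊓ J) I LinearMap.id (fun _ hx => hx.1))
    (Submodule.mapQ (I ⊓ J) J LinearMap.id (fun _ hx => hx.2))

/-- The difference map `R/I × R/J → R/(I + J)`. -/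
def prodToQuotSup : ((R ⧸ I) × (R ⧸ J)) →ₗ[R] (R ⧸ (I ⊔ J)) :=
  (Submodule.mapQ I (I ⊔ J) LinearMap.id (fun _ hx => Ideal.mem_sup_left hx)).coprod
    (-(Submodule.mapQ J (I ⊔ J) LinearMap.id (fun _ hx => Ideal.mem_sup_right hx)))

@[simp]
theorem quotInfToProd_mk (r : R) :
    quotInfToProd I J (Ideal.Quotient.mk (I ⊓ J) r) =
      (Ideal.Quotient.mk I r, Ideal.Quotient.mk J r) := rfl

@[simp]
theorem prodToQuotSup_mk (r s : R) :
    prodToQuotSup I J (Ideal.Quotient.mk I r, Ideal.Quotient.mk J s) =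
      Ideal.Quotient.mk (I ⊔ J) (r - s) := by
  simp only [prodToQuotSup, LinearMap.coprod_apply, LinearMap.neg_apply, map_sub]
  rw [sub_eq_add_neg]
  rfl

theorem quotInfToProd_injective : Injective (quotInfToProd I J) := by
  rw [injective_iff_map_eq_zero]
  intro x hx
  obtain ⟨r, rfl⟩ := Ideal.Quotient.mk_surjective x
  rw [quotInfToProd_mk, Prod.mk_eq_zero, Ideal.Quotient.eq_zero_iff_mem,
    Ideal.Quotient.eq_zero_iff_mem] at hx
  exact Ideal.Quotient.eq_zero_iff_mem.mpr ⟨hx.1, hx.2⟩

theorem prodToQuotSup_surjective : Surjective (prodToQuotSup I J) := by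
  intro z
  obtain ⟨r, rfl⟩ := Ideal.Quotient.mk_surjective z
  refine ⟨(Ideal.Quotient.mk I r, Ideal.Quotient.mk J 0), ?_⟩
  rw [prodToQuotSup_mk, sub_zero]

theorem quotInfToProd_prodToQuotSup_exact : Exact (quotInfToProd I J) (prodToQuotSup I J) := by
  intro y
  obtain ⟨y₁, y₂⟩ := y
  obtain ⟨r, rfl⟩ := Ideal.Quotient.mk_surjective y₁
  obtain ⟨s, rfl⟩ := Ideal.Quotient.mk_surjective y₂
  rw [prodToQuotSup_mk, Ideal.Quotient.eq_zero_iff_mem]
  constructor
  · intro h
    obtain ⟨i, hi, j, hj, hij⟩ := Submodule.mem_sup.mp h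
    refine ⟨Ideal.Quotient.mk (I ⊓ J) (r - i), ?_⟩
    rw [quotInfToProd_mk]
    refine Prod.ext ?_ ?_
    · change Ideal.Quotient.mk I (r - i) = Ideal.Quotient.mk I r
      rw [Ideal.Quotient.eq]
      simpa using I.neg_mem hi
    · change Ideal.Quotient.mk J (r - i) = Ideal.Quotient.mk J s
      rw [Ideal.Quotient.eq]
      have : r - i - s = j := by
        have h1 : r - i - s = (r - s) - i := by ring
        rw [h1, ← hij]; ring
      rw [this]
      exact hj
  · rintro ⟨x, hx⟩
    obtain ⟨t, rfl⟩ := Ideal.Quotient.mk_surjective x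
    rw [quotInfToProd_mk, Prod.mk.injEq, Ideal.Quotient.eq, Ideal.Quotient.eq] at hx
    have : r - s = (r - t) + (t - s) := by ring
    rw [this]
    exact Ideal.add_mem _ (Ideal.mem_sup_left (by simpa using I.neg_mem hx.1))
      (Ideal.mem_sup_right hx.2)

end Groth.Agent.Lib.Helper29
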