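import Mathlib.CategoryTheory.Sites.Sheafification
import Mathlib.CategoryTheory.Sites.Limits
import Mathlib.CategoryTheory.Limits.Shapes.Products
import Mathlib.CategoryTheory.Sites.LeftExact

/-!
Helper lemmas (helper29): a cofan of sheafified representables is a coproduct iff every sheaf
takes it to a product of sets.
-/

set_option autoImplicit false
open CategoryTheory CategoryTheory.Limits Opposite
universe u v w

namespace Groth.Agent.Lib.Helper29

/-- A cofan is a colimit iff maps out of it are in bijection with families of maps. -/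
theorem nonempty_isColimit_cofan_iff {D : Type u} [Category.{v} D] {ι : Type w} {f : ι → D}
    (P : D) (p : ∀ i, f i ⟶ P) :
    Nonempty (IsColimit (Cofan.mk P p)) ↔
      ∀ A : D, Function.Bijective (fun (m : P ⟶ A) (i : ι) => p i ≫ m) := by
  constructor
  · rintro ⟨hc⟩ A
    constructor
    · intro m m' hmm
      exact Cofan.IsColimit.hom_ext hc m m' (fun i => congrFun hmm i)
    · intro g
      exact ⟨Cofan.IsColimit.desc hc g, funext fun i => Cofan.IsColimit.fac hc g i⟩
  · intro h
    refine ⟨Cofan.IsColimit.mk _ (fun t => ((h t.pt).2 t.inj).choose) ?_ ?_⟩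
    · intro t j
      exact congrFun ((h t.pt).2 t.inj).choose_spec j
    · intro t m hm
      apply (h t.pt).1
      have := ((h t.pt).2 t.inj).choose_spec
      rw [this]
      exact funext hm

/-- Sections of a sheaf over `X` are the maps from the sheafified representable. -/
noncomputable def sheafifyYonedaHomEquiv {C : Type u} [SmallCategory C]
    (J : GrothendieckTopology C) (X : C) (F : Sheaf J (Type u)) :
    ((presheafToSheaf J (Type u)).obj (yoneda.obj X) ⟶ F) ≃ F.obj.obj (op X) :=
  ((sheafificationAdjunction J (Type u)).homEquiv (yoneda.obj X) F).trans yonedaEquiv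

theorem sheafifyYonedaHomEquiv_naturality {C : Type u} [SmallCategory C]
    (J : GrothendieckTopology C) {X Y : C} (s : Y ⟶ X) (F : Sheaf J (Type u))
    (m : (presheafToSheaf J (Type u)).obj (yoneda.obj X) ⟶ F) :
    sheafifyYonedaHomEquiv J Y F ((presheafToSheaf J (Type u)).map (yoneda.map s) ≫ m) =
      F.obj.map s.op (sheafifyYonedaHomEquiv J X F m) := by
  unfold sheafifyYonedaHomEquiv
  simp only [Equiv.trans_apply]
  rw [Adjunction.homEquiv_naturality_left, yonedaEquiv_naturality]

/-- The cofan of sheafified representables induced by a family `s i : Y i ⟶ X` is a coproduct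
if and only if every sheaf `F` sends it to a product: `F X → ∏ F (Y i)` is bijective. -/
theorem nonempty_isColimit_cofan_sheafify_iff {C : Type u} [SmallCategory C]
    (J : GrothendieckTopology C) {X : C} {ι : Type w} (Y : ι → C) (s : ∀ i, Y i ⟶ X) :
    Nonempty (IsColimit (Cofan.mk ((presheafToSheaf J (Type u)).obj (yoneda.obj X))
      (fun i => (presheafToSheaf J (Type u)).map (yoneda.map (s i))))) ↔
    ∀ F : Sheaf J (Type u), Function.Bijective
      (fun (t : F.obj.obj (op X)) (i : ι) => F.obj.map (s i).op t) := by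
  rw [nonempty_isColimit_cofan_iff]
  refine forall_congr' fun F => ?_
  have hcomm : (fun (t : F.obj.obj (op X)) (i : ι) => F.obj.map (s i).op t) ∘
      (sheafifyYonedaHomEquiv J X F) =
      (fun (g : ∀ i, (presheafToSheaf J (Type u)).obj (yoneda.obj (Y i)) ⟶ F) (i : ι) =>
        sheafifyYonedaHomEquiv J (Y i) F (g i)) ∘
      (fun (m : (presheafToSheaf J (Type u)).obj (yoneda.obj X) ⟶ F) (i : ι) =>
        (presheafToSheaf J (Type u)).map (yoneda.map (s i)) ≫ m) := by
    funext m i
    simp only [Function.comp_apply]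
    rw [sheafifyYonedaHomEquiv_naturality]
  have hbij2 : Function.Bijective
      (fun (g : ∀ i, (presheafToSheaf J (Type u)).obj (yoneda.obj (Y i)) ⟶ F) (i : ι) =>
        sheafifyYonedaHomEquiv J (Y i) F (g i)) :=
    (Equiv.piCongrRight (fun i => sheafifyYonedaHomEquiv J (Y i) F)).bijective
  constructor
  · intro h1
    have : Function.Bijective ((fun (t : F.obj.obj (op X)) (i : ι) => F.obj.map (s i).op t) ∘
        (sheafifyYonedaHomEquiv J X F)) := by
      rw [hcomm]; exact hbij2.comp h1
    exact (Function.Bijective.of_comp_iff _ (sheafifyYonedaHomEquiv J X F).bijective).mp this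
  · intro h1
    have : Function.Bijective ((fun (t : F.obj.obj (op X)) (i : ι) => F.obj.map (s i).op t) ∘
        (sheafifyYonedaHomEquiv J X F)) := h1.comp (sheafifyYonedaHomEquiv J X F).bijective
    rw [hcomm] at this
    exact (Function.Bijective.of_comp_iff' hbij2 _).mp this

/-- If the empty sieve covers `Z`, then every sheaf of sets has exactly one section over `Z`. -/
theorem existsUnique_section_of_bot_mem {C : Type u} [Category.{v} C]
    (J : GrothendieckTopology C) {Z : C} (hbot : (⊥ : Sieve Z) ∈ J Z)
    (F : Cᵒᵖ ⥤ Type w) (hF : Presieve.IsSheaf J F) :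
    ∃ t : F.obj (op Z), ∀ t' : F.obj (op Z), t' = t := by
  have hF' : Presieve.IsSheafFor F (⊥ : Sieve Z).arrows := hF (⊥ : Sieve Z) hbot
  let x : Presieve.FamilyOfElements F (⊥ : Sieve Z).arrows :=
    fun Y f hf => False.elim hf
  have hx : x.Compatible := by
    intro Y₁ Y₂ Z g₁ g₂ f₁ f₂ h₁ h₂ _
    exact False.elim h₁
  obtain ⟨t, -, ht⟩ := hF' x hx
  refine ⟨t, fun t' => ht t' ?_⟩
  intro Y f hf
  exact False.elim hf

theorem subsingleton_section_of_bot_mem {C : Type u} [Category.{v} C]
    (J : GrothendieckTopology C) {Z : C} (hbot : (⊥ : Sieve Z) ∈ J Z)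
    (F : Cᵒᵖ ⥤ Type w) (hF : Presieve.IsSheaf J F) :
    Subsingleton (F.obj (op Z)) := by
  obtain ⟨t, ht⟩ := existsUnique_section_of_bot_mem J hbot F hF
  exact ⟨fun a b => (ht a).trans (ht b).symm⟩

end Groth.Agent.Lib.Helper29
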