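import Groth.Agent.Lib.Helper29.DepthLoc2
import Groth.Agent.Lib.Helper29.DepthSelf
import Mathlib.RingTheory.KrullDimension.Regular

/-!
Helper lemmas (helper29): Serre's condition `(S_k)` for a module modulo a regular sequence
(EGA IV 5.7.?): if `M` is `(S_{k+r})` and `f_1, …, f_r` is `M`-regular then `M/(f)M` is `(S_k)`.
-/

set_option autoImplicit false
universe u

open IsLocalRing TensorProduct

namespace Groth.Agent.Lib.Helper29

section

variable (A : Type u) [CommRing A]

/-- Localization of a linear equivalence. -/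
noncomputable def localizedModuleCongr (p : Ideal A) [p.IsPrime] {M M' : Type u}
    [AddCommGroup M] [Module A M] [AddCommGroup M'] [Module A M'] (e : M ≃ₗ[A] M') :
    LocalizedModule p.primeCompl M ≃ₗ[Localization.AtPrime p] LocalizedModule p.primeCompl M' :=
  (LocalizedModule.isBaseChange p.primeCompl M).equiv.symm ≪≫ₗ
    (e.baseChange A (Localization.AtPrime p) M M' ≪≫ₗ
      (LocalizedModule.isBaseChange p.primeCompl M').equiv)

/-- `(S_k)` transfers along linear equivalences. -/
theorem hasSk_of_linearEquiv (k : ℕ) {M M' : Type u} [AddCommGroup M] [Module A M]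
    [AddCommGroup M'] [Module A M'] (e : M ≃ₗ[A] M') (h : LocCoh.HasSk k A M) :
    LocCoh.HasSk k A M' := by
  intro p hp
  have h1 := h p
  rw [Module.supportDim_eq_of_equiv (localizedModuleCongr A p e)] at h1
  have h2 : LocCoh.depth (Localization.AtPrime p) (LocalizedModule p.primeCompl M) =
      LocCoh.depth (Localization.AtPrime p) (LocalizedModule p.primeCompl M') :=
    idealDepth_congr _ (localizedModuleCongr A p e)
  rw [h2] at h1
  exact h1

theorem withBot_min_succ_le (k : ℕ) (d : WithBot ℕ∞) (e : ℕ∞)
    (h : min (((k + 1 : ℕ) : ℕ) : WithBot ℕ∞) (d + 1) ≤ ((e + 1 : ℕ∞) : WithBot ℕ∞)) :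
    min (k : WithBot ℕ∞) d ≤ ((e : ℕ∞) : WithBot ℕ∞) := by
  induction d using WithBot.recBotCoe with
  | bot => simp
  | coe d =>
    have h1 : ((d : ℕ∞) : WithBot ℕ∞) + 1 = (((d + 1 : ℕ∞) : ℕ∞) : WithBot ℕ∞) := rfl
    rw [h1, min_natCast_coe_le_coe_iff] at h
    rw [min_natCast_coe_le_coe_iff]
    have h2 : (((k + 1 : ℕ) : ℕ) : ℕ∞) = (k : ℕ∞) + 1 := by push_cast; rfl
    rw [h2, min_add_add_right] at h
    exact (ENat.add_le_add_iff_right ENat.one_ne_top).mp h

variable [IsNoetherianRing A]

/-- If `M` is `(S_{k+1})` and `x` is `M`-regular then `M/xM` is `(S_k)`. -/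
theorem hasSk_quotSMulTop (k : ℕ) (M : Type u) [AddCommGroup M] [Module A M] [Module.Finite A M]
    {x : A} (hreg : IsSMulRegular M x) (hM : LocCoh.HasSk (k + 1) A M) :
    LocCoh.HasSk k A (QuotSMulTop x M) := by
  intro p hp
  by_cases hxp : x ∈ p
  · have hNp : IsNoetherianRing (Localization.AtPrime p) :=
      IsLocalization.isNoetherianRing p.primeCompl _ inferInstance
    have h1 := depth_localizedModule_quotSMulTop_add_one A p M hxp hreg
    have hy : algebraMap A (Localization.AtPrime p) x ∈ maximalIdeal (Localization.AtPrime p) := by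
      rw [IsLocalization.AtPrime.to_map_mem_maximal_iff (Localization.AtPrime p) p]
      exact hxp
    have : Module.Flat A (Localization.AtPrime p) := IsLocalization.flat _ p.primeCompl
    have hyreg : IsSMulRegular (LocalizedModule p.primeCompl M)
        (algebraMap A (Localization.AtPrime p) x) :=
      hreg.of_flat_of_isBaseChange (LocalizedModule.isBaseChange p.primeCompl M)
    have h2 : Module.supportDim (Localization.AtPrime p)
        (LocalizedModule p.primeCompl (QuotSMulTop x M)) + 1 =
        Module.supportDim (Localization.AtPrime p) (LocalizedModule p.primeCompl M) := by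
      rw [Module.supportDim_eq_of_equiv (localizedModuleQuotSMulTopEquiv A p M x)]
      exact Module.supportDim_quotSMulTop_succ_eq_supportDim hyreg hy
    have h3 := hM p
    rw [← h1, ← h2] at h3
    exact withBot_min_succ_le k _ _ h3
  · have hsub : Subsingleton (LocalizedModule p.primeCompl (QuotSMulTop x M)) := by
      rw [IsLocalizedModule.subsingleton_iff p.primeCompl
        (LocalizedModule.mkLinearMap p.primeCompl (QuotSMulTop x M))]
      intro m
      refine ⟨x, hxp, ?_⟩
      obtain ⟨m, rfl⟩ := Submodule.Quotient.mk_surjective _ m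
      rw [← Submodule.Quotient.mk_smul, Submodule.Quotient.mk_eq_zero]
      exact Submodule.smul_mem_pointwise_smul m x ⊤ Submodule.mem_top
    rw [Module.supportDim_eq_bot_of_subsingleton]
    simp

/-- If `M` is `(S_{k+r})` and `rs` is an `M`-regular sequence of length `r` then `M/(rs)M` is
`(S_k)`. -/
theorem hasSk_quotient_ofList : ∀ (rs : List A) (k : ℕ) (M : Type u) [AddCommGroup M]
    [Module A M] [Module.Finite A M], LocCoh.HasSk (k + rs.length) A M →
    RingTheory.Sequence.IsWeaklyRegular M rs →
    LocCoh.HasSk k A (M ⧸ (Ideal.ofList rs • (⊤ : Submodule A M)))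
  | [], k, M, _, _, _, hM, _ => by
    have hbot : Ideal.ofList ([] : List A) • (⊤ : Submodule A M) = ⊥ := by
      rw [Ideal.ofList_nil, Submodule.bot_smul]
    exact hasSk_of_linearEquiv A k (Submodule.quotEquivOfEqBot _ hbot).symm (by simpa using hM)
  | x :: rest, k, M, _, _, _, hM, hreg => by
    rw [RingTheory.Sequence.isWeaklyRegular_cons_iff] at hreg
    have h1 : LocCoh.HasSk (k + rest.length) A (QuotSMulTop x M) := by
      apply hasSk_quotSMulTop A (k + rest.length) M hreg.1
      rw [List.length_cons, ← add_assoc] at hM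
      exact hM
    have h2 := hasSk_quotient_ofList rest k (QuotSMulTop x M) h1 hreg.2
    exact hasSk_of_linearEquiv A k
      (Submodule.quotOfListConsSMulTopEquivQuotSMulTopInner M x rest).symm h2

end

end Groth.Agent.Lib.Helper29
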