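import Groth.Agent.Lib.Helper29.LocTransfer
import Groth.Agent.Lib.Helper29.FiniteRestrict
import Groth.Agent.Lib.Helper29.SkQuot

/-!
# `(S_k)` and embedded primes modulo regular sequences (helper29)

Towards EGA IV 5.7.x: `M` is `(S_k)` iff for all basic opens `D(g)` and all `M_g`-regular sequences
of length `< k`, the quotient has no embedded primes.
-/

set_option autoImplicit false

namespace Groth.Agent.Lib.Helper29

open IsLocalRing RingTheory.Sequence
open scoped Pointwise

universe u

section General

variable (A : Type u) [CommRing A] [IsNoetherianRing A]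

/-- `(S_k)` passes to localizations. -/
theorem hasSk_localizedModule (k : ℕ) (T : Submonoid A) (M : Type u) [AddCommGroup M]
    [Module A M] [Module.Finite A M] (h : LocCoh.HasSk k A M) :
    LocCoh.HasSk k (Localization T) (LocalizedModule T M) := by
  intro P _
  obtain ⟨h1, h2⟩ := depth_and_supportDim_localizedModule_localizedModule T M P
  rw [h1, h2]
  exact h (P.comap (algebraMap A (Localization T)))

omit [IsNoetherianRing A] in
theorem hasSk_mono {k j : ℕ} (hkj : k ≤ j) (M : Type u) [AddCommGroup M] [Module A M]
    (h : LocCoh.HasSk j A M) : LocCoh.HasSk k A M := by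
  intro p _
  refine le_trans (min_le_min_right _ ?_) (h p)
  exact_mod_cast hkj

/-- If the depth of `M_q` vanishes then `q` is an associated prime. -/
theorem mem_associatedPrimes_of_depth_localizedModule_eq_zero (M : Type u) [AddCommGroup M]
    [Module A M] [Module.Finite A M] (q : Ideal A) [q.IsPrime]
    (h : LocCoh.depth (Localization.AtPrime q) (LocalizedModule q.primeCompl M) = 0) :
    q ∈ associatedPrimes A M := by
  have h0 : maximalIdeal (Localization.AtPrime q) ∈
      associatedPrimes (Localization.AtPrime q) (LocalizedModule q.primeCompl M) :=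
    (depth_eq_zero_iff _ _).mp h
  have := Module.associatedPrimes.comap_mem_associatedPrimes_of_mem_associatedPrimes_of_isLocalizedModule_of_fg
    q.primeCompl (LocalizedModule.mkLinearMap q.primeCompl M) _ h0
    ((isNoetherianRing_iff_ideal_fg A).mp inferInstance _)
  have hc : Ideal.comap (algebraMap A (Localization.AtPrime q))
      (maximalIdeal (Localization.AtPrime q)) = q :=
    Localization.AtPrime.under_maximalIdeal
  rwa [hc] at this

/-- A finite `(S_1)` module has no embedded primes. -/
theorem eq_of_le_of_mem_associatedPrimes_of_hasSk_one (N : Type u) [AddCommGroup N] [Module A N]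
    [Module.Finite A N] (h : LocCoh.HasSk 1 A N) {p q : Ideal A}
    (hp : p ∈ associatedPrimes A N) (hq : q ∈ associatedPrimes A N) (hpq : p ≤ q) : p = q := by
  have hpp : p.IsPrime := IsAssociatedPrime.isPrime hp
  have hqp : q.IsPrime := IsAssociatedPrime.isPrime hq
  have hps : (⟨p, hpp⟩ : PrimeSpectrum A) ∈ Module.support A N :=
    mem_support_of_mem_associatedPrimes' A N ⟨p, hpp⟩ hp
  have hqs : (⟨q, hqp⟩ : PrimeSpectrum A) ∈ Module.support A N :=
    mem_support_of_mem_associatedPrimes' A N ⟨q, hqp⟩ hq
  have hd := depth_localizedModule_eq_zero_of_mem_associatedPrimes A N q hq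
  have h1 := h q
  rw [hd, supportDim_localizedModule_eq_height A N q hqs] at h1
  have h2 : Order.height (⟨⟨q, hqp⟩, hqs⟩ : Module.support A N) = 0 := by
    by_contra hne
    have h3 : (1 : ℕ∞) ≤ Order.height (⟨⟨q, hqp⟩, hqs⟩ : Module.support A N) :=
      Order.one_le_iff_ne_zero.mpr hne
    have h4 : ((1 : ℕ) : WithBot ℕ∞) ≤
        ((Order.height (⟨⟨q, hqp⟩, hqs⟩ : Module.support A N) : ℕ∞) : WithBot ℕ∞) := by
      exact_mod_cast h3
    rw [min_eq_left h4] at h1
    have h5 : ((1 : ℕ∞) : WithBot ℕ∞) ≤ ((0 : ℕ∞) : WithBot ℕ∞) := by exact_mod_cast h1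
    rw [WithBot.coe_le_coe] at h5
    exact absurd h5 (by norm_num)
  have hmin : IsMin (⟨⟨q, hqp⟩, hqs⟩ : Module.support A N) := Order.height_eq_zero.mp h2
  have hle : (⟨⟨p, hpp⟩, hps⟩ : Module.support A N) ≤ ⟨⟨q, hqp⟩, hqs⟩ := hpq
  exact le_antisymm hpq (hmin hle)

/-- `(M/xM)_S ≃ M_S / (x/1) M_S` for any submonoid. -/
noncomputable def localizedModuleQuotSMulTopEquiv' (S : Submonoid A) (M : Type u)
    [AddCommGroup M] [Module A M] (x : A) :
    LocalizedModule S (QuotSMulTop x M) ≃ₗ[Localization S]
      QuotSMulTop (algebraMap A (Localization S) x) (LocalizedModule S M) :=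
  (LocalizedModule.isBaseChange S (QuotSMulTop x M)).equiv.symm ≪≫ₗ
    ((QuotSMulTop.algebraMapTensorEquivTensorQuotSMulTop x M (Localization S)).symm ≪≫ₗ
      QuotSMulTop.congr ((algebraMap A (Localization S)) x)
        (LocalizedModule.isBaseChange S M).equiv)

/-- Depth and dimension of `(M/(rs)M)_P` for a weakly regular sequence `rs` inside `P`. -/
theorem depth_and_supportDim_localizedModule_quotient_ofList (P : Ideal A) [P.IsPrime] :
    ∀ (rs : List A) (M : Type u) [AddCommGroup M] [Module A M] [Module.Finite A M],
      (∀ x ∈ rs, x ∈ P) → IsWeaklyRegular M rs →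
      LocCoh.depth (Localization.AtPrime P)
          (LocalizedModule P.primeCompl (M ⧸ (Ideal.ofList rs • (⊤ : Submodule A M)))) +
          rs.length =
        LocCoh.depth (Localization.AtPrime P) (LocalizedModule P.primeCompl M) ∧
      Module.supportDim (Localization.AtPrime P)
          (LocalizedModule P.primeCompl (M ⧸ (Ideal.ofList rs • (⊤ : Submodule A M)))) +
          (rs.length : WithBot ℕ∞) =
        Module.supportDim (Localization.AtPrime P) (LocalizedModule P.primeCompl M)
  | [], M, _, _, _, _, _ => by
    have hbot : Ideal.ofList ([] : List A) • (⊤ : Submodule A M) = ⊥ := by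
      rw [Ideal.ofList_nil, Submodule.bot_smul]
    let e := localizedModuleCongr A P (Submodule.quotEquivOfEqBot _ hbot)
    constructor
    · rw [List.length_nil, Nat.cast_zero, add_zero]
      exact idealDepth_congr _ e
    · rw [List.length_nil, Nat.cast_zero, add_zero]
      exact Module.supportDim_eq_of_equiv e
  | x :: rest, M, _, _, _, hmem, hreg => by
    rw [isWeaklyRegular_cons_iff] at hreg
    have hxP : x ∈ P := hmem x (by simp)
    obtain ⟨ih1, ih2⟩ := depth_and_supportDim_localizedModule_quotient_ofList P rest
      (QuotSMulTop x M) (fun y hy => hmem y (by simp [hy])) hreg.2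
    let e := localizedModuleCongr A P
      (Submodule.quotOfListConsSMulTopEquivQuotSMulTopInner M x rest)
    have h1 := depth_localizedModule_quotSMulTop_add_one A P M hxP hreg.1
    have hy : algebraMap A (Localization.AtPrime P) x ∈ maximalIdeal (Localization.AtPrime P) := by
      rw [IsLocalization.AtPrime.to_map_mem_maximal_iff (Localization.AtPrime P) P]
      exact hxP
    have : Module.Flat A (Localization.AtPrime P) := IsLocalization.flat _ P.primeCompl
    have hyreg : IsSMulRegular (LocalizedModule P.primeCompl M)
        (algebraMap A (Localization.AtPrime P) x) :=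
      hreg.1.of_flat_of_isBaseChange (LocalizedModule.isBaseChange P.primeCompl M)
    have hNP : IsNoetherianRing (Localization.AtPrime P) :=
      IsLocalization.isNoetherianRing P.primeCompl _ inferInstance
    have h2 : Module.supportDim (Localization.AtPrime P)
        (LocalizedModule P.primeCompl (QuotSMulTop x M)) + 1 =
        Module.supportDim (Localization.AtPrime P) (LocalizedModule P.primeCompl M) := by
      rw [Module.supportDim_eq_of_equiv (localizedModuleQuotSMulTopEquiv A P M x)]
      exact Module.supportDim_quotSMulTop_succ_eq_supportDim hyreg hy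
    have he : LocCoh.depth (Localization.AtPrime P)
        (LocalizedModule P.primeCompl (M ⧸ (Ideal.ofList (x :: rest) • (⊤ : Submodule A M)))) =
        LocCoh.depth (Localization.AtPrime P) (LocalizedModule P.primeCompl
          (QuotSMulTop x M ⧸ (Ideal.ofList rest • (⊤ : Submodule A (QuotSMulTop x M))))) :=
      idealDepth_congr _ e
    constructor
    · rw [he, ← h1, ← ih1, List.length_cons]
      push_cast
      rw [add_assoc]
    · rw [Module.supportDim_eq_of_equiv e, ← h2, ← ih2, List.length_cons]
      push_cast
      rw [add_assoc]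

end General

section Spread

variable (A : Type u) [CommRing A] [IsNoetherianRing A]

omit [IsNoetherianRing A] in
/-- Positive depth of `M_p` gives an element of `p` which is regular on `M_p`. -/
theorem exists_mem_isSMulRegular_localizedModule (p : Ideal A) [p.IsPrime] (M : Type u)
    [AddCommGroup M] [Module A M] [Module.Finite A M]
    [Nontrivial (LocalizedModule p.primeCompl M)]
    (h : (1 : ℕ∞) ≤ LocCoh.depth (Localization.AtPrime p) (LocalizedModule p.primeCompl M)) :
    ∃ x ∈ p, IsSMulRegular (LocalizedModule p.primeCompl M)
      (algebraMap A (Localization.AtPrime p) x) := by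
  have h1 : ((1 : ℕ) : ℕ∞) ≤ LocCoh.depth (Localization.AtPrime p)
      (LocalizedModule p.primeCompl M) := by exact_mod_cast h
  obtain ⟨rs, hlen, hmem, hreg⟩ := (le_depth_iff _ _ 1).mp h1
  match rs, hlen, hmem, hreg with
  | [b], _, hmem, hreg =>
    have hb : b ∈ maximalIdeal (Localization.AtPrime p) := hmem b (by simp)
    have hbreg : IsSMulRegular (LocalizedModule p.primeCompl M) b :=
      ((isWeaklyRegular_cons_iff _ b []).mp hreg.toIsWeaklyRegular).1
    obtain ⟨a, s, rfl⟩ := IsLocalization.exists_mk'_eq p.primeCompl b
    have hspec : IsLocalization.mk' (Localization.AtPrime p) a s *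
        algebraMap A (Localization.AtPrime p) s = algebraMap A (Localization.AtPrime p) a :=
      IsLocalization.mk'_spec _ a s
    refine ⟨a, ?_, ?_⟩
    · rw [← IsLocalization.AtPrime.to_map_mem_maximal_iff (Localization.AtPrime p) p,
        ← hspec]
      exact Ideal.mul_mem_right _ _ hb
    · rw [← hspec]
      exact hbreg.mul ((IsLocalization.map_units (Localization.AtPrime p) s).isSMulRegular _)

omit [IsNoetherianRing A] in
/-- A finitely generated submodule killed elementwise by elements outside `p` is killed by a single
element outside `p`. -/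
theorem exists_notMem_forall_smul_eq_zero (p : Ideal A) [p.IsPrime] {M : Type u}
    [AddCommGroup M] [Module A M] (K : Submodule A M) (hK : K.FG)
    (h : ∀ m ∈ K, ∃ t ∈ p.primeCompl, t • m = 0) :
    ∃ g ∈ p.primeCompl, ∀ m ∈ K, g • m = 0 := by
  classical
  obtain ⟨G, hG⟩ := hK
  have hGK : ∀ m ∈ G, m ∈ K := fun m hm => hG ▸ Submodule.subset_span hm
  choose! t ht htm using h
  refine ⟨∏ m ∈ G, t m, Submonoid.prod_mem _ (fun m hm => ht m (hGK m hm)), ?_⟩
  intro m hm
  rw [← hG] at hm
  induction hm using Submodule.span_induction with
  | mem m hm =>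
    obtain ⟨c, hc⟩ := Finset.dvd_prod_of_mem t hm
    rw [hc, mul_comm, mul_smul, htm m (hGK m hm), smul_zero]
  | zero => exact smul_zero _
  | add x y _ _ hx hy => rw [smul_add, hx, hy, add_zero]
  | smul a x _ hx => rw [smul_comm, hx, smul_zero]

/-- Spreading out a maximal regular sequence of `M_p` to a basic open neighbourhood. -/
theorem exists_isWeaklyRegular_localizedModule_away (p : Ideal A) [p.IsPrime] (r : ℕ) :
    ∀ (M : Type u) [AddCommGroup M] [Module A M] [Module.Finite A M],
      LocCoh.depth (Localization.AtPrime p) (LocalizedModule p.primeCompl M) = r →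
      ∃ g : A, g ∉ p ∧ ∃ rs : List A, rs.length = r ∧ (∀ x ∈ rs, x ∈ p) ∧
        ∀ g' : A, g ∣ g' → IsWeaklyRegular (LocalizedModule (Submonoid.powers g') M)
          (rs.map (algebraMap A (Localization.Away g'))) := by
  induction r with
  | zero =>
    intro M _ _ _ _
    exact ⟨1, fun h => (inferInstance : p.IsPrime).ne_top ((Ideal.eq_top_iff_one p).mpr h), [],
      rfl, by simp, fun g' _ => by
        simp only [List.map_nil]
        exact IsWeaklyRegular.nil _ _⟩
  | succ r ih =>
    intro M _ _ _ h
    have hnt : Nontrivial (LocalizedModule p.primeCompl M) := by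
      by_contra hcon
      rw [not_nontrivial_iff_subsingleton] at hcon
      rw [depth_eq_top_of_subsingleton] at h
      exact ENat.natCast_ne_top _ h.symm
    obtain ⟨x, hxp, hxreg⟩ := exists_mem_isSMulRegular_localizedModule A p M (by
      rw [h]; exact_mod_cast Nat.succ_le_succ (Nat.zero_le r))
    -- kill the kernel of `x`
    have hNoeth : IsNoetherian A M := isNoetherian_of_isNoetherianRing_of_finite A M
    let K : Submodule A M := LinearMap.ker (LinearMap.lsmul A M x)
    have hKmem : ∀ m, m ∈ K ↔ x • m = 0 := fun m => by
      simp [K, LinearMap.mem_ker]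
    obtain ⟨g1, hg1, hg1K⟩ := exists_notMem_forall_smul_eq_zero A p K (IsNoetherian.noetherian K)
      (fun m hm => (isSMulRegular_localizedModule_iff A p.primeCompl M x).mp hxreg m
        ((hKmem m).mp hm))
    -- the quotient
    have hd1 := depth_localizedModule_quotSMulTop_add_one' A p M hxp hxreg
    rw [h] at hd1
    have hd2 : LocCoh.depth (Localization.AtPrime p)
        (LocalizedModule p.primeCompl (QuotSMulTop x M)) = r := by
      have h3 : LocCoh.depth (Localization.AtPrime p)
          (LocalizedModule p.primeCompl (QuotSMulTop x M)) + 1 = (r : ℕ∞) + 1 := by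
        rw [hd1]; push_cast; rfl
      rw [add_comm, add_comm (r : ℕ∞) 1] at h3
      exact ENat.add_right_injective_of_ne_top (by simp) h3
    obtain ⟨g2, hg2, rs', hlen, hmem, hreg'⟩ := ih (QuotSMulTop x M) hd2
    refine ⟨g1 * g2, fun hcon => ?_, x :: rs', by simp [hlen], ?_, ?_⟩
    · rcases (inferInstance : p.IsPrime).mem_or_mem hcon with h' | h'
      · exact hg1 h'
      · exact hg2 h'
    · intro y hy
      rcases List.mem_cons.mp hy with rfl | hy
      · exact hxp
      · exact hmem y hy
    · intro g' hg'
      rw [List.map_cons, isWeaklyRegular_cons_iff]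
      constructor
      · rw [isSMulRegular_localizedModule_iff]
        intro m hm
        refine ⟨g', Submonoid.mem_powers g', ?_⟩
        obtain ⟨c, rfl⟩ : g1 ∣ g' := dvd_trans (Dvd.intro g2 rfl) hg'
        rw [mul_comm, mul_smul, hg1K m ((hKmem m).mpr hm), smul_zero]
      · have hg2' : g2 ∣ g' := dvd_trans (Dvd.intro_left g1 rfl) hg'
        exact ((localizedModuleQuotSMulTopEquiv' A (Submonoid.powers g') M x).isWeaklyRegular_congr
          _).mp (hreg' g' hg2')

end Spread

section Main

variable (A : Type u) [CommRing A] [IsNoetherianRing A] (M : Type u) [AddCommGroup M]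
  [Module A M] [Module.Finite A M]

/-- `(S_k)` implies: no embedded primes modulo regular sequences of length `< k` on basic opens. -/
theorem noEmbedded_of_hasSk (k : ℕ) (h : LocCoh.HasSk k A M) (g : A)
    (rs : List (Localization.Away g)) (hlen : rs.length < k)
    (hreg : IsWeaklyRegular (LocalizedModule (Submonoid.powers g) M) rs) :
    ∀ p ∈ associatedPrimes (Localization.Away g)
        (LocalizedModule (Submonoid.powers g) M ⧸
          (Ideal.ofList rs • (⊤ : Submodule (Localization.Away g)
            (LocalizedModule (Submonoid.powers g) M)))),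
      ∀ q ∈ associatedPrimes (Localization.Away g)
        (LocalizedModule (Submonoid.powers g) M ⧸
          (Ideal.ofList rs • (⊤ : Submodule (Localization.Away g)
            (LocalizedModule (Submonoid.powers g) M)))),
        p ≤ q → p = q := by
  have h1 : LocCoh.HasSk k (Localization.Away g) (LocalizedModule (Submonoid.powers g) M) :=
    hasSk_localizedModule A k (Submonoid.powers g) M h
  have h2 := hasSk_quotient_ofList (Localization.Away g) rs (k - rs.length)
    (LocalizedModule (Submonoid.powers g) M) (by rw [Nat.sub_add_cancel hlen.le]; exact h1) hreg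
  have h3 := hasSk_mono (Localization.Away g) (show 1 ≤ k - rs.length by omega) _ h2
  exact fun p hp q hq hpq =>
    eq_of_le_of_mem_associatedPrimes_of_hasSk_one (Localization.Away g) _ h3 hp hq hpq

/-- Conversely, the absence of embedded primes modulo regular sequences of length `< k` on all
basic opens implies `(S_k)`. -/
theorem hasSk_of_forall_noEmbedded (k : ℕ)
    (H : ∀ (g : A) (rs : List (Localization.Away g)), rs.length < k →
      IsWeaklyRegular (LocalizedModule (Submonoid.powers g) M) rs →
      ∀ p ∈ associatedPrimes (Localization.Away g)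
          (LocalizedModule (Submonoid.powers g) M ⧸
            (Ideal.ofList rs • (⊤ : Submodule (Localization.Away g)
              (LocalizedModule (Submonoid.powers g) M)))),
        ∀ q ∈ associatedPrimes (Localization.Away g)
          (LocalizedModule (Submonoid.powers g) M ⧸
            (Ideal.ofList rs • (⊤ : Submodule (Localization.Away g)
              (LocalizedModule (Submonoid.powers g) M)))),
          p ≤ q → p = q) : LocCoh.HasSk k A M := by
  intro p _
  by_contra hcon
  rw [not_le] at hcon
  have hlt1 := lt_of_lt_of_le hcon (min_le_left _ _)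
  have hlt2 := lt_of_lt_of_le hcon (min_le_right _ _)
  have hne : LocCoh.depth (Localization.AtPrime p) (LocalizedModule p.primeCompl M) ≠ ⊤ := by
    intro htop
    rw [htop] at hlt1
    have : ((k : ℕ) : WithBot ℕ∞) = (((k : ℕ∞)) : WithBot ℕ∞) := rfl
    rw [this, WithBot.coe_lt_coe] at hlt1
    exact not_top_lt hlt1
  obtain ⟨r, hr⟩ := ENat.ne_top_iff_exists.mp hne
  rw [← hr] at hlt1 hlt2
  have hrk : r < k := by
    have : ((k : ℕ) : WithBot ℕ∞) = (((k : ℕ∞)) : WithBot ℕ∞) := rfl
    rw [this, WithBot.coe_lt_coe] at hlt1
    exact_mod_cast hlt1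
  obtain ⟨g, hg, rs, hlen, hmem, hreg⟩ :=
    exists_isWeaklyRegular_localizedModule_away A p r M hr.symm
  specialize hreg g dvd_rfl
  have hdisj : Disjoint (Submonoid.powers g : Set A) (p : Set A) := by
    rw [Set.disjoint_left]
    rintro x ⟨n, rfl⟩ hx
    exact hg ((inferInstance : p.IsPrime).mem_of_pow_mem n hx)
  have hPprime : (p.map (algebraMap A (Localization.Away g))).IsPrime :=
    IsLocalization.isPrime_of_isPrime_disjoint (Submonoid.powers g) _ _ inferInstance hdisj
  have hPcomap : (p.map (algebraMap A (Localization.Away g))).comap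
      (algebraMap A (Localization.Away g)) = p :=
    IsLocalization.comap_map_of_isPrime_disjoint (Submonoid.powers g) _ inferInstance hdisj
  set P := p.map (algebraMap A (Localization.Away g)) with hP
  have key : ∀ (p' : Ideal A) [p'.IsPrime], p' = p →
      LocCoh.depth (Localization.AtPrime p') (LocalizedModule p'.primeCompl M) =
        LocCoh.depth (Localization.AtPrime p) (LocalizedModule p.primeCompl M) ∧
      Module.supportDim (Localization.AtPrime p') (LocalizedModule p'.primeCompl M) =
        Module.supportDim (Localization.AtPrime p) (LocalizedModule p.primeCompl M) := by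
    intro p' _ h
    subst h
    exact ⟨rfl, rfl⟩
  obtain ⟨t1, t2⟩ :=
    depth_and_supportDim_localizedModule_localizedModule (Submonoid.powers g) M P
  rw [(key _ hPcomap).1] at t1
  rw [(key _ hPcomap).2] at t2
  have hmemP : ∀ x ∈ rs.map (algebraMap A (Localization.Away g)), x ∈ P := by
    intro x hx
    obtain ⟨y, hy, rfl⟩ := List.mem_map.mp hx
    exact Ideal.mem_map_of_mem _ (hmem y hy)
  obtain ⟨l1, l2⟩ := depth_and_supportDim_localizedModule_quotient_ofList (Localization.Away g) P
    (rs.map (algebraMap A (Localization.Away g))) (LocalizedModule (Submonoid.powers g) M)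
    hmemP hreg
  rw [List.length_map, hlen] at l1 l2
  set N := LocalizedModule (Submonoid.powers g) M ⧸
    (Ideal.ofList (rs.map (algebraMap A (Localization.Away g))) •
      (⊤ : Submodule (Localization.Away g) (LocalizedModule (Submonoid.powers g) M))) with hN
  have hd0 : LocCoh.depth (Localization.AtPrime P) (LocalizedModule P.primeCompl N) = 0 := by
    rw [t1, ← hr] at l1
    have h3 : LocCoh.depth (Localization.AtPrime P) (LocalizedModule P.primeCompl N) + (r : ℕ∞) =
        0 + (r : ℕ∞) := by rw [l1, zero_add]
    rw [add_comm, add_comm (0 : ℕ∞)] at h3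
    exact ENat.add_right_injective_of_ne_top (ENat.natCast_ne_top r) h3
  have hdim : ¬ Module.supportDim (Localization.AtPrime P) (LocalizedModule P.primeCompl N) ≤ 0 := by
    intro hle
    rw [t2] at l2
    have : Module.supportDim (Localization.AtPrime p) (LocalizedModule p.primeCompl M) ≤
        (r : WithBot ℕ∞) := by
      rw [← l2]
      calc _ ≤ (0 : WithBot ℕ∞) + (r : WithBot ℕ∞) := add_le_add_left hle _
        _ = r := zero_add _
    exact absurd hlt2 (not_lt.mpr (by exact_mod_cast this))
  have hPass : P ∈ associatedPrimes (Localization.Away g) N :=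
    mem_associatedPrimes_of_depth_localizedModule_eq_zero (Localization.Away g) N P hd0
  have hPs : (⟨P, hPprime⟩ : PrimeSpectrum (Localization.Away g)) ∈
      Module.support (Localization.Away g) N :=
    mem_support_of_mem_associatedPrimes' (Localization.Away g) N ⟨P, hPprime⟩ hPass
  rw [supportDim_localizedModule_eq_height (Localization.Away g) N P hPs] at hdim
  have hnmin : ¬ IsMin (⟨⟨P, hPprime⟩, hPs⟩ : Module.support (Localization.Away g) N) := by
    intro hmin
    apply hdim
    rw [Order.height_eq_zero.mpr hmin]
    rfl
  obtain ⟨b, hb⟩ := not_isMin_iff.mp hnmin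
  have hann : Module.annihilator (Localization.Away g) N ≤ b.1.asIdeal :=
    Module.mem_support_iff_of_finite.mp b.2
  obtain ⟨Q, hQmin, hQle⟩ := Ideal.exists_minimalPrimes_le hann
  have hQass : Q ∈ associatedPrimes (Localization.Away g) N :=
    Module.associatedPrimes.minimalPrimes_annihilator_subset_associatedPrimes _ N hQmin
  have hbP : b.1.asIdeal < P := hb
  have hQP : Q = P := H g (rs.map (algebraMap A (Localization.Away g)))
    (by rw [List.length_map, hlen]; exact hrk) hreg Q hQass P hPass (hQle.trans hbP.le)
  rw [hQP] at hQle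
  exact absurd hbP (not_lt_of_ge hQle)

end Main

end Groth.Agent.Lib.Helper29
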