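import Groth.Agent.Lib.Helper29.SkQuot
import Groth.Agent.Lib.Helper29.SkEmbedded

/-!
Helper lemmas (helper29): for a Noetherian ring `A` over which Cohen–Macaulay loci of finite
modules are open, and a finite `(S_k)` module `M`, only finitely many primes `p` have
`depth M_p = k < dim M_p` (Stacks, local cohomology chapter; induction on `k` via `M/fM`).
-/

set_option autoImplicit false
universe u

open IsLocalRing

namespace Groth.Agent.Lib.Helper29

section

variable (A : Type u) [CommRing A] [IsNoetherianRing A]

/-- Support dimension of the localization drops by one modulo a regular element of `p`. -/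
theorem supportDim_localizedModule_quotSMulTop_add_one (p : Ideal A) [p.IsPrime] (M : Type u)
    [AddCommGroup M] [Module A M] [Module.Finite A M] {x : A} (hx : x ∈ p)
    (hreg : IsSMulRegular M x) :
    Module.supportDim (Localization.AtPrime p)
        (LocalizedModule p.primeCompl (QuotSMulTop x M)) + 1 =
      Module.supportDim (Localization.AtPrime p) (LocalizedModule p.primeCompl M) := by
  have hNp : IsNoetherianRing (Localization.AtPrime p) :=
    IsLocalization.isNoetherianRing p.primeCompl _ inferInstance
  have hy : algebraMap A (Localization.AtPrime p) x ∈ maximalIdeal (Localization.AtPrime p) := by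
    rw [IsLocalization.AtPrime.to_map_mem_maximal_iff (Localization.AtPrime p) p]
    exact hx
  have : Module.Flat A (Localization.AtPrime p) := IsLocalization.flat _ p.primeCompl
  have hyreg : IsSMulRegular (LocalizedModule p.primeCompl M)
      (algebraMap A (Localization.AtPrime p) x) :=
    hreg.of_flat_of_isBaseChange (LocalizedModule.isBaseChange p.primeCompl M)
  rw [Module.supportDim_eq_of_equiv (localizedModuleQuotSMulTopEquiv A p M x)]
  exact Module.supportDim_quotSMulTop_succ_eq_supportDim hyreg hy

theorem withBot_lt_of_succ_lt_add_one (k : ℕ) (d : WithBot ℕ∞)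
    (h : (((k + 1 : ℕ) : ℕ) : WithBot ℕ∞) < d + 1) : (k : WithBot ℕ∞) < d := by
  induction d using WithBot.recBotCoe with
  | bot => simp at h
  | coe d =>
    have h1 : ((d : ℕ∞) : WithBot ℕ∞) + 1 = (((d + 1 : ℕ∞) : ℕ∞) : WithBot ℕ∞) := rfl
    rw [h1] at h
    have h2 : (((k + 1 : ℕ) : ℕ) : WithBot ℕ∞) = (((k + 1 : ℕ) : ℕ∞) : WithBot ℕ∞) := rfl
    rw [h2, WithBot.coe_lt_coe] at h
    have h3 : ((k : ℕ) : WithBot ℕ∞) = (((k : ℕ) : ℕ∞) : WithBot ℕ∞) := rfl
    rw [h3, WithBot.coe_lt_coe]
    induction d with
    | top => exact ENat.natCast_lt_top k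
    | coe d =>
      have : ((k + 1 : ℕ) : ℕ∞) < ((d + 1 : ℕ) : ℕ∞) := by exact_mod_cast h
      have h4 : k + 1 < d + 1 := by exact_mod_cast this
      exact_mod_cast (by omega : k < d)

/-- Stacks: if Cohen–Macaulay loci of finite modules are open and `M` is `(S_k)`, only finitely
many primes `p` have `depth M_p = k < dim M_p`. -/
theorem finite_setOf_depth_eq_of_hasSk_of_isOpen_CM
    (hCM : ∀ (N : Type u) [AddCommGroup N] [Module A N] [Module.Finite A N],
      IsOpen {p : PrimeSpectrum A | Subsingleton (LocalizedModule p.asIdeal.primeCompl N) ∨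
        LocCoh.IsCohenMacaulayModule (Localization.AtPrime p.asIdeal)
          (LocalizedModule p.asIdeal.primeCompl N)}) :
    ∀ (k : ℕ) (M : Type u) [AddCommGroup M] [Module A M] [Module.Finite A M],
      LocCoh.HasSk k A M →
      Set.Finite {p : PrimeSpectrum A |
        LocCoh.depth (Localization.AtPrime p.asIdeal) (LocalizedModule p.asIdeal.primeCompl M) = k ∧
        (k : WithBot ℕ∞) < Module.supportDim (Localization.AtPrime p.asIdeal)
          (LocalizedModule p.asIdeal.primeCompl M)} := by
  intro k
  induction k with
  | zero =>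
    intro M _ _ _ _
    have hfin : Set.Finite {p : PrimeSpectrum A | p.asIdeal ∈ associatedPrimes A M} :=
      Set.Finite.preimage (fun p _ q _ h => PrimeSpectrum.ext h) (associatedPrimes.finite A M)
    refine hfin.subset ?_
    rintro p ⟨hp, -⟩
    exact mem_associatedPrimes_of_depth_localizedModule_eq_zero A M p.asIdeal (by exact_mod_cast hp)
  | succ k ih =>
    intro M _ _ _ hM
    by_cases hsub : Subsingleton M
    · convert Set.finite_empty
      rw [Set.eq_empty_iff_forall_notMem]
      rintro p ⟨hp, -⟩
      have : Subsingleton (LocalizedModule p.asIdeal.primeCompl M) := inferInstance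
      rw [depth_eq_top_of_subsingleton] at hp
      exact ENat.top_ne_natCast _ hp
    have hnt : Nontrivial M := not_subsingleton_iff_nontrivial.mp hsub
    -- the open CM locus
    obtain ⟨I, hI⟩ := (PrimeSpectrum.isClosed_iff_zeroLocus_ideal _).mp (hCM M).isClosed_compl
    -- every associated prime lies in the CM locus
    have hass : ∀ q ∈ associatedPrimes A M, ¬ I ≤ q := by
      intro q hq hIq
      have hqp : q.IsPrime := IsAssociatedPrime.isPrime hq
      have hmem : (⟨q, hqp⟩ : PrimeSpectrum A) ∈ PrimeSpectrum.zeroLocus (I : Set A) := hIq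
      rw [← hI] at hmem
      apply hmem
      right
      have hd0 := depth_localizedModule_eq_zero_of_mem_associatedPrimes A M q hq
      have hsk := hM q
      rw [hd0] at hsk
      have hsupp : (⟨q, hqp⟩ : PrimeSpectrum A) ∈ Module.support A M :=
        mem_support_of_mem_associatedPrimes' A M ⟨q, hqp⟩ hq
      have hntq : Nontrivial (LocalizedModule q.primeCompl M) :=
        Module.mem_support_iff.mp hsupp
      have hnb : Module.supportDim (Localization.AtPrime q) (LocalizedModule q.primeCompl M) ≠ ⊥ :=
        Module.supportDim_ne_bot_of_nontrivial _ _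
      unfold LocCoh.IsCohenMacaulayModule
      change Module.supportDim (Localization.AtPrime q) (LocalizedModule q.primeCompl M) =
        ((LocCoh.depth (Localization.AtPrime q) (LocalizedModule q.primeCompl M) : ℕ∞) : WithBot ℕ∞)
      rw [hd0]
      rcases min_le_iff.mp hsk with h1 | h1
      · exfalso
        have : ((k + 1 : ℕ) : WithBot ℕ∞) ≤ ((0 : ℕ) : WithBot ℕ∞) := by exact_mod_cast h1
        have h2 : k + 1 ≤ 0 := by exact_mod_cast this
        omega
      · refine le_antisymm h1 ?_
        obtain ⟨d, hd⟩ := WithBot.ne_bot_iff_exists.mp hnb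
        rw [← hd]
        exact_mod_cast zero_le
    -- a regular element in `I`
    obtain ⟨x, hxI, hxreg⟩ : ∃ x ∈ I, IsSMulRegular M x := by
      by_contra hcon
      push Not at hcon
      obtain ⟨q, hq, hIq⟩ :=
        exists_le_mem_associatedPrimes_of_forall_not_isSMulRegular A M I hcon
      exact hass q hq hIq
    have hfinQ : Module.Finite A (QuotSMulTop x M) := inferInstance
    refine (ih (QuotSMulTop x M) (hasSk_quotSMulTop A k M hxreg hM)).subset ?_
    rintro p ⟨hp1, hp2⟩
    by_cases hxp : x ∈ p.asIdeal
    · have h1 := depth_localizedModule_quotSMulTop_add_one A p.asIdeal M hxp hxreg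
      have h2 := supportDim_localizedModule_quotSMulTop_add_one A p.asIdeal M hxp hxreg
      refine ⟨?_, ?_⟩
      · rw [hp1] at h1
        have h3 : LocCoh.depth (Localization.AtPrime p.asIdeal)
            (LocalizedModule p.asIdeal.primeCompl (QuotSMulTop x M)) + 1 = (k : ℕ∞) + 1 := by
          rw [h1]; push_cast; rfl
        exact (ENat.add_left_injective_of_ne_top ENat.one_ne_top) h3
      · rw [← h2] at hp2
        exact withBot_lt_of_succ_lt_add_one k _ hp2
    · exfalso
      have hpU : p ∈ {p : PrimeSpectrum A |
          Subsingleton (LocalizedModule p.asIdeal.primeCompl M) ∨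
          LocCoh.IsCohenMacaulayModule (Localization.AtPrime p.asIdeal)
            (LocalizedModule p.asIdeal.primeCompl M)} := by
        by_contra hcon
        have : p ∈ PrimeSpectrum.zeroLocus (I : Set A) := by rw [← hI]; exact hcon
        exact hxp (this hxI)
      rcases hpU with hs | hcm
      · rw [depth_eq_top_of_subsingleton] at hp1
        exact ENat.top_ne_natCast _ hp1
      · unfold LocCoh.IsCohenMacaulayModule at hcm
        rw [hcm, hp1] at hp2
        exact lt_irrefl _ hp2

end

end Groth.Agent.Lib.Helper29
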