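import Mathlib

/-!
# Connecting two systems of parameters by single-coordinate changes

For a Noetherian local ring `A`, any two `d`-tuples of elements of the maximal ideal generating
`m`-primary ideals can be connected by a chain of such tuples in which consecutive tuples differ in
at most one coordinate.
-/

set_option autoImplicit false

namespace Groth.Agent.Lib.Helper29.SopChain

open IsLocalRing

universe u

section Defs

variable {A : Type u} [CommRing A] [IsLocalRing A]

/-- `w` consists of elements of the maximal ideal and generates an `m`-primary ideal. -/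
def IsParam {d : ℕ} (w : Fin d → A) : Prop :=
  (∀ i, w i ∈ maximalIdeal A) ∧ maximalIdeal A ≤ (Ideal.span (Set.range w)).radical

/-- Two parameter tuples differing in at most one coordinate. -/
def Step {d : ℕ} (w w' : Fin d → A) : Prop :=
  IsParam w ∧ IsParam w' ∧ ∃ i, ∀ i', i' ≠ i → w i' = w' i'

omit [CommRing A] [IsLocalRing A] in
theorem range_cons {d : ℕ} (x : A) (w : Fin d → A) :
    Set.range (Fin.cons x w : Fin (d + 1) → A) = insert x (Set.range w) := by
  ext y
  constructor
  · rintro ⟨i, rfl⟩
    refine Fin.cases ?_ (fun j => ?_) i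
    · simp
    · simp
  · rintro (rfl | ⟨j, rfl⟩)
    · exact ⟨0, by simp⟩
    · exact ⟨j.succ, by simp⟩

omit [IsLocalRing A] in
theorem span_range_cons {d : ℕ} (x : A) (w : Fin d → A) :
    Ideal.span (Set.range (Fin.cons x w : Fin (d + 1) → A)) =
      Ideal.span (Set.range w) ⊔ Ideal.span {x} := by
  rw [range_cons, Ideal.span_insert, sup_comm]

/-- `m ≤ √I` iff `m` is contained in every prime containing `I`. -/
theorem maximalIdeal_le_radical_iff (I : Ideal A) :
    maximalIdeal A ≤ I.radical ↔ ∀ P : Ideal A, P.IsPrime → I ≤ P → maximalIdeal A ≤ P := by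
  rw [Ideal.radical_eq_sInf]
  constructor
  · intro h P hP hIP
    exact h.trans (sInf_le ⟨hIP, hP⟩)
  · intro h
    exact le_sInf fun P hP => h P hP.2 hP.1

end Defs

section Choice

variable {A : Type u} [CommRing A] [IsLocalRing A] [IsNoetherianRing A]

/-- If `(y, w)` is a parameter tuple and `x ∈ m` avoids all minimal primes `≠ m` of `(w)`, then
`(x, w)` is a parameter tuple. -/
theorem isParam_cons_of_avoid {d : ℕ} (w : Fin d → A) (y x : A)
    (hy : IsParam (Fin.cons y w : Fin (d + 1) → A)) (hx : x ∈ maximalIdeal A)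
    (havoid : ∀ Q ∈ (Ideal.span (Set.range w)).minimalPrimes, Q ≠ maximalIdeal A → x ∉ Q) :
    IsParam (Fin.cons x w : Fin (d + 1) → A) := by
  have hym : y ∈ maximalIdeal A := by simpa using hy.1 0
  refine ⟨fun i => ?_, ?_⟩
  · refine Fin.cases ?_ (fun j => ?_) i
    · simpa using hx
    · simpa using hy.1 j.succ
  · rw [maximalIdeal_le_radical_iff]
    intro P hP hle
    rw [span_range_cons] at hle
    have hwP : Ideal.span (Set.range w) ≤ P := le_sup_left.trans hle
    have hxP : x ∈ P := hle (Ideal.mem_sup_right (Ideal.mem_span_singleton_self x))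
    obtain ⟨Q, hQ, hQP⟩ := Ideal.exists_minimalPrimes_le hwP
    by_cases hQm : Q = maximalIdeal A
    · rw [← hQm]; exact hQP
    · have hxQ : x ∉ Q := havoid Q hQ hQm
      by_contra hmP
      have hPm : P ≤ maximalIdeal A := IsLocalRing.le_maximalIdeal hP.ne_top
      have hQprime : Q.IsPrime := hQ.1.1
      have hQm' : Q ≤ maximalIdeal A := hQP.trans hPm
      -- `m` is minimal over `(y) + Q`
      have hmin : maximalIdeal A ∈ (Ideal.span {y} ⊔ Q).minimalPrimes := by
        refine ⟨⟨inferInstance, sup_le ((Ideal.span_singleton_le_iff_mem _).mpr hym) hQm'⟩, ?_⟩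
        rintro P' ⟨hP'prime, hP'le⟩ -
        refine (maximalIdeal_le_radical_iff _).mp hy.2 P' hP'prime ?_
        rw [span_range_cons]
        exact sup_le (hQ.1.2.trans (le_sup_right.trans hP'le)) (le_sup_left.trans hP'le)
      have hq' : (maximalIdeal A).map (Ideal.Quotient.mk Q) ∈
          ((Ideal.span {y}).map (Ideal.Quotient.mk Q)).minimalPrimes := by
        rw [Ideal.minimalPrimes_map_of_surjective Ideal.Quotient.mk_surjective, Ideal.mk_ker]
        exact ⟨_, hmin, rfl⟩
      have hprinc : ((Ideal.span {y}).map (Ideal.Quotient.mk Q)).IsPrincipal := by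
        rw [Ideal.map_span, Set.image_singleton]
        exact ⟨⟨_, rfl⟩⟩
      have hht : ((maximalIdeal A).map (Ideal.Quotient.mk Q)).height ≤ 1 :=
        Ideal.height_le_one_of_isPrincipal_of_mem_minimalPrimes _ _ hq'
      have hPprime' : (P.map (Ideal.Quotient.mk Q)).IsPrime :=
        Ideal.map_isPrime_of_surjective Ideal.Quotient.mk_surjective (by rwa [Ideal.mk_ker])
      have hmprime' : ((maximalIdeal A).map (Ideal.Quotient.mk Q)).IsPrime :=
        Ideal.map_isPrime_of_surjective Ideal.Quotient.mk_surjective (by rwa [Ideal.mk_ker])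
      have hbot : (⊥ : Ideal (A ⧸ Q)).IsPrime := Ideal.isPrime_bot
      have hlt1 : (⊥ : Ideal (A ⧸ Q)) < P.map (Ideal.Quotient.mk Q) := by
        refine bot_lt_iff_ne_bot.mpr fun h => hxQ ?_
        have h1 : Ideal.Quotient.mk Q x ∈ P.map (Ideal.Quotient.mk Q) :=
          Ideal.mem_map_of_mem _ hxP
        rw [h, Ideal.mem_bot] at h1
        exact Ideal.Quotient.eq_zero_iff_mem.mp h1
      have hlt2 : P.map (Ideal.Quotient.mk Q) < (maximalIdeal A).map (Ideal.Quotient.mk Q) := by
        refine lt_of_le_of_ne (Ideal.map_mono hPm) fun h => hmP ?_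
        have h1 := congrArg (Ideal.comap (Ideal.Quotient.mk Q)) h
        rw [Ideal.comap_map_mk hQP, Ideal.comap_map_mk hQm'] at h1
        exact h1.ge
      have h1 := Ideal.height_add_one_le_of_lt_of_isPrime hlt1
      have h2 := Ideal.height_add_one_le_of_lt_of_isPrime hlt2
      have h3 : (1 : ℕ∞) + 1 ≤ 1 := by
        calc (1 : ℕ∞) + 1 ≤ (⊥ : Ideal (A ⧸ Q)).height + 1 + 1 := by
              gcongr; exact le_add_self
          _ ≤ (P.map (Ideal.Quotient.mk Q)).height + 1 := by gcongr
          _ ≤ _ := h2
          _ ≤ 1 := hht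
      exact absurd h3 (by norm_num)

/-- A common first coordinate for two parameter tuples. -/
theorem exists_common_param {d : ℕ} (u' v' : Fin d → A) (y z : A)
    (hu : IsParam (Fin.cons y u' : Fin (d + 1) → A))
    (hv : IsParam (Fin.cons z v' : Fin (d + 1) → A)) :
    ∃ x ∈ maximalIdeal A, IsParam (Fin.cons x u' : Fin (d + 1) → A) ∧
      IsParam (Fin.cons x v' : Fin (d + 1) → A) := by
  set S : Set (Ideal A) := {Q | (Q ∈ (Ideal.span (Set.range u')).minimalPrimes ∨
    Q ∈ (Ideal.span (Set.range v')).minimalPrimes) ∧ Q ≠ maximalIdeal A} with hS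
  have hfin : S.Finite := by
    refine Set.Finite.subset ((Ideal.finite_minimalPrimes_of_isNoetherianRing A
      (Ideal.span (Set.range u'))).union (Ideal.finite_minimalPrimes_of_isNoetherianRing A
      (Ideal.span (Set.range v')))) ?_
    rintro Q ⟨hQ, -⟩
    exact hQ
  have hex : ∃ x ∈ maximalIdeal A, ∀ Q ∈ S, x ∉ Q := by
    by_contra hcon
    push Not at hcon
    have hsub : ((maximalIdeal A : Ideal A) : Set A) ⊆ ⋃ Q ∈ S, (id Q : Ideal A) := by
      intro x hx
      obtain ⟨Q, hQ, hxQ⟩ := hcon x hx
      exact Set.mem_biUnion hQ hxQ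
    obtain ⟨Q, hQS, hmQ⟩ := (Ideal.subset_union_prime_finite hfin (f := id) ⊥ ⊥
      (fun Q hQ _ _ => by
        rcases hQ.1 with h | h
        · exact h.1.1
        · exact h.1.1)).mp hsub
    have hQprime : Q.IsPrime := by
      rcases hQS.1 with h | h
      · exact h.1.1
      · exact h.1.1
    exact hQS.2 (le_antisymm (IsLocalRing.le_maximalIdeal hQprime.ne_top) hmQ)
  obtain ⟨x, hx, hxS⟩ := hex
  refine ⟨x, hx, ?_, ?_⟩
  · exact isParam_cons_of_avoid u' y x hu hx fun Q hQ hQm => hxS Q ⟨Or.inl hQ, hQm⟩
  · exact isParam_cons_of_avoid v' z x hv hx fun Q hQ hQm => hxS Q ⟨Or.inr hQ, hQm⟩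

end Choice

section Quotient

variable {A B : Type u} [CommRing A] [CommRing B] [IsLocalRing A] [IsLocalRing B]
  (π : A →+* B) (hπ : Function.Surjective π) (x : A) (hker : RingHom.ker π = Ideal.span {x})

include hπ hker

/-- Parameter tuples of `B = A/x` correspond to parameter tuples of `A` starting with `x`. -/
theorem isParam_cons_iff {d : ℕ} (w : Fin d → A) (hx : x ∈ maximalIdeal A) :
    IsParam (Fin.cons x w : Fin (d + 1) → A) ↔ IsParam (π ∘ w) := by
  have hloc : IsLocalHom π := IsLocalHom.of_surjective π hπ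
  have hcomap : (maximalIdeal B).comap π = maximalIdeal A := IsLocalRing.maximalIdeal_comap π
  have hmap : (maximalIdeal A).map π = maximalIdeal B :=
    IsLocalRing.map_maximalIdeal_of_surjective π hπ
  have hmem : ∀ a : A, π a ∈ maximalIdeal B ↔ a ∈ maximalIdeal A := fun a => by
    rw [← hcomap, Ideal.mem_comap]
  have hspan : Ideal.span (Set.range (π ∘ w)) = (Ideal.span (Set.range w)).map π := by
    rw [Ideal.map_span, Set.range_comp]
  have hxmap : (Ideal.span {x}).map π = ⊥ := by
    rw [← hker, Ideal.map_eq_bot_iff_le_ker]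
  unfold IsParam
  rw [span_range_cons]
  constructor
  · rintro ⟨h1, h2⟩
    refine ⟨fun i => (hmem _).mpr (by simpa using h1 i.succ), ?_⟩
    rw [← hmap, hspan]
    refine (Ideal.map_mono h2).trans ((Ideal.map_radical_le π).trans ?_)
    rw [Ideal.map_sup, hxmap, sup_bot_eq]
  · rintro ⟨h1, h2⟩
    refine ⟨fun i => ?_, ?_⟩
    · refine Fin.cases ?_ (fun j => ?_) i
      · simpa using hx
      · simpa using (hmem _).mp (h1 j)
    · rw [← hcomap]
      refine (Ideal.comap_mono h2).trans ?_
      rw [Ideal.comap_radical, hspan, Ideal.comap_map_of_surjective π hπ, ← RingHom.ker_eq_comap_bot,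
        hker]

omit hπ hker in
/-- Changing the coordinates one at a time. -/
theorem reflTransGen_cons_of_forall {d : ℕ} (x : A) (a b : Fin d → A)
    (key : ∀ c : Fin d → A, (∀ i, c i = a i ∨ c i = b i) →
      IsParam (Fin.cons x c : Fin (d + 1) → A)) :
    Relation.ReflTransGen Step (Fin.cons x a : Fin (d + 1) → A) (Fin.cons x b) := by
  classical
  let c : ℕ → Fin d → A := fun j i => if (i : ℕ) < j then b i else a i
  have hc : ∀ j i, c j i = a i ∨ c j i = b i := fun j i => by
    by_cases h : (i : ℕ) < j
    · right; simp [c, h]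
    · left; simp [c, h]
  have hstep : ∀ j, j ≤ d →
      Relation.ReflTransGen Step (Fin.cons x a : Fin (d + 1) → A) (Fin.cons x (c j)) := by
    intro j
    induction j with
    | zero =>
      intro _
      have : c 0 = a := by
        funext i; simp [c]
      rw [this]
    | succ j ih =>
      intro hj
      refine Relation.ReflTransGen.tail (ih (by omega)) ?_
      refine ⟨key _ (hc j), key _ (hc (j + 1)), (⟨j, by omega⟩ : Fin d).succ, ?_⟩
      intro i' hi'
      refine Fin.cases ?_ (fun k hk => ?_) i' hi'
      · intro _; simp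
      · have hkj : (k : ℕ) ≠ j := by
          intro h
          apply hk
          congr 1
          exact Fin.ext h
        simp only [Fin.cons_succ, c]
        by_cases h1 : (k : ℕ) < j
        · simp [h1, Nat.lt_succ_of_lt h1]
        · have h2 : ¬ (k : ℕ) < j + 1 := by omega
          simp [h1, h2]
  have hfinal : c d = b := by
    funext i; simp [c, i.2]
  rw [← hfinal]
  exact hstep d le_rfl

/-- Lifting a chain from `B = A/x` to `A`. -/
theorem lift_chain {d : ℕ} (hx : x ∈ maximalIdeal A) (a' b' : Fin d → B)
    (h : Relation.ReflTransGen Step a' b') :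
    ∀ (a b : Fin d → A), π ∘ a = a' → π ∘ b = b' → IsParam a' →
      Relation.ReflTransGen Step (Fin.cons x a : Fin (d + 1) → A) (Fin.cons x b) := by
  classical
  have hiff := fun w : Fin d → A => isParam_cons_iff π hπ x hker w hx
  -- two lifts of the same tuple
  have same : ∀ (a b : Fin d → A), π ∘ a = π ∘ b → IsParam (π ∘ a) →
      Relation.ReflTransGen Step (Fin.cons x a : Fin (d + 1) → A) (Fin.cons x b) := by
    intro a b hab ha
    refine reflTransGen_cons_of_forall x a b fun c hc => ?_
    rw [hiff]
    have : π ∘ c = π ∘ a := by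
      funext i
      rcases hc i with h | h
      · simp [h]
      · simp only [Function.comp_apply, h]
        exact (congrFun hab i).symm
    rw [this]
    exact ha
  induction h with
  | refl =>
    intro a b ha hb hpar
    exact same a b (ha.trans hb.symm) (ha ▸ hpar)
  | tail hac hcb ih =>
    rename_i c' b''
    intro a b ha hb hpar
    obtain ⟨hc'par, hb''par, i, hi⟩ := hcb
    -- lift `c'`
    have hsurj : ∀ i, ∃ t : A, π t = c' i := fun i => hπ (c' i)
    choose c hc using hsurj
    have hcc : π ∘ c = c' := funext hc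
    have h1 := ih a c ha hcc hpar
    -- modify one coordinate
    let bm : Fin d → A := Function.update c i (b i)
    have hbm : π ∘ bm = b'' := by
      funext k
      by_cases hk : k = i
      · subst hk
        simp only [Function.comp_apply, bm, Function.update_self]
        exact congrFun hb k
      · simp only [Function.comp_apply, bm, Function.update_of_ne hk]
        rw [hc k]
        exact hi k hk
    have h2 : Step (Fin.cons x c : Fin (d + 1) → A) (Fin.cons x bm) := by
      refine ⟨(hiff c).mpr (hcc ▸ hc'par), (hiff bm).mpr (hbm ▸ hb''par), i.succ, ?_⟩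
      intro i' hi'
      refine Fin.cases ?_ (fun k hk => ?_) i' hi'
      · intro _; simp
      · have hki : k ≠ i := fun h => hk (by rw [h])
        simp [bm, Function.update_of_ne hki]
    have h3 := same bm b (hbm.trans hb.symm) (hbm ▸ hb''par)
    exact (h1.tail h2).trans h3

end Quotient

section Main

/-- Any two parameter tuples of a Noetherian local ring are connected by single-coordinate
changes. -/
theorem reflTransGen_step (d : ℕ) :
    ∀ (A : Type u) [CommRing A] [IsLocalRing A] [IsNoetherianRing A] (u v : Fin d → A),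
      IsParam u → IsParam v → Relation.ReflTransGen Step u v := by
  induction d with
  | zero =>
    intro A _ _ _ u v _ _
    rw [Subsingleton.elim u v]
  | succ d ih =>
    intro A _ _ _ u v hu hv
    have hu_eq : u = Fin.cons (u 0) (Fin.tail u) := (Fin.cons_self_tail u).symm
    have hv_eq : v = Fin.cons (v 0) (Fin.tail v) := (Fin.cons_self_tail v).symm
    set u' := Fin.tail u with hu'
    set v' := Fin.tail v with hv'
    rw [hu_eq] at hu
    rw [hv_eq] at hv
    obtain ⟨x, hx, hxu, hxv⟩ := exists_common_param u' v' (u 0) (v 0) hu hv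
    have hne : Ideal.span {x} ≠ ⊤ := by
      intro h
      have h2 : Ideal.span {x} ≤ maximalIdeal A := (Ideal.span_singleton_le_iff_mem _).mpr hx
      exact (maximalIdeal.isMaximal A).ne_top (top_le_iff.mp (h ▸ h2))
    have hnt : Nontrivial (A ⧸ Ideal.span {x}) := Ideal.Quotient.nontrivial_iff.mpr hne
    have hloc : IsLocalRing (A ⧸ Ideal.span {x}) :=
      IsLocalRing.of_surjective' (Ideal.Quotient.mk _) Ideal.Quotient.mk_surjective
    have hπ : Function.Surjective (Ideal.Quotient.mk (Ideal.span {x})) :=
      Ideal.Quotient.mk_surjective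
    have hker : RingHom.ker (Ideal.Quotient.mk (Ideal.span {x})) = Ideal.span {x} := Ideal.mk_ker
    have hBu := (isParam_cons_iff _ hπ x hker u' hx).mp hxu
    have hBv := (isParam_cons_iff _ hπ x hker v' hx).mp hxv
    have hB := ih (A ⧸ Ideal.span {x}) _ _ hBu hBv
    have hmid := lift_chain _ hπ x hker hx _ _ hB u' v' rfl rfl hBu
    have s1 : Step (Fin.cons (u 0) u' : Fin (d + 1) → A) (Fin.cons x u') := by
      refine ⟨hu, hxu, 0, fun i' hi' => ?_⟩
      refine Fin.cases ?_ (fun k _ => ?_) i' hi'
      · intro h; exact absurd rfl h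
      · simp
    have s2 : Step (Fin.cons x v' : Fin (d + 1) → A) (Fin.cons (v 0) v') := by
      refine ⟨hxv, hv, 0, fun i' hi' => ?_⟩
      refine Fin.cases ?_ (fun k _ => ?_) i' hi'
      · intro h; exact absurd rfl h
      · simp
    rw [hu_eq, hv_eq]
    exact (Relation.ReflTransGen.single s1).trans (hmid.trans (Relation.ReflTransGen.single s2))

variable {A : Type u} [CommRing A] [IsLocalRing A]

/-- Unfolding a `ReflTransGen Step` chain into a `Fin`-indexed family. -/
theorem exists_chain_of_reflTransGen {d : ℕ} {u v : Fin d → A} (hu : IsParam u)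
    (h : Relation.ReflTransGen Step u v) :
    ∃ (m : ℕ) (w : Fin (m + 1) → Fin d → A), w 0 = u ∧ w (Fin.last m) = v ∧
      (∀ k, IsParam (w k)) ∧
      ∀ k : Fin m, ∃ i : Fin d, ∀ i' : Fin d, i' ≠ i → w k.castSucc i' = w k.succ i' := by
  induction h with
  | refl => exact ⟨0, fun _ => u, rfl, rfl, fun _ => hu, fun k => k.elim0⟩
  | tail hab hbc ih =>
    rename_i b c
    obtain ⟨m, w, h0, hl, hpar, hst⟩ := ih
    refine ⟨m + 1, Fin.snoc (α := fun _ => Fin d → A) w c, ?_, ?_, ?_, ?_⟩
    · rw [← Fin.castSucc_zero, Fin.snoc_castSucc]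
      exact h0
    · exact Fin.snoc_last (α := fun _ => Fin d → A) c w
    · intro k
      refine Fin.lastCases ?_ (fun k' => ?_) k
      · rw [Fin.snoc_last]; exact hbc.2.1
      · rw [Fin.snoc_castSucc]; exact hpar k'
    · intro k
      refine Fin.lastCases ?_ (fun k' => ?_) k
      · rw [Fin.snoc_castSucc, Fin.succ_last, Fin.snoc_last, hl]
        exact hbc.2.2
      · rw [Fin.snoc_castSucc, Fin.succ_castSucc, Fin.snoc_castSucc]
        exact hst k'

end Main

end Groth.Agent.Lib.Helper29.SopChain
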